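import Cfsg.Agent.Lib.Solv.Misc
import Cfsg.Prelude.Def_PLocal
import Cfsg.Prelude.Def_Transfer

/-!
Elementary abelian subgroups, the Thompson subgroup `J`, quadratic action basics.
-/

set_option autoImplicit false
set_option linter.style.haveILetI false

namespace Cfsg.Agent.Solv

open Subgroup
open scoped Pointwise commutatorElement

universe u

variable {G : Type u} [Group G] {p : ℕ}

theorem comm_of_elemAbelian {A : Subgroup G} (h : IsElementaryAbelian p A) {a b : G}
    (ha : a ∈ A) (hb : b ∈ A) : a * b = b * a :=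
  congrArg Subtype.val (h.1.is_comm.comm (⟨a, ha⟩ : A) ⟨b, hb⟩)

theorem isPGroup_of_elemAbelian {A : Subgroup G} (h : IsElementaryAbelian p A) : IsPGroup p A :=
  fun a => ⟨1, Subtype.ext (by simpa using h.2 a a.2)⟩

theorem elemAbelian_of_le {A B : Subgroup G} (h : IsElementaryAbelian p A) (hBA : B ≤ A) :
    IsElementaryAbelian p B :=
  ⟨⟨⟨fun a b => Subtype.ext (comm_of_elemAbelian h (hBA a.2) (hBA b.2))⟩⟩,
    fun a ha => h.2 a (hBA ha)⟩

theorem elemAbelian_map {G' : Type*} [Group G'] (f : G →* G') {A : Subgroup G}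
    (h : IsElementaryAbelian p A) : IsElementaryAbelian p (A.map f) := by
  haveI := h.1
  refine ⟨map_isMulCommutative A f, ?_⟩
  rintro _ ⟨a, ha, rfl⟩
  rw [← map_pow, h.2 a ha, map_one]

theorem elemAbelian_subgroupOf {A H : Subgroup G} (h : IsElementaryAbelian p A) :
    IsElementaryAbelian p (A.subgroupOf H) :=
  ⟨⟨⟨fun a b => Subtype.ext (Subtype.ext (comm_of_elemAbelian h a.2 b.2))⟩⟩,
    fun a ha => Subtype.ext (by simpa using h.2 (a : G) ha)⟩

theorem elemAbelian_bot : IsElementaryAbelian p (⊥ : Subgroup G) :=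
  ⟨inferInstance, fun a ha => by rw [mem_bot.mp ha, one_pow]⟩

theorem elemAbelian_zpowers {x : G} (hx : x ^ p = 1) : IsElementaryAbelian p (zpowers x) := by
  refine ⟨inferInstance, ?_⟩
  rintro _ ⟨k, rfl⟩
  change (x ^ k) ^ p = 1
  rw [← zpow_natCast, zpow_comm, zpow_natCast, hx, one_zpow]

/-- Two commuting elementary abelian subgroups generate an elementary abelian subgroup. -/
theorem elemAbelian_sup {A B : Subgroup G} (hA : IsElementaryAbelian p A)
    (hB : IsElementaryAbelian p B) (hc : A ≤ centralizer (B : Set G)) :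
    IsElementaryAbelian p (A ⊔ B : Subgroup G) := by
  have hcl : A ⊔ B = Subgroup.closure ((A : Set G) ∪ B) := by
    rw [Subgroup.closure_union, Subgroup.closure_eq, Subgroup.closure_eq]
  have hcomm : ∀ x ∈ (A : Set G) ∪ B, ∀ y ∈ (A : Set G) ∪ B, x * y = y * x := by
    rintro x (hx | hx) y (hy | hy)
    · exact comm_of_elemAbelian hA hx hy
    · exact (mem_centralizer_iff.mp (hc hx) y hy).symm
    · exact mem_centralizer_iff.mp (hc hy) x hx
    · exact comm_of_elemAbelian hB hx hy
  haveI hab := isMulCommutative_closure hcomm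
  refine ⟨hcl ▸ hab, fun a ha => ?_⟩
  rw [hcl] at ha
  induction ha using Subgroup.closure_induction with
  | mem x hx => exact hx.elim (hA.2 x) (hB.2 x)
  | one => exact one_pow p
  | mul x y hx hy ihx ihy =>
    have hxy : Commute x y := congrArg Subtype.val (hab.is_comm.comm ⟨x, hx⟩ ⟨y, hy⟩)
    rw [hxy.mul_pow, ihx, ihy, one_mul]
  | inv x _ ih => rw [inv_pow, ih, inv_one]

/-! ### The Thompson subgroup -/

theorem exists_maxElemAbelian [Finite G] (p : ℕ) :
    ∃ A : Subgroup G, A ∈ maxElementaryAbelianSubgroups p G := by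
  obtain ⟨A, hA, hmax⟩ := Set.exists_max_image {A : Subgroup G | IsElementaryAbelian p A}
    (fun A => Nat.card A) (Set.toFinite _) ⟨⊥, elemAbelian_bot⟩
  exact ⟨A, hA, fun B hB => hmax B hB⟩

theorem le_thompson {A : Subgroup G} (hA : A ∈ maxElementaryAbelianSubgroups p G) :
    A ≤ thompsonSubgroup p G := le_sSup hA

theorem map_mem_maxElemAbelian [Finite G] {G' : Type*} [Group G'] (e : G ≃* G') {A : Subgroup G}
    (hA : A ∈ maxElementaryAbelianSubgroups p G) :
    A.map e.toMonoidHom ∈ maxElementaryAbelianSubgroups p G' := by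
  refine ⟨elemAbelian_map _ hA.1, fun B hB => ?_⟩
  have h := hA.2 _ (elemAbelian_map e.symm.toMonoidHom hB)
  rwa [card_map_of_injective (f := e.symm.toMonoidHom) e.symm.injective,
    ← card_map_of_injective (K := A) (f := e.toMonoidHom) e.injective] at h

theorem thompson_map_equiv [Finite G] {G' : Type*} [Group G'] (e : G ≃* G') :
    (thompsonSubgroup p G).map e.toMonoidHom = thompsonSubgroup p G' := by
  haveI : Finite G' := Finite.of_equiv G e.toEquiv
  refine le_antisymm ?_ (sSup_le fun B hB => ?_)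
  · rw [map_le_iff_le_comap]
    exact sSup_le fun A hA => map_le_iff_le_comap.mp (le_thompson (map_mem_maxElemAbelian e hA))
  · intro x hx
    exact ⟨e.symm x, le_thompson (map_mem_maxElemAbelian e.symm hB) ⟨x, hx, rfl⟩,
      e.apply_symm_apply x⟩

theorem thompson_characteristic [Finite G] : (thompsonSubgroup p G).Characteristic :=
  characteristic_iff_map_eq.mpr fun φ => thompson_map_equiv φ

/-- The maximum order of elementary abelian subgroups agrees between `U` and `G`. -/
theorem maxElemAbelian_subgroupOf [Finite G] {U A : Subgroup G}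
    (hA : A ∈ maxElementaryAbelianSubgroups p G) (hAU : A ≤ U) :
    A.subgroupOf U ∈ maxElementaryAbelianSubgroups p U := by
  refine ⟨elemAbelian_subgroupOf hA.1, fun B hB => ?_⟩
  rw [card_subgroupOf hAU, ← card_map_subtype U B]
  exact hA.2 _ (elemAbelian_map _ hB)

theorem map_maxElemAbelian [Finite G] {U A : Subgroup G}
    (hA : A ∈ maxElementaryAbelianSubgroups p G) (hAU : A ≤ U) {B : Subgroup U}
    (hB : B ∈ maxElementaryAbelianSubgroups p U) :
    B.map U.subtype ∈ maxElementaryAbelianSubgroups p G := by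
  refine ⟨elemAbelian_map _ hB.1, fun C hC => (hA.2 C hC).trans ?_⟩
  rw [card_map_subtype, ← card_subgroupOf hAU]
  exact hB.2 _ (elemAbelian_subgroupOf hA.1)

theorem thompsonOf_le [Finite G] {U A : Subgroup G}
    (hA : A ∈ maxElementaryAbelianSubgroups p G) (hAU : A ≤ U) :
    thompsonSubgroupOf p U ≤ thompsonSubgroup p G := by
  rw [thompsonSubgroupOf, map_le_iff_le_comap]
  exact sSup_le fun B hB => map_le_iff_le_comap.mp (le_thompson (map_maxElemAbelian hA hAU hB))

theorem le_thompsonOf [Finite G] {U A : Subgroup G}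
    (hA : A ∈ maxElementaryAbelianSubgroups p G) (hAU : A ≤ U) :
    A ≤ thompsonSubgroupOf p U := by
  rw [← map_subgroupOf_eq_of_le hAU]
  exact map_mono (le_thompson (maxElemAbelian_subgroupOf hA hAU))

theorem thompsonOf_eq_of_le [Finite G] {U : Subgroup G} (hU : thompsonSubgroup p G ≤ U) :
    thompsonSubgroupOf p U = thompsonSubgroup p G := by
  obtain ⟨A, hA⟩ := exists_maxElemAbelian (G := G) p
  exact le_antisymm (thompsonOf_le hA ((le_thompson hA).trans hU))
    (sSup_le fun B hB => le_thompsonOf hB ((le_thompson hB).trans hU))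

theorem thompson_ne_bot [Finite G] [Fact p.Prime] (h : p ∣ Nat.card G) :
    thompsonSubgroup p G ≠ ⊥ := by
  intro hbot
  obtain ⟨x, hx⟩ := exists_prime_orderOf_dvd_card' p h
  obtain ⟨A, hA⟩ := exists_maxElemAbelian (G := G) p
  have h1 := hA.2 _ (elemAbelian_zpowers (hx ▸ pow_orderOf_eq_one x : x ^ p = 1))
  rw [Nat.card_zpowers, hx, le_bot_iff.mp (hbot ▸ le_thompson hA : A ≤ ⊥), card_bot] at h1
  exact absurd h1 (not_le.mpr (Fact.out : p.Prime).one_lt)

/-- A maximal-order elementary abelian subgroup contains the elements of order `p` centralizing it. -/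
theorem mem_of_centralizes_maxElemAbelian [Finite G] {A : Subgroup G}
    (hA : A ∈ maxElementaryAbelianSubgroups p G) {x : G} (hxp : x ^ p = 1)
    (hx : x ∈ centralizer (A : Set G)) : x ∈ A := by
  have hel := elemAbelian_sup hA.1 (elemAbelian_zpowers hxp)
    (le_centralizer_iff.mp (zpowers_le.mpr hx))
  have heq := eq_of_le_of_card_ge (le_sup_left : A ≤ A ⊔ zpowers x) (hA.2 _ hel)
  rw [heq]
  exact mem_sup_right (mem_zpowers x)

/-! ### Subnormal `p`-subgroups -/

theorem le_pCore_of_isSubnormal [Finite G] [Fact p.Prime] {H : Subgroup G} (hH : H.IsSubnormal)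
    (hp : IsPGroup p H) : H ≤ pCore p G := by
  have key : ∀ K : Subgroup G, K.IsSubnormal →
      (pCore p K).map K.subtype ≤ pCore p G := by
    intro K hK
    induction hK with
    | top =>
      haveI : ((pCore p (⊤ : Subgroup G)).map (⊤ : Subgroup G).subtype).Normal := by
        haveI := pCore_characteristic p (⊤ : Subgroup G)
        infer_instance
      exact le_pCore ((isPGroup_pCore p _).map _)
    | step A B hle _ hN ih =>
      haveI := hN
      refine le_trans ?_ ih
      rintro _ ⟨x, hx, rfl⟩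
      haveI := pCore_characteristic p ↥(A.subgroupOf B)
      haveI hn : ((pCore p ↥(A.subgroupOf B)).map (A.subgroupOf B).subtype).Normal := inferInstance
      have h1 : (pCore p ↥(A.subgroupOf B)).map (A.subgroupOf B).subtype ≤ pCore p B :=
        le_pCore ((isPGroup_pCore p _).map _)
      refine ⟨⟨x, hle x.2⟩, h1 ⟨(subgroupOfEquivOfLe hle).symm x, ?_, rfl⟩, rfl⟩
      rw [SetLike.mem_coe, ← pCore_map_equiv p (subgroupOfEquivOfLe hle).symm]
      exact mem_map_of_mem _ hx
  intro x hx
  refine key H hH ⟨⟨x, hx⟩, ?_, rfl⟩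
  exact le_pCore (N := (⊤ : Subgroup H)) (hp.to_subgroup ⊤) (mem_top _)

/-! ### Quadratic action -/

/-- If `c = ⁅a, v⁆` commutes with `a`, then `a ^ n` maps `v` to `⁅a, v⁆ ^ n * v`. -/
theorem conj_pow_of_commute {a v : G} (hc : Commute a ⁅a, v⁆) (n : ℕ) :
    a ^ n * v * (a ^ n)⁻¹ = ⁅a, v⁆ ^ n * v := by
  induction n with
  | zero => simp
  | succ n ih =>
    calc a ^ (n + 1) * v * (a ^ (n + 1))⁻¹ = a * (a ^ n * v * (a ^ n)⁻¹) * a⁻¹ := by
          rw [pow_succ']; group
      _ = (a * ⁅a, v⁆ ^ n * a⁻¹) * (a * v * a⁻¹) := by rw [ih]; group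
      _ = ⁅a, v⁆ ^ n * (⁅a, v⁆ * v) := by
          rw [(hc.pow_right n).eq]; rw [commutatorElement_def]; group
      _ = ⁅a, v⁆ ^ (n + 1) * v := by rw [pow_succ, mul_assoc]

end Cfsg.Agent.Solv
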