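import Cfsg.Agent.Lib.Solv.Coprime
import Cfsg.Prelude.Def_Local

/-!
`p`-solubility: closure properties, criterion through cores, the upper `p`-series, and the
Hall–Higman Lemma 1.2.3.
-/

set_option autoImplicit false
set_option linter.style.haveILetI false

namespace Cfsg.Agent.Solv

open Subgroup
open scoped Pointwise

universe u

variable {G : Type u} [Group G] {p : ℕ}

/-- `N` is a `p`-group or a `p'`-group, in terms of a number (a card or a relative index). -/
def PNum (p m : ℕ) : Prop := (∃ k : ℕ, m = p ^ k) ∨ m.Coprime p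

theorem PNum.of_dvd [hp : Fact p.Prime] {m n : ℕ} (hn : PNum p n) (h : m ∣ n) : PNum p m := by
  rcases hn with ⟨k, rfl⟩ | hn
  · obtain ⟨i, -, rfl⟩ := (Nat.dvd_prime_pow hp.out).mp h
    exact Or.inl ⟨i, rfl⟩
  · exact Or.inr (hn.coprime_dvd_left h)

theorem upperPSeries_zero (p : ℕ) (G : Type u) [Group G] : (upperPSeries p G 0).1 = ⊥ := rfl

theorem upperPSeries_odd (p k : ℕ) (G : Type u) [Group G] :
    (upperPSeries p G (2 * k + 1)).1 =
      (pPrimeCore p (G ⧸ (upperPSeries p G (2 * k)).1)).comap (QuotientGroup.mk' _) := by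
  change (if Even (2 * k) then _ else _ : {H : Subgroup G // H.Normal}).1 = _
  rw [if_pos (even_two_mul k)]

theorem upperPSeries_even (p k : ℕ) (G : Type u) [Group G] :
    (upperPSeries p G (2 * k + 2)).1 =
      (pCore p (G ⧸ (upperPSeries p G (2 * k + 1)).1)).comap (QuotientGroup.mk' _) := by
  change (if Even (2 * k + 1) then _ else _ : {H : Subgroup G // H.Normal}).1 = _
  rw [if_neg (by simp [parity_simps])]

theorem le_comap_mk' (N : Subgroup G) [N.Normal] (K : Subgroup (G ⧸ N)) :
    N ≤ K.comap (QuotientGroup.mk' N) := fun x hx => by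
  rw [mem_comap, QuotientGroup.mk'_apply, (QuotientGroup.eq_one_iff x).mpr hx]
  exact K.one_mem

theorem relIndex_comap_mk' (N : Subgroup G) [N.Normal] (K : Subgroup (G ⧸ N)) :
    N.relIndex (K.comap (QuotientGroup.mk' N)) = Nat.card K := by
  have h := relIndex_comap (⊥ : Subgroup (G ⧸ N)) (QuotientGroup.mk' N)
    (K.comap (QuotientGroup.mk' N))
  rw [MonoidHom.comap_bot, QuotientGroup.ker_mk',
    map_comap_eq_self_of_surjective (QuotientGroup.mk'_surjective N), relIndex_bot_left] at h
  exact h

theorem upperPSeries_le_succ (p n : ℕ) (G : Type u) [Group G] :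
    (upperPSeries p G n).1 ≤ (upperPSeries p G (n + 1)).1 := by
  rcases Nat.even_or_odd' n with ⟨k, rfl | rfl⟩
  · rw [upperPSeries_odd]; exact le_comap_mk' _ _
  · rw [upperPSeries_even]; exact le_comap_mk' _ _

theorem upperPSeries_mono (p : ℕ) (G : Type u) [Group G] :
    Monotone (fun n => (upperPSeries p G n).1) :=
  monotone_nat_of_le_succ fun n => upperPSeries_le_succ p n G

theorem isPSolvable_of_pLengthLE [Finite G] [Fact p.Prime] {k : ℕ} (h : PLengthLE p k G) :
    IsPSolvable p G := by
  refine ⟨2 * k + 1, fun i => (upperPSeries p G i.val).1, rfl, by simpa [PLengthLE] using h,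
    fun a b hab => upperPSeries_mono p G hab, fun i => (upperPSeries p G i.val).2, fun i => ?_⟩
  simp only [Fin.val_castSucc, Fin.val_succ]
  rcases Nat.even_or_odd' i.val with ⟨j, hj | hj⟩
  · rw [hj, upperPSeries_odd, relIndex_comap_mk']
    exact Or.inr (card_pPrimeCore_coprime p _)
  · rw [hj, upperPSeries_even, relIndex_comap_mk']
    exact Or.inl (IsPGroup.iff_card.mp (isPGroup_pCore p _))

/-- A nontrivial finite `p`-soluble group has a nontrivial `p`- or `p'`-core. -/
theorem core_ne_bot_of_isPSolvable [Finite G] [Fact p.Prime] [Nontrivial G] (h : IsPSolvable p G) :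
    pCore p G ≠ ⊥ ∨ pPrimeCore p G ≠ ⊥ := by
  obtain ⟨n, H, h0, hn, hmono, hnormal, hstep⟩ := h
  classical
  by_contra hcon
  rw [not_or, not_not, not_not] at hcon
  suffices ∀ i : Fin (n + 1), H i = ⊥ from bot_ne_top ((this (Fin.last n)).symm.trans hn)
  intro i
  induction i using Fin.induction with
  | zero => exact h0
  | succ i ih =>
    have := hnormal i.succ
    have hs := hstep i
    rw [ih, relIndex_bot_left] at hs
    rcases hs with ⟨m, hm⟩ | hs
    · exact eq_bot_iff.mpr ((le_pCore (IsPGroup.of_card hm)).trans hcon.1.le)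
    · exact eq_bot_iff.mpr ((le_pPrimeCore hs).trans hcon.2.le)

theorem isPSolvable_subgroup [Finite G] [Fact p.Prime] (h : IsPSolvable p G) (K : Subgroup G) :
    IsPSolvable p K := by
  obtain ⟨n, H, h0, hn, hmono, hnormal, hstep⟩ := h
  refine ⟨n, fun i => (H i).subgroupOf K, by simp [h0], by simp [hn],
    fun a b hab => comap_mono (hmono hab),
    fun i => by haveI := hnormal i; infer_instance, fun i => ?_⟩
  refine PNum.of_dvd (hstep i) ?_
  haveI := hnormal i.castSucc
  have h1 : ((H i.castSucc).subgroupOf K).relIndex ((H i.succ).subgroupOf K) =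
      (H i.castSucc).relIndex (H i.succ ⊓ K) := by
    rw [← inf_subgroupOf_right (H i.succ) K, relIndex_subgroupOf inf_le_right]
  rw [h1]
  have h3 : ((H i.castSucc).subgroupOf (H i.succ)).relIndex ((H i.succ ⊓ K).subgroupOf (H i.succ))
      ∣ ((H i.castSucc).subgroupOf (H i.succ)).index :=
    relIndex_dvd_index_of_normal _ _
  rwa [relIndex_subgroupOf inf_le_left] at h3

theorem isPSolvable_of_surjective [Finite G] [Fact p.Prime] {G' : Type*} [Group G']
    (f : G →* G') (hf : Function.Surjective f) (h : IsPSolvable p G) : IsPSolvable p G' := by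
  obtain ⟨n, H, h0, hn, hmono, hnormal, hstep⟩ := h
  refine ⟨n, fun i => (H i).map f, by simp [h0],
    by simp only [hn, ← MonoidHom.range_eq_map, MonoidHom.range_eq_top.mpr hf],
    fun a b hab => map_mono (hmono hab), fun i => Normal.map (hnormal i) f hf, fun i => ?_⟩
  refine PNum.of_dvd (hstep i) ?_
  have hle : H i.castSucc ≤ H i.succ := hmono (Fin.castSucc_le_succ i)
  have h1 := index_map_dvd (H := (H i.castSucc).subgroupOf (H i.succ))
    (f := f.subgroupMap (H i.succ)) (f.subgroupMap_surjective _)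
  have h2 : ((H i.castSucc).subgroupOf (H i.succ)).map (f.subgroupMap (H i.succ)) =
      ((H i.castSucc).map f).subgroupOf ((H i.succ).map f) := by
    ext ⟨y, hy⟩
    constructor
    · rintro ⟨⟨x, hx⟩, hx1, hxy⟩
      exact ⟨x, hx1, congrArg Subtype.val hxy⟩
    · rintro ⟨x, hx, hxy⟩
      exact ⟨⟨x, hle hx⟩, hx, Subtype.ext hxy⟩
  rw [h2] at h1
  exact h1

theorem isPSolvable_of_mulEquiv [Finite G] [Fact p.Prime] {G' : Type*} [Group G']
    (e : G ≃* G') (h : IsPSolvable p G) : IsPSolvable p G' :=
  isPSolvable_of_surjective e.toMonoidHom e.surjective h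

theorem isPSolvable_quotient [Finite G] [Fact p.Prime] (h : IsPSolvable p G) (N : Subgroup G)
    [N.Normal] : IsPSolvable p (G ⧸ N) :=
  isPSolvable_of_surjective _ (QuotientGroup.mk'_surjective N) h

/-- Criterion: every nontrivial quotient has a nontrivial `p`- or `p'`-core. -/
theorem exists_pLengthLE_of_forall_quotient [Finite G] [Fact p.Prime]
    (h : ∀ (N : Subgroup G) [N.Normal], N ≠ ⊤ →
      pCore p (G ⧸ N) ≠ ⊥ ∨ pPrimeCore p (G ⧸ N) ≠ ⊥) : ∃ k, PLengthLE p k G := by
  have hlt : ∀ n, (upperPSeries p G n).1 ≠ ⊤ →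
      (upperPSeries p G n).1 < (upperPSeries p G (n + 2)).1 := by
    intro n hne
    refine lt_of_le_of_ne (upperPSeries_mono p G (Nat.le_add_right n 2)) fun heq => ?_
    have e1 : (upperPSeries p G (n + 1)).1 = (upperPSeries p G n).1 :=
      le_antisymm ((upperPSeries_le_succ p (n + 1) G).trans heq.ge) (upperPSeries_le_succ p n G)
    have e2 : (upperPSeries p G (n + 2)).1 = (upperPSeries p G (n + 1)).1 := by rw [e1, heq]
    -- both cores of the quotient by the common value are trivial
    have hz : ∀ (U V : Subgroup G) [U.Normal] [V.Normal], U = V →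
        (pCore p (G ⧸ U) = ⊥ → pCore p (G ⧸ V) = ⊥) ∧
        (pPrimeCore p (G ⧸ U) = ⊥ → pPrimeCore p (G ⧸ V) = ⊥) := by
      rintro U V _ _ rfl
      exact ⟨id, id⟩
    have hz1 : ∀ (U : Subgroup G) [U.Normal] (K : Subgroup (G ⧸ U)),
        K.comap (QuotientGroup.mk' U) = U → K = ⊥ := by
      intro U _ K hK
      rw [← map_comap_eq_self_of_surjective (QuotientGroup.mk'_surjective U) K, hK,
        QuotientGroup.map_mk'_self]
    rcases Nat.even_or_odd' n with ⟨j, rfl | rfl⟩
    · have hp' := hz1 _ _ ((upperPSeries_odd p j G).symm.trans e1)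
      have hp := hz1 _ _ ((upperPSeries_even p j G).symm.trans e2)
      exact (h _ hne).elim (fun hh => hh ((hz _ _ e1).1 hp)) (fun hh => hh hp')
    · have hp := hz1 _ _ ((upperPSeries_even p j G).symm.trans e1)
      have hp' := hz1 _ _ ((upperPSeries_odd p (j + 1) G).symm.trans e2)
      exact (h _ hne).elim (fun hh => hh hp) (fun hh => hh ((hz _ _ e1).2 hp'))
  obtain ⟨U, hU, hmax⟩ := (Set.toFinite (Set.range (fun k => (upperPSeries p G (2 * k + 1)).1))).exists_maximal
    (Set.range_nonempty _)
  obtain ⟨k, rfl⟩ := hU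
  refine ⟨k, ?_⟩
  by_contra hne
  have h1 := hlt (2 * k + 1) hne
  exact h1.not_ge (hmax ⟨k + 1, by ring_nf⟩ h1.le)

theorem isPSolvable_of_forall_quotient [Finite G] [Fact p.Prime]
    (h : ∀ (N : Subgroup G) [N.Normal], N ≠ ⊤ →
      pCore p (G ⧸ N) ≠ ⊥ ∨ pPrimeCore p (G ⧸ N) ≠ ⊥) : IsPSolvable p G :=
  let ⟨_, hk⟩ := exists_pLengthLE_of_forall_quotient h
  isPSolvable_of_pLengthLE hk

theorem exists_pLengthLE_of_isPSolvable [Finite G] [Fact p.Prime] (h : IsPSolvable p G) :
    ∃ k, PLengthLE p k G :=
  exists_pLengthLE_of_forall_quotient fun N _ hN => by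
    haveI : Nontrivial (G ⧸ N) := QuotientGroup.nontrivial_iff.mpr hN
    exact core_ne_bot_of_isPSolvable (isPSolvable_quotient h N)

/-- `p`-solubility is closed under extensions. -/
theorem isPSolvable_of_extension [Finite G] [Fact p.Prime] (N : Subgroup G) [N.Normal]
    (hN : IsPSolvable p N) (hQ : IsPSolvable p (G ⧸ N)) : IsPSolvable p G := by
  refine isPSolvable_of_forall_quotient fun M _ hM => ?_
  haveI : Nontrivial (G ⧸ M) := QuotientGroup.nontrivial_iff.mpr hM
  rcases eq_or_ne (N.map (QuotientGroup.mk' M)) ⊥ with hb | hb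
  · have hle : N ≤ M := by rwa [Subgroup.map_eq_bot_iff, QuotientGroup.ker_mk'] at hb
    refine core_ne_bot_of_isPSolvable (isPSolvable_of_surjective
      (QuotientGroup.map N M (MonoidHom.id G) (fun x hx => hle hx)) ?_ hQ)
    intro x
    obtain ⟨g, rfl⟩ := QuotientGroup.mk'_surjective M x
    exact ⟨QuotientGroup.mk' N g, rfl⟩
  · haveI : (N.map (QuotientGroup.mk' M)).Normal :=
      Normal.map inferInstance _ (QuotientGroup.mk'_surjective M)
    haveI : Nontrivial ↥(N.map (QuotientGroup.mk' M)) := (nontrivial_iff_ne_bot _).mpr hb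
    rcases core_ne_bot_of_isPSolvable (isPSolvable_of_surjective ((QuotientGroup.mk' M).subgroupMap N)
      (MonoidHom.subgroupMap_surjective _ N) hN) with h1 | h1
    · refine Or.inl fun h2 => h1 ?_
      have h3 := pCore_map_subtype p (N.map (QuotientGroup.mk' M))
      rw [h2, bot_inf_eq, map_eq_bot_iff_of_injective _ (subtype_injective _)] at h3
      exact h3
    · refine Or.inr fun h2 => h1 ?_
      have h3 := pPrimeCore_map_subtype p (N.map (QuotientGroup.mk' M))
      rw [h2, bot_inf_eq, map_eq_bot_iff_of_injective _ (subtype_injective _)] at h3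
      exact h3

theorem isPSolvable_of_isSolvable [Finite G] [Fact p.Prime] [Group.IsSolvable G] :
    IsPSolvable p G := by
  refine isPSolvable_of_forall_quotient fun N _ hN => ?_
  haveI : Nontrivial (G ⧸ N) := QuotientGroup.nontrivial_iff.mpr hN
  obtain ⟨M, hMn, -, hM0, hMmin⟩ :=
    exists_minimal_normal_le (N := (⊤ : Subgroup (G ⧸ N))) top_ne_bot
  haveI := hMn
  obtain ⟨-, r, hr, hexp⟩ := minimal_normal_elementary M hM0 hMmin
  haveI : Fact r.Prime := ⟨hr⟩
  have hrg : IsPGroup r M := fun x => ⟨1, by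
    rw [pow_one]; exact Subtype.ext (hexp _ x.2)⟩
  by_cases hrp : r = p
  · subst hrp
    exact Or.inl fun h => hM0 (eq_bot_iff.mpr ((le_pCore hrg).trans h.le))
  · refine Or.inr fun h => hM0 (eq_bot_iff.mpr ((le_pPrimeCore ?_).trans h.le))
    obtain ⟨k, hk⟩ := IsPGroup.iff_card.mp hrg
    rw [hk]
    exact ((Nat.coprime_primes hr (Fact.out : p.Prime)).mpr hrp).pow_left k

theorem isPSolvable_of_coprime [Finite G] [Fact p.Prime] (h : (Nat.card G).Coprime p) :
    IsPSolvable p G := by
  refine ⟨1, ![⊥, ⊤], rfl, rfl, ?_, ?_, ?_⟩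
  · refine Fin.monotone_iff_le_succ.mpr fun i => ?_
    rw [Fin.fin_one_eq_zero i]
    exact bot_le
  · intro i
    fin_cases i <;> simp [normal_bot, normal_top] <;> infer_instance
  · intro i
    rw [Fin.fin_one_eq_zero i]
    right
    simpa using h

theorem isPSolvable_of_isPGroup [Finite G] [Fact p.Prime] (h : IsPGroup p G) :
    IsPSolvable p G := by
  haveI := h.isNilpotent
  exact isPSolvable_of_isSolvable

/-- The quotient by an odd term of the upper `p`-series has trivial `p'`-core. -/
theorem pPrimeCore_quotient_upperPSeries_odd [Finite G] (p k : ℕ) :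
    pPrimeCore p (G ⧸ (upperPSeries p G (2 * k + 1)).1) = ⊥ := by
  set V := (upperPSeries p G (2 * k)).1
  set U := (upperPSeries p G (2 * k + 1)).1 with hU
  set M := (pPrimeCore p (G ⧸ U)).comap (QuotientGroup.mk' U) with hM
  haveI : M.Normal := Normal.comap inferInstance _
  haveI : (M.map (QuotientGroup.mk' V)).Normal :=
    Normal.map inferInstance _ (QuotientGroup.mk'_surjective V)
  have hVU : V ≤ U := upperPSeries_le_succ p (2 * k) G
  have hUM : U ≤ M := le_comap_mk' U _
  have h1 := card_map_mk'_mul V M (hVU.trans hUM)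
  have h2 : Nat.card M = Nat.card U * Nat.card (pPrimeCore p (G ⧸ U)) := card_comap_mk' U _
  have h3 : Nat.card U = Nat.card V * Nat.card (pPrimeCore p (G ⧸ V)) := by
    rw [hU, upperPSeries_odd, card_comap_mk']
  rw [h2, h3, mul_assoc] at h1
  have h4 : M.map (QuotientGroup.mk' V) ≤ pPrimeCore p (G ⧸ V) := le_pPrimeCore (by
    rw [Nat.eq_of_mul_eq_mul_left Nat.card_pos h1]
    exact (card_pPrimeCore_coprime p _).mul_left (card_pPrimeCore_coprime p _))
  rw [map_le_iff_le_comap, ← upperPSeries_odd, ← hU] at h4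
  rw [← map_comap_eq_self_of_surjective (QuotientGroup.mk'_surjective U) (pPrimeCore p (G ⧸ U)),
    ← hM, Subgroup.map_eq_bot_iff, QuotientGroup.ker_mk']
  exact h4

/-- Hall–Higman 1.2.3, needing only that `C_G(O_p(G))` is `p`-soluble. -/
theorem centralizer_pCore_le [Finite G] [Fact p.Prime] (h1 : pPrimeCore p G = ⊥)
    (h2 : IsPSolvable p ↥(centralizer (pCore p G : Set G))) :
    centralizer (pCore p G : Set G) ≤ pCore p G := by
  set C := centralizer (pCore p G : Set G) with hC
  set Z := C ⊓ pCore p G with hZ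
  set f := QuotientGroup.mk' Z with hf
  haveI : (C.map f).Normal := Normal.map inferInstance f (QuotientGroup.mk'_surjective Z)
  by_contra hne
  have hb : C.map f ≠ ⊥ := by
    rw [ne_eq, Subgroup.map_eq_bot_iff, QuotientGroup.ker_mk']
    exact fun h => hne (h.trans inf_le_right)
  haveI : Nontrivial ↥(C.map f) := (nontrivial_iff_ne_bot _).mpr hb
  have hfac : ∀ K : Subgroup ↥(C.map f), (K.map (C.map f).subtype).comap f ≤ C := by
    intro K x hx
    have h3 : x ∈ (C.map f).comap f := map_subtype_le K hx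
    rwa [comap_map_eq_self (by rw [QuotientGroup.ker_mk']; exact inf_le_left)] at h3
  have hZp : IsPGroup p Z := (isPGroup_pCore p G).to_le inf_le_right
  rcases core_ne_bot_of_isPSolvable (isPSolvable_of_surjective (f.subgroupMap C) (f.subgroupMap_surjective C) h2) with h3 | h3
  · set M := ((pCore p ↥(C.map f)).map (C.map f).subtype).comap f with hM
    haveI : M.Normal := Normal.comap inferInstance f
    have hMp : IsPGroup p M :=
      ((isPGroup_pCore p _).map _).comap_of_ker_isPGroup f
        (by rwa [QuotientGroup.ker_mk'])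
    have hMZ : M ≤ Z := le_inf (hfac _) (le_pCore hMp)
    apply h3
    apply map_injective (C.map f).subtype_injective
    rw [Subgroup.map_bot, ← map_comap_eq_self_of_surjective (QuotientGroup.mk'_surjective Z)
      ((pCore p ↥(C.map f)).map (C.map f).subtype), ← hf, ← hM, Subgroup.map_eq_bot_iff,
      QuotientGroup.ker_mk']
    exact hMZ
  · set M := ((pPrimeCore p ↥(C.map f)).map (C.map f).subtype).comap f with hM
    haveI : M.Normal := Normal.comap inferInstance f
    have hZM : Z ≤ M := le_comap_mk' Z _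
    have hidx : (Z.subgroupOf M).index = Nat.card (pPrimeCore p ↥(C.map f)) := by
      rw [← card_map_subtype]
      exact relIndex_comap_mk' Z _
    have hcop : (Nat.card ↥(Z.subgroupOf M)).Coprime (Z.subgroupOf M).index := by
      rw [hidx, card_subgroupOf hZM]
      exact coprime_card_of_isPGroup hZp (card_pPrimeCore_coprime p _)
    obtain ⟨T, hT⟩ := exists_right_complement'_of_coprime hcop
    have hTn : T.Normal := by
      constructor
      intro t ht g
      have hg : g ∈ Z.subgroupOf M ⊔ T := by rw [hT.sup_eq_top]; trivial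
      obtain ⟨z, hz, s, hs, rfl⟩ := mem_sup_of_normal_left.mp hg
      have hcz : ∀ m : M, z * m = m * z := fun m => by
        apply Subtype.ext
        exact (mem_centralizer_iff.mp (hfac _ m.2) _ hz.2)
      rw [show z * s * t * (z * s)⁻¹ = z * (s * t * s⁻¹) * z⁻¹ by group, hcz,
        mul_inv_cancel_right]
      exact T.mul_mem (T.mul_mem hs ht) (T.inv_mem hs)
    have hTc : (Nat.card T).Coprime p := by
      rw [← hT.symm.index_eq_card, hidx]
      exact card_pPrimeCore_coprime p _
    have hTle : T.map M.subtype ≤ ⊥ := by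
      rw [← h1]
      refine le_trans (map_mono (le_pPrimeCore hTc)) ?_
      rw [pPrimeCore_map_subtype]
      exact inf_le_left
    rw [le_bot_iff, map_eq_bot_iff_of_injective _ M.subtype_injective] at hTle
    have hcard := hT.symm.index_eq_card
    rw [hTle, card_bot, hidx] at hcard
    exact h3 (eq_bot_of_card_eq _ hcard)

theorem centralizer_pCore_le_of_isPSolvable [Finite G] [Fact p.Prime] (h : IsPSolvable p G)
    (h1 : pPrimeCore p G = ⊥) : centralizer (pCore p G : Set G) ≤ pCore p G :=
  centralizer_pCore_le h1 (isPSolvable_subgroup h _)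

/-- `p`-constraint from `p`-solubility of `C_G(P)`, `P` Sylow in `O_{p',p}(G)`. -/
theorem centralizer_sylow_pPrimePCore_le [Finite G] [Fact p.Prime]
    (P : Sylow p ↥(pPrimePCore p G))
    (hsol : IsPSolvable p ↥(centralizer (((P : Subgroup ↥(pPrimePCore p G)).map
      (pPrimePCore p G).subtype : Subgroup G) : Set G))) :
    centralizer (((P : Subgroup ↥(pPrimePCore p G)).map (pPrimePCore p G).subtype : Subgroup G)
      : Set G) ≤ pPrimePCore p G := by
  set N := pPrimeCore p G with hN
  set f := QuotientGroup.mk' N with hf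
  set P' := (P : Subgroup ↥(pPrimePCore p G)).map (pPrimePCore p G).subtype with hP'
  have hPp : IsPGroup p P' := P.isPGroup'.map _
  -- the image of `P` is the `p`-core of the quotient
  have himg : P'.map f = pCore p (G ⧸ N) := by
    refine le_antisymm ?_ ?_
    · rw [map_le_iff_le_comap]; exact map_subtype_le _
    · intro x hx
      obtain ⟨g, rfl⟩ := QuotientGroup.mk'_surjective N x
      haveI : (N.subgroupOf (pPrimePCore p G)).Normal := inferInstance
      have hidx : ((P' ⊔ N).subgroupOf (pPrimePCore p G)).index = 1 := by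
        have hNle : N ≤ pPrimePCore p G := le_comap_mk' N _
        refine Nat.dvd_one.mp ?_
        have d1 : ((P' ⊔ N).subgroupOf (pPrimePCore p G)).index ∣
            (P : Subgroup ↥(pPrimePCore p G)).index :=
          index_dvd_of_le fun y hy => mem_sup_left (mem_map_of_mem _ hy)
        have d2 : ((P' ⊔ N).subgroupOf (pPrimePCore p G)).index ∣ Nat.card (pCore p (G ⧸ N)) := by
          rw [← relIndex_comap_mk' N (pCore p (G ⧸ N))]
          exact relIndex_dvd_of_le_left _ le_sup_right
        obtain ⟨k, hk⟩ := IsPGroup.iff_card.mp (isPGroup_pCore p (G ⧸ N))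
        rw [hk] at d2
        have hcop := ((card_sylow_coprime_index P).coprime_dvd_left d1).pow_right k
        rw [← hcop.gcd_eq_one]
        exact Nat.dvd_gcd dvd_rfl d2
      have hg : g ∈ P' ⊔ N := by
        have : (⟨g, hx⟩ : ↥(pPrimePCore p G)) ∈ (P' ⊔ N).subgroupOf (pPrimePCore p G) := by
          rw [index_eq_one.mp hidx]; trivial
        exact this
      have h2 := mem_map_of_mem f hg
      rwa [Subgroup.map_sup, hf, QuotientGroup.map_mk'_self, sup_bot_eq] at h2
  have hcop : (Nat.card P').Coprime (Nat.card N) :=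
    coprime_card_of_isPGroup hPp (card_pPrimeCore_coprime p G)
  have hle : centralizer (pCore p (G ⧸ N) : Set (G ⧸ N)) ≤ (centralizer (P' : Set G)).map f := by
    intro x hx
    obtain ⟨g, rfl⟩ := QuotientGroup.mk'_surjective N x
    haveI := hPp.isNilpotent
    have hfa : ∀ a ∈ P', f g * f a = f a * f g := fun a ha =>
      (mem_centralizer_iff.mp hx _ (himg ▸ mem_map_of_mem f ha : f a ∈ pCore p (G ⧸ N))).symm
    have hker : ∀ z : G, f z = 1 → z ∈ N := fun z hz => (QuotientGroup.eq_one_iff z).mp hz
    obtain ⟨n, hn, hnc⟩ := conj_of_card_eq N P' (MulAut.conj g⁻¹ • P') (Or.inr inferInstance)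
      le_normalizer_of_normal (by
        intro y hy
        rw [mem_conj_smul, inv_inv] at hy
        have h4 : y * (g * y * g⁻¹)⁻¹ ∈ N := hker _ (by
          have h5 := hfa _ hy
          simp only [map_mul, map_inv] at h5 ⊢
          have h6 : f y = f g * f y * (f g)⁻¹ := by
            refine mul_left_cancel (a := f g) ?_
            calc f g * f y = f g * f y * (f g)⁻¹ * f g := by group
              _ = f g * (f g * f y * (f g)⁻¹) := h5.symm
          rw [← h6, mul_inv_cancel])
        have h8 := mul_mem (mem_sup_left h4 : _ ∈ N ⊔ P') (mem_sup_right hy)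
        rwa [inv_mul_cancel_right] at h8)
      (card_conj_smul _ _) hcop.symm
    have hfn : f n = 1 := (QuotientGroup.eq_one_iff n).mpr hn
    refine ⟨g * n, ?_, by rw [map_mul, hfn, mul_one]⟩
    rw [SetLike.mem_coe, mem_centralizer_iff]
    intro a ha
    have hnorm : MulAut.conj (g * n) • P' = P' := by
      rw [← conj_smul_conj_smul, hnc, conj_smul_conj_smul, mul_inv_cancel, map_one, one_smul]
    have h7 : g * n * a * (g * n)⁻¹ * a⁻¹ ∈ P' ⊓ N := by
      refine ⟨P'.mul_mem ?_ (P'.inv_mem ha), hker _ ?_⟩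
      · rw [← hnorm, mem_conj_smul]; simpa [mul_assoc] using ha
      · simp only [map_mul, map_inv, hfn, mul_one]
        rw [hfa a ha]; group
    rw [inf_eq_bot_of_coprime_card _ _ hcop, mem_bot, mul_inv_eq_one, mul_inv_eq_iff_eq_mul] at h7
    exact h7.symm
  have hge : (centralizer (P' : Set G)).map f ≤ centralizer (pCore p (G ⧸ N) : Set (G ⧸ N)) := by
    rintro _ ⟨c, hc, rfl⟩
    rw [mem_centralizer_iff]
    intro y hy
    rw [← himg] at hy
    obtain ⟨z, hz, rfl⟩ := hy
    rw [← map_mul, mem_centralizer_iff.mp hc z hz, map_mul]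
  have heq := le_antisymm hle hge
  have hHH := centralizer_pCore_le (pPrimeCore_quotient_pPrimeCore (G := G) p) (by
    rw [heq]
    exact isPSolvable_of_surjective (f.subgroupMap _) (f.subgroupMap_surjective _) hsol)
  intro c hc
  exact hHH (hge (mem_map_of_mem f hc))

theorem isPConstrained_of_isPSolvable_centralizer [Finite G] [Fact p.Prime]
    (P : Sylow p ↥(pPrimePCore p G))
    (hsol : IsPSolvable p ↥(centralizer (((P : Subgroup ↥(pPrimePCore p G)).map
      (pPrimePCore p G).subtype : Subgroup G) : Set G))) : IsPConstrained p G := by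
  intro Q
  obtain ⟨k, hk⟩ := MulAction.exists_smul_eq ↥(pPrimePCore p G) Q P
  refine centralizer_sylow_pPrimePCore_le Q (isPSolvable_of_surjective
    (((MulAut.conj (k : G)⁻¹).toMonoidHom.comp (centralizer (((P : Subgroup ↥(pPrimePCore p G)).map
      (pPrimePCore p G).subtype : Subgroup G) : Set G)).subtype).codRestrict
      (centralizer (((Q : Subgroup ↥(pPrimePCore p G)).map
        (pPrimePCore p G).subtype : Subgroup G) : Set G)) ?_) ?_ hsol)
  · intro x
    rw [mem_centralizer_iff]
    rintro _ ⟨q, hq, rfl⟩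
    have hmem : ((k * q * k⁻¹ : ↥(pPrimePCore p G)) : G) ∈
        (P : Subgroup ↥(pPrimePCore p G)).map (pPrimePCore p G).subtype := by
      refine ⟨k * q * k⁻¹, ?_, rfl⟩
      rw [SetLike.mem_coe, ← hk, Sylow.coe_subgroup_smul, mem_conj_smul]
      have e : k⁻¹ * (k * q * k⁻¹) * k = q := by group
      rw [e]
      exact hq
    have h := mem_centralizer_iff.mp x.2 _ hmem
    rw [Subgroup.coe_mul, Subgroup.coe_mul, Subgroup.coe_inv] at h
    simp only [MonoidHom.coe_comp, Function.comp_apply, coe_subtype, MulEquiv.coe_toMonoidHom,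
      MulAut.conj_apply, inv_inv]
    calc (q : G) * ((k : G)⁻¹ * x * k)
        = (k : G)⁻¹ * ((k : G) * q * (k : G)⁻¹ * x) * k := by group
      _ = (k : G)⁻¹ * x * k * q := by rw [h]; group
  · intro y
    have hy : (k : G) * y * (k : G)⁻¹ ∈ centralizer
        (((P : Subgroup ↥(pPrimePCore p G)).map (pPrimePCore p G).subtype : Subgroup G) : Set G) := by
      rw [mem_centralizer_iff]
      rintro _ ⟨z, hz, rfl⟩
      rw [← hk, Sylow.coe_subgroup_smul, SetLike.mem_coe, mem_conj_smul] at hz
      have h := mem_centralizer_iff.mp y.2 _ (mem_map_of_mem _ hz)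
      simp only [coe_subtype, Subgroup.coe_mul, coe_inv] at h ⊢
      calc (z : G) * ((k : G) * y * (k : G)⁻¹)
          = (k : G) * ((k : G)⁻¹ * z * k * y) * (k : G)⁻¹ := by group
        _ = (k : G) * y * (k : G)⁻¹ * z := by rw [h]; group
    refine ⟨⟨_, hy⟩, Subtype.ext ?_⟩
    change (MulAut.conj (k : G)⁻¹) ((k : G) * y * (k : G)⁻¹) = y
    simp [mul_assoc]

theorem isPConstrained_of_isPSolvable [Finite G] [Fact p.Prime] (h : IsPSolvable p G) :
    IsPConstrained p G := fun Q => centralizer_sylow_pPrimePCore_le Q (isPSolvable_subgroup h _)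

end Cfsg.Agent.Solv
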