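import Cfsg.Agent.Lib.Solv.SchurZassenhaus
import Cfsg.Prelude.Def_Transfer
import Mathlib.GroupTheory.Focal

/-!
Normal `p`-complements, `O^p`, fusion criteria, Frobenius' normal `p`-complement theorem.
-/

set_option autoImplicit false
set_option linter.style.haveILetI false

namespace Cfsg.Agent.Solv

open Subgroup
open scoped Pointwise commutatorElement

universe u

variable {G : Type u} [Group G] {p : ℕ}

theorem card_pow_of_sylow [Finite G] [Fact p.Prime] (P : Sylow p G) :
    ∃ k, Nat.card P = p ^ k := IsPGroup.iff_card.mp P.isPGroup'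

/-! ### normal complements -/

theorem isComplement'_sylow_of_card [Finite G] [Fact p.Prime] (P : Sylow p G) (N : Subgroup G)
    (hN : (Nat.card N).Coprime p) (hidx : ∃ k, N.index = p ^ k) :
    IsComplement' N (P : Subgroup G) := by
  obtain ⟨k, hk⟩ := hidx
  obtain ⟨j, hj⟩ := card_pow_of_sylow P
  have e1 := N.card_mul_index
  have e2 := (P : Subgroup G).card_mul_index
  have hcop : (Nat.card N).Coprime (Nat.card P) := by rw [hj]; exact hN.pow_right j
  refine isComplement'_of_coprime ?_ hcop
  have h1 : N.index ∣ Nat.card P := by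
    refine Nat.Coprime.dvd_of_dvd_mul_right ?_ (Dvd.intro_left _ (e1.trans e2.symm))
    rw [hk]
    exact ((card_sylow_coprime_index P).symm.pow_left k)
  have h2 : Nat.card P ∣ N.index :=
    hcop.symm.dvd_of_dvd_mul_left (Dvd.intro _ (e2.trans e1.symm))
  rw [Nat.dvd_antisymm h2 h1]
  exact e1

theorem hasNormalPComplement_of_normal [Finite G] [Fact p.Prime] (N : Subgroup G) [hn : N.Normal]
    (hN : (Nat.card N).Coprime p) (hidx : ∃ k, N.index = p ^ k) : HasNormalPComplement p G :=
  ⟨Classical.arbitrary _, N, hn, isComplement'_sylow_of_card _ N hN hidx⟩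

theorem complement_eq_pPrimeCore [Finite G] [Fact p.Prime] {P : Sylow p G} {N : Subgroup G}
    [N.Normal] (h : IsComplement' N (P : Subgroup G)) :
    N = pPrimeCore p G ∧ (Nat.card N).Coprime p ∧ ∃ k, N.index = p ^ k := by
  have hc : (Nat.card N).Coprime p := h.index_eq_card ▸ card_sylow_coprime_index P
  obtain ⟨k, hk⟩ := card_pow_of_sylow P
  have hidx : N.index = p ^ k := h.symm.index_eq_card.trans hk
  refine ⟨le_antisymm (le_pPrimeCore hc) (le_of_coprime_index N ?_), hc, k, hidx⟩
  rw [hidx]
  exact (card_pPrimeCore_coprime p G).pow_right k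

theorem hasNormalPComplement_iff_index [Finite G] [Fact p.Prime] :
    HasNormalPComplement p G ↔ ∃ k, (pPrimeCore p G).index = p ^ k := by
  constructor
  · rintro ⟨P, N, hN, hc⟩
    obtain ⟨h1, -, h3⟩ := complement_eq_pPrimeCore hc
    rwa [← h1]
  · exact hasNormalPComplement_of_normal _ (card_pPrimeCore_coprime p G)

theorem isComplement'_pPrimeCore [Finite G] [Fact p.Prime] (h : HasNormalPComplement p G)
    (P : Sylow p G) : IsComplement' (pPrimeCore p G) (P : Subgroup G) :=
  isComplement'_sylow_of_card P _ (card_pPrimeCore_coprime p G)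
    (hasNormalPComplement_iff_index.mp h)

theorem mem_pPrimeCore_of_orderOf_coprime [Finite G] [Fact p.Prime]
    (h : HasNormalPComplement p G) {x : G} (hx : (orderOf x).Coprime p) : x ∈ pPrimeCore p G := by
  obtain ⟨k, hk⟩ := hasNormalPComplement_iff_index.mp h
  exact mem_of_coprime_index _ (hk ▸ hx.pow_right k)

theorem mem_pPrimeCore_iff [Finite G] [Fact p.Prime] (h : HasNormalPComplement p G) {x : G} :
    x ∈ pPrimeCore p G ↔ (orderOf x).Coprime p :=
  ⟨fun hx => (card_pPrimeCore_coprime p G).coprime_dvd_left (Subgroup.orderOf_dvd_natCard _ hx), mem_pPrimeCore_of_orderOf_coprime h⟩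

theorem hasNormalPComplement_subgroup [Finite G] [Fact p.Prime] (h : HasNormalPComplement p G)
    (H : Subgroup G) : HasNormalPComplement p H := by
  obtain ⟨k, hk⟩ := hasNormalPComplement_iff_index.mp h
  refine hasNormalPComplement_of_normal ((pPrimeCore p G).subgroupOf H) ?_ ?_
  · exact (card_pPrimeCore_coprime p G).coprime_dvd_left
      (card_comap_dvd_of_injective _ _ H.subtype_injective)
  · obtain ⟨i, -, hi⟩ := (Nat.dvd_prime_pow (Fact.out : p.Prime)).mp
      (hk ▸ relIndex_dvd_index_of_normal (pPrimeCore p G) H :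
        (pPrimeCore p G).relIndex H ∣ p ^ k)
    exact ⟨i, hi⟩

theorem hasNormalPComplement_of_surjective [Finite G] [Fact p.Prime] {G' : Type*} [Group G']
    (f : G →* G') (hf : Function.Surjective f) (h : HasNormalPComplement p G) :
    HasNormalPComplement p G' := by
  haveI : Finite G' := Finite.of_surjective f hf
  obtain ⟨k, hk⟩ := hasNormalPComplement_iff_index.mp h
  haveI : ((pPrimeCore p G).map f).Normal := Normal.map inferInstance f hf
  refine hasNormalPComplement_of_normal ((pPrimeCore p G).map f)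
    ((card_pPrimeCore_coprime p G).coprime_dvd_left (card_map_dvd _ f)) ?_
  obtain ⟨i, -, hi⟩ := (Nat.dvd_prime_pow (Fact.out : p.Prime)).mp
    (hk ▸ index_map_dvd (H := pPrimeCore p G) hf : ((pPrimeCore p G).map f).index ∣ p ^ k)
  exact ⟨i, hi⟩

theorem hasNormalPComplement_of_mulEquiv [Finite G] [Fact p.Prime] {G' : Type*} [Group G']
    (e : G ≃* G') (h : HasNormalPComplement p G) : HasNormalPComplement p G' :=
  hasNormalPComplement_of_surjective e.toMonoidHom e.surjective h

theorem hasNormalPComplement_of_normal_coprime [Finite G] [Fact p.Prime] (N : Subgroup G)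
    [N.Normal] (hN : (Nat.card N).Coprime p) (h : HasNormalPComplement p (G ⧸ N)) :
    HasNormalPComplement p G := by
  obtain ⟨k, hk⟩ := hasNormalPComplement_iff_index.mp h
  haveI : ((pPrimeCore p (G ⧸ N)).comap (QuotientGroup.mk' N)).Normal :=
    Normal.comap inferInstance _
  refine hasNormalPComplement_of_normal ((pPrimeCore p (G ⧸ N)).comap (QuotientGroup.mk' N)) ?_
    ⟨k, by rw [index_comap_of_surjective _ (QuotientGroup.mk'_surjective N), hk]⟩
  rw [card_comap_mk']
  exact hN.mul_left (card_pPrimeCore_coprime p _)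

theorem hasNormalPComplement_of_coprime [Finite G] [Fact p.Prime] (h : (Nat.card G).Coprime p) :
    HasNormalPComplement p G :=
  hasNormalPComplement_of_normal ⊤ (by rwa [card_top]) ⟨0, by simp⟩

theorem hasNormalPComplement_of_isPGroup [Finite G] [Fact p.Prime] (h : IsPGroup p G) :
    HasNormalPComplement p G := by
  obtain ⟨k, hk⟩ := IsPGroup.iff_card.mp h
  exact hasNormalPComplement_of_normal ⊥ (by simp) ⟨k, by rw [index_bot, hk]⟩

/-- Burnside's normal `p`-complement theorem. -/
theorem hasNormalPComplement_of_burnside [Finite G] [Fact p.Prime] (P : Sylow p G)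
    (h : normalizer ((P : Subgroup G) : Set G) ≤ centralizer ((P : Subgroup G) : Set G)) :
    HasNormalPComplement p G :=
  ⟨P, _, MonoidHom.normal_ker _, MonoidHom.ker_transferSylow_isComplement' P h⟩

/-! ### `O^p` -/

theorem pResidual_characteristic (p : ℕ) (G : Type u) [Group G] :
    (pResidual p G).Characteristic := by
  refine characteristic_iff_map_le.mpr fun e => ?_
  rw [pResidual, MonoidHom.map_closure]
  refine closure_mono ?_
  rintro _ ⟨g, hg, rfl⟩
  change (orderOf (e g)).Coprime p
  rwa [e.orderOf_eq]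

attribute [instance] pResidual_characteristic

theorem mem_pResidual {p : ℕ} {g : G} (h : (orderOf g).Coprime p) : g ∈ pResidual p G :=
  subset_closure h

theorem pPrimeCore_le_pResidual [Finite G] (p : ℕ) : pPrimeCore p G ≤ pResidual p G :=
  fun x hx => mem_pResidual ((card_pPrimeCore_coprime p G).coprime_dvd_left (Subgroup.orderOf_dvd_natCard _ hx))

theorem pResidual_le_ker_of_isPGroup [Finite G] [Fact p.Prime] {H : Type*} [Group H] [Finite H]
    (hH : IsPGroup p H) (f : G →* H) : pResidual p G ≤ f.ker := by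
  rw [pResidual, closure_le]
  intro g hg
  obtain ⟨k, hk⟩ := IsPGroup.iff_card.mp hH
  rw [SetLike.mem_coe, MonoidHom.mem_ker, ← orderOf_eq_one_iff]
  refine Nat.dvd_one.mp ?_
  rw [← (Nat.Coprime.pow_right k hg).gcd_eq_one, ← hk]
  exact Nat.dvd_gcd (orderOf_map_dvd f g) (orderOf_dvd_natCard _)

theorem pResidual_le_of_index [Finite G] [Fact p.Prime] (N : Subgroup G) [N.Normal]
    (h : ∃ k, N.index = p ^ k) : pResidual p G ≤ N := by
  obtain ⟨k, hk⟩ := h
  have := pResidual_le_ker_of_isPGroup (IsPGroup.of_card (n := k) (by rw [← index_eq_card]; exact hk))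
    (QuotientGroup.mk' N)
  rwa [QuotientGroup.ker_mk'] at this

theorem sup_pResidual_eq_top [Finite G] [Fact p.Prime] (P : Sylow p G) :
    (P : Subgroup G) ⊔ pResidual p G = ⊤ := by
  rw [← index_eq_one]
  by_contra hne
  obtain ⟨q, hq, hd⟩ := Nat.exists_prime_and_dvd hne
  haveI : Fact q.Prime := ⟨hq⟩
  rcases eq_or_ne q p with rfl | hqp
  · exact P.not_dvd_index (hd.trans (index_dvd_of_le le_sup_left))
  · obtain ⟨Q⟩ := Sylow.nonempty (p := q) (G := G)
    refine Q.not_dvd_index (hd.trans (index_dvd_of_le (le_sup_of_le_right fun x hx => ?_)))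
    obtain ⟨k, hk⟩ := card_pow_of_sylow Q
    refine mem_pResidual (Nat.Coprime.coprime_dvd_left
      (Subgroup.orderOf_dvd_natCard _ hx) ?_)
    rw [hk]
    exact ((Nat.coprime_primes hq (Fact.out : p.Prime)).mpr hqp).pow_left k

theorem exists_pResidual_index [Finite G] [Fact p.Prime] :
    ∃ k, (pResidual p G).index = p ^ k := by
  obtain ⟨P⟩ := Sylow.nonempty (p := p) (G := G)
  obtain ⟨k, hk⟩ := card_pow_of_sylow P
  have h : (pResidual p G).index ∣ p ^ k := by
    rw [← hk, ← relIndex_top_right, ← sup_pResidual_eq_top P, relIndex_sup_right]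
    exact relIndex_dvd_card ..
  obtain ⟨i, -, hi⟩ := (Nat.dvd_prime_pow (Fact.out : p.Prime)).mp h
  exact ⟨i, hi⟩

theorem pResidual_eq_top_of_map [Finite G] :
    pResidual p ↥(pResidual p G) = ⊤ := by
  rw [eq_top_iff]
  rintro ⟨x, hx⟩ -
  refine closure_induction (p := fun x hx => (⟨x, hx⟩ : pResidual p G) ∈ pResidual p ↥(pResidual p G))
    (fun g hg => mem_pResidual ?_) (one_mem _)
    (fun a b ha hb iha ihb => mul_mem (show (⟨a, ha⟩ : pResidual p G) ∈ _ from iha) ihb)
    (fun a ha iha => inv_mem (show (⟨a, ha⟩ : pResidual p G) ∈ _ from iha)) hx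
  change (orderOf (⟨g, mem_pResidual hg⟩ : pResidual p G)).Coprime p
  rw [Subgroup.orderOf_mk]
  exact hg

/-- A group generated by `p'`-elements has Sylow `p`-subgroup equal to its focal subgroup. -/
theorem focalSubgroup_eq_of_pResidual_eq_top [Finite G] [Fact p.Prime] (P : Sylow p G)
    (h : pResidual p G = ⊤) : (P : Subgroup G).focalSubgroup = P := by
  have h1 : P.transferFocal.ker = ⊤ := top_le_iff.mp
    (h ▸ pResidual_le_ker_of_isPGroup (P.isPGroup'.to_quotient _) P.transferFocal)
  rw [← ker_transferFocal_inf_eq_focalSubgroup, h1, top_inf_eq]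

theorem exists_mem_prime_pow [Finite G] {S : Subgroup G} {K : Subgroup G}
    (h : ¬ K ≤ S) : ∃ g ∈ K, g ∉ S ∧ ∃ q k : ℕ, q.Prime ∧ orderOf g = q ^ k := by
  by_contra hcon
  push Not at hcon
  apply h
  suffices hi : (S.subgroupOf K).index = 1 from subgroupOf_eq_top.mp (index_eq_one.mp hi)
  by_contra hne
  obtain ⟨q, hq, hd⟩ := Nat.exists_prime_and_dvd hne
  haveI : Fact q.Prime := ⟨hq⟩
  obtain ⟨Q⟩ := Sylow.nonempty (p := q) (G := K)
  refine Q.not_dvd_index (hd.trans (index_dvd_of_le fun x hx => ?_))
  obtain ⟨k, hk⟩ := IsPGroup.iff_orderOf.mp Q.isPGroup' ⟨x, hx⟩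
  by_contra hxS
  exact hcon x x.2 hxS q k hq (by rw [Subgroup.orderOf_coe, ← Subgroup.orderOf_mk x hx]; exact hk)

theorem commutator_lt_of_isNilpotent {M U : Subgroup G} (hM : Group.IsNilpotent M) (hUM : U ≤ M)
    (hMU : M ≤ normalizer (U : Set G)) (hU : U ≠ ⊥) : ⁅U, M⁆ < U := by
  refine lt_of_le_of_ne (le_normalizer_iff_commutator_le_left.mp hMU) fun h => hU ?_
  obtain ⟨n, hn⟩ := (isNilpotent_iff_lowerCentralSeries M).mp hM
  have : ∀ k, U ≤ M.lowerCentralSeries k := by
    intro k
    induction k with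
    | zero => exact hUM
    | succ k ih => rw [Subgroup.lowerCentralSeries_succ, ← h]; exact commutator_mono ih le_rfl
  exact eq_bot_iff.mpr (hn ▸ this n)

/-- If a Sylow `p`-subgroup controls its own fusion, there is a normal `p`-complement. -/
theorem hasNormalPComplement_of_fusion [Finite G] [Fact p.Prime] (P : Sylow p G)
    (h : ∀ x ∈ P, ∀ g : G, g * x * g⁻¹ ∈ P → ∃ z ∈ P, z * x * z⁻¹ = g * x * g⁻¹) :
    HasNormalPComplement p G := by
  set N := pResidual p G with hN
  set Q := (P : Subgroup G) ⊓ N with hQ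
  have hidx : ¬ p ∣ ((P : Subgroup G).subgroupOf N).index := by
    intro hd
    exact P.not_dvd_index (hd.trans (by
      have h1 : (P : Subgroup G).relIndex N = (P : Subgroup G).index := by
        have e : N.relIndex (P : Subgroup G) = N.index := by
          rw [← relIndex_top_right, ← sup_pResidual_eq_top P, relIndex_sup_right]
        have e2 := relIndex_mul_index (inf_le_left : (P : Subgroup G) ⊓ N ≤ P)
        have e3 := relIndex_mul_index (inf_le_right : (P : Subgroup G) ⊓ N ≤ N)
        rw [inf_relIndex_left, e] at e2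
        rw [inf_relIndex_right, ← e2, mul_comm N.index] at e3
        exact Nat.eq_of_mul_eq_mul_right (Nat.pos_of_ne_zero index_ne_zero_of_finite) e3
      rw [← h1]
      exact dvd_rfl))
  have hpg : IsPGroup p ↥((P : Subgroup G).subgroupOf N) := P.isPGroup'.comap_subtype
  set S := hpg.toSylow hidx with hS
  have hfoc := focalSubgroup_eq_of_pResidual_eq_top S pResidual_eq_top_of_map
  have hQle : Q ≤ ⁅Q, (P : Subgroup G)⁆ := by
    have h1 : (S : Subgroup N).map N.subtype = Q := by
      rw [hS, IsPGroup.toSylow_coe, subgroupOf_map_subtype]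
    refine h1.symm.le.trans ?_
    rw [← hfoc, focalSubgroup_def, MonoidHom.map_closure, closure_le]
    rintro _ ⟨g, ⟨hgS, x, hx, u, rfl⟩, rfl⟩
    rw [hS, IsPGroup.toSylow_coe, mem_subgroupOf] at hx hgS
    have hux : (u : G) * x * (u : G)⁻¹ ∈ P := by
      have h2 := P.mul_mem (P.inv_mem hx) hgS
      simp only [commutatorElement_def, Subgroup.coe_mul, Subgroup.coe_inv] at h2
      have h3 := P.inv_mem h2
      simpa [mul_assoc, ← SetLike.mem_coe] using h3
    obtain ⟨z, hz, hzx⟩ := h x hx u hux
    have h4 : ((⁅x, u⁆ : N) : G) = ⁅(x : G), z⁆ := by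
      simp only [commutatorElement_def, Subgroup.coe_mul, Subgroup.coe_inv]
      have h5 := congrArg (fun t => (x : G) * t⁻¹) hzx
      simp only [mul_inv_rev, inv_inv] at h5
      simp only [mul_assoc] at h5 ⊢
      exact h5.symm
    rw [SetLike.mem_coe, coe_subtype, h4]
    exact commutator_mem_commutator (show (x : G) ∈ Q from ⟨hx, x.2⟩) hz
  have hQ0 : Q = ⊥ := by
    by_contra hne
    haveI := P.isPGroup'.isNilpotent
    have := commutator_lt_of_isNilpotent (M := (P : Subgroup G)) (U := Q) inferInstance inf_le_left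
      (le_normalizer_inf le_normalizer le_normalizer_of_normal) hne
    exact this.not_ge hQle
  refine hasNormalPComplement_of_normal N ?_ exists_pResidual_index
  refine ((Fact.out : p.Prime).coprime_iff_not_dvd.mpr fun hd => ?_).symm
  have hbot : (S : Subgroup N) = ⊥ := by
    apply map_injective N.subtype_injective
    rw [hS, IsPGroup.toSylow_coe, subgroupOf_map_subtype, Subgroup.map_bot]
    exact hQ0
  exact S.ne_bot_of_dvd_card hd hbot

/-! ### Frobenius -/

/-- Frobenius' condition: `p'`-elements normalising a subgroup of a Sylow subgroup centralise it. -/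
def FrobeniusCond (p : ℕ) (G : Type u) [Group G] : Prop :=
  ∀ Q : Subgroup G, IsPGroup p Q → ∀ g ∈ normalizer (Q : Set G), (orderOf g).Coprime p →
    g ∈ centralizer (Q : Set G)

theorem FrobeniusCond.sylow_conj [Finite G] [hp : Fact p.Prime] (h : FrobeniusCond p G)
    (D : Subgroup G) : ∀ P Q : Sylow p G, D = (P : Subgroup G) ⊓ (Q : Subgroup G) →
      ∃ c ∈ centralizer (D : Set G), c • P = Q := by
  induction D using WellFoundedGT.induction with
  | _ D ih =>
    intro P Q hD
    rcases eq_or_ne (P : Subgroup G) Q with hPQ | hPQ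
    · exact ⟨1, one_mem _, by rw [one_smul]; exact Sylow.ext hPQ⟩
    have hDp : IsPGroup p D := hD ▸ P.isPGroup'.to_le inf_le_left
    have hlt : ∀ R : Sylow p G, D ≤ R → (R : Subgroup G) ≠ D →
        D < (R : Subgroup G) ⊓ normalizer (D : Set G) := by
      intro R hDR hne
      haveI := R.isPGroup'.isNilpotent
      refine lt_of_le_of_ne (le_inf hDR le_normalizer) fun heq => ?_
      refine (Group.normalizerCondition_of_isNilpotent (G := (R : Subgroup G))
        (D.subgroupOf R) (lt_top_iff_ne_top.mpr fun hh => hne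
          (le_antisymm (subgroupOf_eq_top.mp hh) hDR))).ne ?_
      refine le_antisymm le_normalizer fun x hx => ?_
      have hx' : (x : G) ∈ (R : Subgroup G) ⊓ normalizer (D : Set G) := by
        refine ⟨x.2, ?_⟩
        change (x : G) ∈ normalizer (D : Set G)
        rw [mem_normalizer_iff]
        intro d
        constructor
        · exact fun hd => (mem_normalizer_iff.mp hx ⟨d, hDR hd⟩).mp hd
        · intro hd
          have hdR : d ∈ R := by
            have h6 := (R : Subgroup G).mul_mem ((R : Subgroup G).mul_mem ((R : Subgroup G).inv_mem x.2) (hDR hd)) x.2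
            simpa [mul_assoc, ← SetLike.mem_coe] using h6
          exact (mem_normalizer_iff.mp hx ⟨d, hdR⟩).mpr hd
      rw [← heq] at hx'
      exact hx'
    have hPne : (P : Subgroup G) ≠ D := fun hh => hPQ (by
      have : (P : Subgroup G) ≤ Q := by rw [hh, hD]; exact inf_le_right
      exact (P.is_maximal' Q.isPGroup' this).symm)
    have hQne : (Q : Subgroup G) ≠ D := fun hh => hPQ (by
      have : (Q : Subgroup G) ≤ P := by rw [hh, hD]; exact inf_le_left
      exact Q.is_maximal' P.isPGroup' this)
    set M := normalizer (D : Set G) with hM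
    obtain ⟨S, hS⟩ := (P.isPGroup'.comap_subtype (K := M)).exists_le_sylow
    obtain ⟨T, hT⟩ := (Q.isPGroup'.comap_subtype (K := M)).exists_le_sylow
    obtain ⟨R, hR⟩ := (S.isPGroup'.map M.subtype).exists_le_sylow
    -- `M = C(D) S`
    have hMCS : (⊤ : Subgroup M) ≤ (centralizer (D : Set G)).subgroupOf M ⊔ S := by
      by_contra hh
      obtain ⟨g, -, hg, q, k, hq, hk⟩ := exists_mem_prime_pow hh
      haveI : Fact q.Prime := ⟨hq⟩
      rcases eq_or_ne q p with rfl | hqp
      · obtain ⟨S', hgS'⟩ := (IsPGroup.of_card (n := k)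
          (by rw [Nat.card_zpowers, hk]) : IsPGroup q ↥(zpowers g)).exists_le_sylow
        haveI : ((centralizer (D : Set G)).subgroupOf M).Normal :=
          normal_subgroupOf_of_le_normalizer (by
            intro x hx
            rw [mem_normalizer_iff]
            intro y
            simp only [mem_centralizer_iff]
            constructor
            · intro hy d hd
              have := hy _ ((mem_normalizer_iff''.mp hx d).mp hd)
              calc d * (x * y * x⁻¹) = x * (x⁻¹ * d * x * y) * x⁻¹ := by group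
                _ = x * y * x⁻¹ * d := by rw [this]; group
            · intro hy d hd
              have := hy _ ((mem_normalizer_iff.mp hx d).mp hd)
              calc d * y = x⁻¹ * (x * d * x⁻¹ * (x * y * x⁻¹)) * x := by group
                _ = y * d := by rw [this]; group)
        have hidx : ((centralizer (D : Set G)).subgroupOf M ⊔ S).index = 1 := by
          by_contra hne
          obtain ⟨r, hr, hd⟩ := Nat.exists_prime_and_dvd hne
          haveI : Fact r.Prime := ⟨hr⟩
          rcases eq_or_ne r q with rfl | hrq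
          · exact S.not_dvd_index (hd.trans (index_dvd_of_le le_sup_right))
          · obtain ⟨R'⟩ := Sylow.nonempty (p := r) (G := M)
            refine R'.not_dvd_index (hd.trans (index_dvd_of_le (le_sup_of_le_left fun x hx => ?_)))
            refine h D hDp x x.2 (Nat.Coprime.coprime_dvd_left ?_
              (((Nat.coprime_primes hr hp.out).mpr hrq).pow_left
                (Nat.find (card_pow_of_sylow R'))))
            rw [← Nat.find_spec (card_pow_of_sylow R'), Subgroup.orderOf_coe]
            exact Subgroup.orderOf_dvd_natCard _ hx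
        exact hg (by rw [index_eq_one.mp hidx]; trivial)
      · refine hg (mem_sup_left (h D hDp g g.2 ?_))
        rw [Subgroup.orderOf_coe, hk]
        exact ((Nat.coprime_primes hq hp.out).mpr hqp).pow_left k
    obtain ⟨m, hm⟩ := MulAction.exists_smul_eq M S T
    haveI : ((centralizer (D : Set G)).subgroupOf M).Normal := by
      constructor
      intro y hy x
      rw [mem_subgroupOf, mem_centralizer_iff] at hy ⊢
      intro d hd
      have := hy _ ((mem_normalizer_iff''.mp x.2 d).mp hd)
      simp only [Subgroup.coe_mul, Subgroup.coe_inv]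
      calc d * ((x : G) * y * (x : G)⁻¹) = (x : G) * ((x : G)⁻¹ * d * x * y) * (x : G)⁻¹ := by group
        _ = (x : G) * y * (x : G)⁻¹ * d := by rw [this]; group
    obtain ⟨c, hc, s, hs, rfl⟩ := mem_sup_of_normal_left.mp (hMCS (mem_top m))
    have hcS : c • S = T := by
      rw [← hm, mul_smul, Sylow.smul_eq_iff_mem_normalizer.mpr (le_normalizer hs)]
    -- use induction twice
    have hP1 : D < (P : Subgroup G) ⊓ R := by
      refine lt_of_lt_of_le (hlt P (hD ▸ inf_le_left) hPne) (le_inf inf_le_left fun x hx => ?_)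
      exact hR ⟨⟨x, hx.2⟩, hS hx.1, rfl⟩
    obtain ⟨c₁, hc₁, hc₁e⟩ := ih _ hP1 P R rfl
    have hQ1 : D < (((c : G) • R : Sylow p G) : Subgroup G) ⊓ (Q : Subgroup G) := by
      refine lt_of_lt_of_le (hlt Q (hD ▸ inf_le_right) hQne) (le_inf (fun x hx => ?_) inf_le_left)
      rw [Sylow.coe_subgroup_smul, mem_conj_smul]
      have hxT : (⟨x, hx.2⟩ : M) ∈ (T : Subgroup M) := hT hx.1
      rw [← hcS, Sylow.coe_subgroup_smul, mem_conj_smul] at hxT
      exact hR ⟨_, hxT, rfl⟩
    obtain ⟨c₂, hc₂, hc₂e⟩ := ih _ hQ1 _ Q rfl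
    refine ⟨c₂ * c * c₁, mul_mem (mul_mem ?_ hc) ?_, by rw [mul_smul, mul_smul, hc₁e, hc₂e]⟩
    · exact centralizer_le (SetLike.coe_subset_coe.mpr hQ1.le) hc₂
    · exact centralizer_le (SetLike.coe_subset_coe.mpr hP1.le) hc₁

theorem FrobeniusCond.hasNormalPComplement [Finite G] [Fact p.Prime] (h : FrobeniusCond p G) :
    HasNormalPComplement p G := by
  obtain ⟨P⟩ := Sylow.nonempty (p := p) (G := G)
  refine hasNormalPComplement_of_fusion P fun x hx g hgx => ?_
  obtain ⟨c, hc, hce⟩ := h.sylow_conj _ (g • P) P rfl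
  have hn : c * g ∈ normalizer ((P : Subgroup G) : Set G) := by
    rw [← mul_smul] at hce
    exact Sylow.smul_eq_iff_mem_normalizer.mp hce
  have hy : g * x * g⁻¹ ∈ ((g • P : Sylow p G) : Subgroup G) ⊓ (P : Subgroup G) := by
    refine ⟨?_, hgx⟩
    change g * x * g⁻¹ ∈ ((g • P : Sylow p G) : Subgroup G)
    rw [Sylow.coe_subgroup_smul, mem_conj_smul]
    simpa [mul_assoc, ← SetLike.mem_coe] using hx
  have hcy : c * g * x * (c * g)⁻¹ = g * x * g⁻¹ := by
    have h1 := mem_centralizer_iff.mp hc _ hy
    calc c * g * x * (c * g)⁻¹ = c * (g * x * g⁻¹) * c⁻¹ := by group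
      _ = g * x * g⁻¹ := by rw [← h1]; group
  -- split off the `p`-part of `c * g`
  set N := normalizer ((P : Subgroup G) : Set G)
  haveI : ((P : Subgroup G).subgroupOf N).Normal := normal_subgroupOf_of_le_normalizer le_rfl
  have htop : (⊤ : Subgroup N) ≤
      (P : Subgroup G).subgroupOf N ⊔ (centralizer ((P : Subgroup G) : Set G)).subgroupOf N := by
    by_contra hh
    obtain ⟨a, -, ha, q, k, hq, hk⟩ := exists_mem_prime_pow hh
    rcases eq_or_ne q p with rfl | hqp
    · refine ha (mem_sup_left ?_)
      have h1 : IsPGroup q ↥((zpowers (a : G))) :=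
        IsPGroup.of_card (n := k) (by rw [Nat.card_zpowers, Subgroup.orderOf_coe, hk])
      have h2 := IsPGroup.to_sup_of_normal_right' h1 P.isPGroup' (zpowers_le.mpr a.2)
      have h3 := P.is_maximal' h2 le_sup_right
      rw [mem_subgroupOf, ← h3]
      exact mem_sup_left (mem_zpowers _)
    · refine ha (mem_sup_right (h _ P.isPGroup' a a.2 ?_))
      rw [Subgroup.orderOf_coe, hk]
      exact ((Nat.coprime_primes hq Fact.out).mpr hqp).pow_left k
  obtain ⟨z, hz, w, hw, hzw⟩ := mem_sup_of_normal_left.mp (htop (mem_top ⟨c * g, hn⟩))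
  refine ⟨z, hz, ?_⟩
  have hw' := mem_centralizer_iff.mp (mem_subgroupOf.mp hw) x hx
  have hzw' : (z : G) * w = c * g := congrArg Subtype.val hzw
  rw [← hcy, ← hzw']
  calc (z : G) * x * (z : G)⁻¹ = (z : G) * (x * w) * (w : G)⁻¹ * (z : G)⁻¹ := by group
    _ = (z : G) * w * x * ((z : G) * w)⁻¹ := by rw [hw']; group

theorem frobeniusCond_of_hasNormalPComplement [Finite G] [Fact p.Prime]
    (h : HasNormalPComplement p G) : FrobeniusCond p G := by
  intro Q hQ g hg hgc
  have hgN := mem_pPrimeCore_of_orderOf_coprime h hgc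
  rw [mem_centralizer_iff]
  intro q hq
  have h1 : q * g * q⁻¹ * g⁻¹ ∈ Q ⊓ pPrimeCore p G := by
    refine ⟨?_, (pPrimeCore p G).mul_mem (Subgroup.Normal.conj_mem inferInstance g hgN q)
      (inv_mem hgN)⟩
    have := Q.mul_mem hq ((mem_normalizer_iff.mp hg q⁻¹).mp (Q.inv_mem hq))
    simpa [mul_assoc] using this
  rw [inf_eq_bot_of_isPGroup hQ (card_pPrimeCore_coprime p G), mem_bot, mul_inv_eq_one,
    mul_inv_eq_iff_eq_mul] at h1
  exact h1

theorem hasNormalPComplement_iff_normalizer [Finite G] [Fact p.Prime] :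
    HasNormalPComplement p G ↔ ∀ Q : Subgroup G, IsPGroup p Q → Q ≠ ⊥ →
      HasNormalPComplement p (normalizer (Q : Set G)) := by
  refine ⟨fun h Q _ _ => hasNormalPComplement_subgroup h _, fun h => ?_⟩
  refine FrobeniusCond.hasNormalPComplement fun Q hQ g hg hgc => ?_
  rcases eq_or_ne Q ⊥ with rfl | hne
  · simp [mem_centralizer_iff]
  have hc := frobeniusCond_of_hasNormalPComplement (h Q hQ hne)
    (Q.subgroupOf (normalizer (Q : Set G))) hQ.comap_subtype ⟨g, hg⟩ ?_ (by
      rwa [Subgroup.orderOf_mk])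
  · rw [mem_centralizer_iff] at hc ⊢
    exact fun q hq => congrArg Subtype.val (hc ⟨q, le_normalizer hq⟩ hq)
  · rw [mem_normalizer_iff]
    exact fun x => mem_normalizer_iff.mp hg x

end Cfsg.Agent.Solv
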