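import Cfsg.Prelude.Def_Solvable
import Cfsg.Prelude.Def_CaseTheorems
import Mathlib.GroupTheory.Frattini
import Mathlib.GroupTheory.Solvable
import Mathlib.GroupTheory.GroupAction.ConjAct
import Mathlib.GroupTheory.Complement
import Mathlib.Tactic.Group
import Mathlib.Tactic.Ring

/-!
Basic API for `Cfsg.pCore`, `Cfsg.pPrimeCore`, `Cfsg.fittingSubgroup`, orders of products,
and minimal normal subgroups.
-/

set_option autoImplicit false
set_option linter.style.haveILetI false

namespace Cfsg.Agent.Solv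

open Subgroup

variable {G : Type*} [Group G]

/-! ### Orders -/

theorem card_sup_mul_card_inf [Finite G] (H K : Subgroup G)
    (h : K ≤ normalizer (H : Set G)) :
    Nat.card ↥(H ⊔ K) * Nat.card ↥(H ⊓ K) = Nat.card H * Nat.card K := by
  have hsup : H ⊔ K ≤ normalizer (H : Set G) := sup_le le_normalizer h
  have e1 : Nat.card H * H.relIndex (H ⊔ K) = Nat.card ↥(H ⊔ K) := by
    have := (H.subgroupOf (H ⊔ K)).card_mul_index
    rwa [Nat.card_congr (subgroupOfEquivOfLe (le_sup_left : H ≤ H ⊔ K)).toEquiv] at this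
  have e2 : Nat.card ↥(H ⊓ K) * H.relIndex K = Nat.card K := by
    have := ((H ⊓ K).subgroupOf K).card_mul_index
    rw [Nat.card_congr (subgroupOfEquivOfLe (inf_le_right : H ⊓ K ≤ K)).toEquiv] at this
    rw [← inf_relIndex_right]
    exact this
  have e3 : H.relIndex (H ⊔ K) = H.relIndex K := by
    have hn : (H.subgroupOf (H ⊔ K)).Normal := normal_subgroupOf_of_le_normalizer hsup
    have h1 := relIndex_sup_right (K.subgroupOf (H ⊔ K)) (H.subgroupOf (H ⊔ K))
    rw [← subgroupOf_sup le_sup_right le_sup_left, relIndex_subgroupOf le_sup_right,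
      sup_comm K H, relIndex_subgroupOf le_rfl] at h1
    exact h1
  calc Nat.card ↥(H ⊔ K) * Nat.card ↥(H ⊓ K)
      = Nat.card H * (Nat.card ↥(H ⊓ K) * H.relIndex K) := by rw [← e1, e3]; ring
    _ = Nat.card H * Nat.card K := by rw [e2]

theorem card_sup_dvd [Finite G] (H K : Subgroup G) (h : K ≤ normalizer (H : Set G)) :
    Nat.card ↥(H ⊔ K) ∣ Nat.card H * Nat.card K :=
  ⟨_, (card_sup_mul_card_inf H K h).symm⟩

theorem card_sup_dvd_of_normal [Finite G] (H K : Subgroup G) [H.Normal] :
    Nat.card ↥(H ⊔ K) ∣ Nat.card H * Nat.card K :=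
  card_sup_dvd H K (le_normalizer_of_normal)

theorem inf_eq_bot_of_coprime_card (H K : Subgroup G)
    (h : (Nat.card H).Coprime (Nat.card K)) : H ⊓ K = ⊥ :=
  (Subgroup.disjoint_of_coprime_natCard h).eq_bot

theorem card_map_subtype (H : Subgroup G) (K : Subgroup H) :
    Nat.card ↥(K.map H.subtype) = Nat.card K :=
  Nat.card_congr (K.equivMapOfInjective H.subtype H.subtype_injective).symm.toEquiv

theorem card_subgroupOf {H K : Subgroup G} (h : H ≤ K) :
    Nat.card ↥(H.subgroupOf K) = Nat.card H :=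
  Nat.card_congr (subgroupOfEquivOfLe h).toEquiv

theorem card_map_equiv {H : Type*} [Group H] (e : G ≃* H) (K : Subgroup G) :
    Nat.card ↥(K.map (e : G →* H)) = Nat.card K :=
  Nat.card_congr (K.equivMapOfInjective (e : G →* H) e.injective).symm.toEquiv

theorem coprime_card_of_isPGroup [Finite G] {p : ℕ} [Fact p.Prime] {H : Subgroup G}
    (hH : IsPGroup p H) {n : ℕ} (hn : n.Coprime p) : (Nat.card H).Coprime n := by
  obtain ⟨k, hk⟩ := IsPGroup.iff_card.mp hH
  rw [hk]
  exact (hn.symm).pow_left k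

theorem inf_eq_bot_of_isPGroup [Finite G] {p : ℕ} [Fact p.Prime] {H K : Subgroup G}
    (hH : IsPGroup p H) (hK : (Nat.card K).Coprime p) : H ⊓ K = ⊥ :=
  inf_eq_bot_of_coprime_card H K (coprime_card_of_isPGroup hH hK)

theorem mem_of_coprime_index [Finite G] (N : Subgroup G) [N.Normal] {x : G}
    (hx : (orderOf x).Coprime N.index) : x ∈ N := by
  rw [← QuotientGroup.eq_one_iff, ← orderOf_eq_one_iff]
  refine Nat.dvd_one.mp ?_
  rw [← hx.gcd_eq_one, index_eq_card]
  exact Nat.dvd_gcd (orderOf_map_dvd (QuotientGroup.mk' N) x) (orderOf_dvd_natCard _)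

theorem le_of_coprime_index [Finite G] (N : Subgroup G) [N.Normal] {K : Subgroup G}
    (hK : (Nat.card K).Coprime N.index) : K ≤ N := fun x hx =>
  mem_of_coprime_index N (hK.coprime_dvd_left (by
    simpa using orderOf_dvd_natCard (⟨x, hx⟩ : K)))

/-! ### p-core -/

theorem le_pCore {p : ℕ} {N : Subgroup G} [hN : N.Normal] (h : IsPGroup p N) :
    N ≤ pCore p G := le_sSup ⟨hN, h⟩

theorem isPGroup_pCore (p : ℕ) (G : Type*) [Group G] : IsPGroup p (pCore p G) :=
  Sylow.sSup_of_normal _ (fun _ h => h.2) (fun _ h => h.1)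

theorem pCore_le_sylow {p : ℕ} (P : Sylow p G) : pCore p G ≤ P :=
  (isPGroup_pCore p G).le_sylow_of_normal P

theorem pCore_eq_iInf_sylow [Finite G] (p : ℕ) [Fact p.Prime] :
    pCore p G = ⨅ P : Sylow p G, (P : Subgroup G) := by
  refine le_antisymm (le_iInf fun P => pCore_le_sylow P) ?_
  have hn : (⨅ P : Sylow p G, (P : Subgroup G)).Normal := by
    constructor
    intro x hx g
    rw [mem_iInf] at hx ⊢
    intro P
    have := hx (g⁻¹ • P)
    rw [Sylow.coe_subgroup_smul] at this
    have h2 := (mem_pointwise_smul_iff_inv_smul_mem).mp this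
    simpa [← map_inv, mul_assoc] using h2
  refine le_pCore ?_
  obtain ⟨P⟩ := Sylow.nonempty (p := p) (G := G)
  exact P.isPGroup'.to_le (iInf_le _ P)

theorem pCore_map_equiv (p : ℕ) {H : Type*} [Group H] (e : G ≃* H) :
    (pCore p G).map (e : G →* H) = pCore p H := by
  apply le_antisymm
  · have : ((pCore p G).map (e : G →* H)).Normal :=
      Normal.map inferInstance _ e.surjective
    exact le_pCore ((isPGroup_pCore p G).map _)
  · have : ((pCore p H).comap (e : G →* H)).Normal := Normal.comap inferInstance _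
    have h : (pCore p H).comap (e : G →* H) ≤ pCore p G :=
      le_pCore ((isPGroup_pCore p H).comap_of_injective _ e.injective)
    rw [← map_comap_eq_self_of_surjective (f := (e : G →* H)) e.surjective (pCore p H)]
    exact map_mono h

theorem pCore_characteristic (p : ℕ) (G : Type*) [Group G] : (pCore p G).Characteristic :=
  characteristic_iff_map_eq.mpr fun e => pCore_map_equiv p e

attribute [instance] pCore_characteristic

theorem map_pCore_le_of_surjective (p : ℕ) {H : Type*} [Group H] (f : G →* H)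
    (hf : Function.Surjective f) : (pCore p G).map f ≤ pCore p H := by
  have : ((pCore p G).map f).Normal := Normal.map inferInstance _ hf
  exact le_pCore ((isPGroup_pCore p G).map _)

theorem pCore_map_subtype (p : ℕ) (N : Subgroup G) [N.Normal] :
    (pCore p N).map N.subtype = pCore p G ⊓ N := by
  refine le_antisymm (le_inf (le_pCore ((isPGroup_pCore p N).map _)) (map_subtype_le _)) ?_
  have h1 : IsPGroup p ↥((pCore p G).comap N.subtype) := (isPGroup_pCore p G).comap_subtype
  have h2 : ((pCore p G).comap N.subtype).Normal := Normal.comap inferInstance _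
  intro x hx
  exact mem_map_of_mem N.subtype
    (le_pCore h1 (show (⟨x, hx.2⟩ : N) ∈ (pCore p G).comap N.subtype from hx.1))

theorem pCore_quotient_pCore (p : ℕ) (G : Type*) [Group G] :
    pCore p (G ⧸ pCore p G) = ⊥ := by
  have h : IsPGroup p ↥((pCore p (G ⧸ pCore p G)).comap (QuotientGroup.mk' (pCore p G))) :=
    (isPGroup_pCore p _).comap_of_ker_isPGroup _
      (by rw [QuotientGroup.ker_mk']; exact isPGroup_pCore p G)
  have h2 : ((pCore p (G ⧸ pCore p G)).comap (QuotientGroup.mk' (pCore p G))).Normal :=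
    Normal.comap inferInstance _
  have h3 := le_pCore h
  rw [eq_bot_iff]
  intro x hx
  obtain ⟨g, rfl⟩ := QuotientGroup.mk'_surjective _ x
  simpa using h3 hx

/-! ### p'-core -/

theorem le_pPrimeCore {p : ℕ} {N : Subgroup G} [hN : N.Normal]
    (h : (Nat.card N).Coprime p) : N ≤ pPrimeCore p G := le_sSup ⟨hN, h⟩

theorem card_pPrimeCore_coprime (p : ℕ) (G : Type*) [Group G] [Finite G] :
    (Nat.card (pPrimeCore p G)).Coprime p := by
  obtain ⟨N, hN⟩ :=
    (Set.toFinite {N : Subgroup G | N.Normal ∧ (Nat.card N).Coprime p}).exists_maximal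
      ⟨⊥, inferInstance, by simp⟩
  suffices pPrimeCore p G = N by rw [this]; exact hN.1.2
  refine le_antisymm (sSup_le fun M hM => ?_) (le_sSup hN.1)
  have := hM.1
  have := hN.1.1
  have h1 : (M ⊔ N).Normal ∧ (Nat.card ↥(M ⊔ N)).Coprime p :=
    ⟨inferInstance,
      (Nat.Coprime.mul_left hM.2 hN.1.2).coprime_dvd_left (card_sup_dvd_of_normal M N)⟩
  exact le_sup_left.trans (hN.2 h1 le_sup_right)

theorem pPrimeCore_map_equiv (p : ℕ) {H : Type*} [Group H] (e : G ≃* H) :
    (pPrimeCore p G).map (e : G →* H) = pPrimeCore p H := by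
  refine le_antisymm ?_ (sSup_le fun M hM => ?_)
  · rw [map_le_iff_le_comap]
    refine sSup_le fun M hM => ?_
    rw [← map_le_iff_le_comap]
    have := hM.1
    have : (M.map (e : G →* H)).Normal := Normal.map inferInstance _ e.surjective
    exact le_pPrimeCore (by rw [card_map_equiv]; exact hM.2)
  · have := hM.1
    have h1 : (M.map (e.symm : H →* G)).Normal := Normal.map inferInstance _ e.symm.surjective
    have h2 : M.map (e.symm : H →* G) ≤ pPrimeCore p G :=
      le_pPrimeCore (by rw [card_map_equiv]; exact hM.2)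
    intro x hx
    exact ⟨e.symm x, h2 (mem_map_of_mem _ hx), by simp⟩

theorem pPrimeCore_characteristic (p : ℕ) (G : Type*) [Group G] :
    (pPrimeCore p G).Characteristic :=
  characteristic_iff_map_eq.mpr fun e => pPrimeCore_map_equiv p e

attribute [instance] pPrimeCore_characteristic

theorem map_pPrimeCore_le_of_surjective [Finite G] (p : ℕ) {H : Type*} [Group H] (f : G →* H)
    (hf : Function.Surjective f) : (pPrimeCore p G).map f ≤ pPrimeCore p H := by
  have : ((pPrimeCore p G).map f).Normal := Normal.map inferInstance _ hf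
  exact le_pPrimeCore ((card_pPrimeCore_coprime p G).coprime_dvd_left (card_map_dvd _ f))

theorem pPrimeCore_map_subtype [Finite G] (p : ℕ) (N : Subgroup G) [N.Normal] :
    (pPrimeCore p N).map N.subtype = pPrimeCore p G ⊓ N := by
  refine le_antisymm (le_inf (le_pPrimeCore ?_) (map_subtype_le _)) ?_
  · rw [card_map_subtype]; exact card_pPrimeCore_coprime p N
  · intro x hx
    have hn : ((pPrimeCore p G).comap N.subtype).Normal := Normal.comap inferInstance _
    refine mem_map_of_mem N.subtype (le_pPrimeCore ?_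
      (show (⟨x, hx.2⟩ : N) ∈ (pPrimeCore p G).comap N.subtype from hx.1))
    exact (card_pPrimeCore_coprime p G).coprime_dvd_left
      (card_comap_dvd_of_injective _ _ N.subtype_injective)

theorem card_comap_mk' [Finite G] (N : Subgroup G) [N.Normal] (K : Subgroup (G ⧸ N)) :
    Nat.card ↥(K.comap (QuotientGroup.mk' N)) = Nat.card N * Nat.card K := by
  have h1 : Nat.card G = Nat.card N * Nat.card (G ⧸ N) := by
    rw [← index_eq_card, card_mul_index]
  have h2 := (K.comap (QuotientGroup.mk' N)).card_mul_index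
  rw [index_comap_of_surjective K (QuotientGroup.mk'_surjective N), h1, ← K.card_mul_index,
    ← mul_assoc] at h2
  exact Nat.eq_of_mul_eq_mul_right (Nat.pos_of_ne_zero index_ne_zero_of_finite) h2

theorem pPrimeCore_quotient_pPrimeCore [Finite G] (p : ℕ) :
    pPrimeCore p (G ⧸ pPrimeCore p G) = ⊥ := by
  have h2 : ((pPrimeCore p (G ⧸ pPrimeCore p G)).comap
      (QuotientGroup.mk' (pPrimeCore p G))).Normal := Normal.comap inferInstance _
  have h3 : (pPrimeCore p (G ⧸ pPrimeCore p G)).comap
      (QuotientGroup.mk' (pPrimeCore p G)) ≤ pPrimeCore p G := le_pPrimeCore (by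
    rw [card_comap_mk']
    exact (card_pPrimeCore_coprime p G).mul_left (card_pPrimeCore_coprime p _))
  rw [eq_bot_iff]
  intro x hx
  obtain ⟨g, rfl⟩ := QuotientGroup.mk'_surjective _ x
  simpa using h3 hx

theorem pCore_inf_pPrimeCore [Finite G] (p : ℕ) [Fact p.Prime] :
    pCore p G ⊓ pPrimeCore p G = ⊥ :=
  inf_eq_bot_of_isPGroup (isPGroup_pCore p G) (card_pPrimeCore_coprime p G)

theorem commutator_pCore_pPrimeCore [Finite G] (p : ℕ) [Fact p.Prime] :
    ⁅pCore p G, pPrimeCore p G⁆ = ⊥ :=
  commutator_eq_bot_of_disjoint (disjoint_iff.mpr (pCore_inf_pPrimeCore p))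

/-- `K` of order prime to `p`, with `N` normal of `p'`-order and `p ∤ |G : N|`-free part. -/
theorem card_sylow_coprime_index [Finite G] {p : ℕ} [Fact p.Prime] (P : Sylow p G) :
    ((P : Subgroup G).index).Coprime p :=
  ((Fact.out : p.Prime).coprime_iff_not_dvd.mpr P.not_dvd_index).symm

/-! ### Fitting subgroup -/

theorem fittingSubgroup_normal (G : Type*) [Group G] : (fittingSubgroup G).Normal :=
  Subgroup.sSup_normal _ (fun _ h => h.1)

attribute [instance] fittingSubgroup_normal

theorem le_fittingSubgroup {N : Subgroup G} [hN : N.Normal] (h : Group.IsNilpotent N) :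
    N ≤ fittingSubgroup G := le_sSup ⟨hN, h⟩

theorem pCore_le_fittingSubgroup [Finite G] (p : ℕ) [Fact p.Prime] :
    pCore p G ≤ fittingSubgroup G :=
  le_fittingSubgroup (isPGroup_pCore p G).isNilpotent

theorem le_iSup_pCore_of_isNilpotent [Finite G] (N : Subgroup G) [N.Normal]
    (h : Group.IsNilpotent N) : N ≤ ⨆ p : Nat.Primes, pCore (p : ℕ) G := by
  have key : ∀ (p : Nat.Primes) (P : Sylow (p : ℕ) N),
      (P : Subgroup N).map N.subtype ≤ pCore (p : ℕ) G := by
    intro p P
    haveI : Fact (p : ℕ).Prime := ⟨p.2⟩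
    haveI hPn : (P : Subgroup N).Normal :=
      ((Group.isNilpotent_of_finite_tfae (G := N)).out 0 3 rfl rfl).mp h p ⟨p.2⟩ P
    haveI : (P : Subgroup N).Characteristic := Sylow.characteristic_of_normal P hPn
    exact le_pCore (P.isPGroup'.map _)
  have htop : (⊤ : Subgroup N) ≤ (⨆ p : Nat.Primes, pCore (p : ℕ) G).comap N.subtype := by
    rw [top_le_iff]
    by_contra hne
    obtain ⟨q, hq, hdvd⟩ := Nat.exists_prime_and_dvd
      (n := ((⨆ p : Nat.Primes, pCore (p : ℕ) G).comap N.subtype).index) (by rwa [ne_eq, index_eq_one])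
    haveI : Fact q.Prime := ⟨hq⟩
    obtain ⟨P⟩ := Sylow.nonempty (p := q) (G := N)
    exact P.not_dvd_index (hdvd.trans (index_dvd_of_le
      (map_le_iff_le_comap.mp ((key ⟨q, hq⟩ P).trans (le_iSup_iff.mpr fun b hb => hb ⟨q, hq⟩)))))
  intro x hx
  exact htop (mem_top (⟨x, hx⟩ : N))

theorem fittingSubgroup_eq_iSup_pCore [Finite G] :
    fittingSubgroup G = ⨆ p : Nat.Primes, pCore (p : ℕ) G :=
  le_antisymm (sSup_le fun N hN => by have := hN.1; exact le_iSup_pCore_of_isNilpotent N hN.2)
    (iSup_le fun p => by haveI : Fact (p : ℕ).Prime := ⟨p.2⟩; exact pCore_le_fittingSubgroup _)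

theorem fittingSubgroup_isNilpotent (G : Type*) [Group G] [Finite G] :
    Group.IsNilpotent (fittingSubgroup G) := by
  refine ((Group.isNilpotent_of_finite_tfae (G := fittingSubgroup G)).out 0 3 rfl rfl).mpr ?_
  intro p hp P
  have hF : fittingSubgroup G ≤ pCore p G ⊔ pPrimeCore p G := by
    rw [fittingSubgroup_eq_iSup_pCore]
    refine iSup_le fun q => ?_
    rcases eq_or_ne (q : ℕ) p with h | h
    · rw [h]; exact le_sup_left
    · haveI : Fact (q : ℕ).Prime := ⟨q.2⟩
      refine le_sup_of_le_right (le_pPrimeCore ?_)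
      obtain ⟨k, hk⟩ := IsPGroup.iff_card.mp (isPGroup_pCore (q : ℕ) G)
      rw [hk]
      exact ((Nat.coprime_primes q.2 hp.out).mpr h).pow_left k
  have hle : pCore p G ≤ fittingSubgroup G := pCore_le_fittingSubgroup p
  have hn : ((pCore p G).subgroupOf (fittingSubgroup G)).Normal := inferInstance
  have hnd : ¬ p ∣ ((pCore p G).subgroupOf (fittingSubgroup G)).index := by
    intro hd
    have h1 : ((pCore p G).subgroupOf (fittingSubgroup G)).index ∣
        Nat.card (pPrimeCore p G) := by
      have e := ((pCore p G).subgroupOf (fittingSubgroup G)).card_mul_index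
      rw [card_subgroupOf hle] at e
      have h2 := (card_dvd_of_le hF).trans (card_sup_dvd_of_normal _ _)
      rw [← e] at h2
      exact (Nat.mul_dvd_mul_iff_left Nat.card_pos).mp h2
    exact (Nat.Prime.coprime_iff_not_dvd hp.out).mp (card_pPrimeCore_coprime p G).symm
      (hd.trans h1)
  have hpg : IsPGroup p ↥((pCore p G).subgroupOf (fittingSubgroup G)) :=
    (isPGroup_pCore p G).comap_subtype
  have hnp : ((hpg.toSylow hnd : Sylow p (fittingSubgroup G)) :
      Subgroup (fittingSubgroup G)).Normal := by rw [IsPGroup.toSylow_coe]; exact hn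
  obtain ⟨g, hg⟩ := MulAction.exists_smul_eq (fittingSubgroup G) (hpg.toSylow hnd) P
  rw [Sylow.smul_eq_of_normal] at hg
  rw [← hg]
  exact hnp

theorem fittingSubgroup_map_equiv {H : Type*} [Group H] (e : G ≃* H) :
    (fittingSubgroup G).map (e : G →* H) = fittingSubgroup H := by
  refine le_antisymm ?_ (sSup_le fun M hM => ?_)
  · rw [map_le_iff_le_comap]
    refine sSup_le fun M hM => ?_
    rw [← map_le_iff_le_comap]
    have : (M.map (e : G →* H)).Normal := Normal.map hM.1 _ e.surjective
    exact le_fittingSubgroup ((Group.isNilpotent_congr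
      (M.equivMapOfInjective (e : G →* H) e.injective)).mp hM.2)
  · have h1 : (M.map (e.symm : H →* G)).Normal := Normal.map hM.1 _ e.symm.surjective
    have h2 : M.map (e.symm : H →* G) ≤ fittingSubgroup G :=
      le_fittingSubgroup ((Group.isNilpotent_congr
        (M.equivMapOfInjective (e.symm : H →* G) e.symm.injective)).mp hM.2)
    intro x hx
    exact ⟨e.symm x, h2 (mem_map_of_mem _ hx), by simp⟩

theorem fittingSubgroup_characteristic (G : Type*) [Group G] :
    (fittingSubgroup G).Characteristic :=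
  characteristic_iff_map_eq.mpr fun e => fittingSubgroup_map_equiv e

attribute [instance] fittingSubgroup_characteristic

theorem fittingSubgroup_eq_pCore [Finite G] {p : ℕ} [Fact p.Prime]
    (h : pPrimeCore p G = ⊥) : fittingSubgroup G = pCore p G := by
  refine le_antisymm ?_ (pCore_le_fittingSubgroup p)
  rw [fittingSubgroup_eq_iSup_pCore]
  refine iSup_le fun q => ?_
  rcases eq_or_ne (q : ℕ) p with h' | h'
  · rw [h']
  · haveI : Fact (q : ℕ).Prime := ⟨q.2⟩
    refine le_of_le_of_eq (le_pPrimeCore (p := p) ?_) h |>.trans bot_le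
    obtain ⟨k, hk⟩ := IsPGroup.iff_card.mp (isPGroup_pCore (q : ℕ) G)
    rw [hk]
    exact ((Nat.coprime_primes q.2 (Fact.out : p.Prime)).mpr h').pow_left k

theorem isNilpotent_of_commutator_commutator_eq_bot {M : Subgroup G}
    (h : ⁅⁅M, M⁆, M⁆ = ⊥) : Group.IsNilpotent M :=
  isNilpotent_of_lowerCentralSeries_eq_bot (n := 2) (by simpa using h)

/-- In a finite solvable group the Fitting subgroup contains its centralizer. -/
theorem centralizer_fittingSubgroup_le [Finite G] [Group.IsSolvable G] :
    centralizer (fittingSubgroup G : Set G) ≤ fittingSubgroup G := by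
  let D : ℕ → Subgroup G := fun k =>
    Nat.rec (centralizer (fittingSubgroup G : Set G)) (fun _ X => ⁅X, X⁆) k
  have hDn : ∀ k, (D k).Normal := fun k => by
    induction k with
    | zero => exact inferInstanceAs (centralizer (fittingSubgroup G : Set G)).Normal
    | succ k ih => exact Subgroup.commutator_normal (D k) (D k)
  have hDle : ∀ k, D k ≤ derivedSeries G k := fun k => by
    induction k with
    | zero => simp
    | succ k ih => exact commutator_mono ih ih
  have hDC : ∀ k, D k ≤ centralizer (fittingSubgroup G : Set G) := fun k => by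
    induction k with
    | zero => exact le_rfl
    | succ k ih => exact (commutator_le_self _).trans ih
  obtain ⟨n, hn⟩ := (Group.isSolvable_def G).mp inferInstance
  suffices ∀ k, D k ≤ fittingSubgroup G → D 0 ≤ fittingSubgroup G from
    this n ((hDle n).trans (by rw [hn]; exact bot_le))
  intro k
  induction k with
  | zero => exact id
  | succ k ih =>
    intro hs
    apply ih
    have := hDn k
    refine @le_fittingSubgroup _ _ (D k) (hDn k) (isNilpotent_of_commutator_commutator_eq_bot ?_)
    rw [eq_bot_iff]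
    calc ⁅⁅D k, D k⁆, D k⁆ ≤ ⁅fittingSubgroup G, centralizer (fittingSubgroup G : Set G)⁆ :=
          commutator_mono hs (hDC k)
      _ ≤ ⊥ := by
          rw [commutator_comm, le_bot_iff, commutator_eq_bot_iff_le_centralizer]

/-- Hall–Higman 1.2.3 for solvable groups. -/
theorem centralizer_pCore_le_of_isSolvable [Finite G] [Group.IsSolvable G] {p : ℕ} [Fact p.Prime]
    (h : pPrimeCore p G = ⊥) : centralizer (pCore p G : Set G) ≤ pCore p G := by
  rw [← fittingSubgroup_eq_pCore h]
  exact centralizer_fittingSubgroup_le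

/-! ### Minimal normal subgroups -/

theorem exists_minimal_normal_le [Finite G] {N : Subgroup G} [hN : N.Normal] (h : N ≠ ⊥) :
    ∃ M : Subgroup G, M.Normal ∧ M ≤ N ∧ M ≠ ⊥ ∧
      ∀ K : Subgroup G, K.Normal → K ≤ M → K = ⊥ ∨ K = M := by
  obtain ⟨M, hM⟩ :=
    (Set.toFinite {M : Subgroup G | M.Normal ∧ M ≤ N ∧ M ≠ ⊥}).exists_minimal
      ⟨N, hN, le_rfl, h⟩
  refine ⟨M, hM.1.1, hM.1.2.1, hM.1.2.2, fun K hK hKM => ?_⟩
  by_cases hK0 : K = ⊥
  · exact Or.inl hK0
  · exact Or.inr (le_antisymm hKM (hM.2 ⟨hK, hKM.trans hM.1.2.1, hK0⟩ hKM))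

theorem minimal_normal_isMulCommutative (N : Subgroup G) [N.Normal] (hN : N ≠ ⊥)
    (hmin : ∀ M : Subgroup G, M.Normal → M ≤ N → M = ⊥ ∨ M = N)
    [hs : Group.IsSolvable N] : IsMulCommutative N := by
  haveI : Nontrivial N := (nontrivial_iff_ne_bot N).mpr hN
  rw [← commutator_self_eq_bot_iff]
  rcases hmin ⁅N, N⁆ inferInstance (commutator_le_self N) with h | h
  · exact h
  · exfalso
    refine (Group.IsSolvable.commutator_lt_top_of_nontrivial (G := N)).ne ?_
    apply map_injective N.subtype_injective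
    rw [Subgroup.map_subtype_commutator, h, ← MonoidHom.range_eq_map, range_subtype]

theorem minimal_normal_elementary [Finite G] (N : Subgroup G) [N.Normal] (hN : N ≠ ⊥)
    (hmin : ∀ M : Subgroup G, M.Normal → M ≤ N → M = ⊥ ∨ M = N)
    [Group.IsSolvable N] :
    IsMulCommutative N ∧ ∃ p : ℕ, p.Prime ∧ ∀ x ∈ N, x ^ p = 1 := by
  have hc := minimal_normal_isMulCommutative N hN hmin
  refine ⟨hc, ?_⟩
  obtain ⟨p, hp, hdvd⟩ := Nat.exists_prime_and_dvd (n := Nat.card N)
    (by have := (one_lt_card_iff_ne_bot N).mpr hN; omega)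
  haveI : Fact p.Prime := ⟨hp⟩
  let K : Subgroup G :=
    { carrier := {x | x ∈ N ∧ x ^ p = 1}
      one_mem' := ⟨N.one_mem, one_pow p⟩
      mul_mem' := by
        rintro a b ⟨ha, ha'⟩ ⟨hb, hb'⟩
        refine ⟨N.mul_mem ha hb, ?_⟩
        have hab : Commute a b :=
          congrArg Subtype.val (hc.is_comm.comm (⟨a, ha⟩ : N) ⟨b, hb⟩)
        rw [hab.mul_pow, ha', hb', mul_one]
      inv_mem' := by
        rintro a ⟨ha, ha'⟩
        exact ⟨N.inv_mem ha, by rw [inv_pow, ha', inv_one]⟩ }
  have hKn : K.Normal := ⟨fun x hx g =>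
    ⟨Subgroup.Normal.conj_mem inferInstance x hx.1 g, by rw [conj_pow, hx.2]; group⟩⟩
  refine ⟨p, hp, fun x hx => ?_⟩
  obtain ⟨y, hy⟩ := exists_prime_orderOf_dvd_card' p hdvd
  rcases hmin K hKn (fun x hx => hx.1) with h | h
  · exfalso
    have h1 : (y : G) ∈ K := ⟨y.2, by
      have := pow_orderOf_eq_one (y : G)
      rwa [Subgroup.orderOf_coe, hy] at this⟩
    rw [h, mem_bot] at h1
    rw [← Subgroup.orderOf_coe, h1, orderOf_one] at hy
    exact hp.one_lt.ne hy
  · rw [← h] at hx
    exact hx.2

end Cfsg.Agent.Solv
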