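import Cfsg.Agent.Lib.Solv.SchurZassenhaus
import Mathlib.GroupTheory.SchurZassenhaus

/-!
Coprime action.  Throughout, `A` normalises `K`, orders are coprime, and (for the parts using
Schur–Zassenhaus conjugacy) `A` or the normalised group is solvable.
-/

set_option autoImplicit false
set_option linter.style.haveILetI false

namespace Cfsg.Agent.Solv

open Subgroup
open scoped Pointwise commutatorElement

universe u

variable {G : Type u} [Group G]

theorem isSolvable_of_le {H K : Subgroup G} (hHK : H ≤ K) (h : Group.IsSolvable K) :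
    Group.IsSolvable H :=
  Group.isSolvable_of_isSolvable_injective (inclusion_injective hHK)

theorem mem_centralizer_of_mem_normalizer {A K : Subgroup G} {c : G} (hA : A ≤ normalizer (K : Set G))
    (hcK : c ∈ K) (hc : c ∈ normalizer (A : Set G)) (hcop : A ⊓ K = ⊥) :
    c ∈ centralizer (A : Set G) := by
  rw [mem_centralizer_iff]
  intro a ha
  have h1 : c * a * c⁻¹ * a⁻¹ ∈ A ⊓ K := by
    refine ⟨A.mul_mem ((mem_normalizer_iff.mp hc a).mp ha) (A.inv_mem ha), ?_⟩
    have h2 := K.mul_mem hcK ((mem_normalizer_iff.mp (hA ha) c⁻¹).mp (K.inv_mem hcK))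
    simpa [mul_assoc] using h2
  rw [hcop, mem_bot, mul_inv_eq_one, mul_inv_eq_iff_eq_mul] at h1
  exact h1.symm

/-- If the `A`-conjugate `k⁻¹ A k` lies in `N ⊔ A`, some element of `k N` centralises `A`. -/
theorem exists_centralizing_in_coset [Finite G] (A K N : Subgroup G)
    (hAK : A ≤ normalizer (K : Set G)) (hAKb : A ⊓ K = ⊥)
    (hNK : N ≤ K) (hNA : A ≤ normalizer (N : Set G))
    (hcop : (Nat.card A).Coprime (Nat.card N))
    (hsolv : Group.IsSolvable A ∨ Group.IsSolvable N)
    (k : G) (hk : k ∈ K) (hfix : ∀ a ∈ A, k⁻¹ * a * k * a⁻¹ ∈ N) :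
    ∃ c ∈ K ⊓ centralizer (A : Set G), k⁻¹ * c ∈ N := by
  have hle : MulAut.conj k⁻¹ • A ≤ N ⊔ A := by
    intro x hx
    rw [mem_conj_smul, inv_inv] at hx
    have h := mul_mem (mem_sup_left (hfix _ hx) : _ ∈ N ⊔ A) (mem_sup_right hx)
    simpa [mul_assoc] using h
  obtain ⟨n, hn, hnc⟩ := conj_of_card_eq N A (MulAut.conj k⁻¹ • A) hsolv.symm hNA hle
    (card_conj_smul _ _) hcop.symm
  have hcK : k * n ∈ K := K.mul_mem hk (hNK hn)
  refine ⟨k * n, ⟨hcK, mem_centralizer_of_mem_normalizer hAK hcK ?_ hAKb⟩, by simpa using hn⟩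
  have h : MulAut.conj (k * n) • A = A := by
    rw [← conj_smul_conj_smul, hnc, conj_smul_conj_smul, mul_inv_cancel, map_one, one_smul]
  rw [mem_normalizer_iff]
  intro x
  conv_rhs => rw [← h, mem_conj_smul]
  simp [mul_assoc]

/-- Glauberman's lemma, existence of a fixed point. -/
theorem exists_fixedPoint [Finite G] (A K : Subgroup G) (hAK : A ≤ normalizer (K : Set G))
    (hcop : (Nat.card A).Coprime (Nat.card K))
    (hsolv : Group.IsSolvable A ∨ Group.IsSolvable K)
    {α : Type*} [MulAction G α] (s : Set α) (hAs : ∀ a ∈ A, ∀ x ∈ s, a • x ∈ s)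
    (hKs : ∀ k ∈ K, ∀ x ∈ s, k • x ∈ s)
    (htrans : ∀ x ∈ s, ∀ y ∈ s, ∃ k ∈ K, k • x = y) (x₀ : α) (hx₀ : x₀ ∈ s) :
    ∃ x ∈ s, ∀ a ∈ A, a • x = x := by
  set T := MulAction.stabilizer G x₀ ⊓ (K ⊔ A) with hT
  have hsup : (↑(K ⊔ A) : Set G) = (K : Set G) * (A : Set G) :=
    coe_mul_of_right_le_normalizer_left K A hAK
  haveI : (K.subgroupOf T).Normal :=
    normal_subgroupOf_of_le_normalizer (inf_le_right.trans (sup_le le_normalizer hAK))
  have hKT : K ⊔ T = K ⊔ A := by
    refine le_antisymm (sup_le le_sup_left inf_le_right) (sup_le le_sup_left fun a ha => ?_)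
    obtain ⟨k, hk, hka⟩ := htrans _ (hAs a ha x₀ hx₀) _ hx₀
    have h1 : k * a ∈ T := ⟨by change (k * a) • x₀ = x₀; rw [mul_smul, hka],
      mul_mem_sup hk ha⟩
    simpa using mul_mem (inv_mem (mem_sup_left hk : k ∈ K ⊔ T)) (mem_sup_right h1)
  have hTn : T ≤ normalizer (K : Set G) := inf_le_right.trans (sup_le le_normalizer hAK)
  have hcardT : Nat.card T = Nat.card ↥(K ⊓ T) * Nat.card A := by
    have e1 := card_sup_mul_card_inf K T hTn
    rw [hKT, card_sup_of_coprime hAK hcop.symm, mul_assoc] at e1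
    rw [← Nat.eq_of_mul_eq_mul_left Nat.card_pos e1, mul_comm]
  have hc0 : Nat.card ↥(K.subgroupOf T) = Nat.card ↥(K ⊓ T) := by
    rw [← card_map_subtype, subgroupOf_map_subtype]
  have hidx : (K.subgroupOf T).index = Nat.card A := by
    have e := (K.subgroupOf T).card_mul_index
    rw [hc0, hcardT] at e
    exact Nat.eq_of_mul_eq_mul_left Nat.card_pos e
  obtain ⟨B, hB⟩ := exists_right_complement'_of_coprime (N := K.subgroupOf T) (by
    rw [hidx, hc0]
    exact (hcop.coprime_dvd_right (card_dvd_of_le inf_le_left)).symm)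
  obtain ⟨k, hk, hkc⟩ := conj_of_card_eq K A (B.map T.subtype) hsolv.symm hAK
    ((map_subtype_le B).trans inf_le_right)
    (by rw [card_map_subtype, ← hB.symm.index_eq_card, hidx]) hcop.symm
  refine ⟨k⁻¹ • x₀, hKs _ (K.inv_mem hk) _ hx₀, fun a ha => ?_⟩
  have h1 : k * a * k⁻¹ ∈ B.map T.subtype := by
    rw [← hkc, mem_conj_smul]
    simpa [mul_assoc] using ha
  have h2 : (k * a * k⁻¹) • x₀ = x₀ := (map_subtype_le B h1).1
  rw [eq_inv_smul_iff, smul_smul, smul_smul]
  exact h2

/-- Glauberman's lemma: `C_K(A)` is transitive on the fixed points. -/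
theorem exists_centralizer_smul_eq [Finite G] (A K : Subgroup G) (hAK : A ≤ normalizer (K : Set G))
    (hcop : (Nat.card A).Coprime (Nat.card K))
    (hsolv : Group.IsSolvable A ∨ Group.IsSolvable K)
    {α : Type*} [MulAction G α] (x y : α) (hx : ∀ a ∈ A, a • x = x) (hy : ∀ a ∈ A, a • y = y)
    (h : ∃ k ∈ K, k • x = y) :
    ∃ c ∈ K ⊓ centralizer (A : Set G), c • x = y := by
  obtain ⟨k, hk, hkxy⟩ := h
  have hNA : A ≤ normalizer ((K ⊓ MulAction.stabilizer G x : Subgroup G) : Set G) := by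
    refine le_normalizer_inf hAK (fun a ha => le_normalizer ?_)
    exact hx a ha
  obtain ⟨c, hc, hcn⟩ := exists_centralizing_in_coset A K (K ⊓ MulAction.stabilizer G x) hAK
    (inf_eq_bot_of_coprime_card A K hcop) inf_le_left hNA
    (hcop.coprime_dvd_right (card_dvd_of_le inf_le_left))
    (hsolv.imp_right (isSolvable_of_le inf_le_left)) k hk (fun a ha => by
      refine ⟨?_, ?_⟩
      · have := K.mul_mem (K.inv_mem hk) ((mem_normalizer_iff.mp (hAK ha) k).mp hk)
        simpa [mul_assoc] using this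
      · change (k⁻¹ * a * k * a⁻¹) • x = x
        rw [mul_smul, mul_smul, mul_smul,
          inv_smul_eq_iff.mpr (hx a ha).symm, hkxy, hy a ha, inv_smul_eq_iff, hkxy])
  refine ⟨c, hc, ?_⟩
  have h2 : (k⁻¹ * c) • x = x := hcn.2
  rw [mul_smul, inv_smul_eq_iff, hkxy] at h2
  exact h2

/-- An `A`-stable `K`-conjugacy class of subgroups contains an `A`-invariant member. -/
theorem exists_conj_invariant [Finite G] (A K : Subgroup G) (hAK : A ≤ normalizer (K : Set G))
    (hcop : (Nat.card A).Coprime (Nat.card K))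
    (hsolv : Group.IsSolvable A ∨ Group.IsSolvable K) (X : Subgroup G)
    (hX : ∀ a ∈ A, ∃ k ∈ K, MulAut.conj k • X = MulAut.conj a • X) :
    ∃ k ∈ K, A ≤ normalizer ((MulAut.conj k • X : Subgroup G) : Set G) := by
  letI : MulAction G (Subgroup G) := MulAction.compHom (Subgroup G) (MulAut.conj (G := G))
  have hs : ∀ (g : G) (Y : Subgroup G), g • Y = MulAut.conj g • Y := fun _ _ => rfl
  obtain ⟨Y, ⟨k, hk, rfl⟩, hY⟩ := exists_fixedPoint A K hAK hcop hsolv
    {Y : Subgroup G | ∃ k ∈ K, MulAut.conj k • X = Y}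
    (by
      rintro a ha Y ⟨k, hk, rfl⟩
      obtain ⟨k', hk', he⟩ := hX a ha
      refine ⟨a * k * a⁻¹ * k', K.mul_mem ((mem_normalizer_iff.mp (hAK ha) k).mp hk) hk', ?_⟩
      rw [hs, conj_smul_conj_smul, ← conj_smul_conj_smul _ k' X, he, conj_smul_conj_smul]
      congr 2
      group)
    (by
      rintro k' hk' Y ⟨k, hk, rfl⟩
      exact ⟨k' * k, K.mul_mem hk' hk, by rw [hs, conj_smul_conj_smul]⟩)
    (by
      rintro _ ⟨k, hk, rfl⟩ _ ⟨k', hk', rfl⟩
      refine ⟨k' * k⁻¹, K.mul_mem hk' (K.inv_mem hk), ?_⟩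
      rw [hs, conj_smul_conj_smul, inv_mul_cancel_right])
    X ⟨1, K.one_mem, by rw [map_one, one_smul]⟩
  refine ⟨k, hk, fun a ha => ?_⟩
  rw [mem_normalizer_iff]
  intro x
  conv_rhs => rw [← hY a ha, hs, mem_conj_smul]
  simp [mul_assoc]

/-- `A`-invariant `K`-conjugate subgroups are conjugate by `C_K(A)`. -/
theorem exists_centralizer_conj_eq [Finite G] (A K : Subgroup G) (hAK : A ≤ normalizer (K : Set G))
    (hcop : (Nat.card A).Coprime (Nat.card K))
    (hsolv : Group.IsSolvable A ∨ Group.IsSolvable K) (X Y : Subgroup G)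
    (hX : A ≤ normalizer (X : Set G)) (hY : A ≤ normalizer (Y : Set G))
    (h : ∃ k ∈ K, MulAut.conj k • X = Y) :
    ∃ c ∈ K ⊓ centralizer (A : Set G), MulAut.conj c • X = Y := by
  letI : MulAction G (Subgroup G) := MulAction.compHom (Subgroup G) (MulAut.conj (G := G))
  exact exists_centralizer_smul_eq A K hAK hcop hsolv X Y
    (fun a ha => conj_smul_eq_self_of_mem_normalizer (hX ha))
    (fun a ha => conj_smul_eq_self_of_mem_normalizer (hY ha)) h

/-- Fixed points of a quotient lift. -/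
theorem exists_centralizer_lift [Finite G] (A K : Subgroup G) (hAK : A ≤ normalizer (K : Set G))
    (hcop : (Nat.card A).Coprime (Nat.card K))
    (hsolv : Group.IsSolvable A ∨ Group.IsSolvable K)
    (N : Subgroup G) (hNK : N ≤ K) (hNn : K ≤ normalizer (N : Set G))
    (hNA : A ≤ normalizer (N : Set G))
    (k : G) (hk : k ∈ K) (hfix : ∀ a ∈ A, a * k * a⁻¹ * k⁻¹ ∈ N) :
    ∃ c ∈ K ⊓ centralizer (A : Set G), k⁻¹ * c ∈ N := by
  refine exists_centralizing_in_coset A K N hAK (inf_eq_bot_of_coprime_card A K hcop) hNK hNA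
    (hcop.coprime_dvd_right (card_dvd_of_le hNK)) (hsolv.imp_right (isSolvable_of_le hNK)) k hk
    fun a ha => ?_
  simpa [mul_assoc] using (mem_normalizer_iff.mp (hNn (K.inv_mem hk)) _).mp (hfix a ha)

theorem commutator_normalizer_le (A K : Subgroup G) (hAK : A ≤ normalizer (K : Set G)) :
    ⁅K, A⁆ ≤ K :=
  le_normalizer_iff_commutator_le_left.mp hAK

/-- `K = [K,A] C_K(A)`, elementwise. -/
theorem exists_commutator_mul_centralizer [Finite G] (A K : Subgroup G)
    (hAK : A ≤ normalizer (K : Set G)) (hcop : (Nat.card A).Coprime (Nat.card K))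
    (hsolv : Group.IsSolvable A ∨ Group.IsSolvable K) {k : G} (hk : k ∈ K) :
    ∃ x ∈ ⁅K, A⁆, ∃ c ∈ K ⊓ centralizer (A : Set G), k = x * c := by
  obtain ⟨c, hc, hcn⟩ := exists_centralizer_lift A K hAK hcop hsolv ⁅K, A⁆
    (commutator_normalizer_le A K hAK) (normalizer_commutator_ge_left K A)
    (normalizer_commutator_ge_right K A) k hk (fun a ha => by
      rw [commutator_comm]; exact commutator_mem_commutator ha hk)
  refine ⟨k * c⁻¹, ?_, c, hc, by group⟩
  simpa [mul_assoc] using
    (mem_normalizer_iff.mp (normalizer_commutator_ge_left K A hk) _).mp (inv_mem hcn)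

theorem commutator_sup_centralizer [Finite G] (A K : Subgroup G)
    (hAK : A ≤ normalizer (K : Set G)) (hcop : (Nat.card A).Coprime (Nat.card K))
    (hsolv : Group.IsSolvable A ∨ Group.IsSolvable K) :
    ⁅K, A⁆ ⊔ (K ⊓ centralizer (A : Set G)) = K := by
  refine le_antisymm (sup_le (commutator_normalizer_le A K hAK) inf_le_left) fun k hk => ?_
  obtain ⟨x, hx, c, hc, rfl⟩ := exists_commutator_mul_centralizer A K hAK hcop hsolv hk
  exact mul_mem_sup hx hc

/-- `[K,A,A] = [K,A]`. -/
theorem commutator_commutator_eq [Finite G] (A K : Subgroup G)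
    (hAK : A ≤ normalizer (K : Set G)) (hcop : (Nat.card A).Coprime (Nat.card K))
    (hsolv : Group.IsSolvable A ∨ Group.IsSolvable K) : ⁅⁅K, A⁆, A⁆ = ⁅K, A⁆ := by
  refine le_antisymm (commutator_mono (commutator_normalizer_le A K hAK) le_rfl) ?_
  rw [commutator_le]
  intro k hk a ha
  obtain ⟨x, hx, c, hc, rfl⟩ := exists_commutator_mul_centralizer A K hAK hcop hsolv hk
  have : ⁅x * c, a⁆ = ⁅x, a⁆ := by
    rw [commutatorElement_def, commutatorElement_def, mul_assoc x c a,
      ← mem_centralizer_iff.mp hc.2 a ha]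
    group
  rw [this]
  exact commutator_mem_commutator hx ha

/-- A coprime action stabilising `1 ≤ [K,A] ≤ K` is trivial. -/
theorem commutator_eq_bot_of_commutator_commutator_eq_bot [Finite G] (A K : Subgroup G)
    (hAK : A ≤ normalizer (K : Set G)) (hcop : (Nat.card A).Coprime (Nat.card K))
    (hsolv : Group.IsSolvable A ∨ Group.IsSolvable K) (h : ⁅⁅K, A⁆, A⁆ = ⊥) : ⁅K, A⁆ = ⊥ := by
  rwa [commutator_commutator_eq A K hAK hcop hsolv] at h

/-- `C_{XY}(A) = C_X(A) C_Y(A)`. -/
theorem centralizer_mul_eq [Finite G] (A K : Subgroup G) (hAK : A ≤ normalizer (K : Set G))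
    (hcop : (Nat.card A).Coprime (Nat.card K))
    (hsolv : Group.IsSolvable A ∨ Group.IsSolvable K)
    (X Y : Subgroup G) (hX : X ≤ K) (hY : Y ≤ K) (hXA : A ≤ normalizer (X : Set G))
    (hYA : A ≤ normalizer (Y : Set G))
    (hXY : ∀ k ∈ K, ∃ x ∈ X, ∃ y ∈ Y, k = x * y) (k : G)
    (hk : k ∈ K ⊓ centralizer (A : Set G)) :
    ∃ x ∈ X ⊓ centralizer (A : Set G), ∃ y ∈ Y ⊓ centralizer (A : Set G), k = x * y := by
  obtain ⟨x, hx, y, hy, rfl⟩ := hXY k hk.1
  obtain ⟨c, hc, hcn⟩ := exists_centralizing_in_coset A X (X ⊓ Y) hXA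
    (inf_eq_bot_of_coprime_card A X (hcop.coprime_dvd_right (card_dvd_of_le hX))) inf_le_left
    (le_normalizer_inf hXA hYA)
    (hcop.coprime_dvd_right (card_dvd_of_le (inf_le_left.trans hX)))
    (hsolv.imp_right (isSolvable_of_le (inf_le_left.trans hX))) x hx (fun a ha => by
      refine ⟨by simpa [mul_assoc] using X.mul_mem (X.inv_mem hx) ((mem_normalizer_iff.mp (hXA ha) x).mp hx), ?_⟩
      have h1 : x⁻¹ * a * x * a⁻¹ = y * (a * y⁻¹ * a⁻¹) := by
        have h2 : a * (x * y) = x * y * a := mem_centralizer_iff.mp hk.2 a ha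
        calc x⁻¹ * a * x * a⁻¹ = x⁻¹ * (a * (x * y)) * y⁻¹ * a⁻¹ := by group
          _ = y * (a * y⁻¹ * a⁻¹) := by rw [h2]; group
      rw [h1]
      exact Y.mul_mem hy ((mem_normalizer_iff.mp (hYA ha) _).mp (Y.inv_mem hy)))
  refine ⟨c, ⟨hc.1, hc.2⟩, c⁻¹ * (x * y), ⟨?_, (centralizer (A : Set G)).mul_mem ((centralizer (A : Set G)).inv_mem hc.2) hk.2⟩, by group⟩
  have := Y.mul_mem (Y.inv_mem hcn.2) hy
  simpa [mul_assoc] using this

/-! ### Invariant Sylow subgroups -/

theorem exists_invariant_sylow [Finite G] (A K : Subgroup G) (hAK : A ≤ normalizer (K : Set G))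
    (hcop : (Nat.card A).Coprime (Nat.card K))
    (hsolv : Group.IsSolvable A ∨ Group.IsSolvable K) (p : ℕ) [Fact p.Prime] :
    ∃ P : Sylow p K, A ≤ normalizer (((P : Subgroup K).map K.subtype : Subgroup G) : Set G) := by
  obtain ⟨P⟩ := Sylow.nonempty (p := p) (G := K)
  obtain ⟨k, hk, hkA⟩ := exists_conj_invariant A K hAK hcop hsolv ((P : Subgroup K).map K.subtype)
    (fun a ha => by
      have hle : MulAut.conj a • (P : Subgroup K).map K.subtype ≤ K := by
        intro x hx
        rw [mem_conj_smul] at hx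
        exact (mem_normalizer_iff''.mp (hAK ha) x).mpr (map_subtype_le _ hx)
      have hpg : IsPGroup p ↥((MulAut.conj a • (P : Subgroup K).map K.subtype).subgroupOf K) := by
        refine IsPGroup.comap_subtype ?_
        exact (P.isPGroup'.map K.subtype).map (MulAut.conj a).toMonoidHom
      obtain ⟨Q, hQ⟩ := hpg.exists_le_sylow
      obtain ⟨k, hk⟩ := MulAction.exists_smul_eq K P Q
      refine ⟨k, k.2, ?_⟩
      have hQ' : MulAut.conj a • (P : Subgroup K).map K.subtype ≤ (Q : Subgroup K).map K.subtype := by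
        rw [← map_subgroupOf_eq_of_le hle]; exact map_mono hQ
      have e := congrArg (fun S : Sylow p K => (S : Subgroup K).map K.subtype) hk
      rw [Sylow.coe_subgroup_smul, map_conj_smul, coe_subtype] at e
      rw [e]
      refine (eq_of_le_of_card_ge hQ' ?_).symm
      rw [← e, card_conj_smul, card_conj_smul])
  refine ⟨(⟨k, hk⟩ : K) • P, ?_⟩
  rw [Sylow.coe_subgroup_smul, map_conj_smul, coe_subtype]
  exact hkA

theorem invariant_sylow_conj [Finite G] (A K : Subgroup G) (hAK : A ≤ normalizer (K : Set G))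
    (hcop : (Nat.card A).Coprime (Nat.card K))
    (hsolv : Group.IsSolvable A ∨ Group.IsSolvable K) (p : ℕ) [Fact p.Prime] (P Q : Sylow p K)
    (hP : A ≤ normalizer (((P : Subgroup K).map K.subtype : Subgroup G) : Set G))
    (hQ : A ≤ normalizer (((Q : Subgroup K).map K.subtype : Subgroup G) : Set G)) :
    ∃ c : K, (c : G) ∈ centralizer (A : Set G) ∧ MulAut.conj c • P = Q := by
  obtain ⟨k, hk⟩ := MulAction.exists_smul_eq K P Q
  have e := congrArg (fun S : Sylow p K => (S : Subgroup K).map K.subtype) hk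
  rw [Sylow.coe_subgroup_smul, map_conj_smul, coe_subtype] at e
  obtain ⟨c, hc, hcc⟩ := exists_centralizer_conj_eq A K hAK hcop hsolv _ _ hP hQ ⟨k, k.2, e⟩
  refine ⟨⟨c, hc.1⟩, hc.2, ?_⟩
  apply Sylow.ext
  apply map_injective K.subtype_injective
  rw [Sylow.pointwise_smul_def, map_conj_smul, coe_subtype]
  exact hcc

theorem exists_invariant_sylow_ge [Finite G] (A K : Subgroup G)
    (hAK : A ≤ normalizer (K : Set G)) (hcop : (Nat.card A).Coprime (Nat.card K))
    (hsolv : Group.IsSolvable A ∨ Group.IsSolvable K) (p : ℕ) [Fact p.Prime] (U : Subgroup G)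
    (hUK : U ≤ K) (hU : IsPGroup p U) (hUA : A ≤ normalizer (U : Set G)) :
    ∃ P : Sylow p K, U ≤ (P : Subgroup K).map K.subtype ∧
      A ≤ normalizer (((P : Subgroup K).map K.subtype : Subgroup G) : Set G) := by
  induction U using WellFoundedGT.induction with
  | _ U ih =>
    have hN : A ≤ normalizer ((K ⊓ normalizer (U : Set G) : Subgroup G) : Set G) := by
      exact le_normalizer_inf hAK (hUA.trans le_normalizer)
    obtain ⟨R, hR⟩ := exists_invariant_sylow A (K ⊓ normalizer (U : Set G)) hN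
      (hcop.coprime_dvd_right (card_dvd_of_le inf_le_left))
      (hsolv.imp_right (isSolvable_of_le inf_le_left)) p
    set W := (R : Subgroup ↥(K ⊓ normalizer (U : Set G))).map
      (K ⊓ normalizer (U : Set G)).subtype with hW
    have hUN : U ≤ K ⊓ normalizer (U : Set G) := le_inf hUK le_normalizer
    have hUW : U ≤ W := by
      haveI : (U.subgroupOf (K ⊓ normalizer (U : Set G))).Normal :=
        normal_subgroupOf_of_le_normalizer inf_le_right
      have h1 : U.subgroupOf (K ⊓ normalizer (U : Set G)) ≤ R :=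
        IsPGroup.le_sylow_of_normal (N := U.subgroupOf (K ⊓ normalizer (U : Set G)))
          hU.comap_subtype R
      exact (map_subgroupOf_eq_of_le hUN).ge.trans (map_mono h1)
    rcases lt_or_eq_of_le hUW with hlt | heq
    · obtain ⟨P, hP1, hP2⟩ :=
        ih W hlt ((map_subtype_le _).trans inf_le_left) (R.isPGroup'.map _) hR
      exact ⟨P, hUW.trans hP1, hP2⟩
    · -- `U` is a Sylow subgroup of `K`
      obtain ⟨Q, hQ⟩ := (hU.comap_subtype (K := K)).exists_le_sylow
      refine ⟨Q, ?_, ?_⟩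
      · rw [← map_subgroupOf_eq_of_le hUK]; exact map_mono hQ
      suffices h : U.subgroupOf K = Q by
        rw [← h, map_subgroupOf_eq_of_le hUK]; exact hUA
      haveI := Q.isPGroup'.isNilpotent
      by_contra hne
      have hlt : (U.subgroupOf K).subgroupOf Q < ⊤ := by
        refine lt_top_iff_ne_top.mpr fun h => hne (le_antisymm hQ ?_)
        exact subgroupOf_eq_top.mp h
      have hnc := normalizerCondition_of_isNilpotent (G := (Q : Subgroup K)) _ hlt
      obtain ⟨x, hx, hx'⟩ := SetLike.exists_of_lt hnc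
      have hxn : ((x : K) : G) ∈ normalizer (U : Set G) := by
        have hUQ : ∀ {u : G} (hu : u ∈ U), (⟨u, hUK hu⟩ : K) ∈ (Q : Subgroup K) :=
          fun hu => hQ (show (⟨_, hUK hu⟩ : K) ∈ U.subgroupOf K from hu)
        rw [mem_normalizer_iff]
        intro u
        constructor
        · intro hu
          exact (mem_normalizer_iff.mp hx ⟨⟨u, hUK hu⟩, hUQ hu⟩).mp hu
        · intro hu
          have hmem := hUQ hu
          have := (mem_normalizer_iff.mp (inv_mem hx) ⟨⟨_, hUK hu⟩, hmem⟩).mp hu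
          simpa [mem_subgroupOf, mul_assoc] using this
      -- `x` together with `U` is a `p`-subgroup of `N_K(U)` containing the Sylow subgroup `R`
      have hbig : IsPGroup p ↥(((Q : Subgroup K).map K.subtype).subgroupOf
          (K ⊓ normalizer (U : Set G))) := IsPGroup.comap_subtype (Q.isPGroup'.map _)
      have hRle : (R : Subgroup ↥(K ⊓ normalizer (U : Set G))) ≤
          ((Q : Subgroup K).map K.subtype).subgroupOf (K ⊓ normalizer (U : Set G)) := by
        intro r hr
        have : (r : G) ∈ U := heq.ge (mem_map_of_mem _ hr)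
        exact ⟨⟨r, hUK this⟩, hQ (show (⟨(r : G), hUK this⟩ : K) ∈ U.subgroupOf K from this), rfl⟩
      have hmax := R.is_maximal' hbig hRle
      have hxW : (⟨(x : K), (x : K).2, hxn⟩ : ↥(K ⊓ normalizer (U : Set G))) ∈
          ((Q : Subgroup K).map K.subtype).subgroupOf (K ⊓ normalizer (U : Set G)) :=
        ⟨(x : K), x.2, rfl⟩
      rw [hmax] at hxW
      exact hx' (show ((x : K) : G) ∈ U from heq.ge ⟨_, hxW, rfl⟩)

/-! ### Thompson's P × Q lemma and friends -/

theorem commutator_lt_of_nilpotent {M U : Subgroup G} (hM : Group.IsNilpotent M) (hUM : U ≤ M)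
    (hMU : M ≤ normalizer (U : Set G)) (hU : U ≠ ⊥) : ⁅U, M⁆ < U := by
  refine lt_of_le_of_ne (le_normalizer_iff_commutator_le_left.mp hMU) fun h => hU ?_
  obtain ⟨n, hn⟩ := (isNilpotent_iff_lowerCentralSeries M).mp hM
  have : ∀ k, U ≤ M.lowerCentralSeries k := by
    intro k
    induction k with
    | zero => exact hUM
    | succ k ih => rw [Subgroup.lowerCentralSeries_succ, ← h]; exact commutator_mono ih le_rfl
  exact eq_bot_iff.mpr (hn ▸ this n)

theorem thompson_pq [Finite G] (p : ℕ) [Fact p.Prime]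
    (P Q U : Subgroup G) (hP : IsPGroup p P) (hQ : (Nat.card Q).Coprime p) (hU : IsPGroup p U)
    (hPQ : P ≤ centralizer (Q : Set G))
    (hPU : P ≤ normalizer (U : Set G)) (hQU : Q ≤ normalizer (U : Set G))
    (hC : U ⊓ centralizer (P : Set G) ≤ centralizer (Q : Set G)) :
    Q ≤ centralizer (U : Set G) := by
  rw [← commutator_eq_bot_iff_le_centralizer, commutator_comm]
  induction U using WellFoundedLT.induction with
  | _ U ih =>
    rcases eq_or_ne U ⊥ with rfl | hU0
    · exact commutator_bot_left _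
    haveI hcopQ : (Nat.card Q).Coprime (Nat.card U) := (coprime_card_of_isPGroup hU hQ).symm
    haveI : Group.IsSolvable U := by haveI := hU.isNilpotent; infer_instance
    have hM : IsPGroup p ↥(U ⊔ P) := hU.to_sup_of_normal_left' hP hPU
    have hlt : ⁅U, P⁆ < U :=
      lt_of_le_of_lt (commutator_mono le_rfl le_sup_right)
        (commutator_lt_of_nilpotent hM.isNilpotent le_sup_left (sup_le le_normalizer hPU) hU0)
    have hQP : Q ≤ normalizer (P : Set G) := fun q hq => centralizer_le_normalizer _ <|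
      le_centralizer_iff.mp hPQ hq
    have h1 : ⁅⁅U, P⁆, Q⁆ = ⊥ := ih _ hlt (hU.to_le hlt.le)
      (normalizer_commutator_ge_right U P)
      (le_trans (le_inf hQU hQP) (normalizer_le_normalizer_commutator U P))
      (fun x hx => hC ⟨hlt.le hx.1, hx.2⟩)
    have h2 : ⁅⁅P, Q⁆, U⁆ = ⊥ := by
      rw [commutator_eq_bot_iff_le_centralizer.mpr hPQ, commutator_bot_left]
    have h3 : ⁅⁅Q, U⁆, P⁆ = ⊥ := commutator_commutator_eq_bot_of_rotate h1 h2
    have h4 : ⁅Q, U⁆ ≤ centralizer (Q : Set G) := fun x hx =>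
      hC ⟨le_normalizer_iff_commutator_le_right.mp hQU hx,
        commutator_eq_bot_iff_le_centralizer.mp h3 hx⟩
    refine commutator_eq_bot_of_commutator_commutator_eq_bot Q U hQU hcopQ (Or.inr inferInstance) ?_
    rw [commutator_comm U Q, commutator_eq_bot_iff_le_centralizer]
    exact h4

theorem sup_sylow_eq (A : Subgroup G) [Finite G] :
    A ≤ sSup {R : Subgroup G | ∃ p, p.Prime ∧ IsPGroup p R ∧ R ≤ A} := by
  set S := sSup {R : Subgroup G | ∃ p, p.Prime ∧ IsPGroup p R ∧ R ≤ A}
  suffices h : (S.subgroupOf A).index = 1 by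
    intro a ha
    exact (index_eq_one.mp h ▸ mem_top (⟨a, ha⟩ : A) : (⟨a, ha⟩ : A) ∈ S.subgroupOf A)
  by_contra hne
  obtain ⟨q, hq, hd⟩ := Nat.exists_prime_and_dvd hne
  haveI : Fact q.Prime := ⟨hq⟩
  obtain ⟨R⟩ := Sylow.nonempty (p := q) (G := A)
  refine R.not_dvd_index (hd.trans (index_dvd_of_le (map_le_iff_le_comap.mp ?_)))
  exact le_sSup (a := (R : Subgroup A).map A.subtype) ⟨q, hq, R.isPGroup'.map _, map_subtype_le _⟩

theorem centralizes_of_trivial_on_frattini_quotient [Finite G] (A K : Subgroup G)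
    (hAK : A ≤ normalizer (K : Set G))
    (hcop : (Nat.card A).Coprime (Nat.card (frattini K)))
    (htriv : ∀ a ∈ A, ∀ k ∈ K, a * k * a⁻¹ * k⁻¹ ∈ (frattini K).map K.subtype) :
    A ≤ centralizer (K : Set G) := by
  refine (sup_sylow_eq A).trans (sSup_le ?_)
  rintro R ⟨p, hp, hR, hRA⟩
  haveI : Fact p.Prime := ⟨hp⟩
  haveI := hR.isNilpotent
  rw [le_centralizer_iff]
  -- `K ⊓ C(R)` supplements the Frattini subgroup
  have hPhiA : A ≤ normalizer (((frattini K).map K.subtype : Subgroup G) : Set G) := by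
    refine le_normalizer_of_conj_mem fun a ha x hx => ?_
    have hxK := map_subtype_le _ hx
    have h1 := mul_mem (htriv a ha x hxK) hx
    simpa using h1
  have hPhiK : K ≤ normalizer (((frattini K).map K.subtype : Subgroup G) : Set G) := by
    refine le_normalizer_of_conj_mem fun a ha x hx => ?_
    obtain ⟨y, hy, rfl⟩ := hx
    exact ⟨⟨a, ha⟩ * y * ⟨a, ha⟩⁻¹, Subgroup.Normal.conj_mem inferInstance y hy _, rfl⟩
  suffices h : (centralizer (R : Set G)).subgroupOf K = ⊤ from subgroupOf_eq_top.mp h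
  apply frattini_nongenerating
  rw [eq_top_iff]
  rintro ⟨k, hk⟩ -
  have hfix : ∀ a ∈ R, k⁻¹ * a * k * a⁻¹ ∈ (frattini K).map K.subtype := fun a ha => by
    simpa [mul_assoc] using
      (mem_normalizer_iff.mp (hPhiK (inv_mem hk)) _).mp (htriv a (hRA ha) k hk)
  obtain ⟨n, hn, hnc⟩ := conj_of_card_eq ((frattini K).map K.subtype) R
    (MulAut.conj k⁻¹ • R) (Or.inr inferInstance) (hRA.trans hPhiA)
    (by
      intro x hx
      rw [mem_conj_smul, inv_inv] at hx
      have h := mul_mem (mem_sup_left (hfix _ hx) : _ ∈ (frattini K).map K.subtype ⊔ R)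
        (mem_sup_right hx)
      simpa [mul_assoc] using h)
    (card_conj_smul _ _)
    (by rw [card_map_subtype]; exact (hcop.coprime_dvd_left (card_dvd_of_le hRA)).symm)
  obtain ⟨f, hf, rfl⟩ := hn
  have hkf : MulAut.conj (k * (f : G)) • R = R := by
    rw [← conj_smul_conj_smul]
    rw [coe_subtype] at hnc
    rw [hnc, conj_smul_conj_smul, mul_inv_cancel, map_one, one_smul]
  -- `k * f` normalises `R`, hence centralises it modulo `R ⊓ frattini`
  have hcent : k * (f : G) ∈ centralizer (R : Set G) := by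
    rw [mem_centralizer_iff]
    intro a ha
    have h1 : k * (f : G) * a * (k * (f : G))⁻¹ * a⁻¹ ∈
        R ⊓ (frattini K).map K.subtype := by
      refine ⟨R.mul_mem ?_ (R.inv_mem ha), ?_⟩
      · rw [← hkf, mem_conj_smul]; simpa [mul_assoc] using ha
      · have h2 := inv_mem (htriv a (hRA ha) _ (K.mul_mem hk f.2))
        simpa [mul_assoc] using h2
    have hcop' : (Nat.card R).Coprime (Nat.card ↥((frattini K).map K.subtype)) := by
      rw [card_map_subtype]; exact hcop.coprime_dvd_left (card_dvd_of_le hRA)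
    rw [inf_eq_bot_of_coprime_card _ _ hcop', mem_bot, mul_inv_eq_one,
      mul_inv_eq_iff_eq_mul] at h1
    exact h1.symm
  have : (⟨k, hk⟩ : K) = (⟨k, hk⟩ * f) * f⁻¹ := by group
  rw [this]
  exact mul_mem_sup hcent (inv_mem hf)

end Cfsg.Agent.Solv
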