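import Cfsg.Agent.Lib.Solv.ThompsonComplement
import Mathlib.GroupTheory.FixedPointFree

/-!
Fixed-point-free automorphisms: invariant Sylow subgroups, quotients, and Thompson's theorem that
a finite group with a fixed-point-free automorphism of prime order is nilpotent.
-/

set_option autoImplicit false
set_option linter.style.haveILetI false

namespace Cfsg.Agent.Solv

open Subgroup
open scoped Pointwise

universe u

variable {G : Type u} [Group G] [Finite G]

theorem fpf_quotient {φ : G ≃* G} (hφ : MonoidHom.FixedPointFree (φ : G →* G))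
    {N : Subgroup G} (hN : ∀ n ∈ N, φ n ∈ N) {x : G} (hx : (φ x)⁻¹ * x ∈ N) : x ∈ N := by
  let f : N → N := fun n => ⟨(φ n)⁻¹ * n, N.mul_mem (N.inv_mem (hN n n.2)) n.2⟩
  have key : ∀ a b : G, (φ a)⁻¹ * a = (φ b)⁻¹ * b → a = b := fun a b h => by
    have h1 : φ (a * b⁻¹) = a * b⁻¹ := by
      rw [map_mul, map_inv]
      calc φ a * (φ b)⁻¹ = φ a * ((φ b)⁻¹ * b) * b⁻¹ := by group
        _ = a * b⁻¹ := by rw [← h]; group
    exact mul_inv_eq_one.mp (hφ _ h1)
  obtain ⟨n, hn⟩ := Finite.surjective_of_injective (f := f)
    (fun a b h => Subtype.ext (key a b (congrArg Subtype.val h))) ⟨_, hx⟩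
  rw [← key n x (congrArg Subtype.val hn)]
  exact n.2

theorem exists_invariant_sylow_of_fpf {φ : G ≃* G} (hφ : MonoidHom.FixedPointFree (φ : G →* G))
    (q : ℕ) [Fact q.Prime] : ∃ P : Sylow q G, (P : Subgroup G).map (φ : G →* G) = P := by
  obtain ⟨P⟩ : Nonempty (Sylow q G) := inferInstance
  set P' : Sylow q G := P.mapSurjective (f := (φ : G →* G)) φ.surjective
  obtain ⟨g, hg⟩ := MulAction.exists_smul_eq G P P'
  have hg' : (P : Subgroup G).map (φ : G →* G) = MulAut.conj g • (P : Subgroup G) := by
    rw [← Sylow.coe_subgroup_smul, hg]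
    exact (Sylow.coe_mapSurjective (f := (φ : G →* G)) φ.surjective P).symm
  -- `h ↦ (φ h)⁻¹ h` is surjective
  have hinj : Function.Injective (fun h : G => (φ h)⁻¹ * h) := fun a b h => by
    have h' : (φ a)⁻¹ * a = (φ b)⁻¹ * b := h
    have h1 : φ (a * b⁻¹) = a * b⁻¹ := by
      rw [map_mul, map_inv]
      calc φ a * (φ b)⁻¹ = φ a * ((φ b)⁻¹ * b) * b⁻¹ := by group
        _ = a * b⁻¹ := by rw [← h']; group
    exact mul_inv_eq_one.mp (hφ _ h1)
  obtain ⟨h, hh⟩ := Finite.surjective_of_injective hinj g
  refine ⟨h • P, ?_⟩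
  rw [Sylow.coe_subgroup_smul, map_conj_smul, hg', conj_smul_conj_smul]
  congr 2
  rw [← hh]
  change φ h * ((φ h)⁻¹ * h) = h
  group

/-- If `φ` of prime order is fixed-point-free, an invariant abelian normal subgroup is centralized
by every invariant subgroup of coprime order. -/
theorem centralizes_of_fpf {φ : G ≃* G} (hφ : MonoidHom.FixedPointFree (φ : G →* G)) {p : ℕ}
    (hp : p.Prime) (hord : ∀ x, φ^[p] x = x) (M R : Subgroup G) [M.Normal] [IsMulCommutative M]
    (hM : ∀ m ∈ M, φ m ∈ M) (hR : ∀ r ∈ R, φ r ∈ R)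
    (hcop : (Nat.card M).Coprime (Nat.card R)) : R ≤ centralizer (M : Set G) := by
  classical
  haveI := Fintype.ofFinite R
  letI : CommGroup M := { (inferInstance : Group M) with mul_comm := fun a b => mul_comm' a b }
  let a : M →* M :=
    { toFun := fun m => ⟨φ m, hM m m.2⟩
      map_one' := Subtype.ext (map_one φ)
      map_mul' := fun x y => Subtype.ext (map_mul φ (x : G) y) }
  let c : G →* MulAut M := MulAut.conjNormal
  have hiterM : ∀ (i : ℕ) (m : M), ((a^[i] m : M) : G) = φ^[i] (m : G) := by
    intro i m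
    induction i with
    | zero => rfl
    | succ i ih =>
      rw [Function.iterate_succ_apply', Function.iterate_succ_apply', ← ih]
      rfl
  have hiterR : ∀ (i : ℕ), ∀ r ∈ R, φ^[i] r ∈ R := by
    intro i r hr
    induction i with
    | zero => exact hr
    | succ i ih => rw [Function.iterate_succ_apply']; exact hR _ ih
  have hfixi : ∀ i : ℕ, ¬ p ∣ i → ∀ x : G, φ^[i] x = x → x = 1 := by
    intro i hi x hx
    refine hφ x ?_
    have h1 : Function.IsPeriodicPt φ (Nat.gcd i p) x :=
      Function.IsPeriodicPt.gcd hx (hord x)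
    rw [(hp.coprime_iff_not_dvd.mpr hi).symm.gcd_eq_one] at h1
    exact h1
  -- the product over the orbit of `a` is trivial
  have hT : ∀ m : M, ∏ i ∈ Finset.range p, a^[i] m = 1 := by
    intro m
    have hfix : a (∏ i ∈ Finset.range p, a^[i] m) = ∏ i ∈ Finset.range p, a^[i] m := by
      rw [map_prod]
      obtain ⟨k, hk⟩ : ∃ k, p = k + 1 := ⟨p - 1, by have := hp.pos; omega⟩
      rw [hk, Finset.prod_range_succ, Finset.prod_range_succ']
      congr 1
      · exact Finset.prod_congr rfl fun i _ => (Function.iterate_succ_apply' _ _ _).symm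
      · rw [← Function.iterate_succ_apply' (⇑a), Function.iterate_zero_apply]
        exact Subtype.ext (by rw [hiterM]; have := hord (m : G); rwa [hk] at this)
    exact Subtype.ext (hφ _ (congrArg Subtype.val hfix))
  let S : M → M := fun v => ∏ r : R, c r v
  have hS : ∀ (v : M) (r : R), c r (S v) = S v := by
    intro v r
    simp only [S, map_prod]
    refine Fintype.prod_equiv (Equiv.mulLeft r) _ _ fun s => ?_
    change c r (c s v) = c ((r : G) * s) v
    rw [map_mul]; rfl
  -- each twisted orbit product is trivial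
  have hU : ∀ (u : R) (v : M),
      ∏ i ∈ Finset.range p, c ((u : G) * φ^[i] (u : G)⁻¹) (a^[i] v) = 1 := by
    intro u v
    have h1 := hT (c (u : G)⁻¹ v)
    have h2 : ∀ i, a^[i] (c (u : G)⁻¹ v) = c (φ^[i] (u : G)⁻¹) (a^[i] v) := by
      intro i
      apply Subtype.ext
      rw [hiterM, MulAut.conjNormal_apply, MulAut.conjNormal_apply, hiterM]
      induction i with
      | zero => rfl
      | succ i ih =>
        simp only [Function.iterate_succ_apply', ih, map_mul, map_inv]
    have h3 := congrArg (c (u : G)) h1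
    rw [map_prod, map_one] at h3
    refine (Finset.prod_congr rfl fun i _ => ?_).trans h3
    rw [h2, map_mul]; rfl
  intro r hr
  rw [mem_centralizer_iff]
  intro m hm
  set v : M := ⟨m, hm⟩
  have hsum : v ^ Fintype.card R * S (∏ i ∈ (Finset.range p).erase 0, a^[i] v) = 1 := by
    have h1 : ∏ i ∈ Finset.range p, ∏ u : R, c ((u : G) * φ^[i] (u : G)⁻¹) (a^[i] v) = 1 := by
      rw [Finset.prod_comm]
      exact Finset.prod_eq_one fun u _ => hU u v
    have h0 : (0 : ℕ) ∈ Finset.range p := Finset.mem_range.mpr hp.pos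
    rw [← Finset.mul_prod_erase _ _ h0] at h1
    rw [← h1]
    congr 1
    · simp
    · simp only [S, map_prod]
      rw [Finset.prod_comm]
      refine Finset.prod_congr rfl fun i hi => ?_
      obtain ⟨hi0, hip⟩ := Finset.mem_erase.mp hi
      have hnd : ¬ p ∣ i := fun h =>
        absurd (Nat.le_of_dvd (Nat.pos_of_ne_zero hi0) h) (not_le.mpr (Finset.mem_range.mp hip))
      let w : R → R := fun u => ⟨(u : G) * φ^[i] (u : G)⁻¹, R.mul_mem u.2 (hiterR i _ (R.inv_mem u.2))⟩
      have hwinj : Function.Injective w := by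
        intro u u' h
        have h' : (u : G) * φ^[i] (u : G)⁻¹ = (u' : G) * φ^[i] (u' : G)⁻¹ := congrArg Subtype.val h
        have hmul : ∀ x y : G, φ^[i] (x * y) = φ^[i] x * φ^[i] y := iterate_map_mul φ i
        have h4 : φ^[i] ((u : G)⁻¹ * u') = (u : G)⁻¹ * u' := by
          rw [hmul]
          calc φ^[i] (u : G)⁻¹ * φ^[i] (u' : G)
              = (u : G)⁻¹ * ((u : G) * φ^[i] (u : G)⁻¹) * φ^[i] (u' : G) := by group
            _ = (u : G)⁻¹ * u' * (φ^[i] (u' : G)⁻¹ * φ^[i] (u' : G)) := by rw [h']; group
            _ = (u : G)⁻¹ * u' := by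
              rw [← hmul, inv_mul_cancel, iterate_map_one, mul_one]
        exact Subtype.ext (inv_mul_eq_one.mp (hfixi i hnd _ h4))
      exact ((Equiv.ofBijective w ⟨hwinj, Finite.surjective_of_injective hwinj⟩).prod_comp
        (fun s : R => c (s : G) (a^[i] v))).symm
  have hfix : c r (v ^ Fintype.card R) = v ^ Fintype.card R := by
    rw [eq_inv_of_mul_eq_one_left hsum, map_inv, hS _ ⟨r, hr⟩]
  obtain ⟨k, hk⟩ := exists_pow_eq_self_of_coprime (x := v) (n := Fintype.card R)
    (Nat.Coprime.coprime_dvd_right (orderOf_dvd_natCard v)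
      (by rw [← Nat.card_eq_fintype_card]; exact hcop.symm))
  have h : (c r (v ^ Fintype.card R)) ^ k = (v ^ Fintype.card R) ^ k := congrArg (· ^ k) hfix
  rw [← map_pow, hk] at h
  have h' : r * m * r⁻¹ = m := by
    have := congrArg Subtype.val h
    rwa [MulAut.conjNormal_apply] at this
  rw [mul_inv_eq_iff_eq_mul] at h'
  exact h'.symm

theorem commute_of_coprime_orderOf_of_isNilpotent {H : Type u} [Group H] [Finite H]
    (hH : Group.IsNilpotent H) {x g : H} (h : (orderOf x).Coprime (orderOf g)) : Commute x g := by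
  obtain ⟨e⟩ := ((Group.isNilpotent_of_finite_tfae (G := H)).out 0 4 rfl rfl).mp hH
  have he : ∀ (y : H) i P, orderOf (e.symm y i P) ∣ orderOf y := by
    intro y i P
    refine orderOf_dvd_of_pow_eq_one ?_
    have h1 : (e.symm y) ^ orderOf y = 1 := by rw [← map_pow, pow_orderOf_eq_one, map_one]
    exact congrFun (congrFun h1 i) P
  have : Commute (e.symm x) (e.symm g) := by
    funext i P
    haveI : Fact (i : ℕ).Prime := ⟨Nat.prime_of_mem_primeFactors i.2⟩
    change e.symm x i P * e.symm g i P = e.symm g i P * e.symm x i P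
    obtain ⟨a, ha⟩ := IsPGroup.iff_orderOf.mp P.isPGroup' (e.symm x i P)
    obtain ⟨b, hb⟩ := IsPGroup.iff_orderOf.mp P.isPGroup' (e.symm g i P)
    rcases a with _ | a
    · rw [orderOf_eq_one_iff.mp (by rw [ha, pow_zero] : orderOf (e.symm x i P) = 1), one_mul,
        mul_one]
    rcases b with _ | b
    · rw [orderOf_eq_one_iff.mp (by rw [hb, pow_zero] : orderOf (e.symm g i P) = 1), one_mul,
        mul_one]
    exfalso
    refine (Fact.out : (i : ℕ).Prime).one_lt.ne' (Nat.eq_one_of_dvd_coprimes h ?_ ?_)
    · exact (ha ▸ dvd_pow_self _ a.succ_ne_zero).trans (he x i P)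
    · exact (hb ▸ dvd_pow_self _ b.succ_ne_zero).trans (he g i P)
  simpa using this.map e.toMonoidHom

/-- Thompson's theorem. -/
theorem isNilpotent_of_fpf_aux {p : ℕ} (hp : p.Prime) : ∀ (n : ℕ) (G : Type u) [Group G] [Finite G],
    Nat.card G ≤ n → ∀ φ : G ≃* G, MonoidHom.FixedPointFree (φ : G →* G) → (∀ x, φ^[p] x = x) →
    Group.IsNilpotent G := by
  intro n
  induction n with
  | zero => intro G _ _ hn; exact absurd hn (not_le.mpr Nat.card_pos)
  | succ n ih =>
    intro G _ _ hn φ hφ hord
    -- proper invariant subgroups are nilpotent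
    have hsub : ∀ H : Subgroup G, H ≠ ⊤ → H.map (φ : G →* G) = H → Group.IsNilpotent H := by
      intro H hH hinv
      let ψ : H ≃* H := (H.equivMapOfInjective _ φ.injective).trans (MulEquiv.subgroupCongr hinv)
      have hψ : ∀ x : H, ((ψ x : H) : G) = φ x := fun x => rfl
      have hlt : Nat.card H < Nat.card G :=
        lt_of_le_of_ne (card_le_card_group _) fun h' => hH (eq_top_of_card_eq _ h')
      refine ih H (by omega) ψ (fun x hx => Subtype.ext (hφ x (congrArg Subtype.val hx))) ?_
      intro x
      have : ∀ i, ((ψ^[i] x : H) : G) = φ^[i] (x : G) := by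
        intro i
        induction i with
        | zero => rfl
        | succ i ih => rw [Function.iterate_succ_apply', Function.iterate_succ_apply', hψ, ih]
      exact Subtype.ext (by rw [this]; exact hord x)
    by_cases hcore : ∃ r : ℕ, r.Prime ∧ pCore r G ≠ ⊥
    · obtain ⟨r, hr, hO⟩ := hcore
      haveI := Fact.mk hr
      set O := pCore r G with hOdef
      set M := O ⊓ centralizer (O : Set G) with hMdef
      have hMc : M.Normal := inferInstance
      haveI : IsMulCommutative M := ⟨⟨fun x y => Subtype.ext (y.2.2 x x.2.1)⟩⟩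
      have hMinv : ∀ m ∈ M, φ m ∈ M := by
        intro m hm
        have hOmap : O.map (φ : G →* G) = O := pCore_map_equiv r φ
        refine ⟨hOmap ▸ mem_map_of_mem _ hm.1, ?_⟩
        intro z hz
        obtain ⟨w, hw, rfl⟩ := (hOmap.symm ▸ hz : z ∈ O.map (φ : G →* G))
        rw [MonoidHom.coe_coe, ← map_mul, ← map_mul, hm.2 w hw]
      have hM1 : M ≠ ⊥ := by
        intro h
        haveI : Nontrivial O := (nontrivial_iff_ne_bot _).mpr hO
        haveI : Nontrivial (center O) := IsPGroup.center_nontrivial (isPGroup_pCore r G)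
        obtain ⟨z, hz⟩ := exists_ne (1 : center O)
        refine hz (Subtype.ext (Subtype.ext ?_))
        rw [OneMemClass.coe_one, OneMemClass.coe_one, ← mem_bot, ← h]
        exact ⟨(z : O).2, fun w hw => congrArg Subtype.val (mem_center_iff.mp z.2 ⟨w, hw⟩)⟩
      have hMr : IsPGroup r M := (isPGroup_pCore r G).to_le inf_le_left
      set f := QuotientGroup.mk' M with hf
      -- the quotient is nilpotent
      have hMmap : M.map (φ : G →* G) = M := by
        refine eq_of_le_of_card_ge ?_ (by rw [card_map_of_injective (f := (φ : G →* G)) φ.injective])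
        rintro _ ⟨m, hm, rfl⟩
        exact hMinv m hm
      let φb : G ⧸ M ≃* G ⧸ M := QuotientGroup.congr M M φ hMmap
      have hφb : ∀ x : G, φb (f x) = f (φ x) := fun x => rfl
      haveI : Group.IsNilpotent (G ⧸ M) := by
        refine ih _ ?_ φb ?_ ?_
        · have : Nat.card (G ⧸ M) < Nat.card G := by
            rw [card_eq_card_quotient_mul_card_subgroup M]
            exact lt_mul_of_one_lt_right Nat.card_pos ((one_lt_card_iff_ne_bot M).mpr hM1)
          omega
        · intro x hx
          obtain ⟨g, rfl⟩ := QuotientGroup.mk'_surjective M x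
          refine (QuotientGroup.eq_one_iff g).mpr (fpf_quotient hφ hMinv ?_)
          exact QuotientGroup.eq.mp (show (φ g : G ⧸ M) = (g : G ⧸ M) from hx)
        · intro x
          obtain ⟨g, rfl⟩ := QuotientGroup.mk'_surjective M x
          have : ∀ i, φb^[i] (f g) = f (φ^[i] g) := by
            intro i
            induction i with
            | zero => rfl
            | succ i ih => rw [Function.iterate_succ_apply', Function.iterate_succ_apply', ih, hφb]
          rw [this, hord]
      refine ((Group.isNilpotent_of_finite_tfae (G := G)).out 0 3 rfl rfl).mpr ?_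
      intro q hq Q0
      suffices ∃ Q : Sylow q G, (Q : Subgroup G).Normal by
        obtain ⟨Q, hQ⟩ := this
        obtain ⟨g, hg⟩ := MulAction.exists_smul_eq G Q Q0
        rw [Sylow.smul_eq_of_normal] at hg
        exact hg ▸ hQ
      obtain ⟨Q, hQ⟩ := exists_invariant_sylow_of_fpf hφ q
      refine ⟨Q, ?_⟩
      have hQbn := ((Group.isNilpotent_of_finite_tfae (G := G ⧸ M)).out 0 3 rfl rfl).mp inferInstance
        q hq (Q.mapSurjective (QuotientGroup.mk'_surjective M))
      rw [Sylow.coe_mapSurjective] at hQbn
      have hn : ((Q : Subgroup G) ⊔ M).Normal := by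
        have := Normal.comap hQbn f
        rwa [comap_map_eq, hf, QuotientGroup.ker_mk'] at this
      by_cases hqr : q = r
      · subst hqr
        have hMQ : M ≤ (Q : Subgroup G) := inf_le_left.trans (pCore_le_sylow Q)
        rwa [sup_eq_left.mpr hMQ] at hn
      · have hcop : (Nat.card M).Coprime (Nat.card (Q : Subgroup G)) := by
          obtain ⟨i, hi⟩ := IsPGroup.iff_card.mp hMr
          rw [hi, Q.card_eq_multiplicity]
          exact Nat.coprime_pow_primes _ _ hr hq.out (Ne.symm hqr)
        have hc := centralizes_of_fpf hφ hp hord M (Q : Subgroup G) hMinv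
          (fun x hx => hQ ▸ mem_map_of_mem (φ : G →* G) hx) hcop
        have hMN : M ≤ normalizer ((Q : Subgroup G) : Set G) :=
          (le_centralizer_iff.mp hc).trans (centralizer_le_normalizer _)
        haveI := hn
        have hfr := Sylow.normalizer_sup_eq_top' Q (le_sup_left : (Q : Subgroup G) ≤ (Q : Subgroup G) ⊔ M)
        exact normalizer_eq_top_iff.mp
          (top_le_iff.mp (hfr.symm.le.trans (sup_le le_rfl (sup_le le_normalizer hMN))))
    · push Not at hcore
      by_cases hodd : ∃ q : ℕ, q.Prime ∧ q ≠ 2 ∧ q ∣ Nat.card G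
      · obtain ⟨q, hq, hq2, hqd⟩ := hodd
        haveI := Fact.mk hq
        obtain ⟨Q, hQ⟩ := exists_invariant_sylow_of_fpf hφ q
        set P := (Q : Subgroup G) with hPd
        have hk : P ⊓ (φ : G →* G).ker = ⊥ := by
          rw [(MonoidHom.ker_eq_bot_iff _).mpr φ.injective, inf_bot_eq]
        set J := thompsonSubgroupOf q P with hJ
        set Z := P ⊓ centralizer (P : Set G) with hZ
        have hJi : J.map (φ : G →* G) = J := by rw [hJ, thompsonOf_map _ _ hk, hQ]
        have hZi : Z.map (φ : G →* G) = Z := by rw [hZ, center_map _ _ hk, hQ]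
        have hqP : q ∣ Nat.card P := Q.dvd_card_of_dvd_card hqd
        have hJn : normalizer (J : Set G) ≠ ⊤ := fun h => by
          haveI := normalizer_eq_top_iff.mp h
          have h1 := le_pCore (N := J) (Q.isPGroup'.to_le (map_subtype_le _))
          rw [hcore q hq, le_bot_iff] at h1
          exact thompson_ne_bot hqP ((map_eq_bot_iff_of_injective _ P.subtype_injective).mp h1)
        have hZn : centralizer (Z : Set G) ≠ ⊤ := fun h => by
          haveI : Z.Normal :=
            normalizer_eq_top_iff.mp (top_le_iff.mp (h ▸ centralizer_le_normalizer _))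
          have h1 := le_pCore (N := Z) (Q.isPGroup'.to_le inf_le_left)
          rw [hcore q hq, le_bot_iff] at h1
          haveI : Nontrivial P := (nontrivial_iff_ne_bot _).mpr fun e => by
            rw [e, card_bot] at hqP; exact hq.one_lt.ne' (Nat.dvd_one.mp hqP)
          haveI : Nontrivial (center P) := IsPGroup.center_nontrivial Q.isPGroup'
          obtain ⟨z, hz⟩ := exists_ne (1 : center P)
          refine hz (Subtype.ext (Subtype.ext ?_))
          rw [OneMemClass.coe_one, OneMemClass.coe_one, ← mem_bot, ← h1]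
          exact ⟨(z : P).2, fun w hw => congrArg Subtype.val (mem_center_iff.mp z.2 ⟨w, hw⟩)⟩
        have hnp : ∀ H : Subgroup G, Group.IsNilpotent H → HasNormalPComplement q H := by
          intro H hH
          obtain ⟨S⟩ : Nonempty (Sylow q H) := inferInstance
          haveI : (S : Subgroup H).Normal :=
            ((Group.isNilpotent_of_finite_tfae (G := H)).out 0 3 rfl rfl).mp hH q ⟨hq⟩ S
          refine FrobeniusCond.hasNormalPComplement fun X hX g _ hgc => ?_
          obtain ⟨S', hS'⟩ := hX.exists_le_sylow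
          haveI : (S' : Subgroup H).Normal :=
            ((Group.isNilpotent_of_finite_tfae (G := H)).out 0 3 rfl rfl).mp hH q ⟨hq⟩ S'
          intro x hx
          have hcom : Commute x g := by
            have h1 : Group.IsNilpotent H := hH
            exact commute_of_coprime_orderOf_of_isNilpotent h1 (by
              obtain ⟨i, hi⟩ := IsPGroup.iff_card.mp hX
              refine Nat.Coprime.coprime_dvd_left (X.orderOf_dvd_natCard hx) ?_
              rw [hi]; exact hgc.symm.pow_left i)
          exact hcom.eq
        have hG : HasNormalPComplement q G := by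
          refine thompson_complement hq2 Q (hnp _ (hsub _ hJn ?_)) (hnp _ (hsub _ hZn ?_))
          · refine eq_of_le_of_card_ge (map_normalizer_le_of_eq _ hJi) ?_
            rw [card_map_of_injective (f := (φ : G →* G)) φ.injective]
          · refine eq_of_le_of_card_ge ?_ ?_
            · rintro _ ⟨x, hx, rfl⟩ z hz
              obtain ⟨w, hw, rfl⟩ := (hZi.symm ▸ hz : z ∈ Z.map (φ : G →* G))
              rw [MonoidHom.coe_coe, ← map_mul, ← map_mul, hx w hw]
            · rw [card_map_of_injective (f := (φ : G →* G)) φ.injective]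
        set N := pPrimeCore q G with hN
        rcases eq_or_ne N ⊥ with hN1 | hN1
        · obtain ⟨k, hk⟩ := hasNormalPComplement_iff_index.mp hG
          rw [← hN, hN1, index_bot] at hk
          exact (IsPGroup.of_card (n := k) hk).isNilpotent
        exfalso
        have hNtop : N ≠ ⊤ := fun h => by
          have h1 := card_pPrimeCore_coprime q G
          rw [← hN, h, card_top] at h1
          exact (hq.coprime_iff_not_dvd.mp h1.symm) hqd
        haveI := hsub N hNtop (pPrimeCore_map_equiv q φ)
        obtain ⟨r, hr, hrd⟩ := Nat.exists_prime_and_dvd (n := Nat.card N)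
          fun h => hN1 (Subgroup.card_eq_one.mp h)
        haveI := Fact.mk hr
        obtain ⟨S⟩ : Nonempty (Sylow r N) := inferInstance
        haveI hSn : (S : Subgroup N).Normal :=
          ((Group.isNilpotent_of_finite_tfae (G := N)).out 0 3 rfl rfl).mp inferInstance r ⟨hr⟩ S
        haveI : (S : Subgroup N).Characteristic := Sylow.characteristic_of_normal S hSn
        have h1 := le_pCore (N := (S : Subgroup N).map N.subtype) (S.isPGroup'.map _)
        rw [hcore r hr, le_bot_iff, map_eq_bot_iff_of_injective _ N.subtype_injective] at h1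
        have h2 := S.dvd_card_of_dvd_card hrd
        rw [h1, card_bot, Nat.dvd_one] at h2
        exact hr.one_lt.ne' h2
      · push Not at hodd
        have h2 : IsPGroup 2 G := by
          refine IsPGroup.of_card (n := (Nat.card G).factorization 2) ?_
          have h := Nat.eq_prime_pow_of_unique_prime_dvd (n := Nat.card G) (p := 2) Nat.card_pos.ne'
            (fun {d} hd hdd => by_contra fun hd2 => hodd d hd hd2 hdd)
          conv_rhs => rw [h]
          rw [Nat.prime_two.factorization_pow, Finsupp.single_eq_same, ← h]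
        haveI : Fact (Nat.Prime 2) := ⟨Nat.prime_two⟩
        exact h2.isNilpotent

theorem isNilpotent_of_fpf {φ : G ≃* G} (hφ : MonoidHom.FixedPointFree (φ : G →* G)) {p : ℕ}
    (hp : p.Prime) (hord : ∀ x, φ^[p] x = x) : Group.IsNilpotent G :=
  isNilpotent_of_fpf_aux hp _ G le_rfl φ hφ hord

end Cfsg.Agent.Solv
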