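import Cfsg.Agent.Lib.Solv.Coprime
import Mathlib.GroupTheory.Index

/-!
Products of subgroups, coatoms, nilpotency and Frattini helpers, subnormal Sylow intersections.
-/

set_option autoImplicit false
set_option linter.style.haveILetI false

namespace Cfsg.Agent.Solv

open Subgroup
open scoped Pointwise commutatorElement

universe u

variable {G : Type u} [Group G]

theorem exists_mul_eq_of_relIndex [Finite G] (H K : Subgroup G) (h : K.relIndex H = K.index)
    (g : G) : ∃ x ∈ H, ∃ y ∈ K, g = x * y := by
  let φ : H ⧸ K.subgroupOf H → G ⧸ K :=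
    Quotient.map' (Subtype.val) (fun a b hab => by
      rw [QuotientGroup.leftRel_apply] at hab ⊢
      exact hab)
  have hinj : Function.Injective φ := by
    intro a b
    induction a using QuotientGroup.induction_on with
    | _ a =>
      induction b using QuotientGroup.induction_on with
      | _ b =>
        intro hab
        exact QuotientGroup.eq.mpr (QuotientGroup.eq (s := K).mp hab)
  have hb : Function.Bijective φ :=
    (Nat.bijective_iff_injective_and_card φ).mpr ⟨hinj, h⟩
  obtain ⟨a, ha⟩ := hb.2 (g : G ⧸ K)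
  obtain ⟨x, rfl⟩ := QuotientGroup.mk_surjective a
  exact ⟨x, x.2, (x : G)⁻¹ * g, QuotientGroup.eq.mp ha, by group⟩

theorem index_inf_of_coprime [Finite G] (H K : Subgroup G) (h : H.index.Coprime K.index) :
    (H ⊓ K).index = H.index * K.index ∧ K.relIndex H = K.index := by
  have h1 : (H ⊓ K).index = K.relIndex H * H.index := by
    rw [← inf_relIndex_left H K, relIndex_mul_index inf_le_left]
  have h2 : K.index ∣ K.relIndex H := by
    refine h.symm.dvd_of_dvd_mul_right ?_
    rw [← h1]
    exact index_dvd_of_le inf_le_right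
  have h3 : (H ⊓ K).index ≤ H.index * K.index := index_inf_le
  have h4 : K.relIndex H ≤ K.index := by
    rw [h1, mul_comm H.index] at h3
    exact Nat.le_of_mul_le_mul_right h3 (Nat.pos_of_ne_zero index_ne_zero_of_finite)
  have h5 : K.relIndex H = K.index :=
    le_antisymm h4 (Nat.le_of_dvd (Nat.pos_of_ne_zero fun h0 =>
      index_ne_zero_of_finite (H := H ⊓ K) (by rw [h1, h0, zero_mul])) h2)
  exact ⟨by rw [h1, h5, mul_comm], h5⟩

/-- Dedekind: if `N` is normal and `N ≤ M`, then `M ⊓ (N ⊔ H) = N ⊔ (M ⊓ H)`. -/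
theorem dedekind_normal (N H M : Subgroup G) [N.Normal] (hNM : N ≤ M) :
    M ⊓ (N ⊔ H) = N ⊔ (M ⊓ H) := by
  refine le_antisymm ?_ (le_inf (sup_le hNM inf_le_left) (sup_le_sup_left inf_le_right N))
  rintro x ⟨hxM, hx⟩
  obtain ⟨n, hn, h, hh, rfl⟩ := mem_sup_of_normal_left.mp hx
  refine mul_mem_sup hn ⟨?_, hh⟩
  simpa using M.mul_mem (M.inv_mem (hNM hn)) hxM

theorem exists_coatom_ge [Finite G] {H : Subgroup G} (h : H ≠ ⊤) :
    ∃ M : Subgroup G, IsCoatom M ∧ H ≤ M :=
  ((IsCoatomic.eq_top_or_exists_le_coatom H).resolve_left h)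

/-- A normal maximal subgroup of a finite group has prime index. -/
theorem prime_index_of_coatom_normal [Finite G] (M : Subgroup G) [M.Normal] (hM : IsCoatom M) :
    M.index.Prime := by
  obtain ⟨q, hq, hqd⟩ := Nat.exists_prime_and_dvd (n := M.index)
    (fun h => hM.1 (index_eq_one.mp h))
  haveI : Fact q.Prime := ⟨hq⟩
  rw [index_eq_card] at hqd ⊢
  obtain ⟨x, hx⟩ := exists_prime_orderOf_dvd_card' q hqd
  have hne : (zpowers x).comap (QuotientGroup.mk' M) = ⊤ := by
    refine hM.2 _ (lt_of_le_of_ne (fun m hm => ?_) ?_)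
    · rw [mem_comap, QuotientGroup.mk'_apply, (QuotientGroup.eq_one_iff m).mpr hm]
      exact one_mem _
    · intro h
      have h' := congrArg (Subgroup.map (QuotientGroup.mk' M)) h
      rw [map_comap_eq_self_of_surjective (QuotientGroup.mk'_surjective M),
        QuotientGroup.map_mk'_self, eq_comm, zpowers_eq_bot] at h'
      rw [h', orderOf_one] at hx
      exact hq.one_lt.ne hx
  have htop : zpowers x = ⊤ := by
    rw [← map_comap_eq_self_of_surjective (QuotientGroup.mk'_surjective M) (zpowers x), hne,
      map_top_of_surjective _ (QuotientGroup.mk'_surjective M)]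
  have : Nat.card (G ⧸ M) = q := by rw [← card_top, ← htop, Nat.card_zpowers, hx]
  rw [this]; exact hq

theorem coatom_normal_of_isNilpotent [Finite G] (hG : Group.IsNilpotent G) (M : Subgroup G)
    (hM : IsCoatom M) : M.Normal :=
  ((Group.isNilpotent_of_finite_tfae (G := G)).out 0 2 rfl rfl).mp hG M hM

/-- In a finite nilpotent group a nontrivial normal subgroup meets the centre. -/
theorem inf_center_ne_bot [Finite G] [Group.IsNilpotent G] (N : Subgroup G) [N.Normal]
    (hN : N ≠ ⊥) : N ⊓ center G ≠ ⊥ := by
  rename_i hn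
  revert hn
  induction N using WellFoundedLT.induction with
  | _ N ih =>
    intro hn
    haveI := hn
    by_cases h : ⁅N, (⊤ : Subgroup G)⁆ = ⊥
    · rw [commutator_top_right_eq_bot_iff_le_center] at h
      rwa [inf_eq_left.mpr h]
    · have hlt : ⁅N, (⊤ : Subgroup G)⁆ < N :=
        commutator_lt_of_nilpotent (Group.isNilpotent_top.mpr inferInstance) le_top
          le_normalizer_of_normal hN
      haveI := commutator_normal N (⊤ : Subgroup G)
      exact fun h' => ih _ hlt h
        (eq_bot_iff.mpr ((inf_le_inf_right _ hlt.le).trans h'.le))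

/-- If `A/B` is nilpotent with `B ≤ Φ(G)`, then `A` is nilpotent. -/
theorem isNilpotent_of_quotient_frattini [Finite G] (A B : Subgroup G) [A.Normal] [B.Normal]
    (hBA : B ≤ A) (hB : B ≤ frattini G) (h : Group.IsNilpotent (↥A ⧸ B.subgroupOf A)) :
    Group.IsNilpotent A := by
  refine ((Group.isNilpotent_of_finite_tfae (G := A)).out 0 3 rfl rfl).mpr ?_
  intro p hp P
  set f := QuotientGroup.mk' (B.subgroupOf A) with hf
  set N := ((P : Subgroup A) ⊔ B.subgroupOf A).map A.subtype with hN
  haveI hPn : ((P.mapSurjective (QuotientGroup.mk'_surjective (B.subgroupOf A)) : Sylow p _) :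
      Subgroup (↥A ⧸ B.subgroupOf A)).Normal :=
    ((Group.isNilpotent_of_finite_tfae (G := ↥A ⧸ B.subgroupOf A)).out 0 3 rfl rfl).mp h p hp _
  have hPA : ((P : Subgroup A) ⊔ B.subgroupOf A).Normal := by
    have h2 : ((((P : Subgroup A)).map f).comap f).Normal := by
      rw [Sylow.coe_mapSurjective] at hPn
      exact Normal.comap hPn f
    rwa [comap_map_eq, hf, QuotientGroup.ker_mk'] at h2
  haveI hNn : N.Normal := by
    constructor
    intro x hx g
    let c : A →* A := (MulAut.conjNormal g).toMonoidHom
    obtain ⟨y, hy, rfl⟩ := hx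
    have hP' : IsPGroup p ↥((P : Subgroup A).map c) := P.isPGroup'.map c
    obtain ⟨Q, hQ⟩ := hP'.exists_le_sylow
    obtain ⟨a, ha⟩ := MulAction.exists_smul_eq A P Q
    have hle : ((P : Subgroup A) ⊔ B.subgroupOf A).map c ≤ (P : Subgroup A) ⊔ B.subgroupOf A := by
      rw [Subgroup.map_sup]
      refine sup_le (hQ.trans ?_) (le_sup_of_le_right ?_)
      · rw [← ha, Sylow.coe_subgroup_smul]
        refine le_trans (smul_mono_right _ (le_sup_left : (P : Subgroup A) ≤ (P : Subgroup A) ⊔ B.subgroupOf A)) ?_
        intro z hz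
        rw [mem_conj_smul] at hz
        simpa [mul_assoc] using hPA.conj_mem _ hz a
      · rintro _ ⟨z, hz, rfl⟩
        change ((MulAut.conjNormal g z : A) : G) ∈ B
        rw [MulAut.conjNormal_apply]
        exact (inferInstance : B.Normal).conj_mem _ hz g
    exact ⟨c y, hle (mem_map_of_mem c hy), MulAut.conjNormal_apply g y⟩
  have hPN : (P : Subgroup A).map A.subtype ≤ N := map_mono le_sup_left
  have hnd : ¬ p ∣ (((P : Subgroup A).map A.subtype).subgroupOf N).index := by
    intro hd
    refine P.not_dvd_index (hd.trans ?_)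
    change ((P : Subgroup A).map A.subtype).relIndex N ∣ _
    rw [hN, relIndex_map_map_of_injective _ _ A.subtype_injective]
    exact Dvd.intro _ (relIndex_mul_index le_sup_left)
  have hpg : IsPGroup p ↥(((P : Subgroup A).map A.subtype).subgroupOf N) :=
    (P.isPGroup'.map A.subtype).comap_subtype
  have hfr := Sylow.normalizer_sup_eq_top (N := N) (hpg.toSylow hnd)
  rw [IsPGroup.toSylow_coe, map_subgroupOf_eq_of_le hPN] at hfr
  have hBle : N ≤ normalizer (((P : Subgroup A).map A.subtype : Subgroup G) : Set G) ⊔ frattini G := by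
    rw [hN, Subgroup.map_sup, map_subgroupOf_eq_of_le hBA]
    exact sup_le (le_sup_of_le_left le_normalizer) (le_sup_of_le_right hB)
  have hnor : normalizer (((P : Subgroup A).map A.subtype : Subgroup G) : Set G) = ⊤ :=
    frattini_nongenerating (top_le_iff.mp (hfr.ge.trans (sup_le le_sup_left hBle)))
  exact (normalizer_eq_top_iff.mp hnor).of_map_subtype

theorem isNilpotent_of_quotient_frattini_top [Finite G]
    (h : Group.IsNilpotent (G ⧸ frattini G)) : Group.IsNilpotent G := by
  refine Group.isNilpotent_top.mp (isNilpotent_of_quotient_frattini ⊤ (frattini G) le_top le_rfl ?_)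
  let f : ↥(⊤ : Subgroup G) →* G ⧸ frattini G := (QuotientGroup.mk' _).comp (⊤ : Subgroup G).subtype
  have hfs : Function.Surjective f := fun x => by
    obtain ⟨g, rfl⟩ := QuotientGroup.mk'_surjective _ x
    exact ⟨⟨g, mem_top g⟩, rfl⟩
  have hker : f.ker = (frattini G).subgroupOf ⊤ := by
    ext x
    simp [f, mem_subgroupOf]
  exact (Group.isNilpotent_congr ((QuotientGroup.quotientMulEquivOfEq hker.symm).trans
    (QuotientGroup.quotientKerEquivOfSurjective f hfs))).mpr h

theorem frattini_map_subtype_le [Finite G] (H : Subgroup G) [H.Normal] :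
    (frattini H).map H.subtype ≤ frattini G := by
  refine le_iInf fun M => le_iInf fun hM => ?_
  by_contra hle
  haveI : ((frattini H).map H.subtype).Normal := inferInstance
  have htop : (frattini H).map H.subtype ⊔ M = ⊤ :=
    hM.2 _ (lt_of_le_of_ne le_sup_right fun h => hle (h ▸ le_sup_left))
  have h1 := dedekind_normal ((frattini H).map H.subtype) M H (map_subtype_le _)
  rw [htop, inf_top_eq] at h1
  have h2 : M.subgroupOf H = ⊤ := by
    apply frattini_nongenerating
    apply map_injective H.subtype_injective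
    rw [Subgroup.map_sup, subgroupOf_map_subtype, ← MonoidHom.range_eq_map, range_subtype,
      sup_comm, inf_comm, ← h1]
  exact hle ((map_subtype_le _).trans (subgroupOf_eq_top.mp h2))

theorem index_sylow_inf_subnormal [Finite G] {p : ℕ} [Fact p.Prime] (H : Subgroup G)
    (hH : H.IsSubnormal) (S : Sylow p G) : ¬ p ∣ ((S : Subgroup G).subgroupOf H).index := by
  induction hH with
  | top =>
    intro h
    exact S.not_dvd_index (h.trans (by
      change (S : Subgroup G).relIndex ⊤ ∣ _
      rw [relIndex_top_right]))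
  | step H K hle _ hN ih =>
    intro h
    apply ih
    haveI := hN
    have e1 := relIndex_sup_right (((S : Subgroup G).subgroupOf K)) (H.subgroupOf K)
    change p ∣ (S : Subgroup G).relIndex K
    have e2 : (S : Subgroup G).relIndex H * H.relIndex K =
        ((S : Subgroup G) ⊓ H).relIndex K := by
      rw [← inf_relIndex_right (S : Subgroup G) H]
      exact relIndex_mul_relIndex _ _ _ inf_le_right hle
    have e3 : ((S : Subgroup G) ⊓ H).relIndex K =
        H.relIndex ((S : Subgroup G) ⊓ K) * (S : Subgroup G).relIndex K := by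
      rw [inf_comm (S : Subgroup G) H, relIndex_inf_mul_relIndex]
    have hd : H.relIndex ((S : Subgroup G) ⊓ K) ∣ H.relIndex K := by
      have h1 := relIndex_dvd_index_of_normal (H.subgroupOf K) ((S : Subgroup G).subgroupOf K)
      rw [← inf_subgroupOf_right (S : Subgroup G) K, relIndex_subgroupOf inf_le_right] at h1
      exact h1
    have hpos : 0 < H.relIndex ((S : Subgroup G) ⊓ K) := Nat.pos_of_ne_zero index_ne_zero_of_finite
    obtain ⟨c, hc⟩ := hd
    refine h.trans (Dvd.intro c (Nat.eq_of_mul_eq_mul_left hpos ?_))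
    rw [← e3, ← e2, hc]
    unfold relIndex
    ring

end Cfsg.Agent.Solv
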