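import Cfsg.Prelude.Def_Solvable
import Cfsg.Agent.Lib.Solv.FpfNilpotent
import Cfsg.Agent.Lib.Solv.Misc
import Cfsg.Agent.Lib.Struct.Frobenius

/-!
Structure of solvable groups: Frattini-free Fitting subgroup, core-free maximal subgroups, abelian
maximal subgroups, Kegel's lemma on permutable conjugates.
-/

set_option autoImplicit false
set_option linter.style.haveILetI false

namespace Cfsg.Agent.Solv

open Subgroup
open scoped Pointwise commutatorElement

universe u

variable {G : Type u} [Group G]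

theorem commutator_le_frattini [Finite G] [Group.IsNilpotent G] : commutator G ≤ frattini G := by
  refine le_iInf fun Y => le_iInf fun hY => ?_
  haveI := coatom_normal_of_isNilpotent inferInstance Y hY
  haveI := Fact.mk (prime_index_of_coatom_normal Y hY)
  haveI : IsCyclic (G ⧸ Y) := isCyclic_of_prime_card (p := Y.index) (index_eq_card Y).symm
  rw [commutator_def, commutator_le]
  intro a _ b _
  rw [← QuotientGroup.eq_one_iff]
  change QuotientGroup.mk' Y ⁅a, b⁆ = 1
  rw [map_commutatorElement, commutatorElement_eq_one_iff_mul_comm]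
  exact (IsCyclic.commGroup (α := G ⧸ Y)).mul_comm _ _

theorem fitting_eq_sSup_of_frattini_eq_bot [Finite G] (hΦ : frattini G = ⊥) :
    Cfsg.fittingSubgroup G = sSup {N : Subgroup G | N.Normal ∧ N ≠ ⊥ ∧ IsMulCommutative N ∧
      ∀ K : Subgroup G, K.Normal → K ≤ N → K = ⊥ ∨ K = N} := by
  set F := Cfsg.fittingSubgroup G
  set S := sSup {N : Subgroup G | N.Normal ∧ N ≠ ⊥ ∧ IsMulCommutative N ∧
      ∀ K : Subgroup G, K.Normal → K ≤ N → K = ⊥ ∨ K = N}
  haveI hFn : Group.IsNilpotent F := fittingSubgroup_isNilpotent G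
  haveI hSn : S.Normal := Subgroup.sSup_normal _ fun N h => h.1
  have hSF : S ≤ F := by
    refine sSup_le fun N hN => ?_
    haveI := hN.1
    haveI := hN.2.2.1
    letI : CommGroup N := { (inferInstance : Group N) with mul_comm := fun a b => mul_comm' a b }
    exact le_fittingSubgroup CommGroup.isNilpotent
  have hFab : ∀ a ∈ F, ∀ b ∈ F, a * b = b * a := by
    intro a ha b hb
    have h1 : commutator F ≤ frattini F := commutator_le_frattini
    have h2 := (map_mono (f := F.subtype) h1).trans (frattini_map_subtype_le F)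
    rw [hΦ, map_subtype_commutator] at h2
    rw [← commutatorElement_eq_one_iff_mul_comm, ← mem_bot]
    exact h2 (commutator_mem_commutator ha hb)
  obtain ⟨L, hL⟩ := (Set.toFinite {L : Subgroup G | S ⊔ L = ⊤}).exists_minimal ⟨⊤, sup_top_eq S⟩
  have htop : S ⊔ L = ⊤ := hL.1
  have hSL : S ⊓ L = ⊥ := by
    haveI : (S ⊓ L).Normal := by
      refine normalizer_eq_top_iff.mp (top_le_iff.mp ?_)
      rw [← htop]
      refine sup_le (le_trans ?_ (centralizer_le_normalizer _))
        (le_normalizer_inf le_normalizer_of_normal le_normalizer)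
      exact fun x hx y hy => hFab y (hSF hy.1) x (hSF hx)
    rw [eq_bot_iff, ← hΦ]
    refine le_iInf fun M => le_iInf fun hM => ?_
    by_contra hle
    have hMtop : (S ⊓ L) ⊔ M = ⊤ :=
      hM.2 _ (lt_of_le_of_ne le_sup_right fun e => hle (e ▸ le_sup_left))
    have h1 := dedekind_normal (S ⊓ L) M L inf_le_right
    rw [hMtop, inf_top_eq] at h1
    have h2 : S ⊔ (L ⊓ M) = ⊤ := by
      rw [eq_top_iff, ← htop]
      exact sup_le le_sup_left (h1.le.trans (sup_le_sup_right inf_le_left _))
    exact hle (inf_le_right.trans ((hL.2 h2 inf_le_left).trans inf_le_right))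
  refine le_antisymm ?_ hSF
  have h1 := dedekind_normal S L F hSF
  rw [htop, inf_top_eq] at h1
  haveI : (F ⊓ L).Normal := by
    refine normalizer_eq_top_iff.mp (top_le_iff.mp ?_)
    rw [← htop]
    refine sup_le (le_trans ?_ (centralizer_le_normalizer _))
      (le_normalizer_inf le_normalizer_of_normal le_normalizer)
    exact fun x hx y hy => hFab y hy.1 x (hSF hx)
  have hb : F ⊓ L = ⊥ := by
    by_contra hne
    obtain ⟨M, hMn, hMle, hMb, hMmin⟩ := exists_minimal_normal_le hne
    have hMS : M ≤ S := le_sSup ⟨hMn, hMb,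
      ⟨⟨fun a b => Subtype.ext (hFab a (hMle a.2).1 b (hMle b.2).1)⟩⟩, hMmin⟩
    exact hMb (eq_bot_iff.mpr (hSL ▸ le_inf hMS (hMle.trans inf_le_right)))
  rw [h1, hb, sup_bot_eq]

/-- Data of a primitive solvable group. -/
theorem coatom_minimal_normal_complement [Finite G] (U N : Subgroup G) [N.Normal]
    [IsMulCommutative N] (hU : IsCoatom U) (hUc : U.normalCore = ⊥) (hN : N ≠ ⊥) :
    N ⊔ U = ⊤ ∧ N ⊓ U = ⊥ ∧ centralizer (N : Set G) = N := by
  have hNU : ¬ N ≤ U := fun h => hN (eq_bot_iff.mpr (hUc ▸ normal_le_normalCore.mpr h))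
  have htop : N ⊔ U = ⊤ := hU.2 _ (lt_of_le_of_ne le_sup_right fun e => hNU (e ▸ le_sup_left))
  have key : ∀ X : Subgroup G, X ≤ U → U ≤ normalizer (X : Set G) → N ≤ centralizer (X : Set G) →
      X = ⊥ := by
    intro X hXU hU' hNX
    haveI : X.Normal := normalizer_eq_top_iff.mp (top_le_iff.mp
      (htop ▸ sup_le (hNX.trans (centralizer_le_normalizer _)) hU'))
    exact eq_bot_iff.mpr (hUc ▸ normal_le_normalCore.mpr hXU)
  have hNab : N ≤ centralizer (N : Set G) := le_centralizer_iff_isMulCommutative.mpr inferInstance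
  refine ⟨htop, key _ inf_le_right (le_normalizer_inf le_normalizer_of_normal le_normalizer)
    (hNab.trans (centralizer_le fun _ hx => hx.1)), le_antisymm ?_ hNab⟩
  intro c hc
  obtain ⟨n, hn, u, hu, rfl⟩ := mem_sup_of_normal_left.mp (htop ▸ mem_top c)
  have hu' : u ∈ U ⊓ centralizer (N : Set G) := ⟨hu, by simpa using mul_mem (inv_mem (hNab hn)) hc⟩
  rw [key (U ⊓ centralizer (N : Set G)) inf_le_left
    (le_normalizer_inf le_normalizer le_normalizer_of_normal)
    (le_centralizer_iff.mp inf_le_right), mem_bot] at hu'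
  simpa [hu'] using hn

theorem coatom_conj_of_core_bot [Finite G] [Group.IsSolvable G] {U V : Subgroup G}
    (hU : IsCoatom U) (hV : IsCoatom V) (hUc : U.normalCore = ⊥) (hVc : V.normalCore = ⊥) :
    ∃ g : G, MulAut.conj g • U = V := by
  haveI : Nontrivial G := by
    by_contra h
    rw [not_nontrivial_iff_subsingleton] at h
    exact hU.1 (Subsingleton.elim _ _)
  obtain ⟨N, hN, -, hNb, hNmin⟩ := exists_minimal_normal_le (N := (⊤ : Subgroup G))
    (fun h => bot_ne_top h.symm)
  haveI := hN
  obtain ⟨hNab, p, hp, hexp⟩ := minimal_normal_elementary N hNb hNmin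
  haveI := hNab
  haveI := Fact.mk hp
  obtain ⟨hUt, hUi, hUcen⟩ := coatom_minimal_normal_complement U N hU hUc hNb
  obtain ⟨hVt, hVi, -⟩ := coatom_minimal_normal_complement V N hV hVc hNb
  have hNp : IsPGroup p N := fun x => ⟨1, by rw [pow_one]; exact Subtype.ext (hexp x x.2)⟩
  by_cases hNt : N = ⊤
  · exact ⟨1, by rw [map_one, one_smul,
      show U = ⊥ by simpa [hNt] using hUi, show V = ⊥ by simpa [hNt] using hVi]⟩
  haveI : Nontrivial (G ⧸ N) := by
    by_contra h
    rw [not_nontrivial_iff_subsingleton] at h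
    exact hNt (index_eq_one.mp ((index_eq_card N).trans (Nat.card_of_subsingleton (1 : G ⧸ N))))
  obtain ⟨Lb, hLb, -, hLbb, hLmin⟩ := exists_minimal_normal_le (N := (⊤ : Subgroup (G ⧸ N)))
    (fun h => bot_ne_top h.symm)
  haveI := hLb
  obtain ⟨-, q, hq, hqexp⟩ := minimal_normal_elementary Lb hLbb hLmin
  haveI := Fact.mk hq
  set f := QuotientGroup.mk' N with hf
  set L := Lb.comap f with hLdef
  haveI : L.Normal := hLb.comap f
  have hNL : N ≤ L := by
    rw [← QuotientGroup.ker_mk' N]; exact ker_le_comap _ _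
  have hLbp : IsPGroup q Lb := fun x => ⟨1, by rw [pow_one]; exact Subtype.ext (hqexp x x.2)⟩
  have hLcard : Nat.card L = Nat.card N * Nat.card Lb := card_comap_mk' N Lb
  have hqp : q ≠ p := by
    rintro rfl
    have hLp : IsPGroup q L := by
      obtain ⟨i, hi⟩ := IsPGroup.iff_card.mp hNp
      obtain ⟨j, hj⟩ := IsPGroup.iff_card.mp hLbp
      exact IsPGroup.of_card (n := i + j) (by rw [hLcard, hi, hj, pow_add])
    haveI := hLp.isNilpotent
    have h1 := inf_center_ne_bot (N.subgroupOf L)
      (fun e => hNb (by rw [← map_subgroupOf_eq_of_le hNL, e, Subgroup.map_bot]))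
    haveI : (centralizer (L : Set G)).Normal := inferInstance
    rcases hNmin (N ⊓ centralizer (L : Set G)) inferInstance inf_le_left with e | e
    · refine h1 (eq_bot_iff.mpr fun x hx => ?_)
      have hx' : (x : G) ∈ N ⊓ centralizer (L : Set G) :=
        ⟨hx.1, fun y hy => congrArg Subtype.val (mem_center_iff.mp hx.2 ⟨y, hy⟩)⟩
      rw [e, mem_bot] at hx'
      exact mem_bot.mpr (Subtype.ext hx')
    · have h2 : L ≤ N := hUcen ▸ le_centralizer_iff.mp (inf_eq_left.mp e)
      refine hLbb (eq_bot_iff.mpr ?_)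
      rw [← map_comap_eq_self_of_surjective (QuotientGroup.mk'_surjective N) Lb,
        ← QuotientGroup.map_mk'_self N]
      exact map_mono h2
  -- complements inside `L`
  have hcompl : ∀ W : Subgroup G, N ⊔ W = ⊤ → N ⊓ W = ⊥ →
      N ⊔ (L ⊓ W) = L ∧ Nat.card ↥(L ⊓ W) = Nat.card Lb := by
    intro W ht hi
    have h1 := dedekind_normal N W L hNL
    rw [ht, inf_top_eq] at h1
    refine ⟨h1.symm, ?_⟩
    have h2 := card_sup_mul_card_inf N (L ⊓ W) le_normalizer_of_normal
    rw [← h1, hLcard, show N ⊓ (L ⊓ W) = ⊥ from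
      eq_bot_iff.mpr (hi ▸ inf_le_inf_left N inf_le_right), card_bot, mul_one] at h2
    exact (Nat.eq_of_mul_eq_mul_left Nat.card_pos h2).symm
  obtain ⟨hU1, hU2⟩ := hcompl U hUt hUi
  obtain ⟨hV1, hV2⟩ := hcompl V hVt hVi
  have hcop : (Nat.card N).Coprime (Nat.card Lb) := by
    obtain ⟨i, hi⟩ := IsPGroup.iff_card.mp hNp
    obtain ⟨j, hj⟩ := IsPGroup.iff_card.mp hLbp
    rw [hi, hj]
    exact Nat.coprime_pow_primes _ _ hp hq (Ne.symm hqp)
  obtain ⟨n, -, hn⟩ := conj_of_card_eq N (L ⊓ U) (L ⊓ V) (Or.inl inferInstance)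
    le_normalizer_of_normal (by rw [hU1]; exact inf_le_left) (hV2.trans hU2.symm) (hU2.symm ▸ hcop)
  refine ⟨n, ?_⟩
  have hWb : L ⊓ V ≠ ⊥ := fun e => hLbb (Subgroup.card_eq_one.mp (by rw [← hV2, e, card_bot]))
  have hne : normalizer ((L ⊓ V : Subgroup G) : Set G) ≠ ⊤ := fun e => by
    haveI := normalizer_eq_top_iff.mp e
    exact hWb (eq_bot_iff.mpr (hVc ▸ normal_le_normalCore.mpr inf_le_right))
  have hVn : normalizer ((L ⊓ V : Subgroup G) : Set G) = V :=
    ((le_normalizer_inf le_normalizer_of_normal le_normalizer : V ≤ _).lt_or_eq.resolve_left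
      fun hlt => hne (hV.2 _ hlt)).symm
  have hUn : MulAut.conj n • U ≤ V := by
    rw [← hVn, ← hn]
    refine le_normalizer_of_conj_mem fun x hx y hy => ?_
    rw [mem_conj_smul] at hx hy ⊢
    have h3 : n⁻¹ * (x * y * x⁻¹) * n = (n⁻¹ * x * n) * (n⁻¹ * y * n) * (n⁻¹ * x * n)⁻¹ := by group
    rw [h3]
    exact ⟨Normal.conj_mem inferInstance _ hy.1 _, U.mul_mem (U.mul_mem hx hy.2) (U.inv_mem hx)⟩
  have hUc' : IsCoatom (MulAut.conj n • U : Subgroup G) :=
    (OrderIso.isCoatom_iff (MulAut.conj n).mapSubgroup U).mpr hU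
  exact hUn.lt_or_eq.resolve_left fun hlt => hV.1 (hUc'.2 _ hlt)

theorem exists_normal_sylow_aux : ∀ (n : ℕ) (G : Type u) [Group G] [Finite G] [Group.IsSolvable G]
    [Nontrivial G], Nat.card G ≤ n →
    (∀ M : Subgroup G, IsCoatom M → (Nat.card M).Coprime M.index) →
    ∃ p : ℕ, p.Prime ∧ p ∣ Nat.card G ∧ ∀ P : Sylow p G, (P : Subgroup G).Normal := by
  intro n
  induction n with
  | zero => intro G _ _ _ _ hn; exact absurd hn (not_le.mpr Nat.card_pos)
  | succ n ih =>
    intro G _ _ _ _ hn h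
    obtain ⟨N, hN, -, hNb, hNmin⟩ := exists_minimal_normal_le (N := (⊤ : Subgroup G))
      (fun h => bot_ne_top h.symm)
    haveI := hN
    obtain ⟨hNab, p, hp, hexp⟩ := minimal_normal_elementary N hNb hNmin
    haveI := hNab
    haveI := Fact.mk hp
    have hNp : IsPGroup p N := fun x => ⟨1, by rw [pow_one]; exact Subtype.ext (hexp x x.2)⟩
    obtain ⟨i, hi⟩ := IsPGroup.iff_card.mp hNp
    have hpN : p ∣ Nat.card N := by
      rcases i with _ | i
      · rw [pow_zero] at hi; exact absurd (Subgroup.card_eq_one.mp hi) hNb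
      · rw [hi]; exact dvd_pow_self p i.succ_ne_zero
    have hpG : p ∣ Nat.card G := hpN.trans N.card_subgroup_dvd_card
    by_cases hfr : ∃ M : Subgroup G, IsCoatom M ∧ ¬ N ≤ M
    · obtain ⟨M, hM, hle⟩ := hfr
      have htop : N ⊔ M = ⊤ := hM.2 _ (lt_of_le_of_ne le_sup_right fun e => hle (e ▸ le_sup_left))
      have hc := card_sup_mul_card_inf N M le_normalizer_of_normal
      rw [htop, card_top] at hc
      have hdvd : M.index ∣ Nat.card N := by
        refine ⟨Nat.card ↥(N ⊓ M), Nat.eq_of_mul_eq_mul_right (Nat.card_pos (α := M)) ?_⟩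
        rw [← hc, ← M.index_mul_card]
        ring
      obtain ⟨j, -, hj⟩ := (Nat.dvd_prime_pow hp).mp (hi ▸ hdvd)
      have hj0 : j ≠ 0 := fun e => hM.1 (index_eq_one.mp (by rw [hj, e, pow_zero]))
      have hpM : ¬ p ∣ Nat.card M := fun hd => hp.one_lt.ne'
        (Nat.eq_one_of_dvd_coprimes (h M hM) hd (hj ▸ dvd_pow_self p hj0))
      have hNM : N ⊓ M = ⊥ := by
        refine inf_eq_bot_of_coprime_card N M ?_
        rw [hi]
        exact ((hp.coprime_iff_not_dvd.mpr hpM)).pow_left i
      have hidx : ¬ p ∣ N.index := by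
        rw [hNM, card_bot, mul_one, ← N.index_mul_card, mul_comm] at hc
        rwa [Nat.eq_of_mul_eq_mul_left Nat.card_pos hc]
      refine ⟨p, hp, hpG, fun P => ?_⟩
      obtain ⟨g, hg⟩ := MulAction.exists_smul_eq G (hNp.toSylow hidx) P
      haveI : ((hNp.toSylow hidx : Sylow p G) : Subgroup G).Normal := by
        rw [IsPGroup.toSylow_coe]; infer_instance
      rw [Sylow.smul_eq_of_normal] at hg
      exact hg ▸ inferInstance
    push Not at hfr
    have hNt : N ≠ ⊤ := fun e => by
      obtain ⟨M, hM, -⟩ := exists_coatom_ge (G := G) (H := ⊥) bot_ne_top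
      exact hM.1 (top_le_iff.mp (e ▸ hfr M hM))
    haveI : Nontrivial (G ⧸ N) := by
      by_contra h
      rw [not_nontrivial_iff_subsingleton] at h
      exact hNt (index_eq_one.mp ((index_eq_card N).trans (Nat.card_of_subsingleton (1 : G ⧸ N))))
    set f := QuotientGroup.mk' N with hf
    have hfs : Function.Surjective f := QuotientGroup.mk'_surjective N
    have hlt : Nat.card (G ⧸ N) < Nat.card G := by
      rw [card_eq_card_quotient_mul_card_subgroup N]
      exact lt_mul_of_one_lt_right Nat.card_pos ((one_lt_card_iff_ne_bot N).mpr hNb)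
    obtain ⟨q, hq, hqd, hQ⟩ := ih (G ⧸ N) (by omega) fun Mb hMb => by
      have hcoat : IsCoatom (Mb.comap f) := by
        refine ⟨fun e => hMb.1 (comap_injective hfs (e.trans (comap_top _).symm)), fun Y hY => ?_⟩
        have hker : f.ker ≤ Y := (ker_le_comap _ _).trans hY.le
        rw [← comap_map_eq_self hker, hMb.2 (Y.map f) ?_, comap_top]
        rwa [← comap_lt_comap_of_surjective hfs, comap_map_eq_self hker]
      have := h _ hcoat
      rw [index_comap_of_surjective _ hfs, card_comap_mk'] at this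
      exact this.coprime_dvd_left (dvd_mul_left _ _)
    haveI := Fact.mk hq
    refine ⟨q, hq, hqd.trans (card_quotient_dvd_card N), fun Q => ?_⟩
    have hQb := hQ (Q.mapSurjective hfs)
    rw [Sylow.coe_mapSurjective] at hQb
    haveI hQN : ((Q : Subgroup G) ⊔ N).Normal := by
      have h2 := Normal.comap hQb f
      rwa [comap_map_eq, hf, QuotientGroup.ker_mk'] at h2
    have hfrat := Sylow.normalizer_sup_eq_top' Q
      (le_sup_left : (Q : Subgroup G) ≤ (Q : Subgroup G) ⊔ N)
    refine normalizer_eq_top_iff.mp ?_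
    by_contra hne
    obtain ⟨M, hM, hleM⟩ := exists_coatom_ge hne
    exact hM.1 (top_le_iff.mp (hfrat.symm.le.trans
      (sup_le hleM (sup_le (le_normalizer.trans hleM) (hfr M hM)))))

/-- An abelian maximal subgroup forces derived length at most three. -/
theorem derivedSeries_three_of_abelian_coatom [Finite G] (A : Subgroup G) (hA : IsCoatom A)
    [hab : IsMulCommutative A] : derivedSeries G 3 = ⊥ := by
  suffices h2 : derivedSeries G 2 ≤ A by
    change ⁅derivedSeries G 2, derivedSeries G 2⁆ = ⊥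
    rw [eq_bot_iff, commutator_le]
    intro a ha b hb
    rw [mem_bot, commutatorElement_eq_one_iff_mul_comm]
    exact congrArg Subtype.val (hab.is_comm.comm (⟨a, h2 ha⟩ : A) ⟨b, h2 hb⟩)
  by_cases hn : A.Normal
  · haveI := hn
    haveI := Fact.mk (prime_index_of_coatom_normal A hA)
    haveI : IsCyclic (G ⧸ A) := isCyclic_of_prime_card (p := A.index) (index_eq_card A).symm
    refine (derivedSeries_antitone G (show 1 ≤ 2 by norm_num)).trans ?_
    change ⁅derivedSeries G 0, derivedSeries G 0⁆ ≤ A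
    rw [commutator_le]
    intro a _ b _
    rw [← QuotientGroup.eq_one_iff]
    change QuotientGroup.mk' A ⁅a, b⁆ = 1
    rw [map_commutatorElement, commutatorElement_eq_one_iff_mul_comm]
    exact (IsCyclic.commGroup (α := G ⧸ A)).mul_comm _ _
  set C := A.normalCore
  set f := QuotientGroup.mk' C with hf
  have hfs : Function.Surjective f := QuotientGroup.mk'_surjective C
  have hker : f.ker ≤ A := by rw [hf, QuotientGroup.ker_mk']; exact normalCore_le A
  set Ab := A.map f
  have hcomap : Ab.comap f = A := comap_map_eq_self hker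
  have hAb : IsCoatom Ab := by
    refine ⟨fun e => hA.1 (by rw [← hcomap, e, comap_top]), fun X hX => ?_⟩
    have hAX : A < X.comap f := by
      exact lt_of_eq_of_lt hcomap.symm ((comap_lt_comap_of_surjective hfs).mpr hX)
    exact comap_injective hfs ((hA.2 _ hAX).trans (comap_top f).symm)
  have hcore : Ab.normalCore = ⊥ := by
    have h1 : (Ab.normalCore).comap f ≤ C := by
      refine normal_le_normalCore.mpr ?_
      exact (comap_mono (normalCore_le Ab)).trans hcomap.le
    rw [← map_comap_eq_self_of_surjective hfs Ab.normalCore, eq_bot_iff,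
      ← QuotientGroup.map_mk'_self C]
    exact map_mono h1
  have habb : ∀ x ∈ Ab, ∀ y ∈ Ab, x * y = y * x := by
    rintro _ ⟨a, ha, rfl⟩ _ ⟨b, hb, rfl⟩
    rw [← map_mul, ← map_mul]
    exact congrArg f (congrArg Subtype.val (hab.is_comm.comm (⟨a, ha⟩ : A) ⟨b, hb⟩))
  -- it suffices to treat the quotient
  suffices h : derivedSeries (G ⧸ C) 2 = ⊥ by
    have h' := map_derivedSeries_le_derivedSeries f 2
    rw [h, le_bot_iff, Subgroup.map_eq_bot_iff, hf, QuotientGroup.ker_mk'] at h'
    exact h'.trans (normalCore_le A)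
  by_cases hb : Ab = ⊥
  · exfalso
    refine hn ?_
    have : A = C := le_antisymm (by
      rw [← hcomap, hb, MonoidHom.comap_bot, hf, QuotientGroup.ker_mk']) (normalCore_le A)
    rw [this]; infer_instance
  have hnorm : normalizer (Ab : Set (G ⧸ C)) = Ab := by
    refine ((le_normalizer (H := Ab)).lt_or_eq.elim (fun hlt => ?_) Eq.symm)
    haveI := normalizer_eq_top_iff.mp (hAb.2 _ hlt)
    exact absurd (eq_bot_iff.mpr (hcore ▸ normal_le_normalCore.mpr le_rfl)) hb
  have hF : Cfsg.IsFrobeniusComplement Ab := by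
    refine ⟨hb, hAb.1, fun g hg => ?_⟩
    have hne : MulAut.conj g • Ab ≠ Ab := fun e => hg (by
      rw [← hnorm, mem_normalizer_iff]
      intro x
      conv_rhs => rw [← e, mem_conj_smul]
      simp [mul_assoc])
    have hcg : IsCoatom (MulAut.conj g • Ab : Subgroup (G ⧸ C)) :=
      (OrderIso.isCoatom_iff (MulAut.conj g).mapSubgroup Ab).mpr hAb
    have hjoin : Ab ⊔ MulAut.conj g • Ab = ⊤ := by
      refine hAb.2 _ (lt_of_le_of_ne le_sup_left fun e => hne ?_)
      have hle : MulAut.conj g • Ab ≤ Ab := le_sup_right.trans e.ge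
      exact hle.lt_or_eq.resolve_left fun hlt => hAb.1 (hcg.2 _ hlt)
    haveI : (Ab ⊓ MulAut.conj g • Ab).Normal := by
      refine normalizer_eq_top_iff.mp (top_le_iff.mp ?_)
      rw [← hjoin]
      refine sup_le (le_trans ?_ (centralizer_le_normalizer _))
        (le_trans ?_ (centralizer_le_normalizer _))
      · exact fun x hx y hy => habb y hy.1 x hx
      · intro x hx y hy
        have h1 : y ∈ MulAut.conj g • Ab := hy.2
        rw [mem_conj_smul] at h1
        rw [mem_conj_smul] at hx
        have h2 := habb _ h1 _ hx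
        calc y * x = g * ((g⁻¹ * y * g) * (g⁻¹ * x * g)) * g⁻¹ := by group
          _ = x * y := by rw [h2]; group
    exact eq_bot_iff.mpr ((normal_le_normalCore.mpr
      (inf_le_left : Ab ⊓ MulAut.conj g • Ab ≤ Ab)).trans hcore.le)
  obtain ⟨N, hNset, hNn, hc⟩ := Cfsg.Agent.Struct.Frobenius.exists_kernel hF
  haveI := hNn
  haveI : Group.IsNilpotent N := by
    obtain ⟨p, hp, hpd⟩ := Nat.exists_prime_and_dvd (n := Nat.card Ab)
      fun h => hb (Subgroup.card_eq_one.mp h)
    haveI := Fact.mk hp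
    obtain ⟨h, hh⟩ := exists_prime_orderOf_dvd_card' p hpd
    have h1 : (h : G ⧸ C) ≠ 1 := fun e => by
      rw [← Subgroup.orderOf_coe, e, orderOf_one] at hh; exact hp.one_lt.ne hh
    refine isNilpotent_of_fpf (φ := MulAut.conjNormal (h : G ⧸ C)) (p := p) ?_ hp ?_
    · intro x hx
      have e : (h : G ⧸ C) * x * (h : G ⧸ C)⁻¹ = x := by
        rw [← MulAut.conjNormal_apply]; exact congrArg Subtype.val hx
      exact Subtype.ext (Cfsg.Agent.Struct.Frobenius.fpf_of_complement hF
        hc.disjoint h.2 h1 x.2 (mul_inv_eq_iff_eq_mul.mp e).symm)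
    · intro x
      have h2 : ∀ i, (MulAut.conjNormal (h : G ⧸ C) : N → N)^[i] x =
          MulAut.conjNormal ((h : G ⧸ C) ^ i) x := by
        intro i
        induction i with
        | zero => simp
        | succ i ih => rw [Function.iterate_succ_apply', ih, pow_succ', map_mul]; rfl
      rw [h2, ← hh, ← Subgroup.orderOf_coe, pow_orderOf_eq_one, map_one]
      rfl
  have hNA : N ⊔ Ab = ⊤ := hc.sup_eq_top
  have hNab : ⁅N, N⁆ = ⊥ := by
    by_contra hne
    have hle : ¬ ⁅N, N⁆ ≤ Ab := fun e => hne (eq_bot_iff.mpr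
      ((le_inf (commutator_le_self N) e).trans (disjoint_iff.mp hc.disjoint).le))
    have htop : ⁅N, N⁆ ⊔ Ab = ⊤ :=
      hAb.2 _ (lt_of_le_of_ne le_sup_right fun e => hle (e ▸ le_sup_left))
    have h1 := dedekind_normal ⁅N, N⁆ Ab N (commutator_le_self N)
    rw [htop, inf_top_eq, disjoint_iff.mp hc.disjoint, sup_bot_eq] at h1
    have h2 : ⁅N, N⁆ < N := commutator_lt_of_nilpotent inferInstance le_rfl le_normalizer
      fun e => by rw [e] at hNA; exact hAb.1 (by simpa using hNA)
    exact h2.ne h1.symm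
  have h1 : derivedSeries (G ⧸ C) 1 ≤ N := by
    change ⁅derivedSeries (G ⧸ C) 0, derivedSeries (G ⧸ C) 0⁆ ≤ N
    rw [commutator_le]
    intro a _ b _
    obtain ⟨n, hn, x, hx, rfl⟩ := mem_sup_of_normal_left.mp (hNA ▸ mem_top a)
    obtain ⟨m, hm, y, hy, rfl⟩ := mem_sup_of_normal_left.mp (hNA ▸ mem_top b)
    rw [← QuotientGroup.eq_one_iff]
    change QuotientGroup.mk' N ⁅n * x, m * y⁆ = 1
    have hn1 : QuotientGroup.mk' N n = 1 := (QuotientGroup.eq_one_iff n).mpr hn
    have hm1 : QuotientGroup.mk' N m = 1 := (QuotientGroup.eq_one_iff m).mpr hm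
    rw [map_commutatorElement, map_mul, map_mul, hn1, hm1, one_mul, one_mul,
      ← map_commutatorElement, commutatorElement_eq_one_iff_mul_comm.mpr (habb x hx y hy), map_one]
  exact eq_bot_iff.mpr ((commutator_mono h1 h1).trans hNab.le)

/-- Conjugates of a permuting product. -/
theorem kegel_permute [Finite G] (B : Subgroup G) : ∀ A : Subgroup G, A ≠ ⊥ →
    (∀ x : G, ∃ S : Subgroup G, S ≠ ⊤ ∧
      (S : Set G) = (A : Set G) * ((MulAut.conj x • B : Subgroup G) : Set G)) →
    ∃ N : Subgroup G, N.Normal ∧ N ≠ ⊤ ∧ (A ≤ N ∨ B ≤ N) := by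
  intro A
  induction A using WellFoundedGT.induction with
  | _ A ih =>
    intro hA h
    by_cases hBG : normalClosure (B : Set G) = ⊤
    swap
    · exact ⟨_, normalClosure_normal, hBG, Or.inr le_normalClosure⟩
    by_cases hAn : A.Normal
    · refine ⟨A, hAn, ?_, Or.inl le_rfl⟩
      rintro rfl
      obtain ⟨S, hS, hSe⟩ := h 1
      refine hS (eq_top_iff.mpr fun x _ => ?_)
      have : x ∈ (S : Set G) := by
        rw [hSe]
        exact ⟨x, mem_top x, 1, one_mem _, mul_one x⟩
      exact this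
    -- some conjugate of `B` moves `A`
    obtain ⟨g, b, hb, hbA⟩ : ∃ g : G, ∃ b ∈ MulAut.conj g • B, MulAut.conj b • A ≠ A := by
      by_contra hno
      push Not at hno
      refine hAn (normalizer_eq_top_iff.mp (top_le_iff.mp ?_))
      rw [← hBG]
      refine (closure_le _).mpr fun y hy => ?_
      obtain ⟨b, hb, hby⟩ := Group.mem_conjugatesOfSet_iff.mp hy
      obtain ⟨c, rfl⟩ := isConj_iff.mp hby
      have h1 := hno c (c * b * c⁻¹) (by rw [mem_conj_smul]; simpa [mul_assoc] using hb)
      rw [SetLike.mem_coe, mem_normalizer_iff]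
      intro x
      conv_rhs => rw [← h1, mem_conj_smul]
      simp [mul_assoc]
    set A₁ := A ⊔ MulAut.conj b • A with hA₁
    have hlt : A < A₁ := by
      refine lt_of_le_of_ne le_sup_left fun e => hbA ?_
      exact eq_of_le_of_card_ge (le_sup_right.trans e.ge) (card_conj_smul b A).ge
    obtain ⟨Sg, hSg, hSge⟩ := h g
    have hA₁S : A₁ ≤ Sg := by
      have hAS : A ≤ Sg := fun x hx => by
        rw [← SetLike.mem_coe, hSge]; exact ⟨x, hx, 1, one_mem _, mul_one x⟩
      have hbS : b ∈ Sg := by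
        rw [← SetLike.mem_coe, hSge]; exact ⟨1, one_mem _, b, hb, one_mul b⟩
      refine sup_le hAS fun x hx => ?_
      rw [mem_conj_smul] at hx
      have := mul_mem (mul_mem hbS (hAS hx)) (inv_mem hbS)
      simpa [mul_assoc] using this
    -- `A₁` permutes with every conjugate of `B`
    have hperm : ∀ x : G, ∀ c ∈ MulAut.conj x • B, ∀ a ∈ A₁,
        c * a ∈ (A₁ : Set G) * ((MulAut.conj x • B : Subgroup G) : Set G) := by
      intro x
      obtain ⟨S, -, hS⟩ := h x
      obtain ⟨S', -, hS'⟩ := h (b⁻¹ * x)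
      set C := MulAut.conj x • B
      have hgen : ∀ c ∈ C, ∀ a ∈ (A : Set G) ∪ (MulAut.conj b • A : Subgroup G),
          ∃ a' ∈ A₁, ∃ c' ∈ C, c * a = a' * c' := by
        intro c hc a ha
        rcases ha with ha | ha
        · have : c * a ∈ (S : Set G) := mul_mem
            (show c ∈ S by rw [← SetLike.mem_coe, hS]; exact ⟨1, one_mem _, c, hc, one_mul c⟩)
            (show a ∈ S by rw [← SetLike.mem_coe, hS]; exact ⟨a, ha, 1, one_mem _, mul_one a⟩)
          rw [hS] at this
          obtain ⟨a', ha', c', hc', e⟩ := this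
          exact ⟨a', mem_sup_left ha', c', hc', e.symm⟩
        · rw [SetLike.mem_coe, mem_conj_smul] at ha
          have hc0 : b⁻¹ * c * b ∈ MulAut.conj (b⁻¹ * x) • B := by
            rw [mem_conj_smul] at hc ⊢
            convert hc using 1
            group
          have : (b⁻¹ * c * b) * (b⁻¹ * a * b) ∈ (S' : Set G) := mul_mem
            (show b⁻¹ * c * b ∈ S' by
              rw [← SetLike.mem_coe, hS']; exact ⟨1, one_mem _, _, hc0, one_mul _⟩)
            (show b⁻¹ * a * b ∈ S' by
              rw [← SetLike.mem_coe, hS']; exact ⟨_, ha, 1, one_mem _, mul_one _⟩)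
          rw [hS'] at this
          obtain ⟨a', ha', c', hc', e⟩ := this
          refine ⟨b * a' * b⁻¹, mem_sup_right (by rw [mem_conj_smul]; simpa [mul_assoc] using ha'),
            b * c' * b⁻¹, ?_, ?_⟩
          · rw [SetLike.mem_coe, mem_conj_smul] at hc'
            rw [mem_conj_smul]
            convert hc' using 1
            group
          · calc c * a = b * ((b⁻¹ * c * b) * (b⁻¹ * a * b)) * b⁻¹ := by group
              _ = (b * a' * b⁻¹) * (b * c' * b⁻¹) := by rw [← e]; group
      intro c hc a ha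
      have hcl : A₁ = closure ((A : Set G) ∪ (MulAut.conj b • A : Subgroup G)) := by
        rw [Subgroup.closure_union, Subgroup.closure_eq, Subgroup.closure_eq]
      rw [hcl] at ha
      revert c
      induction ha using closure_induction_left with
      | one => intro c hc; exact ⟨1, one_mem _, c, hc, by simp⟩
      | mul_left y hy z _ ihz =>
        intro c hc
        obtain ⟨a', ha', c', hc', e⟩ := hgen c hc y hy
        obtain ⟨a'', ha'', c'', hc'', e'⟩ := ihz c' hc'
        refine ⟨a' * a'', mul_mem ha' ha'', c'', hc'', ?_⟩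
        change a'' * c'' = c' * z at e'
        change a' * a'' * c'' = c * (y * z)
        rw [← mul_assoc, e, mul_assoc, mul_assoc, e']
      | inv_mul_cancel y hy z _ ihz =>
        intro c hc
        have hy' : y⁻¹ ∈ (A : Set G) ∪ (MulAut.conj b • A : Subgroup G) :=
          hy.imp (fun h => inv_mem h) (fun h => inv_mem h)
        obtain ⟨a', ha', c', hc', e⟩ := hgen c hc _ hy'
        obtain ⟨a'', ha'', c'', hc'', e'⟩ := ihz c' hc'
        refine ⟨a' * a'', mul_mem ha' ha'', c'', hc'', ?_⟩
        change a'' * c'' = c' * z at e'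
        change a' * a'' * c'' = c * (y⁻¹ * z)
        rw [← mul_assoc, e, mul_assoc, mul_assoc, e']
    have hS1 : ∀ x : G, ∃ S : Subgroup G,
        (S : Set G) = (A₁ : Set G) * ((MulAut.conj x • B : Subgroup G) : Set G) := by
      intro x
      set C := MulAut.conj x • B
      refine ⟨{ carrier := (A₁ : Set G) * (C : Set G)
                one_mem' := ⟨1, one_mem _, 1, one_mem _, mul_one 1⟩
                mul_mem' := ?_
                inv_mem' := ?_ }, rfl⟩
      · rintro _ _ ⟨a, ha, c, hc, rfl⟩ ⟨a', ha', c', hc', rfl⟩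
        obtain ⟨a'', ha'', c'', hc'', e⟩ := hperm x c hc a' ha'
        refine ⟨a * a'', mul_mem ha ha'', c'' * c', mul_mem hc'' hc', ?_⟩
        change a'' * c'' = c * a' at e
        change a * a'' * (c'' * c') = a * c * (a' * c')
        rw [← mul_assoc, mul_assoc a a'' c'', e]
        group
      · rintro _ ⟨a, ha, c, hc, rfl⟩
        obtain ⟨a'', ha'', c'', hc'', e⟩ := hperm x c⁻¹ (inv_mem hc) a⁻¹ (inv_mem ha)
        refine ⟨a'', ha'', c'', hc'', ?_⟩
        change a'' * c'' = c⁻¹ * a⁻¹ at e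
        change a'' * c'' = (a * c)⁻¹
        rw [e, mul_inv_rev]
    obtain ⟨N, hN, hNt, hor⟩ := ih A₁ hlt
      (fun e => hA (eq_bot_iff.mpr (e ▸ le_sup_left))) (fun x => by
        obtain ⟨S, hS⟩ := hS1 x
        refine ⟨S, fun htop => hSg (eq_top_iff.mpr fun z _ => ?_), hS⟩
        have hall : ∀ w : G, ∃ a ∈ A₁, ∃ c ∈ MulAut.conj x • B, a * c = w := fun w => by
          have hw : w ∈ (S : Set G) := by rw [htop]; exact mem_top w
          rwa [hS] at hw
        -- move `x` to `g`
        obtain ⟨a, ha, c, hc, e⟩ := hall (g * x⁻¹)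
        obtain ⟨a', ha', c', hc', e'⟩ := hall (a⁻¹ * z * a)
        have h1 : a * c' * a⁻¹ ∈ MulAut.conj g • B := by
          rw [mem_conj_smul] at hc hc' ⊢
          have : g⁻¹ * (a * c' * a⁻¹) * g =
              (x⁻¹ * c * x)⁻¹ * (x⁻¹ * c' * x) * (x⁻¹ * c * x) := by
            rw [show g = a * c * x by rw [e]; group]; group
          rw [this]
          exact mul_mem (mul_mem (inv_mem hc) hc') hc
        have h2 : z = (a * a' * a⁻¹) * (a * c' * a⁻¹) := by
          calc z = a * (a⁻¹ * z * a) * a⁻¹ := by group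
            _ = (a * a' * a⁻¹) * (a * c' * a⁻¹) := by rw [← e']; group
        rw [h2]
        refine mul_mem (hA₁S (mul_mem (mul_mem ha ha') (inv_mem ha))) ?_
        rw [← SetLike.mem_coe, hSge]
        exact ⟨1, one_mem _, _, h1, one_mul _⟩)
    exact ⟨N, hN, hNt, hor.imp_left le_sup_left.trans⟩

end Cfsg.Agent.Solv
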