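import Cfsg.Agent.Lib.Solv.Coprime
import Mathlib.Algebra.BigOperators.Group.Finset.Basic
import Mathlib.GroupTheory.SpecificGroups.Cyclic

/-!
Products over orbits of a group acting on an abelian group; the partition identity.
-/

set_option autoImplicit false
set_option linter.style.haveILetI false

namespace Cfsg.Agent.Solv

open Subgroup
open scoped Pointwise commutatorElement

section Partition

variable {A V : Type*} [Group A] [Fintype A] [CommGroup V]

open Classical in
/-- The product of the images of `v` under the elements of `B`. -/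
noncomputable def orbitProd (φ : A →* MulAut V) (B : Subgroup A) (v : V) : V :=
  ∏ b ∈ Finset.univ.filter (fun a => a ∈ B), φ b v

theorem orbitProd_fixed (φ : A →* MulAut V) (B : Subgroup A) (v : V) {b : A} (hb : b ∈ B) :
    φ b (orbitProd φ B v) = orbitProd φ B v := by
  classical
  unfold orbitProd
  rw [map_prod]
  refine Finset.prod_bij (fun a _ => b * a) (fun a ha => ?_) (fun a₁ _ a₂ _ h => mul_left_cancel h)
    (fun a ha => ⟨b⁻¹ * a, ?_, mul_inv_cancel_left b a⟩) (fun a _ => ?_)
  · simp only [Finset.mem_filter, Finset.mem_univ, true_and] at ha ⊢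
    exact B.mul_mem hb ha
  · simp only [Finset.mem_filter, Finset.mem_univ, true_and] at ha ⊢
    exact B.mul_mem (B.inv_mem hb) ha
  · rw [map_mul]; rfl

theorem orbitProd_of_fixed (φ : A →* MulAut V) (B : Subgroup A) (v : V)
    (h : ∀ b ∈ B, φ b v = v) : orbitProd φ B v = v ^ Nat.card B := by
  classical
  unfold orbitProd
  rw [Finset.prod_congr rfl (fun b hb => h b (by simpa using hb)), Finset.prod_const,
    Nat.card_eq_fintype_card]
  congr 1
  exact (Fintype.card_of_subtype _ (fun a => by simp)).symm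

/-- If `ι ↦ B i` partitions `A \ {1}`, then `v ^ (n - 1)` is expressed through orbit products. -/
theorem orbitProd_partition {ι : Type*} [Fintype ι] [Nonempty ι] (φ : A →* MulAut V)
    (B : ι → Subgroup A) (hpart : ∀ a : A, a ≠ 1 → ∃! i, a ∈ B i) (v : V) :
    ∏ i, orbitProd φ (B i) v = orbitProd φ ⊤ v * v ^ (Fintype.card ι - 1) := by
  classical
  have h1 : ∀ i, orbitProd φ (B i) v =
      v * ∏ a ∈ Finset.univ.filter (fun a => a ∈ B i ∧ a ≠ 1), φ a v := by
    intro i
    unfold orbitProd
    rw [← Finset.mul_prod_erase _ _ (show (1 : A) ∈ Finset.univ.filter (fun a => a ∈ B i) by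
      simp [(B i).one_mem]), map_one, MulAut.one_apply]
    congr 1
    refine Finset.prod_congr ?_ (fun _ _ => rfl)
    ext a
    simp [and_comm]
  have htop : orbitProd φ ⊤ v = v * ∏ a ∈ Finset.univ.filter (fun a : A => a ≠ 1), φ a v := by
    unfold orbitProd
    rw [← Finset.mul_prod_erase _ _ (show (1 : A) ∈ Finset.univ.filter
      (fun a => a ∈ (⊤ : Subgroup A)) by simp), map_one, MulAut.one_apply]
    congr 1
    refine Finset.prod_congr ?_ (fun _ _ => rfl)
    ext a
    simp
  have hsum : ∏ i, ∏ a ∈ Finset.univ.filter (fun a => a ∈ B i ∧ a ≠ 1), φ a v =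
      ∏ a ∈ Finset.univ.filter (fun a : A => a ≠ 1), φ a v := by
    rw [← Finset.prod_biUnion]
    · refine Finset.prod_congr ?_ (fun _ _ => rfl)
      ext a
      simp only [Finset.mem_biUnion, Finset.mem_univ, Finset.mem_filter, true_and]
      constructor
      · rintro ⟨i, -, ha⟩; exact ha
      · intro ha
        obtain ⟨i, hi, -⟩ := hpart a ha
        exact ⟨i, hi, ha⟩
    · intro i _ j _ hij
      rw [Function.onFun, Finset.disjoint_left]
      intro a hai haj
      simp only [Finset.mem_filter, Finset.mem_univ, true_and] at hai haj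
      obtain ⟨k, -, hk⟩ := hpart a hai.2
      exact hij ((hk i hai.1).trans (hk j haj.1).symm)
  simp only [h1, Finset.prod_mul_distrib, hsum, htop, Finset.prod_const, Finset.card_univ]
  obtain ⟨n, hn⟩ : ∃ n, Fintype.card ι = n + 1 :=
    ⟨Fintype.card ι - 1, (Nat.sub_add_cancel Fintype.card_pos).symm⟩
  rw [hn, Nat.add_sub_cancel, pow_succ]
  rw [mul_comm (v ^ n) v, mul_assoc, mul_assoc, mul_comm (v ^ n)]

/-- If all parts and `A` itself act without fixed points, then `v ^ (n - 1) = 1`. -/
theorem pow_eq_one_of_partition {ι : Type*} [Fintype ι] [Nonempty ι] (φ : A →* MulAut V)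
    (B : ι → Subgroup A) (hpart : ∀ a : A, a ≠ 1 → ∃! i, a ∈ B i)
    (hB : ∀ i, ∀ w : V, (∀ b ∈ B i, φ b w = w) → w = 1)
    (htop : ∀ w : V, (∀ a : A, φ a w = w) → w = 1) (v : V) :
    v ^ (Fintype.card ι - 1) = 1 := by
  have h := orbitProd_partition φ B hpart v
  rw [Finset.prod_eq_one (fun i _ => hB i _ fun b hb => orbitProd_fixed φ (B i) v hb),
    htop _ (fun a => orbitProd_fixed φ ⊤ v (mem_top a)), one_mul] at h
  exact h.symm

end Partition

variable {G : Type*} [Group G]

/-- Conjugation action of a subgroup on a normalized subgroup. -/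
def conjHom (A V : Subgroup G) (hAV : A ≤ normalizer (V : Set G)) : A →* MulAut V where
  toFun a :=
    { toFun := fun v => ⟨a * v * (a : G)⁻¹, (mem_normalizer_iff.mp (hAV a.2) _).mp v.2⟩
      invFun := fun v => ⟨(a : G)⁻¹ * v * a, by
        simpa using (mem_normalizer_iff.mp (hAV (A.inv_mem a.2)) _).mp v.2⟩
      left_inv := fun v => Subtype.ext (by simp [mul_assoc])
      right_inv := fun v => Subtype.ext (by simp [mul_assoc])
      map_mul' := fun u v => Subtype.ext (by simp [mul_assoc]) }
  map_one' := MulEquiv.ext fun v => Subtype.ext (by simp)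
  map_mul' := fun a b => MulEquiv.ext fun v => Subtype.ext (by simp [mul_assoc])

theorem conjHom_apply (A V : Subgroup G) (hAV : A ≤ normalizer (V : Set G)) (a : A) (v : V) :
    ((conjHom A V hAV a v : V) : G) = a * v * (a : G)⁻¹ := rfl

/-- For abelian `V` acted on coprimely, `[V,A]` meets `C(A)` trivially. -/
theorem commutator_inf_centralizer_eq_bot [Finite G] (A V : Subgroup G) [IsMulCommutative V]
    (hAV : A ≤ normalizer (V : Set G)) (hcop : (Nat.card A).Coprime (Nat.card V)) :
    ⁅V, A⁆ ⊓ centralizer (A : Set G) = ⊥ := by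
  classical
  haveI := Fintype.ofFinite A
  letI : CommGroup V := { (inferInstance : Group V) with mul_comm := fun a b => mul_comm' a b }
  let φ : A →* MulAut V := conjHom A V hAV
  let θ : V →* V := MonoidHom.mk' (orbitProd φ ⊤) (fun u v => by
    unfold orbitProd
    simp only [map_mul, Finset.prod_mul_distrib])
  have hW : ⁅V, A⁆ ≤ θ.ker.map V.subtype := commutator_le.mpr fun v hv a ha => by
    refine ⟨⟨v, hv⟩ * (φ ⟨a, ha⟩ ⟨v, hv⟩)⁻¹, ?_, ?_⟩
    · rw [SetLike.mem_coe, MonoidHom.mem_ker, map_mul, map_inv, mul_inv_eq_one]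
      change orbitProd φ ⊤ _ = orbitProd φ ⊤ _
      unfold orbitProd
      refine (Finset.prod_bij (fun b _ => b * ⟨a, ha⟩) (fun b _ => by simp)
        (fun _ _ _ _ h => mul_right_cancel h)
        (fun b _ => ⟨b * (⟨a, ha⟩ : A)⁻¹, by simp, inv_mul_cancel_right b _⟩)
        (fun b _ => ?_)).symm
      rw [map_mul]; rfl
    · change v * (a * v * a⁻¹)⁻¹ = ⁅v, a⁆
      rw [commutatorElement_def]; group
  rw [eq_bot_iff]
  rintro x ⟨hx, hxc⟩
  obtain ⟨w, hw, rfl⟩ := hW hx
  have hfix : ∀ a : A, φ a w = w := fun a => Subtype.ext (by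
    rw [conjHom_apply]
    have h := mem_centralizer_iff.mp hxc a a.2
    simp only [coe_subtype] at h
    rw [h, mul_inv_cancel_right])
  have h1 : orbitProd φ ⊤ w = 1 := hw
  rw [orbitProd_of_fixed φ ⊤ w (fun a _ => hfix a), card_top] at h1
  have hd : orderOf w ∣ Nat.gcd (Nat.card A) (Nat.card V) :=
    Nat.dvd_gcd (orderOf_dvd_of_pow_eq_one h1) (orderOf_dvd_natCard _)
  rw [hcop, Nat.dvd_one, orderOf_eq_one_iff] at hd
  simp [hd]

theorem card_commutator_mul_centralizer [Finite G] (A V : Subgroup G) [IsMulCommutative V]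
    (hAV : A ≤ normalizer (V : Set G)) (hcop : (Nat.card A).Coprime (Nat.card V)) :
    Nat.card ↥⁅V, A⁆ * Nat.card ↥(V ⊓ centralizer (A : Set G)) = Nat.card V := by
  haveI : Group.IsSolvable V := by
    exact Group.isSolvable_of_comm fun a b => mul_comm' a b
  have h := card_sup_mul_card_inf ⁅V, A⁆ (V ⊓ centralizer (A : Set G))
    (inf_le_left.trans ((le_centralizer V).trans
      ((centralizer_le (commutator_normalizer_le A V hAV)).trans (centralizer_le_normalizer _))))
  rw [commutator_sup_centralizer A V hAV hcop (Or.inr inferInstance)] at h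
  have hb : ⁅V, A⁆ ⊓ (V ⊓ centralizer (A : Set G)) = ⊥ :=
    le_bot_iff.mp ((inf_le_inf_left _ inf_le_right).trans
      (commutator_inf_centralizer_eq_bot A V hAV hcop).le)
  rw [hb, card_bot, mul_one] at h
  exact h.symm

/-- A noncyclic finite abelian group contains a subgroup `C_p × C_p`. -/
theorem exists_card_powKer_gt {A : Type*} [CommGroup A] [Finite A] (h : ¬ IsCyclic A) :
    ∃ p : ℕ, p.Prime ∧ p < Nat.card (powMonoidHom p : A →* A).ker := by
  by_contra! hall
  refine h ?_
  classical
  haveI := Fintype.ofFinite A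
  have key : ∀ n : ℕ, 0 < n → Nat.card (powMonoidHom n : A →* A).ker ≤ n := by
    intro n
    induction n using Nat.strong_induction_on with
    | _ n ih =>
      intro hn
      by_cases h1 : n = 1
      · subst h1
        have : (powMonoidHom 1 : A →* A).ker = ⊥ := by ext; simp
        rw [this, card_bot]
      obtain ⟨p, hp, m, rfl⟩ := Nat.exists_prime_and_dvd h1
      have hm : 0 < m := Nat.pos_of_mul_pos_left hn
      let f := (powMonoidHom p : A →* A).domRestrict (powMonoidHom (p * m) : A →* A).ker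
      rw [card_eq_card_quotient_mul_card_subgroup f.ker,
        Nat.card_congr (QuotientGroup.quotientKerEquivRange f).toEquiv]
      refine le_trans ?_ (le_of_eq (mul_comm m p))
      refine Nat.mul_le_mul ((card_le_of_le ?_).trans (ih m (lt_mul_left hm hp.one_lt) hm)) ?_
      · rintro _ ⟨x, rfl⟩
        have hx : (x : A) ^ (p * m) = 1 := x.2
        change ((x : A) ^ p) ^ m = 1
        rw [← pow_mul, hx]
      · rw [← card_map_subtype]
        refine (card_le_of_le ?_).trans (hall p hp)
        rintro _ ⟨x, hx, rfl⟩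
        exact hx
  refine isCyclic_of_card_pow_eq_one_le fun n hn => le_trans (le_of_eq ?_) (key n hn)
  rw [Nat.card_eq_fintype_card]
  exact (Fintype.card_of_subtype _ (fun a => by simp)).symm

/-- Elementary abelian of rank two: the subgroups of order `p` partition and number `p + 1`. -/
theorem exists_partition_of_card_sq {A : Type*} [Group A] [Finite A] {p : ℕ} [Fact p.Prime]
    (hA : Nat.card A = p ^ 2) (hexp : ∀ a : A, a ^ p = 1) :
    ∃ (ι : Type) (_ : Fintype ι) (_ : Nonempty ι) (B : ι → Subgroup A),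
      (∀ a : A, a ≠ 1 → ∃! i, a ∈ B i) ∧ Fintype.card ι = p + 1 ∧
        ∀ i, ∃ b, b ≠ 1 ∧ b ∈ B i := by
  classical
  have hp : p.Prime := Fact.out
  haveI := Fintype.ofFinite A
  let S := {B : Subgroup A // Nat.card B = p}
  obtain ⟨e⟩ : Nonempty (S ≃ Fin (Nat.card S)) := ⟨Finite.equivFin S⟩
  have hord : ∀ a : A, a ≠ 1 → Nat.card (zpowers a) = p := fun a ha => by
    rw [Nat.card_zpowers, orderOf_eq_prime (hexp a) ha]
  have huniq : ∀ a : A, a ≠ 1 → ∀ B : S, a ∈ B.1 → B.1 = zpowers a := fun a ha B haB =>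
    (eq_of_le_of_card_ge (zpowers_le.mpr haB) (by rw [B.2, hord a ha])).symm
  have hnon : ∀ B : S, ∃ b, b ≠ 1 ∧ b ∈ B.1 := fun B => by
    by_contra! h
    have : B.1 = ⊥ := (eq_bot_iff_forall _).mpr fun x hx => by_contra fun hx1 => h x hx1 hx
    have h2 := B.2
    rw [this, card_bot] at h2
    exact hp.one_lt.ne h2
  haveI : Nonempty S := by
    haveI : Nontrivial A := Finite.one_lt_card_iff_nontrivial.mp (by
      rw [hA]; exact Nat.one_lt_pow two_ne_zero hp.one_lt)
    obtain ⟨a, ha⟩ := exists_ne (1 : A)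
    exact ⟨⟨zpowers a, hord a ha⟩⟩
  have hpart : ∀ a : A, a ≠ 1 → ∃! B : S, a ∈ B.1 := fun a ha =>
    ⟨⟨zpowers a, hord a ha⟩, mem_zpowers a, fun B hB => Subtype.ext (huniq a ha B hB)⟩
  haveI := Fintype.ofFinite S
  have hcard : Fintype.card S = p + 1 := by
    let T : S → Finset A := fun B => Finset.univ.filter fun a => a ∈ B.1 ∧ a ≠ 1
    have hT : ∀ B, (T B).card = p - 1 := fun B => by
      have : T B = (Finset.univ.filter fun a => a ∈ B.1).erase 1 := by
        ext a; simp [T, and_comm]
      rw [this, Finset.card_erase_of_mem (by simp [B.1.one_mem]), Finset.filter_congr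
        (fun a _ => Iff.rfl), ← Fintype.card_subtype, ← Nat.card_eq_fintype_card]
      congr 1
      exact B.2
    have hU : Finset.univ.biUnion T = Finset.univ.erase (1 : A) := by
      ext a
      simp only [T, Finset.mem_biUnion, Finset.mem_univ, Finset.mem_filter, true_and,
        Finset.mem_erase, and_true]
      exact ⟨fun ⟨_, _, h⟩ => h, fun h => ⟨_, (hpart a h).choose_spec.1, h⟩⟩
    have hc := congrArg Finset.card hU
    rw [Finset.card_biUnion, Finset.sum_congr rfl (fun B _ => hT B), Finset.sum_const,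
      Finset.card_erase_of_mem (Finset.mem_univ _), Finset.card_univ, Finset.card_univ,
      ← Nat.card_eq_fintype_card (α := A), hA, smul_eq_mul] at hc
    · obtain ⟨q, rfl⟩ : ∃ q, p = q + 2 := ⟨p - 2, (Nat.sub_add_cancel hp.two_le).symm⟩
      have e : (q + 2) ^ 2 - 1 = (q + 3) * (q + 1) := by
        rw [show (q + 2) ^ 2 = (q + 3) * (q + 1) + 1 by ring, Nat.add_sub_cancel]
      rw [e] at hc
      exact Nat.eq_of_mul_eq_mul_right (Nat.succ_pos q) hc
    · intro B _ B' _ hne
      rw [Function.onFun, Finset.disjoint_left]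
      intro a h1 h2
      simp only [T, Finset.mem_filter, Finset.mem_univ, true_and] at h1 h2
      exact hne ((hpart a h1.2).unique h1.1 h2.1)
  refine ⟨Fin (Nat.card S), inferInstance, ⟨e (Classical.arbitrary S)⟩, fun i => (e.symm i).1,
    fun a ha => ?_, by rw [Fintype.card_fin, Nat.card_eq_fintype_card, hcard],
    fun i => hnon _⟩
  obtain ⟨B, hB, hBu⟩ := hpart a ha
  exact ⟨e B, by simpa using hB, fun i hi => by rw [← hBu _ hi, e.apply_symm_apply]⟩

end Cfsg.Agent.Solv
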