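import Cfsg.Agent.Lib.Solv.Basic
import Mathlib.GroupTheory.QuotientGroup.Basic
import Mathlib.Algebra.BigOperators.Group.Finset.Basic
import Mathlib.GroupTheory.OrderOfElement

/-!
Gaschütz's theorem: an abelian normal subgroup `K ≤ U` with a complement `A` in `U` and
`|K|` prime to `|G : U|` has a complement in `G`; complements meeting `U` in `A` are conjugate.
-/

set_option autoImplicit false
set_option linter.style.haveILetI false

namespace Cfsg.Agent.Solv

open Subgroup
open scoped Pointwise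

variable {G : Type*} [Group G]

section Sections

variable (K U A : Subgroup G)

/-- the projection `G ⧸ A → G ⧸ U` (only used for `A ≤ U`) -/
noncomputable def gProj (hAU : A ≤ U) : G ⧸ A → G ⧸ U := Subgroup.quotientMapOfLE hAU

/-- sections of `G ⧸ A → G ⧸ U` -/
def gSec (hAU : A ≤ U) : Type _ := {σ : G ⧸ U → G ⧸ A // ∀ q, gProj U A hAU (σ q) = q}

variable {K U A}

theorem gProj_smul (hAU : A ≤ U) (g : G) (x : G ⧸ A) :
    gProj U A hAU (g • x) = g • gProj U A hAU x := by
  induction x using QuotientGroup.induction_on with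
  | _ a => rfl

theorem gFibre_eq [hn : K.Normal] (hKA : K ⊔ A = U) (hAU : A ≤ U) (x y : G ⧸ A)
    (h : gProj U A hAU x = gProj U A hAU y) : ∃ k : K, (k : G) • y = x := by
  induction x using QuotientGroup.induction_on with
  | _ a =>
    induction y using QuotientGroup.induction_on with
    | _ b =>
      have h' : b⁻¹ * a ∈ (K ⊔ A : Subgroup G) := by
        rw [hKA]; exact QuotientGroup.eq.mp h.symm
      obtain ⟨k, hk, c, hc, hkc⟩ := mem_sup_of_normal_left.mp h'
      refine ⟨⟨b * k * b⁻¹, hn.conj_mem k hk b⟩, ?_⟩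
      rw [MulAction.Quotient.smul_coe, QuotientGroup.eq]
      have : (b * k * b⁻¹ * b)⁻¹ * a = c := by
        rw [show a = b * (k * c) by rw [hkc]; group]; group
      rw [smul_eq_mul, this]
      exact hc

theorem gFibre_unique [hn : K.Normal] (hAK : A ⊓ K = ⊥) (x : G ⧸ A) (k k' : K)
    (h : (k : G) • x = (k' : G) • x) : k = k' := by
  induction x using QuotientGroup.induction_on with
  | _ b =>
    rw [MulAction.Quotient.smul_coe, MulAction.Quotient.smul_coe, QuotientGroup.eq,
      smul_eq_mul, smul_eq_mul] at h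
    have h2 : b⁻¹ * ((k : G)⁻¹ * k') * b ∈ A ⊓ K := by
      refine ⟨by simpa [mul_assoc] using h, ?_⟩
      simpa using hn.conj_mem _ (K.mul_mem (K.inv_mem k.2) k'.2) b⁻¹
    rw [hAK, mem_bot] at h2
    refine Subtype.ext (inv_mul_eq_one.mp ?_)
    have h3 := congrArg (fun z => b * z * b⁻¹) h2
    simpa [mul_assoc] using h3

theorem gaschutz_aux [Finite G] (K U A : Subgroup G) [hn : K.Normal] [hc : IsMulCommutative K]
    (hKU : K ≤ U) (hAU : A ≤ U) (hAK : A ⊓ K = ⊥) (hKA : K ⊔ A = U)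
    (hcop : (Nat.card K).Coprime U.index) :
    ∃ S : gSec U A hAU → Subgroup G,
      (∀ σ, IsComplement' K (S σ)) ∧
      (∀ σ τ, ∃ k ∈ K, MulAut.conj k • S σ = S τ) ∧
      (∀ σ, ∀ g : G, (∀ q, g • σ.1 (g⁻¹ • q) = σ.1 q) → g ∈ S σ) := by
  classical
  haveI : Fintype (G ⧸ U) := Fintype.ofFinite _
  let cK : CommGroup K := { (inferInstance : Group K) with mul_comm := hc.is_comm.comm }
  let act : G → gSec U A hAU → gSec U A hAU := fun g σ =>
    ⟨fun q => g • σ.1 (g⁻¹ • q), fun q => by rw [gProj_smul, σ.2, smul_inv_smul]⟩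
  have act_mul : ∀ g h σ, act (g * h) σ = act g (act h σ) := fun g h σ =>
    Subtype.ext (funext fun q => by simp [act, mul_smul])
  have act_one : ∀ σ, act 1 σ = σ := fun σ => Subtype.ext (funext fun q => by simp [act])
  let κ : gSec U A hAU → gSec U A hAU → G ⧸ U → K := fun σ τ q =>
    Classical.choose (gFibre_eq hKA hAU (σ.1 q) (τ.1 q) (by rw [σ.2, τ.2]))
  have κ_spec : ∀ σ τ q, ((κ σ τ q : K) : G) • τ.1 q = σ.1 q := fun σ τ q =>
    Classical.choose_spec (gFibre_eq hKA hAU (σ.1 q) (τ.1 q) (by rw [σ.2, τ.2]))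
  have κ_uniq : ∀ σ τ q (k : K), (k : G) • τ.1 q = σ.1 q → κ σ τ q = k := fun σ τ q k hk =>
    gFibre_unique hAK (τ.1 q) _ _ ((κ_spec σ τ q).trans hk.symm)
  let d : gSec U A hAU → gSec U A hAU → K := fun σ τ => ∏ q : G ⧸ U, κ σ τ q
  have d_trans : ∀ σ τ υ, d σ τ * d τ υ = d σ υ := by
    intro σ τ υ
    rw [← Finset.prod_mul_distrib]
    refine Finset.prod_congr rfl fun q _ => (κ_uniq σ υ q _ ?_).symm
    rw [coe_mul, mul_smul, κ_spec, κ_spec]
  have d_self : ∀ σ, d σ σ = 1 := fun σ =>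
    mul_eq_left.mp (d_trans σ σ σ)
  have d_symm : ∀ σ τ, d τ σ = (d σ τ)⁻¹ := fun σ τ =>
    eq_inv_of_mul_eq_one_left ((d_trans τ σ τ).trans (d_self τ))
  let φ : G → (K →* K) := fun g =>
    { toFun := fun k => ⟨g * k * g⁻¹, hn.conj_mem k k.2 g⟩
      map_one' := Subtype.ext (by simp)
      map_mul' := fun a b => Subtype.ext (by simp [mul_assoc]) }
  have d_conj : ∀ g σ τ, d (act g σ) (act g τ) = φ g (d σ τ) := by
    intro g σ τ
    rw [map_prod]
    refine Fintype.prod_equiv (MulAction.toPerm g⁻¹) _ _ fun q => ?_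
    refine κ_uniq _ _ q _ ?_
    change (g * (κ σ τ (g⁻¹ • q) : G) * g⁻¹) • (g • τ.1 (g⁻¹ • q)) = g • σ.1 (g⁻¹ • q)
    rw [← mul_smul, inv_mul_cancel_right, mul_smul, κ_spec]
  have d_pow : ∀ (k : K) σ, d (act k σ) σ = k ^ U.index := by
    intro k σ
    rw [index_eq_card, Nat.card_eq_fintype_card, ← Finset.card_univ, ← Finset.prod_const]
    refine Finset.prod_congr rfl fun q _ => κ_uniq _ _ q _ ?_
    change (k : G) • σ.1 q = (k : G) • σ.1 ((k : G)⁻¹ • q)
    have hfix : (k : G)⁻¹ • q = q := by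
      induction q using QuotientGroup.induction_on with
      | _ b =>
        rw [MulAction.Quotient.smul_coe, QuotientGroup.eq, smul_eq_mul]
        refine hKU ?_
        have := hn.conj_mem _ k.2 b⁻¹
        simpa [mul_assoc] using this
    rw [hfix]
  have φ_K : ∀ (k x : K), φ k x = x := fun k x => Subtype.ext (by
    change (k : G) * x * (k : G)⁻¹ = x
    rw [show (k : G) * x = x * k from congrArg Subtype.val (hc.is_comm.comm k x)]
    group)
  let S : gSec U A hAU → Subgroup G := fun σ =>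
    { carrier := {g | d (act g σ) σ = 1}
      one_mem' := by change d (act 1 σ) σ = 1; rw [act_one, d_self]
      mul_mem' := fun {g h} hg hh => by
        change d (act (g * h) σ) σ = 1
        rw [act_mul, ← d_trans _ (act g σ), d_conj, hh, map_one, hg, one_mul]
      inv_mem' := fun {g} hg => by
        change d (act g⁻¹ σ) σ = 1
        have h1 := d_conj g⁻¹ σ (act g σ)
        rw [← act_mul, inv_mul_cancel, act_one, d_symm (act g σ) σ, hg, inv_one, map_one] at h1
        exact h1 }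
  have hmem : ∀ σ g, g ∈ S σ ↔ d (act g σ) σ = 1 := fun _ _ => Iff.rfl
  refine ⟨S, fun σ => ?_, fun σ τ => ?_, fun σ g hg => ?_⟩
  · refine isComplement'_of_disjoint_and_mul_eq_univ ?_ ?_
    · rw [Subgroup.disjoint_def]
      intro x hx hxS
      have h1 := (hmem σ x).mp hxS
      rw [d_pow ⟨x, hx⟩ σ] at h1
      have h2 : (powCoprime hcop) ⟨x, hx⟩ = (powCoprime hcop) 1 := by
        simpa using h1
      exact congrArg Subtype.val ((powCoprime hcop).injective h2)
    · refine Set.eq_univ_of_forall fun g => ?_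
      obtain ⟨k, hk⟩ := (powCoprime hcop).surjective (d (act g σ) σ)
      refine ⟨(k : G), k.2, (k : G)⁻¹ * g, ?_, by simp⟩
      have hk' : k ^ U.index = d (act g σ) σ := hk
      change d (act ((k : G)⁻¹ * g) σ) σ = 1
      rw [← coe_inv, act_mul, ← d_trans _ (act ((k⁻¹ : K) : G) σ), d_conj, φ_K, d_pow,
        inv_pow, hk', mul_inv_cancel]
  · obtain ⟨k, hk⟩ := (powCoprime hcop).surjective (d τ σ)
    have hk' : k ^ U.index = d τ σ := hk
    have hτ : d τ (act k σ) = 1 := by
      rw [← d_trans τ σ, d_symm (act (k : G) σ) σ, d_pow, hk', mul_inv_cancel]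
    have key : ∀ (σ τ : gSec U A hAU) (k : K), d τ (act k σ) = 1 →
        ∀ h ∈ S σ, (k : G) * h * (k : G)⁻¹ ∈ S τ := by
      intro σ τ k hτ h hh
      change d (act ((k : G) * h * (k : G)⁻¹) τ) τ = 1
      have hh' : d (act h σ) σ = 1 := hh
      rw [← d_trans _ (act ((k : G) * h * (k : G)⁻¹) (act k σ)), d_conj, hτ, map_one, one_mul,
        ← act_mul, inv_mul_cancel_right, act_mul, ← d_trans _ (act k σ), d_conj, hh', map_one,
        one_mul, d_symm τ, hτ, inv_one]
    refine ⟨k, k.2, le_antisymm ?_ ?_⟩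
    · intro x hx
      rw [mem_pointwise_smul_iff_inv_smul_mem] at hx
      have := key σ τ k hτ _ hx
      simpa [← map_inv, mul_assoc] using this
    · intro x hx
      rw [mem_pointwise_smul_iff_inv_smul_mem]
      have hσ : d σ (act ((k⁻¹ : K) : G) τ) = 1 := by
        have h1 := d_conj ((k⁻¹ : K) : G) τ (act (k : G) σ)
        rw [hτ, map_one, ← act_mul, coe_inv, inv_mul_cancel, act_one] at h1
        rw [d_symm (act _ τ) σ, coe_inv, h1, inv_one]
      have := key τ σ k⁻¹ hσ x hx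
      simpa [← map_inv, mul_assoc] using this
  · change d (act g σ) σ = 1
    have : act g σ = σ := Subtype.ext (funext hg)
    rw [this, d_self]

end Sections

/-- Gaschütz: existence of complements. -/
theorem gaschutz_exists [Finite G] (K U : Subgroup G) [K.Normal] [IsMulCommutative K]
    (hKU : K ≤ U) (hcop : (Nat.card K).Coprime U.index)
    (A : Subgroup G) (hAU : A ≤ U) (hAK : A ⊓ K = ⊥) (hKA : K ⊔ A = U) :
    ∃ H : Subgroup G, IsComplement' K H := by
  obtain ⟨S, hS, -⟩ := gaschutz_aux K U A hKU hAU hAK hKA hcop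
  have : ∀ q : G ⧸ U, ∃ x : G ⧸ A, gProj U A hAU x = q := fun q => by
    induction q using QuotientGroup.induction_on with
    | _ b => exact ⟨b, rfl⟩
  choose f hf using this
  exact ⟨S ⟨f, hf⟩, hS _⟩

/-- Gaschütz: complements with equal intersection with `U` are conjugate by an element of `K`. -/
theorem gaschutz_conj [Finite G] (K U : Subgroup G) [hn : K.Normal] [IsMulCommutative K]
    (hKU : K ≤ U) (hcop : (Nat.card K).Coprime U.index)
    (H₀ H₁ : Subgroup G) (h₀ : IsComplement' K H₀) (h₁ : IsComplement' K H₁)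
    (hU : H₀ ⊓ U = H₁ ⊓ U) :
    ∃ k ∈ K, MulAut.conj k • H₀ = H₁ := by
  have hAU : H₀ ⊓ U ≤ U := inf_le_right
  have hAK : H₀ ⊓ U ⊓ K = ⊥ := by
    rw [eq_bot_iff]
    exact le_trans (inf_le_inf_right K inf_le_left) (disjoint_iff.mp h₀.disjoint.symm).le
  have hKA : K ⊔ (H₀ ⊓ U) = U := by
    refine le_antisymm (sup_le hKU inf_le_right) fun u hu => ?_
    have : u ∈ K ⊔ H₀ := by rw [h₀.sup_eq_top]; exact mem_top u
    obtain ⟨k, hk, h, hh, rfl⟩ := mem_sup_of_normal_left.mp this
    refine mul_mem_sup hk ⟨hh, ?_⟩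
    simpa using U.mul_mem (U.inv_mem (hKU hk)) hu
  obtain ⟨S, hS, hconj, hfix⟩ := gaschutz_aux K U (H₀ ⊓ U) hKU hAU hAK hKA hcop
  have key : ∀ H : Subgroup G, IsComplement' K H → H ⊓ U = H₀ ⊓ U →
      ∃ σ, S σ = H := by
    intro H hH hHU
    have surj : ∀ q : G ⧸ U, ∃ h : H, ((h : G) : G ⧸ U) = q := by
      intro q
      induction q using QuotientGroup.induction_on with
      | _ b =>
        have : b ∈ K ⊔ H := by rw [hH.sup_eq_top]; exact mem_top b
        obtain ⟨k, hk, h, hh, rfl⟩ := mem_sup_of_normal_left.mp this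
        refine ⟨⟨h, hh⟩, ?_⟩
        rw [QuotientGroup.eq]
        refine hKU ?_
        simpa [mul_assoc] using hn.conj_mem k hk h⁻¹
    choose f hf using surj
    refine ⟨⟨fun q => ((f q : G) : G ⧸ (H₀ ⊓ U)), fun q => hf q⟩, ?_⟩
    have hle : H ≤ S ⟨fun q => ((f q : G) : G ⧸ (H₀ ⊓ U)), fun q => hf q⟩ := by
      intro h hh
      refine hfix _ h fun q => ?_
      rw [MulAction.Quotient.smul_coe, QuotientGroup.eq, ← hHU, smul_eq_mul]
      refine ⟨H.mul_mem (H.inv_mem (H.mul_mem hh (f _).2)) (f q).2, QuotientGroup.eq.mp ?_⟩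
      rw [hf q, ← smul_eq_mul h, ← MulAction.Quotient.smul_coe, hf, smul_inv_smul]
    refine (eq_of_le_of_card_ge hle ?_).symm
    have e1 := (hS ⟨fun q => ((f q : G) : G ⧸ (H₀ ⊓ U)), fun q => hf q⟩).card_mul_card
    rw [← hH.card_mul_card] at e1
    exact (Nat.eq_of_mul_eq_mul_left Nat.card_pos e1).le
  obtain ⟨σ, hσ⟩ := key H₀ h₀ rfl
  obtain ⟨τ, hτ⟩ := key H₁ h₁ hU.symm
  obtain ⟨k, hk, h⟩ := hconj σ τ
  rw [hσ, hτ] at h
  exact ⟨k, hk, h⟩

/-- Abelian normal Hall subgroup: complements are conjugate. -/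
theorem conj_complement_of_abelian [Finite G] (A : Subgroup G) [A.Normal] [IsMulCommutative A]
    (hA : (Nat.card A).Coprime A.index)
    (H K : Subgroup G) (hH : IsComplement' A H) (hK : IsComplement' A K) :
    ∃ a ∈ A, MulAut.conj a • H = K :=
  gaschutz_conj A A le_rfl hA H K hH hK
    ((disjoint_iff.mp hH.disjoint.symm).trans (disjoint_iff.mp hK.disjoint.symm).symm)

end Cfsg.Agent.Solv
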