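import Cfsg.Prelude.Def_Transfer
import Cfsg.Agent.Lib.Solv.NormalPComplement
import Cfsg.Agent.Lib.Solv.AbelianAction
import Cfsg.Agent.Lib.Solv.Gaschutz
import Cfsg.Agent.Lib.Fusion.HyperfocalGroup

/-!
Applications of transfer: abelian Sylow subgroups, control of `O^p`, Tate's lemma.
-/

set_option autoImplicit false
set_option linter.style.haveILetI false

namespace Cfsg.Agent.Solv

open Subgroup Cfsg
open scoped commutatorElement

universe u

variable {G : Type u} [Group G] [Finite G] {p : ℕ} [Fact p.Prime]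

theorem inf_pResidual_le_focal (P : Sylow p G) :
    (P : Subgroup G) ⊓ pResidual p G ≤ (P : Subgroup G).focalSubgroup := by
  rw [← ker_transferFocal_inf_eq_focalSubgroup]
  exact le_inf (inf_le_right.trans
    (pResidual_le_ker_of_isPGroup (P.isPGroup'.to_quotient _) P.transferFocal)) inf_le_left

/-- The conjugate lies in `P` when the commutator does. -/
theorem conj_mem_of_commutatorElement_mem {P : Subgroup G} {x u : G} (hx : x ∈ P)
    (h : ⁅x, u⁆ ∈ P) : u * x * u⁻¹ ∈ P := by
  have h2 := P.inv_mem (P.mul_mem (P.inv_mem hx) h)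
  simpa [commutatorElement_def, mul_assoc] using h2

omit [Finite G] in
theorem commutatorElement_eq_of_conj {x u z : G} (h : u * x * u⁻¹ = z * x * z⁻¹) :
    ⁅x, u⁆ = ⁅x, z⁆ := by
  have h5 := congrArg (fun t => x * t⁻¹) h
  simp only [mul_inv_rev, inv_inv, mul_assoc] at h5
  simpa [commutatorElement_def, mul_assoc] using h5

theorem focalSubgroup_le_of_control (P : Sylow p G) (V : Subgroup G)
    (h : ∀ x ∈ P, ∀ u : G, u * x * u⁻¹ ∈ P → ∃ v ∈ V, u * x * u⁻¹ = v * x * v⁻¹) :
    (P : Subgroup G).focalSubgroup ≤ ⁅(P : Subgroup G), V⁆ := by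
  rw [focalSubgroup_def, closure_le]
  rintro _ ⟨hg, x, hx, u, rfl⟩
  obtain ⟨v, hv, hvx⟩ := h x hx u (conj_mem_of_commutatorElement_mem hx hg)
  rw [SetLike.mem_coe, commutatorElement_eq_of_conj hvx]
  exact commutator_mem_commutator hx hv

theorem focalSubgroup_eq_of_abelian (P : Sylow p G) (hP : IsMulCommutative P) :
    (P : Subgroup G).focalSubgroup = ⁅(P : Subgroup G), normalizer (P : Set G)⁆ := by
  haveI := hP
  refine le_antisymm (focalSubgroup_le_of_control P _ fun x hx u hu => ?_) ?_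
  · obtain ⟨n, hn, he⟩ := P.conj_eq_normalizer_conj_of_mem x u⁻¹ hx (by rwa [inv_inv])
    exact ⟨n⁻¹, inv_mem hn, by rw [inv_inv] at he; rw [inv_inv, he]⟩
  · refine commutator_le.mpr fun x hx n hn => subset_closure ⟨?_, x, hx, n, rfl⟩
    rw [commutatorElement_def, mul_assoc x n, mul_assoc x]
    exact P.mul_mem hx ((mem_normalizer_iff.mp hn _).mp (P.inv_mem hx))

theorem commutator_le_pResidual_of_abelian (P : Sylow p G) (hP : IsMulCommutative P) :
    commutator G ≤ pResidual p G := by
  haveI := pResidual_characteristic p G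
  refine Subgroup.Normal.quotient_commutative_iff_commutator_le.mp ?_
  refine ⟨⟨fun a b => ?_⟩⟩
  have hs : ∀ y : G ⧸ pResidual p G, ∃ x ∈ P, (QuotientGroup.mk' _ x) = y := by
    intro y
    obtain ⟨g, rfl⟩ := QuotientGroup.mk'_surjective _ y
    obtain ⟨x, hx, m, hm, rfl⟩ := mem_sup_of_normal_right.mp (sup_pResidual_eq_top P ▸ mem_top g)
    refine ⟨x, hx, ?_⟩
    rw [map_mul, show QuotientGroup.mk' (pResidual p G) m = 1 from
      (QuotientGroup.eq_one_iff m).mpr hm, mul_one]
  obtain ⟨x, hx, rfl⟩ := hs a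
  obtain ⟨y, hy, rfl⟩ := hs b
  rw [← map_mul, ← map_mul, show x * y = y * x from
    congrArg Subtype.val (hP.is_comm.comm (⟨x, hx⟩ : P) ⟨y, hy⟩)]

/-- An abelian normal Hall subgroup splits into commutator and centraliser parts. -/
theorem abelian_hall_decomp (A H : Subgroup G) [IsMulCommutative A] (hAH : A ≤ H)
    (hn : H ≤ normalizer (A : Set G)) (hco : (Nat.card A).Coprime (A.relIndex H)) :
    ⁅A, H⁆ ⊓ centralizer (H : Set G) = ⊥ ∧ ⁅A, H⁆ ⊔ (A ⊓ centralizer (H : Set G)) = A := by
  haveI : (A.subgroupOf H).Normal := normal_subgroupOf_of_le_normalizer hn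
  obtain ⟨K₀, hK₀⟩ := exists_left_complement'_of_coprime (N := A.subgroupOf H)
    (by rw [card_subgroupOf hAH]; exact hco)
  set K := K₀.map H.subtype
  have hsup : K ⊔ A = H := by
    have h := congrArg (Subgroup.map H.subtype) hK₀.sup_eq_top
    rwa [Subgroup.map_sup, map_subgroupOf_eq_of_le hAH, ← MonoidHom.range_eq_map,
      range_subtype] at h
  have hKH : K ≤ H := map_subtype_le _
  have hcard : (Nat.card K).Coprime (Nat.card A) := by
    rw [card_map_subtype, ← hK₀.index_eq_card]; exact hco.symm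
  have hKA : K ≤ normalizer (A : Set G) := hKH.trans hn
  have hAA : A ≤ centralizer (A : Set G) := le_centralizer A
  have hcm : ⁅A, H⁆ = ⁅A, K⁆ := by
    refine le_antisymm (commutator_le.mpr fun x hx g hg => ?_) (commutator_mono le_rfl hKH)
    rw [← hsup] at hg
    rw [sup_comm, ← SetLike.mem_coe, coe_mul_of_right_le_normalizer_left A K hKA] at hg
    obtain ⟨a, ha, k, hk, rfl⟩ := hg
    have h1 : ⁅x, k⁆ ∈ A := commutator_normalizer_le K A hKA (commutator_mem_commutator hx hk)
    have e : ⁅x, a * k⁆ = ⁅x, a⁆ * (a * ⁅x, k⁆ * a⁻¹) := by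
      simp [commutatorElement_def]; group
    rw [e, commutatorElement_eq_one_iff_mul_comm.mpr
        (mem_centralizer_iff.mp (hAA ha) x hx), one_mul,
      ← mem_centralizer_iff.mp (hAA ha) _ h1, mul_inv_cancel_right]
    exact commutator_mem_commutator hx hk
  have hcen : A ⊓ centralizer (K : Set G) = A ⊓ centralizer (H : Set G) := by
    refine le_antisymm (le_inf inf_le_left fun z hz => ?_)
      (inf_le_inf_left _ (centralizer_le hKH))
    refine mem_centralizer_iff.mpr fun g hg => ?_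
    have hle : H ≤ centralizer ({z} : Set G) := hsup ▸ sup_le
      (fun k hk => mem_centralizer_iff.mpr fun w hw => by
        rw [Set.mem_singleton_iff.mp hw]; exact (mem_centralizer_iff.mp hz.2 k hk).symm)
      (fun a ha => mem_centralizer_iff.mpr fun w hw => by
        rw [Set.mem_singleton_iff.mp hw]; exact (mem_centralizer_iff.mp (hAA hz.1) a ha).symm)
    exact (mem_centralizer_iff.mp (hle hg) z rfl).symm
  haveI : Group.IsSolvable A := Group.isSolvable_of_comm fun a b => mul_comm' a b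
  constructor
  · refine eq_bot_iff.mpr fun x hx => ?_
    rw [hcm] at hx
    rw [← commutator_inf_centralizer_eq_bot K A hKA hcard]
    exact ⟨hx.1, centralizer_le hKH hx.2⟩
  · rw [hcm, ← hcen, commutator_sup_centralizer K A hKA hcard (Or.inr inferInstance)]

/-- Transfer to an abelian Hall subgroup kills no central element. -/
theorem inf_commutator_center_eq_bot (H : Subgroup G) (hc : IsMulCommutative H)
    (hHall : (Nat.card H).Coprime H.index) : H ⊓ commutator G ⊓ center G = ⊥ := by
  rw [eq_bot_iff]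
  rintro z ⟨⟨hzH, hzc⟩, hzZ⟩
  haveI := hc
  letI : CommGroup H := { (inferInstance : Group H) with mul_comm := fun a b => mul_comm' a b }
  have h1 := MonoidHom.transfer_eq_pow (MonoidHom.id H) z fun k g₀ _ => by
    have := mem_center_iff.mp (pow_mem hzZ k) g₀⁻¹
    rw [this, inv_mul_cancel_right]
  have h2 : MonoidHom.transfer (MonoidHom.id H) z = 1 :=
    MonoidHom.mem_ker.mp (Abelianization.commutator_subset_ker _ hzc)
  rw [h2] at h1
  have h3 : z ^ H.index = 1 := (congrArg Subtype.val h1).symm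
  have h4 : orderOf z ∣ Nat.card H := Subgroup.orderOf_dvd_natCard _ hzH
  rw [mem_bot, ← orderOf_eq_one_iff]
  exact Nat.eq_one_of_dvd_coprimes hHall h4 (orderOf_dvd_of_pow_eq_one h3)

/-- If `V` controls fusion in `P`, then it controls `O^p`. -/
theorem inf_pResidual_of_control (P : Sylow p G) (V : Subgroup G) (hPV : (P : Subgroup G) ≤ V)
    (h : ∀ Q : Subgroup G, Q ≤ (P : Subgroup G) → ∀ g ∈ normalizer (Q : Set G),
      ∃ v ∈ V, ∀ x ∈ Q, g * x * g⁻¹ = v * x * v⁻¹) :
    (P : Subgroup G) ⊓ pResidual p G = (P : Subgroup G) ⊓ (pResidual p V).map V.subtype := by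
  refine le_antisymm ?_ (inf_le_inf_left _ (Fusion.map_pResidual_le V.subtype))
  rw [← Fusion.hyperfocal_group P]
  refine le_inf (Fusion.hyperfocal_le _ p) ((Subgroup.closure_le _).2 ?_)
  rintro _ ⟨Q, α, x, hQ, hα, rfl⟩
  have hA := Fusion.autGroup_groupFusionSystem (T := (P : Subgroup G)) hQ
  set W := (normalizer (Q : Set G)).subgroupOf V
  let ι : W →* normalizer (Q : Set G) :=
    { toFun := fun w => ⟨((w : V) : G), w.2⟩
      map_one' := rfl
      map_mul' := fun _ _ => rfl }
  have hmem : ∀ n : W, (Q.normalizerMonoidHom.comp ι) n ∈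
      (groupFusionSystem (P : Subgroup G)).autGroup Q := fun n => by
    rw [hA]
    exact Fusion.mem_autInducedBy.2 ⟨ι n, trivial, (ι n).2, fun _ => rfl⟩
  set π := (Q.normalizerMonoidHom.comp ι).codRestrict _ hmem
  have hπ : Function.Surjective π := by
    rintro ⟨β, hβ⟩
    rw [hA] at hβ
    obtain ⟨g, -, hg, hgx⟩ := Fusion.mem_autInducedBy.1 hβ
    obtain ⟨v, hv, hvx⟩ := h Q hQ g hg
    have hvn : v ∈ normalizer (Q : Set G) := by
      refine Fusion.mem_normalizer_of_conj_mem hQ fun y hy => ?_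
      rw [← hvx y hy]
      exact (mem_normalizer_iff.mp hg y).mp hy
    exact ⟨⟨⟨v, hv⟩, hvn⟩, Subtype.ext (MulEquiv.ext fun y => Subtype.ext
      ((hvx y y.2).symm.trans (hgx y).symm))⟩
  rw [← Fusion.map_pResidual_eq hπ] at hα
  obtain ⟨n, hn, rfl⟩ := hα
  have hxV : (x : G) ∈ V := hPV (hQ x.2)
  have hk : (n : V) ∈ pResidual p V := Fusion.map_pResidual_le W.subtype ⟨n, hn, rfl⟩
  haveI := pResidual_characteristic p V
  have hN : (pResidual p V).Normal := inferInstance
  refine ⟨(⟨x, hxV⟩ : V)⁻¹ * (n : V) * (⟨x, hxV⟩ : V)⁻¹⁻¹ * (n : V)⁻¹,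
    (pResidual p V).mul_mem (hN.conj_mem _ hk _) ((pResidual p V).inv_mem hk), ?_⟩
  simp only [map_mul, map_inv, coe_subtype, inv_inv]
  change (x : G)⁻¹ * ((n : V) : G) * (x : G) * ((n : V) : G)⁻¹ =
    (x : G)⁻¹ * (((n : V) : G) * (x : G) * ((n : V) : G)⁻¹)
  group

/-- Tate's lemma: a normal subgroup meeting a Sylow subgroup inside its Frattini subgroup. -/
theorem hasNormalPComplement_of_le_frattini (P : Sylow p G) (N : Subgroup G) [N.Normal]
    (h : N ⊓ (P : Subgroup G) ≤ (frattini P).map (P : Subgroup G).subtype) :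
    HasNormalPComplement p N := by
  set M := (pResidual p N).map N.subtype with hM
  haveI := pResidual_characteristic p N
  haveI : M.Normal := inferInstance
  haveI := pResidual_characteristic p ↥N
  have hMN : M ≤ N := map_subtype_le _
  set T := (P : Subgroup G) ⊓ M with hT
  have hTP : T ≤ (P : Subgroup G) := inf_le_left
  suffices hT0 : T = ⊥ by
    refine hasNormalPComplement_of_normal (pResidual p N) ?_ exists_pResidual_index
    obtain ⟨R, hR⟩ := Fusion.exists_sylow_of_normal P M
    have hR0 : (R : Subgroup M) = ⊥ := by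
      apply map_injective M.subtype_injective
      rw [hR, subgroupOf_map_subtype, Subgroup.map_bot]
      exact hT0
    rw [← card_map_subtype N (pResidual p N)]
    exact ((Fact.out : p.Prime).coprime_iff_not_dvd.mpr fun hd =>
      R.ne_bot_of_dvd_card hd hR0).symm
  by_contra hne
  have hP : Group.IsNilpotent (P : Subgroup G) := P.isPGroup'.isNilpotent
  set U := ⁅T, (P : Subgroup G)⁆ with hU
  have hPT : (P : Subgroup G) ≤ normalizer (T : Set G) :=
    le_normalizer_inf le_normalizer le_normalizer_of_normal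
  have hUT : U < T := commutator_lt_of_isNilpotent hP hTP hPT hne
  haveI hUn : (U.subgroupOf P).Normal := by
    refine normal_subgroupOf_of_le_normalizer ?_
    refine le_normalizer_of_conj_mem fun a ha z hz => ?_
    exact (show U ≤ U.comap (MulAut.conj a).toMonoidHom from commutator_le.mpr fun t ht y hy => by
      change a * ⁅t, y⁆ * a⁻¹ ∈ U
      rw [show a * ⁅t, y⁆ * a⁻¹ = ⁅a * t * a⁻¹, a * y * a⁻¹⁆ by
        simp [commutatorElement_def]; group]
      exact commutator_mem_commutator ((mem_normalizer_iff.mp (hPT ha) t).mp ht)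
        (P.mul_mem (P.mul_mem ha hy) (P.inv_mem ha))) hz
  set π := QuotientGroup.mk' (U.subgroupOf (P : Subgroup G)) with hπ
  set f := QuotientGroup.mk' M with hf
  set fP := f.comp (P : Subgroup G).subtype with hfP
  have hUker : U.subgroupOf (P : Subgroup G) ≤ fP.ker := fun x hx =>
    (QuotientGroup.eq_one_iff _).mpr (hUT.le hx).2
  set fb := QuotientGroup.lift (U.subgroupOf (P : Subgroup G)) fP hUker with hfb
  have hfb' : ∀ x : P, fb (π x) = f x := fun x => rfl
  let Eg : Subgroup (G × ((P : Subgroup G) ⧸ U.subgroupOf (P : Subgroup G))) :=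
    { carrier := {z | f z.1 = fb z.2}
      mul_mem' := fun {a b} ha hb => by
        simp only [Set.mem_setOf_eq] at ha hb ⊢
        rw [Prod.fst_mul, Prod.snd_mul, map_mul, map_mul, ha, hb]
      one_mem' := by simp
      inv_mem' := fun {a} ha => by
        simp only [Set.mem_setOf_eq] at ha ⊢
        rw [Prod.fst_inv, Prod.snd_inv, map_inv, map_inv, ha] }
  let pr : Eg →* G := (MonoidHom.fst _ _).comp Eg.subtype
  let sn : Eg →* ((P : Subgroup G) ⧸ U.subgroupOf (P : Subgroup G)) :=
    (MonoidHom.snd _ _).comp Eg.subtype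
  -- the image of `T` is central
  have hker : ∀ y, fb y = 1 → ∃ t : P, (t : G) ∈ T ∧ π t = y := by
    intro y hy
    obtain ⟨t, rfl⟩ := QuotientGroup.mk'_surjective _ y
    exact ⟨t, ⟨t.2, (QuotientGroup.eq_one_iff _).mp hy⟩, rfl⟩
  have hTc : ∀ t : P, (t : G) ∈ T → ∀ y, π t * y = y * π t := by
    intro t ht y
    obtain ⟨y, rfl⟩ := QuotientGroup.mk'_surjective _ y
    rw [← map_mul, ← map_mul]
    refine QuotientGroup.eq.mpr ?_
    rw [mem_subgroupOf]
    have h1 : ⁅(t : G)⁻¹, (y : G)⁻¹⁆⁻¹ ∈ U :=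
      U.inv_mem (commutator_mem_commutator (T.inv_mem ht) (inv_mem y.2))
    simpa [commutatorElement_def, mul_assoc] using h1
  set K := pr.ker with hK
  have hKsn : ∀ z ∈ K, fb (sn z) = 1 := fun z hz => by
    rw [← map_one f, ← show pr z = 1 from hz]; exact z.2.symm
  haveI : IsMulCommutative K := ⟨⟨fun a b => Subtype.ext (Subtype.ext (Prod.ext (by
    change pr a * pr b = pr b * pr a
    rw [show pr a = 1 from a.2, show pr b = 1 from b.2]) (by
    change sn a * sn b = sn b * sn a
    obtain ⟨t, ht, he⟩ := hker _ (hKsn a a.2)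
    rw [← he]; exact hTc t ht _)))⟩⟩
  have hinj : Function.Injective (sn.comp K.subtype) := fun a b hab =>
    Subtype.ext (Subtype.ext (Prod.ext
      ((show pr a = 1 from a.2).trans (show pr b = 1 from b.2).symm) hab))
  have hKp : IsPGroup p K :=
    ((P.isPGroup'.to_quotient _).of_injective _ hinj)
  have hPr : (P : Subgroup G) ≤ pr.range := fun x hx => ⟨⟨(x, π ⟨x, hx⟩), rfl⟩, rfl⟩
  set U' := (P : Subgroup G).comap pr
  let gr : P →* Eg :=
    { toFun := fun x => ⟨((x : G), π x), rfl⟩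
      map_one' := rfl
      map_mul' := fun _ _ => rfl }
  obtain ⟨H, hH⟩ := gaschutz_exists K U' (fun z hz => by
      change pr z ∈ (P : Subgroup G)
      rw [show pr z = 1 from hz]; exact one_mem _) (by
      have h1 : U'.index ∣ (P : Subgroup G).index := by
        rw [index_comap]; exact relIndex_dvd_index_of_le hPr
      refine Nat.Coprime.coprime_dvd_right h1 (coprime_card_of_isPGroup hKp ?_)
      exact ((Fact.out : p.Prime).coprime_iff_not_dvd.mpr P.not_dvd_index).symm)
    gr.range (by rintro _ ⟨x, rfl⟩; exact x.2) (by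
      rw [eq_bot_iff]
      rintro _ ⟨⟨x, rfl⟩, hx⟩
      rw [mem_bot, show x = 1 from Subtype.ext hx, map_one]) (by
      refine le_antisymm (sup_le (fun z hz => ?_) (by rintro _ ⟨x, rfl⟩; exact x.2)) fun z hz => ?_
      · change pr z ∈ (P : Subgroup G)
        rw [show pr z = 1 from hz]; exact one_mem _
      · rw [← inv_mul_cancel_right z (gr ⟨pr z, hz⟩)]
        refine mul_mem_sup ?_ ⟨_, rfl⟩
        change pr (z * (gr ⟨pr z, hz⟩)⁻¹) = 1
        rw [map_mul, map_inv]
        exact mul_inv_cancel _)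
  have hex : ∀ z : Eg, ∃ h ∈ H, pr h = pr z ∧ fb (sn h) = fb (sn z) := by
    intro z
    obtain ⟨k, hk, h, hh, rfl⟩ := mem_sup_of_normal_left.mp (hH.sup_eq_top ▸ mem_top z)
    refine ⟨h, hh, by rw [map_mul, show pr k = 1 from hk, one_mul], ?_⟩
    rw [map_mul sn, map_mul, hKsn k hk, one_mul]
  have huniq : ∀ a ∈ H, ∀ b ∈ H, pr a = pr b → a = b := by
    intro a ha b hb hab
    have h1 : a⁻¹ * b ∈ K ⊓ H :=
      ⟨MonoidHom.mem_ker.mpr (by rw [map_mul, map_inv, hab, inv_mul_cancel]),
        H.mul_mem (H.inv_mem ha) hb⟩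
    rw [hH.disjoint.eq_bot, mem_bot, inv_mul_eq_one] at h1
    exact h1
  -- the section is trivial on `M`
  have hMS : M ≤ (H ⊓ sn.ker).map pr := by
    rw [hM, pResidual, MonoidHom.map_closure, closure_le]
    rintro _ ⟨g, hg, rfl⟩
    have hgM : (g : G) ∈ M := mem_map_of_mem _ (mem_pResidual hg)
    obtain ⟨h, hh, hh1, -⟩ := hex ⟨((g : G), 1), by
      change f (g : G) = fb 1
      rw [map_one]; exact (QuotientGroup.eq_one_iff _).mpr hgM⟩
    refine ⟨h, ⟨hh, ?_⟩, hh1⟩
    have h2 : orderOf h ∣ orderOf g := by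
      refine orderOf_dvd_of_pow_eq_one (huniq _ (pow_mem hh _) _ H.one_mem ?_)
      rw [map_pow, hh1, map_one pr]
      change (g : G) ^ orderOf g = 1
      rw [← Subgroup.coe_pow, pow_orderOf_eq_one, Subgroup.coe_one]
    obtain ⟨k, hk⟩ := IsPGroup.iff_orderOf.mp (P.isPGroup'.to_quotient (U.subgroupOf P)) (sn h)
    change sn h = 1
    rw [← orderOf_eq_one_iff]
    exact Nat.eq_one_of_dvd_coprimes ((hg.coprime_dvd_left h2).pow_right k)
      (orderOf_map_dvd sn h) (hk ▸ dvd_rfl)
  -- a complement to the image of `T`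
  set Sb := ((H ⊓ U').map sn).comap π
  have hTF : T.subgroupOf (P : Subgroup G) ≤ frattini (P : Subgroup G) := fun x hx => by
    obtain ⟨y, hy, he⟩ := h ⟨hMN hx.2, x.2⟩
    exact (Subtype.ext he : y = x) ▸ hy
  have hSb : Sb = ⊤ := by
    refine frattini_nongenerating (eq_top_iff.mpr fun x _ => ?_)
    obtain ⟨k, hk, hh', hhH, he⟩ := mem_sup_of_normal_left.mp (hH.sup_eq_top ▸ mem_top (gr x))
    obtain ⟨t, ht, hte⟩ := hker _ (hKsn k hk)
    rw [← mul_inv_cancel_left t x]
    refine Subgroup.mul_mem _ (mem_sup_right (hTF ht)) (mem_sup_left ?_)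
    refine ⟨hh', ⟨hhH, ?_⟩, ?_⟩
    · change pr hh' ∈ (P : Subgroup G)
      rw [show pr hh' = pr (gr x) by rw [← he, map_mul, show pr k = 1 from hk, one_mul]]
      exact x.2
    · rw [map_mul, map_inv, hte, show π x = sn (gr x) from rfl, ← he, map_mul, inv_mul_cancel_left]
  refine hUT.not_ge fun t ht => ?_
  obtain ⟨h', ⟨hh, -⟩, he⟩ := (hSb ▸ mem_top _ : (⟨t, hTP ht⟩ : P) ∈ Sb)
  have hf1 : pr h' ∈ M := by
    rw [← QuotientGroup.eq_one_iff]
    change f (pr h') = 1
    rw [show f (pr h') = fb (sn h') from h'.2, he]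
    exact (QuotientGroup.eq_one_iff _).mpr ht.2
  obtain ⟨h'', ⟨hh'', hs⟩, he'⟩ := hMS hf1
  rw [huniq _ hh'' _ hh he'] at hs
  rw [show sn h' = 1 from hs] at he
  have h1 := (QuotientGroup.eq_one_iff (⟨t, hTP ht⟩ : P)).mp he.symm
  exact h1

end Cfsg.Agent.Solv
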