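import Cfsg.Agent.Lib.Solv.QuadraticApps
import Cfsg.Prelude.Def_Local

/-!
Quadratic action on arbitrary `p`-groups and `p`-stability in the absence of a section `SL(2, p)`.
-/

set_option autoImplicit false
set_option linter.style.haveILetI false
set_option linter.unusedSectionVars false

universe v

namespace Cfsg.Agent.Solv.Quad

open Subgroup
open scoped commutatorElement

variable {p : ℕ} [Fact p.Prime]

/-- Quadratic action on a group. -/
def QuadGrp {X P : Type*} [Group X] [Group P] (φ : X →* MulAut P) (a : X) : Prop :=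
  ∀ v : P, φ a (φ a v * v⁻¹) = φ a v * v⁻¹

/-- Restriction of an action to a characteristic subgroup. -/
def charAct {X P : Type*} [Group X] [Group P] (φ : X →* MulAut P) (Z : Subgroup P)
    [hZ : Z.Characteristic] : X →* MulAut Z where
  toFun x :=
    { toFun := fun z => ⟨φ x z, by
        have h := characteristic_iff_map_le.mp hZ (φ x)
        exact h ⟨z, z.2, rfl⟩⟩
      invFun := fun z => ⟨φ x⁻¹ z, by
        have h := characteristic_iff_map_le.mp hZ (φ x⁻¹)
        exact h ⟨z, z.2, rfl⟩⟩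
      left_inv := fun z => Subtype.ext (by simp)
      right_inv := fun z => Subtype.ext (by simp)
      map_mul' := fun a b => Subtype.ext (by simp) }
  map_one' := MulEquiv.ext fun z => Subtype.ext (by simp)
  map_mul' a b := MulEquiv.ext fun z => Subtype.ext (by simp)

/-- The action on the quotient by a characteristic subgroup. -/
def quotAct {X P : Type*} [Group X] [Group P] (φ : X →* MulAut P) (Z : Subgroup P) [Z.Normal]
    [hZ : Z.Characteristic] : X →* MulAut (P ⧸ Z) where
  toFun x := QuotientGroup.congr Z Z (φ x) (characteristic_iff_map_eq.mp hZ (φ x))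
  map_one' := MulEquiv.ext fun z => by
    obtain ⟨w, rfl⟩ := QuotientGroup.mk_surjective z
    simp
  map_mul' a b := MulEquiv.ext fun z => by
    obtain ⟨w, rfl⟩ := QuotientGroup.mk_surjective z
    simp
    rfl

/-- The elements of order dividing `p` in the centre. -/
def centerP (p : ℕ) (P : Type*) [Group P] : Subgroup P where
  carrier := {z | z ∈ center P ∧ z ^ p = 1}
  one_mem' := ⟨one_mem _, one_pow p⟩
  mul_mem' := fun {a b} ha hb => ⟨mul_mem ha.1 hb.1, by
    rw [(show Commute a b from (mem_center_iff.mp hb.1 a)).mul_pow, ha.2, hb.2, one_mul]⟩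
  inv_mem' := fun {a} ha => ⟨inv_mem ha.1, by rw [inv_pow, ha.2, inv_one]⟩

theorem centerP_characteristic (p : ℕ) (P : Type*) [Group P] : (centerP p P).Characteristic := by
  refine characteristic_iff_map_le.mpr fun e => ?_
  rintro _ ⟨z, ⟨hz, hzp⟩, rfl⟩
  exact ⟨characteristic_iff_map_le.mp centerCharacteristic e ⟨z, hz, rfl⟩,
    by change (e z) ^ p = 1; rw [← map_pow, hzp, map_one]⟩

/-- A quadratic element on a `p`-group lies in a normal subgroup acting as a `p`-group, if this holds on the
elementary abelian layers. -/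
theorem exists_pgroup_normal' {X : Type*} [Group X] [Finite X] (K : Subgroup X) (a : X)
    (hlayer : ∀ {V : Type v} [CommGroup V] [Finite V], (∀ x : V, x ^ p = 1) → ∀ ψ : X →* MulAut V,
      K ≤ ψ.ker → QuadAct ψ a → ψ.rangeRestrict a ∈ pCore p ψ.range) :
    ∀ (n : ℕ) {P : Type v} [Group P] [Finite P], Nat.card P ≤ n →
    IsPGroup p P → ∀ (φ : X →* MulAut P), K ≤ φ.ker → QuadGrp φ a →
    ∃ D : Subgroup X, D.Normal ∧ IsPGroup p (D.map φ) ∧ a ∈ D := by
  intro n
  induction n with
  | zero => intro P _ _ hn; exact absurd hn (not_le.mpr Nat.card_pos)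
  | succ n ih =>
    intro P _ _ hn hP φ hKφ ha
    classical
    rcases subsingleton_or_nontrivial P with hs | hnt
    · haveI : Subsingleton (MulAut P) := ⟨fun x y => MulEquiv.ext fun _ => Subsingleton.elim _ _⟩
      exact ⟨⊤, inferInstance, fun x => ⟨0, Subsingleton.elim _ _⟩, mem_top a⟩
    haveI hchar := centerP_characteristic p P
    set Z := centerP p P
    haveI : Z.Normal := normal_of_characteristic Z
    have hZ1 : Z ≠ ⊥ := by
      intro hbot
      haveI := hP.center_nontrivial
      obtain ⟨k, hk⟩ := IsPGroup.iff_card.mp (hP.to_subgroup (center P))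
      have hdvd : p ∣ Nat.card (center P) := by
        rw [hk]
        refine dvd_pow_self p fun h0 => ?_
        rw [h0, pow_zero] at hk
        have := Finite.one_lt_card (α := center P)
        omega
      obtain ⟨z, hz⟩ := exists_prime_orderOf_dvd_card' p hdvd
      have hzZ : (z : P) ∈ Z := ⟨z.2, by
        rw [← SubgroupClass.coe_pow, ← hz, pow_orderOf_eq_one]; rfl⟩
      rw [hbot, mem_bot] at hzZ
      rw [show z = 1 from Subtype.ext hzZ, orderOf_one] at hz
      exact (Fact.out : p.Prime).one_lt.ne hz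
    letI : CommGroup Z := { (inferInstance : Group Z) with
      mul_comm := fun x y => Subtype.ext (mem_center_iff.mp y.2.1 x) }
    set φ₁ := charAct φ Z with hφ₁
    have hK₁ : K ≤ φ₁.ker := fun g hg => MonoidHom.mem_ker.mpr <| MulEquiv.ext fun v => Subtype.ext
      (DFunLike.congr_fun (MonoidHom.mem_ker.mp (hKφ hg)) (v : P))
    have hK₂ : K ≤ (quotAct φ Z).ker := fun g hg => MonoidHom.mem_ker.mpr <| MulEquiv.ext fun v => by
      obtain ⟨w, rfl⟩ := QuotientGroup.mk_surjective v
      exact congrArg QuotientGroup.mk (DFunLike.congr_fun (MonoidHom.mem_ker.mp (hKφ hg)) w)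
    obtain ⟨D₁, hD₁n, hD₁, haD₁⟩ : ∃ D : Subgroup X, D.Normal ∧ IsPGroup p (D.map φ₁) ∧ a ∈ D := by
      have hmem := hlayer (fun z => Subtype.ext (by simpa using z.2.2)) φ₁ hK₁
        (fun v => by apply Subtype.ext; rw [div_eq_mul_inv]; exact ha v)
      refine ⟨(pCore p φ₁.range).comap φ₁.rangeRestrict, inferInstance, ?_, hmem⟩
      intro x
      obtain ⟨_, ⟨d, hd, rfl⟩⟩ := x
      obtain ⟨k, hk⟩ := isPGroup_pCore p φ₁.range ⟨_, hd⟩
      refine ⟨k, Subtype.ext ?_⟩
      exact congrArg (fun t : pCore p φ₁.range => ((t : φ₁.range) : MulAut Z)) hk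
    obtain ⟨D₂, hD₂n, hD₂, haD₂⟩ : ∃ D : Subgroup X,
        D.Normal ∧ IsPGroup p (D.map (quotAct φ Z)) ∧ a ∈ D := by
      refine ih ?_ (hP.to_quotient Z) (quotAct φ Z) hK₂ fun v => ?_
      · have h1 := Subgroup.card_eq_card_quotient_mul_card_subgroup Z
        have h2 : 1 < Nat.card Z := (one_lt_card_iff_ne_bot Z).mpr hZ1
        have h3 : 0 < Nat.card (P ⧸ Z) := Nat.card_pos
        nlinarith
      · obtain ⟨w, rfl⟩ := QuotientGroup.mk_surjective v
        exact congrArg (QuotientGroup.mk (s := Z)) (ha w)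
    haveI := hD₁n
    haveI := hD₂n
    refine ⟨D₁ ⊓ D₂, inferInstance, ?_, haD₁, haD₂⟩
    intro x
    obtain ⟨_, d, hd, rfl⟩ := x
    obtain ⟨i, hi⟩ := hD₁ ⟨_, d, hd.1, rfl⟩
    obtain ⟨j, hj⟩ := hD₂ ⟨_, d, hd.2, rfl⟩
    have hi' : φ₁ (d ^ p ^ (i + j)) = 1 := by
      have := congrArg Subtype.val hi
      rw [SubgroupClass.coe_pow, OneMemClass.coe_one] at this
      rw [map_pow, pow_add, pow_mul, this, one_pow]
    have hj' : quotAct φ Z (d ^ p ^ (i + j)) = 1 := by
      have := congrArg Subtype.val hj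
      rw [SubgroupClass.coe_pow, OneMemClass.coe_one] at this
      rw [map_pow, add_comm, pow_add, pow_mul, this, one_pow]
    set g := d ^ p ^ (i + j) with hg
    refine ⟨i + j + 1, Subtype.ext ?_⟩
    rw [SubgroupClass.coe_pow, OneMemClass.coe_one, pow_succ, pow_mul]
    change (φ d ^ p ^ (i + j)) ^ p = 1
    rw [← map_pow, ← hg]
    refine MulEquiv.ext fun v => ?_
    have hz : φ g v * v⁻¹ ∈ Z := by
      rw [← QuotientGroup.eq_one_iff, QuotientGroup.mk_mul, QuotientGroup.mk_inv, mul_inv_eq_one]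
      exact DFunLike.congr_fun hj' (QuotientGroup.mk v)
    set z := φ g v * v⁻¹ with hzdef
    have h5 := congrArg Subtype.val (DFunLike.congr_fun hi' (⟨z, hz⟩ : Z))
    have hfix : φ g z = z := h5
    have hpw : ∀ m : ℕ, (φ g ^ m) v = z ^ m * v := by
      intro m
      induction m with
      | zero => simp
      | succ m ihm =>
        rw [pow_succ', MulAut.mul_apply, ihm, map_mul, map_pow, hfix,
          show φ g v = z * v by rw [hzdef, inv_mul_cancel_right], ← mul_assoc, ← pow_succ]
    rw [hpw, hz.2, one_mul]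
    rfl

/-- A quadratic element on a `p`-group lies in a normal subgroup acting as a `p`-group, unless
`SL(2, p)` is involved. -/
theorem exists_pgroup_normal (hp2 : p ≠ 2) {X : Type*} [Group X] [Finite X]
    (hfree : ¬ InvSL p X) (n : ℕ) {P : Type*} [Group P] [Finite P] (hn : Nat.card P ≤ n)
    (hP : IsPGroup p P) (φ : X →* MulAut P) (a : X) (ha : QuadGrp φ a) :
    ∃ D : Subgroup X, D.Normal ∧ IsPGroup p (D.map φ) ∧ a ∈ D := by
  refine exists_pgroup_normal' φ.ker a (fun {V} _ _ hexp ψ _ hq => ?_) n hn hP φ le_rfl ha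
  by_contra hno
  exact hfree (InvSL.of_surjective ψ.rangeRestrict ψ.rangeRestrict_surjective
    (invSL_of_not_mem_pCore hp2 hexp ψ.range.subtype ψ.range.subtype_injective
      (a := ψ.rangeRestrict a) hq hno))

/-- The same, in terms of the quotient by the kernel. -/
theorem mk_mem_pCore (hp2 : p ≠ 2) {X : Type*} [Group X] [Finite X] (hfree : ¬ InvSL p X)
    {P : Type*} [Group P] [Finite P] (hP : IsPGroup p P) (φ : X →* MulAut P) (C : Subgroup X)
    [C.Normal] (hC : φ.ker ≤ C) {a : X} (ha : QuadGrp φ a) :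
    (QuotientGroup.mk a : X ⧸ C) ∈ pCore p (X ⧸ C) := by
  obtain ⟨D, hDn, hD, haD⟩ := exists_pgroup_normal hp2 hfree _ le_rfl hP φ a ha
  haveI := hDn
  haveI : (D.map (QuotientGroup.mk' C)).Normal := hDn.map _ (QuotientGroup.mk'_surjective C)
  refine le_pCore (fun x => ?_) (mem_map_of_mem (QuotientGroup.mk' C) haD)
  obtain ⟨_, d, hd, rfl⟩ := x
  obtain ⟨k, hk⟩ := hD ⟨_, d, hd, rfl⟩
  refine ⟨k, Subtype.ext ?_⟩
  rw [SubgroupClass.coe_pow, OneMemClass.coe_one, ← map_pow]
  refine (QuotientGroup.eq_one_iff _).mpr (hC ?_)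
  rw [MonoidHom.mem_ker, map_pow]
  exact congrArg Subtype.val hk

/-- The layered version, in terms of the quotient by the kernel. -/
theorem mk_mem_pCore' {X : Type*} [Group X] [Finite X] {P : Type v} [Group P] [Finite P]
    (hP : IsPGroup p P) (φ : X →* MulAut P) (C : Subgroup X)
    [C.Normal] (hC : φ.ker ≤ C) {a : X} (ha : QuadGrp φ a)
    (hlayer : ∀ {V : Type v} [CommGroup V] [Finite V], (∀ x : V, x ^ p = 1) → ∀ ψ : X →* MulAut V,
      φ.ker ≤ ψ.ker → QuadAct ψ a → ψ.rangeRestrict a ∈ pCore p ψ.range) :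
    (QuotientGroup.mk a : X ⧸ C) ∈ pCore p (X ⧸ C) := by
  obtain ⟨D, hDn, hD, haD⟩ := exists_pgroup_normal' φ.ker a hlayer _ le_rfl hP φ le_rfl ha
  haveI := hDn
  haveI : (D.map (QuotientGroup.mk' C)).Normal := hDn.map _ (QuotientGroup.mk'_surjective C)
  refine le_pCore (fun x => ?_) (mem_map_of_mem (QuotientGroup.mk' C) haD)
  obtain ⟨_, d, hd, rfl⟩ := x
  obtain ⟨k, hk⟩ := hD ⟨_, d, hd, rfl⟩
  refine ⟨k, Subtype.ext ?_⟩
  rw [SubgroupClass.coe_pow, OneMemClass.coe_one, ← map_pow]
  refine (QuotientGroup.eq_one_iff _).mpr (hC ?_)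
  rw [MonoidHom.mem_ker, map_pow]
  exact congrArg Subtype.val hk

/-- Quadratic action by conjugation on a normal subgroup. -/
theorem quadGrp_conjNormal {G : Type*} [Group G] (V : Subgroup G) [V.Normal] {a : G}
    (hq : ⁅⁅V, zpowers a⁆, zpowers a⁆ = ⊥) : QuadGrp (MulAut.conjNormal : G →* MulAut V) a := by
  intro v
  apply Subtype.ext
  have hmem : ⁅(v : G), a⁆ ∈ ⁅V, zpowers a⁆ := commutator_mem_commutator v.2 (mem_zpowers a)
  have h1 := commutator_mem_commutator hmem (mem_zpowers a)
  rw [hq, mem_bot, commutatorElement_eq_one_iff_mul_comm] at h1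
  have h2 : (a * (v : G) * a⁻¹) * (v : G)⁻¹ = ⁅(v : G), a⁆⁻¹ := by
    rw [commutatorElement_def]; group
  have h3 : Commute a ⁅(v : G), a⁆⁻¹ := (Commute.inv_right (h1.symm : Commute a _))
  simp only [MulAut.conjNormal_apply, Subgroup.coe_mul, Subgroup.coe_inv]
  rw [h2, h3.eq, mul_inv_cancel_right]

theorem ker_conjNormal {G : Type*} [Group G] (V : Subgroup G) [V.Normal] :
    (MulAut.conjNormal : G →* MulAut V).ker = centralizer (V : Set G) := by
  ext g
  rw [MonoidHom.mem_ker, mem_centralizer_iff]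
  constructor
  · intro h v hv
    have h1 := congrArg Subtype.val (DFunLike.congr_fun h ⟨v, hv⟩)
    rw [MulAut.conjNormal_apply] at h1
    exact (mul_inv_eq_iff_eq_mul.mp h1).symm
  · intro h
    refine MulEquiv.ext fun v => Subtype.ext ?_
    rw [MulAut.conjNormal_apply, ← h v v.2, mul_inv_cancel_right]
    rfl

theorem isPStableOn_of_free {G : Type*} [Group G] [Finite G] (hp2 : p ≠ 2) (hfree : ¬ InvSL p G)
    (V : Subgroup G) [V.Normal] (hV : IsPGroup p V) : IsPStableOn p V := fun _ ha =>
  mk_mem_pCore hp2 hfree hV MulAut.conjNormal _ (ker_conjNormal V).le (quadGrp_conjNormal V ha)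

theorem isActionPStable_of_free {G : Type*} [Group G] [Finite G] (hp2 : p ≠ 2)
    (hfree : ¬ InvSL p G) : IsActionPStable p G := by
  refine ⟨fun V _ hV => isPStableOn_of_free hp2 hfree V (isPGroup_of_elemAbelian hV), ?_,
    fun S V _ hV => ?_⟩
  · intro a ha
    set K := pCore p G
    set N := (frattini ↥(pCore p G)).map (pCore p G).subtype
    set π := QuotientGroup.mk' N
    haveI : (K.map π).Normal := Subgroup.Normal.map inferInstance π (QuotientGroup.mk'_surjective N)
    set φ : G →* MulAut (K.map π) := MulAut.conjNormal.comp π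
    have hq : QuadGrp φ a := by
      refine quadGrp_conjNormal (K.map π) (a := π a) (le_bot_iff.mp ?_)
      rw [← MonoidHom.map_zpowers, ← map_commutator, ← map_commutator]
      rw [← QuotientGroup.map_mk'_self N]
      exact map_mono ha
    have hker : φ.ker = sectionKernel K N := by
      rw [show φ.ker = (MulAut.conjNormal : G ⧸ N →* MulAut (K.map π)).ker.comap π from
        (MonoidHom.comap_ker _ _).symm, ker_conjNormal]
      rfl
    obtain ⟨D, hDn, hD, haD⟩ := exists_pgroup_normal hp2 hfree _ le_rfl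
      ((isPGroup_pCore p G).map π) φ a hq
    haveI := hDn
    refine ⟨D ⊔ sectionKernel K N, ?_, le_sup_right, ?_, mem_sup_left haD⟩
    · rw [← hker]; infer_instance
    · obtain ⟨k, hk⟩ := IsPGroup.iff_card.mp hD
      refine ⟨k, ?_⟩
      rw [← hker, sup_comm, relIndex_ker, Subgroup.map_sup, (Subgroup.map_eq_bot_iff _).mpr le_rfl, bot_sup_eq, hk]
  · refine isPStableOn_of_free hp2 (fun h => hfree h.of_subgroup) V ?_
    have h1 := (S.isPGroup'.to_subgroup (omegaCenterThompson p ↥(S : Subgroup G))).map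
      (S : Subgroup G).subtype
    have h2 : IsPGroup p (V.map (normalizer (thompsonSubgroupOf p (S : Subgroup G) : Set G)).subtype) :=
      h1.to_le hV
    exact h2.of_equiv (equivMapOfInjective V _ (subtype_injective _)).symm

end Cfsg.Agent.Solv.Quad
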