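import Cfsg.Agent.Lib.Solv.Offender
import Cfsg.Agent.Lib.Solv.NormalPComplement
import Cfsg.Agent.Lib.Solv.PSolvable
import Cfsg.Agent.S0056
import Mathlib.GroupTheory.SemidirectProduct

/-!
Thompson's normal `p`-complement theorem (`p` odd).
-/

set_option autoImplicit false
set_option linter.style.haveILetI false

namespace Cfsg.Agent.Solv

open Subgroup
open scoped Pointwise commutatorElement

universe u

variable {p : ℕ}

theorem thompsonOf_map {G : Type*} {G' : Type*} [Group G] [Group G'] [Finite G] [Finite G']
    (f : G →* G') (P : Subgroup G) (h : P ⊓ f.ker = ⊥) :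
    (thompsonSubgroupOf p P).map f = thompsonSubgroupOf p (P.map f) := by
  have hinj : Function.Injective (f.subgroupMap P) := by
    rw [← MonoidHom.ker_eq_bot_iff, eq_bot_iff]
    intro x hx
    have : (x : G) ∈ P ⊓ f.ker := ⟨x.2, congrArg Subtype.val (hx : f.subgroupMap P x = 1)⟩
    rw [h, mem_bot] at this
    exact mem_bot.mpr (Subtype.ext this)
  let e := MulEquiv.ofBijective _ ⟨hinj, f.subgroupMap_surjective P⟩
  rw [thompsonSubgroupOf, thompsonSubgroupOf, ← thompson_map_equiv e, map_map, map_map]
  rfl

theorem center_map {G : Type*} {G' : Type*} [Group G] [Group G'] (f : G →* G') (P : Subgroup G)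
    (h : P ⊓ f.ker = ⊥) :
    (P ⊓ centralizer (P : Set G)).map f = P.map f ⊓ centralizer ((P.map f : Subgroup G') : Set G') := by
  refine le_antisymm ?_ ?_
  · rintro _ ⟨x, ⟨hx, hxc⟩, rfl⟩
    refine ⟨mem_map_of_mem f hx, ?_⟩
    rintro _ ⟨z, hz, rfl⟩
    rw [← map_mul, ← map_mul, hxc z hz]
  · rintro y ⟨⟨x, hx, rfl⟩, hyc⟩
    refine mem_map_of_mem f ⟨hx, fun z hz => ?_⟩
    have h1 : ⁅z, x⁆ ∈ P ⊓ f.ker := by
      refine ⟨(?_ : ⁅z, x⁆ ∈ P), (?_ : ⁅z, x⁆ ∈ f.ker)⟩
      · rw [commutatorElement_def]
        exact mul_mem (mul_mem (mul_mem hz hx) (inv_mem hz)) (inv_mem hx)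
      · rw [MonoidHom.mem_ker, map_commutatorElement, commutatorElement_eq_one_iff_mul_comm]
        exact hyc (f z) (mem_map_of_mem f hz)
    rw [h, mem_bot, commutatorElement_eq_one_iff_mul_comm] at h1
    exact h1

theorem hasNormalPComplement_of_injective [Fact p.Prime] {G : Type*} {G' : Type*} [Group G]
    [Group G'] [Finite G'] (f : G →* G') (hf : Function.Injective f)
    (h : HasNormalPComplement p G') : HasNormalPComplement p G :=
  hasNormalPComplement_of_mulEquiv (MonoidHom.ofInjective hf).symm
    (hasNormalPComplement_subgroup h f.range)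

theorem hasNormalPComplement_of_le [Fact p.Prime] {G : Type*} [Group G] [Finite G]
    {K L : Subgroup G} (hKL : K ≤ L) (h : HasNormalPComplement p L) : HasNormalPComplement p K :=
  hasNormalPComplement_of_injective (inclusion hKL) (inclusion_injective hKL) h

/-- The hypothesis of Thompson's theorem. -/
def ThompsonHyp (p : ℕ) {G : Type*} [Group G] (P : Subgroup G) : Prop :=
  HasNormalPComplement p (normalizer (thompsonSubgroupOf p P : Set G)) ∧
    HasNormalPComplement p (centralizer ((P ⊓ centralizer (P : Set G) : Subgroup G) : Set G))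

theorem map_normalizer_le_of_eq {G G' : Type*} [Group G] [Group G'] (f : G →* G') {X : Subgroup G}
    {Y : Subgroup G'} (h : X.map f = Y) :
    (normalizer (X : Set G)).map f ≤ normalizer (Y : Set G') :=
  h ▸ le_normalizer_map f

theorem ThompsonHyp.comap [Fact p.Prime] {G : Type*} {H : Type*} [Group G] [Group H] [Finite G]
    [Finite H] {P : Subgroup G} (h : ThompsonHyp p P) (f : H →* G) (hf : Function.Injective f)
    {Q : Subgroup H} (hQ : Q.map f = P) : ThompsonHyp p Q := by
  have hk : Q ⊓ f.ker = ⊥ := by rw [(MonoidHom.ker_eq_bot_iff f).mpr hf, inf_bot_eq]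
  constructor
  · refine hasNormalPComplement_of_injective
      ((f.comp (normalizer (thompsonSubgroupOf p Q : Set H)).subtype).codRestrict
        (normalizer (thompsonSubgroupOf p P : Set G)) fun x => ?_) ?_ h.1
    · exact map_normalizer_le_of_eq f (by rw [thompsonOf_map f Q hk, hQ]) (mem_map_of_mem f x.2)
    · exact fun x y hxy => Subtype.ext (hf (congrArg Subtype.val hxy))
  · refine hasNormalPComplement_of_injective
      ((f.comp (centralizer ((Q ⊓ centralizer (Q : Set H) : Subgroup H) : Set H)).subtype).codRestrict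
        (centralizer ((P ⊓ centralizer (P : Set G) : Subgroup G) : Set G)) fun x => ?_) ?_ h.2
    · rw [← hQ, ← center_map f Q hk]
      rintro _ ⟨z, hz, rfl⟩
      simp only [MonoidHom.coe_comp, Function.comp_apply, coe_subtype]
      rw [← map_mul, ← map_mul, x.2 z hz]
    · exact fun x y hxy => Subtype.ext (hf (congrArg Subtype.val hxy))

theorem ThompsonHyp.conj [Fact p.Prime] {G : Type*} [Group G] [Finite G] {P : Subgroup G}
    (h : ThompsonHyp p P) (g : G) : ThompsonHyp p (MulAut.conj g • P) := by
  refine h.comap (MulAut.conj g⁻¹).toMonoidHom (MulAut.conj g⁻¹).injective ?_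
  change (MulAut.conj g⁻¹) • (MulAut.conj g • P) = P
  rw [conj_smul_conj_smul, inv_mul_cancel, map_one, one_smul]

theorem exists_mul_of_map_eq {G : Type*} [Group G] [Finite G] (N X : Subgroup G) [N.Normal]
    (hX : Group.IsSolvable X) (hcop : (Nat.card X).Coprime (Nat.card N)) {g : G}
    (hg : QuotientGroup.mk' N g ∈ normalizer ((X.map (QuotientGroup.mk' N) : Subgroup (G ⧸ N)) :
      Set (G ⧸ N))) :
    ∃ n ∈ N, n⁻¹ * g ∈ normalizer (X : Set G) := by
  set f := QuotientGroup.mk' N with hf
  have hK : MulAut.conj g • X ≤ N ⊔ X := by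
    intro y hy
    rw [mem_conj_smul] at hy
    have h1 : f y ∈ X.map f := by
      have h2 := (mem_normalizer_iff.mp hg _).mp (mem_map_of_mem f hy)
      rw [map_mul, map_mul, map_inv] at h2
      simpa [mul_assoc] using h2
    obtain ⟨x, hx, hxy⟩ := h1
    have h3 : y * x⁻¹ ∈ N := by
      rw [← QuotientGroup.eq_one_iff]
      change f (y * x⁻¹) = 1
      rw [map_mul, map_inv, hxy, mul_inv_cancel]
    have h4 := mul_mem_sup h3 hx
    simpa using h4
  haveI := hX
  obtain ⟨n, hn, hne⟩ := conj_of_card_eq N X (MulAut.conj g • X) (Or.inr inferInstance)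
    le_normalizer_of_normal hK (card_conj_smul _ _) hcop.symm
  refine ⟨n, hn, mem_normalizer_of_conj_le (le_of_eq ?_)⟩
  rw [← conj_smul_conj_smul, ← hne, conj_smul_conj_smul, inv_mul_cancel, map_one, one_smul]

/-- The subgroup of elements of order dividing `p` in a commutative subgroup. -/
theorem exists_omega {G : Type*} [Group G] (p : ℕ) (Z : Subgroup G)
    (hZ : ∀ a ∈ Z, ∀ b ∈ Z, a * b = b * a) :
    ∃ V : Subgroup G, ∀ x, x ∈ V ↔ x ∈ Z ∧ x ^ p = 1 :=
  ⟨{ carrier := {x | x ∈ Z ∧ x ^ p = 1}
     one_mem' := ⟨Z.one_mem, one_pow p⟩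
     mul_mem' := fun {a b} ha hb => ⟨Z.mul_mem ha.1 hb.1, by
       rw [(show Commute a b from hZ a ha.1 b hb.1).mul_pow, ha.2, hb.2, one_mul]⟩
     inv_mem' := fun {a} ha => ⟨Z.inv_mem ha.1, by rw [inv_pow, ha.2, inv_one]⟩ },
    fun _ => Iff.rfl⟩

theorem thompson_complement_aux [hp : Fact p.Prime] (hp2 : p ≠ 2) : ∀ (n : ℕ) (G : Type u)
    [Group G] [Finite G], Nat.card G ≤ n → ∀ P : Sylow p G, ThompsonHyp p (P : Subgroup G) →
    HasNormalPComplement p G := by
  classical
  intro n
  induction n with
  | zero => intro G _ _ hn; exact absurd hn (not_le.mpr Nat.card_pos)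
  | succ n ih =>
    intro G _ _ hn P hyp
    by_contra hcontra
    set pf : Subgroup G → ℕ := fun X => (Nat.card X).factorization p with hpf
    have hPp : IsPGroup p ↥(P : Subgroup G) := P.isPGroup'
    -- `O_{p'}(G) = 1`
    have hN1 : pPrimeCore p G = ⊥ := by
      by_contra hne
      set N := pPrimeCore p G with hN
      set f := QuotientGroup.mk' N with hf
      have hlt : Nat.card (G ⧸ N) < Nat.card G := by
        rw [card_eq_card_quotient_mul_card_subgroup N]
        exact lt_mul_of_one_lt_right Nat.card_pos ((one_lt_card_iff_ne_bot N).mpr hne)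
      have hk : (P : Subgroup G) ⊓ f.ker = ⊥ := by
        rw [hf, QuotientGroup.ker_mk']
        exact inf_eq_bot_of_isPGroup hPp (card_pPrimeCore_coprime p G)
      have hPb := Sylow.coe_mapSurjective (QuotientGroup.mk'_surjective N) P
      refine hcontra (hasNormalPComplement_of_normal_coprime N (card_pPrimeCore_coprime p G)
        (ih _ (by omega) (P.mapSurjective (QuotientGroup.mk'_surjective N)) ?_))
      rw [hPb]
      have himg : ∀ X : Subgroup G, X ≤ (P : Subgroup G) →
          normalizer ((X.map f : Subgroup (G ⧸ N)) : Set (G ⧸ N)) ≤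
            (normalizer (X : Set G)).map f := by
        intro X hX y hy
        obtain ⟨g, rfl⟩ := QuotientGroup.mk'_surjective N y
        haveI := (hPp.to_le hX).isNilpotent
        obtain ⟨m, hm, hmg⟩ := exists_mul_of_map_eq N X inferInstance
          (coprime_card_of_isPGroup (hPp.to_le hX) (card_pPrimeCore_coprime p G)) hy
        refine ⟨_, hmg, ?_⟩
        have hfm : f m = 1 := (QuotientGroup.eq_one_iff m).mpr hm
        rw [map_mul, map_inv, hfm, inv_one, one_mul]
      constructor
      · rw [← thompsonOf_map f _ hk]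
        refine hasNormalPComplement_of_le (himg _ (map_subtype_le _)) ?_
        exact hasNormalPComplement_of_surjective _ (f.subgroupMap_surjective _) hyp.1
      · rw [← center_map f _ hk]
        set Z := (P : Subgroup G) ⊓ centralizer ((P : Subgroup G) : Set G) with hZ
        refine hasNormalPComplement_of_le (L := (centralizer (Z : Set G)).map f) ?_
          (hasNormalPComplement_of_surjective _ (f.subgroupMap_surjective _) hyp.2)
        intro y hy
        obtain ⟨g, hg, rfl⟩ := himg Z inf_le_left (centralizer_le_normalizer _ hy)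
        refine mem_map_of_mem f ?_
        intro z hz
        have h1 : ⁅z, g⁆ ∈ (P : Subgroup G) ⊓ f.ker := by
          refine ⟨(?_ : ⁅z, g⁆ ∈ (P : Subgroup G)), (?_ : ⁅z, g⁆ ∈ f.ker)⟩
          · rw [commutatorElement_def]
            have := mul_mem (inf_le_left (b := centralizer ((P : Subgroup G) : Set G)) hz)
              (inf_le_left (b := centralizer ((P : Subgroup G) : Set G))
                ((mem_normalizer_iff.mp hg _).mp (inv_mem hz)))
            simpa [mul_assoc] using this
          · rw [MonoidHom.mem_ker, map_commutatorElement, commutatorElement_eq_one_iff_mul_comm]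
            exact hy (f z) (mem_map_of_mem f hz)
        rw [hk, mem_bot, commutatorElement_eq_one_iff_mul_comm] at h1
        exact h1
    -- proper subgroups containing a Sylow subgroup
    have hsub : ∀ H : Subgroup G, H ≠ ⊤ → ∀ P' : Sylow p G, (P' : Subgroup G) ≤ H →
        HasNormalPComplement p H := by
      intro H hH P' hle
      have hlt : Nat.card H < Nat.card G :=
        lt_of_le_of_ne (card_le_card_group _) fun h' => hH (eq_top_of_card_eq _ h')
      obtain ⟨g, hg⟩ := MulAction.exists_smul_eq G P P'
      refine ih H (by omega) (P'.subtype hle) ?_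
      refine ThompsonHyp.comap (hyp.conj g) H.subtype H.subtype_injective ?_
      rw [Sylow.coe_subtype, map_subgroupOf_eq_of_le hle, ← hg, Sylow.coe_subgroup_smul]
    -- `O_p(G) ≠ 1`
    have hU1 : pCore p G ≠ ⊥ := by
      intro hbot
      set S := {X : Subgroup G | IsPGroup p X ∧ X ≠ ⊥ ∧
        ¬ HasNormalPComplement p (normalizer (X : Set G))} with hS
      have hne : S.Nonempty := by
        by_contra hempty
        refine hcontra (hasNormalPComplement_iff_normalizer.mpr fun X hX hX1 => ?_)
        by_contra hX2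
        exact hempty ⟨X, hX, hX1, hX2⟩
      obtain ⟨U, ⟨hUp, hU1, hUb⟩, hmax⟩ :=
        Set.exists_max_image S (fun X => pf (normalizer (X : Set G))) (Set.toFinite _) hne
      set H := normalizer (U : Set G) with hH
      have hHne : H ≠ ⊤ := fun h => hU1 (le_bot_iff.mp (hbot ▸
        (haveI := normalizer_eq_top_iff.mp h; le_pCore hUp)))
      obtain ⟨R⟩ : Nonempty (Sylow p H) := inferInstance
      set R0 := (R : Subgroup H).map H.subtype with hR0
      have hR0p : IsPGroup p R0 := R.isPGroup'.map _
      obtain ⟨P', hP'⟩ := hR0p.exists_le_sylow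
      have hUR : U ≤ R0 := by
        haveI : (U.subgroupOf H).Normal := normal_subgroupOf_of_le_normalizer le_rfl
        exact (map_subgroupOf_eq_of_le le_normalizer).ge.trans
          (map_mono (IsPGroup.le_sylow_of_normal (N := U.subgroupOf H) hUp.comap_subtype R))
      rcases eq_or_lt_of_le hP' with heq | hlt
      · exact hUb (hsub H hHne P' (heq ▸ map_subtype_le _))
      have hnc : normalizer (R0.subgroupOf (P' : Subgroup G) : Set ↥(P' : Subgroup G)) ≠
          R0.subgroupOf (P' : Subgroup G) := by
        haveI := P'.isPGroup'.isNilpotent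
        refine (Group.normalizerCondition_of_isNilpotent _ ?_).ne'
        rw [lt_top_iff_ne_top, ne_eq, subgroupOf_eq_top]
        exact fun h => hlt.not_ge h
      set R1 := (P' : Subgroup G) ⊓ normalizer (R0 : Set G) with hR1
      have hR1lt : R0 < R1 := by
        refine lt_of_le_of_ne (le_inf hP' le_normalizer) fun h => hnc ?_
        rw [← subgroupOf_normalizer_eq hP']
        conv_rhs => rw [h, hR1, inf_subgroupOf_left]
      have hRc : pf H = pf R0 := by
        simp only [hpf]
        rw [hR0, card_map_subtype, R.card_eq_multiplicity, hp.out.factorization_pow,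
          Finsupp.single_eq_same]
      have hbig : ∀ X : Subgroup G, IsPGroup p X → X ≠ ⊥ →
          normalizer (R0 : Set G) ≤ normalizer (X : Set G) →
          HasNormalPComplement p (normalizer (X : Set G)) := by
        intro X hXp hX1 hle
        by_contra hb
        have h1 : pf (normalizer (X : Set G)) ≤ pf H := hmax X ⟨hXp, hX1, hb⟩
        obtain ⟨k, hk⟩ := IsPGroup.iff_card.mp (P'.isPGroup'.to_le (inf_le_left : R1 ≤ P'))
        obtain ⟨j, hj⟩ := IsPGroup.iff_card.mp hR0p
        have h2 : k ≤ pf (normalizer (X : Set G)) :=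
          (hp.out.pow_dvd_iff_le_factorization Nat.card_pos.ne').mp
            (hk ▸ card_dvd_of_le ((inf_le_right : R1 ≤ normalizer (R0 : Set G)).trans hle))
        have h3 : Nat.card R0 < Nat.card R1 :=
          lt_of_le_of_ne (card_le_of_le hR1lt.le)
            fun h => hR1lt.ne (eq_of_le_of_card_ge hR1lt.le h.ge)
        rw [hk, hj, Nat.pow_lt_pow_iff_right hp.out.one_lt] at h3
        have h4 : pf R0 = j := by
          simp only [hpf]
          rw [hj, hp.out.factorization_pow, Finsupp.single_eq_same]
        omega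
      have hR0ne : R0 ≠ ⊥ := fun h => hU1 (le_bot_iff.mp (h ▸ hUR))
      have hRdvd : p ∣ Nat.card R0 := by
        obtain ⟨j, hj⟩ := IsPGroup.iff_card.mp hR0p
        rcases j with _ | j
        · exact absurd (Subgroup.card_eq_one.mp (by rw [hj, pow_zero])) hR0ne
        · rw [hj]; exact dvd_pow_self p j.succ_ne_zero
      set JR := thompsonSubgroupOf p R0 with hJR
      set ZR := R0 ⊓ centralizer (R0 : Set G) with hZR
      have hchar : ∀ g ∈ normalizer (R0 : Set G),
          MulAut.conj g • JR = JR ∧ MulAut.conj g • ZR = ZR := by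
        intro g hg
        have hk : R0 ⊓ (MulAut.conj g).toMonoidHom.ker = ⊥ := by
          rw [(MonoidHom.ker_eq_bot_iff _).mpr (MulAut.conj g).injective, inf_bot_eq]
        have he : R0.map (MulAut.conj g).toMonoidHom = R0 :=
          conj_smul_eq_self_of_mem_normalizer hg
        constructor
        · change JR.map (MulAut.conj g).toMonoidHom = JR
          rw [hJR, thompsonOf_map _ _ hk, he]
        · change ZR.map (MulAut.conj g).toMonoidHom = ZR
          rw [hZR, center_map _ _ hk, he]
      have hJ : HasNormalPComplement p (normalizer (JR : Set G)) := by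
        refine hbig _ (hR0p.to_le (map_subtype_le _)) (fun h => ?_)
          fun g hg => mem_normalizer_of_conj_le (hchar g hg).1.le
        exact thompson_ne_bot hRdvd ((map_eq_bot_iff_of_injective _ R0.subtype_injective).mp h)
      have hZ : HasNormalPComplement p (normalizer (ZR : Set G)) := by
        refine hbig _ (hR0p.to_le inf_le_left) (fun h => ?_)
          fun g hg => mem_normalizer_of_conj_le (hchar g hg).2.le
        haveI : Nontrivial R0 := (nontrivial_iff_ne_bot _).mpr hR0ne
        haveI : Nontrivial (center R0) := IsPGroup.center_nontrivial hR0p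
        obtain ⟨z, hz⟩ := exists_ne (1 : center R0)
        refine hz (Subtype.ext (Subtype.ext ?_))
        rw [OneMemClass.coe_one, OneMemClass.coe_one, ← mem_bot, ← h]
        exact ⟨(z : R0).2, fun w hw => congrArg Subtype.val (mem_center_iff.mp z.2 ⟨w, hw⟩)⟩
      refine hUb (ih H ?_ R ?_)
      · have : Nat.card H < Nat.card G :=
          lt_of_le_of_ne (card_le_card_group _) fun h' => hHne (eq_top_of_card_eq _ h')
        omega
      refine ThompsonHyp.comap (P := R0) ⟨hJ, ?_⟩ H.subtype H.subtype_injective rfl
      exact hasNormalPComplement_of_le (centralizer_le_normalizer _) hZ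
    set U := pCore p G with hUdef
    have hUP : U ≤ (P : Subgroup G) := pCore_le_sylow P
    set f := QuotientGroup.mk' U with hf
    have hf1 : ∀ x, f x = 1 ↔ x ∈ U := fun x => QuotientGroup.eq_one_iff x
    set Pb := P.mapSurjective (QuotientGroup.mk'_surjective U) with hPbdef
    have hPb : (Pb : Subgroup (G ⧸ U)) = (P : Subgroup G).map f :=
      Sylow.coe_mapSurjective _ _
    have hOp : pCore p (G ⧸ U) = ⊥ := pCore_quotient_pCore p G
    have hPU : ¬ (P : Subgroup G) ≤ U := by
      intro h
      have heq : (P : Subgroup G) = U := le_antisymm h hUP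
      refine hcontra (hasNormalPComplement_of_injective
        ((MonoidHom.id G).codRestrict (normalizer (thompsonSubgroupOf p (P : Subgroup G) : Set G))
          fun g => mem_normalizer_of_conj_le (le_of_eq ?_)) (fun a b hab => congrArg Subtype.val hab)
        hyp.1)
      change (thompsonSubgroupOf p (P : Subgroup G)).map (MulAut.conj g).toMonoidHom = _
      rw [thompsonOf_map _ _ (by
        rw [(MonoidHom.ker_eq_bot_iff _).mpr (MulAut.conj g).injective, inf_bot_eq]), heq]
      congr 1
      exact conj_smul_eq_self_of_mem_normalizer (le_normalizer_of_normal (K := ⊤) (mem_top g))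
    -- preimages of proper subgroups containing the image of `P`
    have hpre : ∀ Y : Subgroup (G ⧸ U), (Pb : Subgroup (G ⧸ U)) ≤ Y → Y ≠ ⊤ →
        HasNormalPComplement p ↥(Y.comap f) := by
      intro Y hY hYtop
      refine hsub _ (fun h => hYtop ?_) P fun x hx => hY (hPb ▸ mem_map_of_mem f hx)
      rw [← map_comap_eq_self_of_surjective (QuotientGroup.mk'_surjective U) Y, ← hf, h,
        map_top_of_surjective _ (QuotientGroup.mk'_surjective U)]
    have hpre' : ∀ Y : Subgroup (G ⧸ U), (Pb : Subgroup (G ⧸ U)) ≤ Y → Y ≠ ⊤ →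
        HasNormalPComplement p Y := fun Y hY hYtop =>
      hasNormalPComplement_of_surjective (f.subgroupComap Y)
        (fun ⟨y, hy⟩ => by
          obtain ⟨x, rfl⟩ := QuotientGroup.mk'_surjective U y
          exact ⟨⟨x, hy⟩, rfl⟩) (hpre Y hY hYtop)
    have hPb1 : (Pb : Subgroup (G ⧸ U)) ≠ ⊥ := by
      rw [hPb, ne_eq, Subgroup.map_eq_bot_iff, hf, QuotientGroup.ker_mk']
      exact hPU
    have hQnpc : HasNormalPComplement p (G ⧸ U) := by
      have hlt : Nat.card (G ⧸ U) < Nat.card G := by
        rw [card_eq_card_quotient_mul_card_subgroup U]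
        exact lt_mul_of_one_lt_right Nat.card_pos ((one_lt_card_iff_ne_bot U).mpr hU1)
      refine ih _ (by omega) Pb ⟨?_, ?_⟩
      · refine hpre' _ ?_ fun h => ?_
        · intro x hx
          refine mem_normalizer_of_conj_le (le_of_eq ?_)
          change (thompsonSubgroupOf p (Pb : Subgroup (G ⧸ U))).map (MulAut.conj x).toMonoidHom = _
          rw [thompsonOf_map _ _ (by
            rw [(MonoidHom.ker_eq_bot_iff _).mpr (MulAut.conj x).injective, inf_bot_eq])]
          congr 1
          exact conj_smul_eq_self_of_mem hx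
        · haveI := normalizer_eq_top_iff.mp h
          have h1 := le_pCore (Pb.isPGroup'.to_le
            (map_subtype_le (thompsonSubgroup p ↥(Pb : Subgroup (G ⧸ U)))) :
              IsPGroup p ↥(thompsonSubgroupOf p (Pb : Subgroup (G ⧸ U))))
          rw [hOp, le_bot_iff] at h1
          refine thompson_ne_bot (p := p) ?_
            ((map_eq_bot_iff_of_injective _ (subtype_injective _)).mp h1)
          obtain ⟨j, hj⟩ := IsPGroup.iff_card.mp Pb.isPGroup'
          rcases j with _ | j
          · exact absurd (Subgroup.card_eq_one.mp (by rw [hj, pow_zero])) hPb1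
          · rw [hj]; exact dvd_pow_self p j.succ_ne_zero
      · refine hpre' _ (le_centralizer_iff.mp inf_le_right) fun h => ?_
        set Zb := (Pb : Subgroup (G ⧸ U)) ⊓ centralizer ((Pb : Subgroup (G ⧸ U)) : Set (G ⧸ U))
        haveI : Zb.Normal := normalizer_eq_top_iff.mp
          (top_le_iff.mp (h ▸ centralizer_le_normalizer (Zb : Set (G ⧸ U))))
        have h1 := le_pCore (N := Zb) (Pb.isPGroup'.to_le inf_le_left)
        rw [hOp, le_bot_iff] at h1
        haveI : Nontrivial ↥(Pb : Subgroup (G ⧸ U)) := (nontrivial_iff_ne_bot _).mpr hPb1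
        haveI : Nontrivial (center ↥(Pb : Subgroup (G ⧸ U))) :=
          IsPGroup.center_nontrivial Pb.isPGroup'
        obtain ⟨z, hz⟩ := exists_ne (1 : center ↥(Pb : Subgroup (G ⧸ U)))
        refine hz (Subtype.ext (Subtype.ext ?_))
        rw [OneMemClass.coe_one, OneMemClass.coe_one, ← mem_bot, ← h1]
        exact ⟨(z : ↥(Pb : Subgroup (G ⧸ U))).2,
          fun w hw => congrArg Subtype.val (mem_center_iff.mp z.2 ⟨w, hw⟩)⟩
    -- `C(U) ≤ U`
    have hsolG : IsPSolvable p G :=
      isPSolvable_of_extension U (isPSolvable_of_isPGroup (isPGroup_pCore p G))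
        (isPSolvable_of_extension (pPrimeCore p (G ⧸ U))
          (isPSolvable_of_coprime (card_pPrimeCore_coprime p _))
          (isPSolvable_of_isPGroup (by
            obtain ⟨k, hk⟩ := hasNormalPComplement_iff_index.mp hQnpc
            exact IsPGroup.of_card (n := k) (by rw [← index_eq_card, hk]))))
    have hCU : centralizer (U : Set G) ≤ U := centralizer_pCore_le_of_isPSolvable hsolG hN1
    have hkill : ∀ Y : Subgroup (G ⧸ U), (Pb : Subgroup (G ⧸ U)) ≤ Y → Y ≠ ⊤ →
        ∀ x ∈ Y, (orderOf x).Coprime p → x = 1 := by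
      intro Y hY hYtop x hx hxc
      obtain ⟨y, rfl⟩ := QuotientGroup.mk'_surjective U x
      set X := Y.comap f with hX
      have hUX : U ≤ X := fun u hu => by
        rw [hX, mem_comap, (hf1 u).mpr hu]; exact one_mem _
      obtain ⟨k, hk⟩ := hasNormalPComplement_iff_index.mp (hpre Y hY hYtop)
      haveI : (U.subgroupOf X).Normal := inferInstance
      set N := pPrimeCore p X with hN
      have hNU : N.map X.subtype ≤ U := by
        refine le_trans ?_ hCU
        rintro _ ⟨m, hm, rfl⟩ u hu
        have hd : U.subgroupOf X ⊓ N = ⊥ :=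
          inf_eq_bot_of_isPGroup (isPGroup_pCore p G).comap_subtype (card_pPrimeCore_coprime p _)
        have h1 : ⁅(⟨u, hUX hu⟩ : X), m⁆ ∈ U.subgroupOf X ⊓ N :=
          commutator_le_inf _ _ (commutator_mem_commutator hu hm)
        rw [hd, mem_bot, commutatorElement_eq_one_iff_mul_comm] at h1
        exact congrArg Subtype.val h1
      have h2 : (⟨y, hx⟩ : X) ^ N.index ∈ N := Subgroup.pow_index_mem N _
      have h3 : y ^ N.index ∈ U := hNU ⟨_, h2, rfl⟩
      have h4 : f y ^ N.index = 1 := by rw [← map_pow]; exact (hf1 _).mpr h3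
      rw [hk] at h4
      rw [← orderOf_eq_one_iff]
      exact Nat.eq_one_of_dvd_coprimes (hxc.pow_right k) dvd_rfl (orderOf_dvd_of_pow_eq_one h4)
    -- the complement `K` in the quotient is an abelian group on which `P` acts faithfully
    set K := pPrimeCore p (G ⧸ U) with hK
    have hKcop : (Nat.card K).Coprime p := card_pPrimeCore_coprime p _
    have hcomp := isComplement'_pPrimeCore hQnpc Pb
    have hPn : (Pb : Subgroup (G ⧸ U)) ≤ normalizer (K : Set (G ⧸ U)) := le_normalizer_of_normal
    haveI := Pb.isPGroup'.isNilpotent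
    have hKne : K ≠ ⊥ := fun h => hPb1 (le_bot_iff.mp (hOp ▸ (by
      have htop : (Pb : Subgroup (G ⧸ U)) = ⊤ := by
        rw [← hcomp.sup_eq_top, ← hK, h, bot_sup_eq]
      haveI : (Pb : Subgroup (G ⧸ U)).Normal := htop ▸ inferInstance
      exact le_pCore Pb.isPGroup')))
    obtain ⟨q, hq, hqd⟩ :=
      Nat.exists_prime_and_dvd (n := Nat.card K) fun h => hKne (Subgroup.card_eq_one.mp h)
    haveI := Fact.mk hq
    have hcopPK : (Nat.card ↥(Pb : Subgroup (G ⧸ U))).Coprime (Nat.card K) :=
      coprime_card_of_isPGroup Pb.isPGroup' hKcop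
    obtain ⟨Q, hQ⟩ := exists_invariant_sylow _ K hPn hcopPK (Or.inl inferInstance) q
    set Q1 := (Q : Subgroup K).map K.subtype with hQ1
    have hQ1top : Q1 ⊔ (Pb : Subgroup (G ⧸ U)) = ⊤ := by
      by_contra htop
      obtain ⟨x, hx⟩ := exists_prime_orderOf_dvd_card' q (Q.dvd_card_of_dvd_card hqd)
      have h1 := hkill _ le_sup_right htop ((x : K) : G ⧸ U)
        (mem_sup_left (mem_map_of_mem _ x.2)) (by
          rw [Subgroup.orderOf_coe, Subgroup.orderOf_coe, hx]
          exact hKcop.coprime_dvd_left hqd)
      rw [show x = 1 from Subtype.ext (Subtype.ext h1), orderOf_one] at hx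
      exact hq.one_lt.ne hx
    have hKQ : K = Q1 := by
      refine (eq_of_le_of_card_ge (map_subtype_le _) (Nat.le_of_dvd Nat.card_pos ?_)).symm
      have h1 := card_sup_dvd Q1 (Pb : Subgroup (G ⧸ U)) hQ
      rw [hQ1top, card_top, ← hcomp.card_mul] at h1
      exact Nat.dvd_of_mul_dvd_mul_right Nat.card_pos h1
    have hKq : IsPGroup q K := hKQ ▸ Q.isPGroup'.map _
    have hKab : ⁅K, K⁆ = ⊥ := by
      have hlt : ⁅K, K⁆ < K :=
        commutator_lt_of_nilpotent hKq.isNilpotent le_rfl le_normalizer hKne
      have htop : ⁅K, K⁆ ⊔ (Pb : Subgroup (G ⧸ U)) ≠ ⊤ := fun h => by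
        have h1 := card_sup_dvd_of_normal ⁅K, K⁆ (Pb : Subgroup (G ⧸ U))
        rw [h, card_top, ← hcomp.card_mul] at h1
        have h2 := Nat.le_of_dvd Nat.card_pos (Nat.dvd_of_mul_dvd_mul_right Nat.card_pos h1)
        exact hlt.ne (eq_of_le_of_card_ge hlt.le h2)
      refine (eq_bot_iff_forall _).mpr fun x hx => hkill _ le_sup_right htop x (mem_sup_left hx) ?_
      exact hKcop.coprime_dvd_left (K.orderOf_dvd_natCard (hlt.le hx))
    haveI : IsMulCommutative K := Subgroup.commutator_self_eq_bot_iff.mp hKab
    have hfaith : (Pb : Subgroup (G ⧸ U)) ⊓ centralizer (K : Set (G ⧸ U)) = ⊥ := by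
      set C := (Pb : Subgroup (G ⧸ U)) ⊓ centralizer (K : Set (G ⧸ U)) with hC
      haveI : C.Normal := by
        refine normalizer_eq_top_iff.mp (top_le_iff.mp ?_)
        rw [← hcomp.sup_eq_top]
        exact sup_le (le_trans (le_centralizer_iff.mp inf_le_right) (centralizer_le_normalizer _))
          (le_normalizer_inf le_normalizer
            le_normalizer_of_normal)
      exact le_bot_iff.mp (hOp ▸ le_pCore (Pb.isPGroup'.to_le inf_le_left))
    -- a maximal elementary abelian subgroup of `P` outside `U`
    obtain ⟨A, hAP, hAel, hAmax, hAU⟩ : ∃ A : Subgroup G, A ≤ (P : Subgroup G) ∧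
        IsElementaryAbelian p A ∧ (∀ B : Subgroup G, B ≤ (P : Subgroup G) →
          IsElementaryAbelian p B → Nat.card B ≤ Nat.card A) ∧ ¬ A ≤ U := by
      have hcase : ∃ A0 ∈ maxElementaryAbelianSubgroups p ↥(P : Subgroup G),
          ¬ A0.map (P : Subgroup G).subtype ≤ U := by
        by_contra! hall
        refine hcontra (hasNormalPComplement_of_injective
          ((MonoidHom.id G).codRestrict
            (normalizer (thompsonSubgroupOf p (P : Subgroup G) : Set G))
            fun g => mem_normalizer_of_conj_le ?_) (fun a b hab => congrArg Subtype.val hab) hyp.1)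
        change (thompsonSubgroupOf p (P : Subgroup G)).map (MulAut.conj g).toMonoidHom ≤ _
        rw [thompsonSubgroupOf, map_map, map_le_iff_le_comap]
        refine sSup_le fun B hB => map_le_iff_le_comap.mp ?_
        rw [← map_map]
        set B' := (B.map (P : Subgroup G).subtype).map (MulAut.conj g).toMonoidHom
        have hBU : B' ≤ U := by
          refine (map_mono (hall B hB)).trans ?_
          exact (conj_smul_eq_self_of_mem_normalizer
            (le_normalizer_of_normal (K := ⊤) (mem_top g))).le
        have hel : IsElementaryAbelian p B' := elemAbelian_map _ (elemAbelian_map _ hB.1)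
        rw [← map_subgroupOf_eq_of_le (hBU.trans hUP)]
        refine map_mono (le_thompson ⟨elemAbelian_subgroupOf hel, fun C hC => ?_⟩)
        rw [card_subgroupOf (hBU.trans hUP),
          card_map_of_injective (K := B.map (P : Subgroup G).subtype)
            (f := (MulAut.conj g).toMonoidHom) (MulAut.conj g).injective, card_map_subtype]
        exact hB.2 C hC
      obtain ⟨A0, hA0, hA0U⟩ := hcase
      refine ⟨_, map_subtype_le A0, elemAbelian_map _ hA0.1, fun B hBP hB => ?_, hA0U⟩
      rw [card_map_subtype, ← card_subgroupOf hBP]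
      exact hA0.2 _ (elemAbelian_subgroupOf hB)
    -- the module `V = Ω₁(Z(U))`
    set Z0 := U ⊓ centralizer (U : Set G) with hZ0
    have hZ0c : ∀ a ∈ Z0, ∀ b ∈ Z0, a * b = b * a := fun a ha b hb => hb.2 a ha.1
    haveI : IsMulCommutative Z0 := ⟨⟨fun a b => Subtype.ext (hZ0c a a.2 b b.2)⟩⟩
    obtain ⟨V, hV⟩ := exists_omega p Z0 hZ0c
    have hVel : IsElementaryAbelian p V :=
      ⟨⟨⟨fun a b => Subtype.ext (hZ0c a ((hV a).mp a.2).1 b ((hV b).mp b.2).1)⟩⟩,
        fun a ha => ((hV a).mp ha).2⟩
    haveI : Z0.Normal := inferInstance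
    haveI hVn : V.Normal := ⟨fun x hx g => (hV _).mpr
      ⟨(inferInstance : Z0.Normal).conj_mem x ((hV x).mp hx).1 g, by
        rw [conj_pow, ((hV x).mp hx).2, mul_one, mul_inv_cancel]⟩⟩
    have hVU : V ≤ U := fun x hx => ((hV x).mp hx).1.1
    have hUV : ∀ u ∈ U, ∀ v ∈ V, u * v = v * u := fun u hu v hv => ((hV v).mp hv).1.2 u hu
    let c : G →* MulAut V := MulAut.conjNormal
    have hker : U ≤ c.ker := fun u hu => MulEquiv.ext fun v => Subtype.ext (by
      change ((MulAut.conjNormal u v : V) : G) = v
      rw [MulAut.conjNormal_apply, hUV u hu v v.2, mul_inv_cancel_right])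
    let φ : G ⧸ U →* MulAut V := QuotientGroup.lift U c hker
    have hφ : ∀ g : G, φ (f g) = c g := fun g => QuotientGroup.lift_mk' U hker g
    -- the action is faithful
    have hCb : φ.ker = ⊥ := by
      have hCK : φ.ker ⊓ K = ⊥ := by
        refine (eq_bot_iff_forall _).mpr ?_
        rintro x ⟨hx, hxK⟩
        obtain ⟨y, rfl⟩ := QuotientGroup.mk'_surjective U x
        have hcp : (orderOf (f y)).Coprime p :=
          hKcop.coprime_dvd_left (K.orderOf_dvd_natCard hxK)
        obtain ⟨j, hj⟩ := IsPGroup.iff_card.mp (isPGroup_pCore p G)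
        set k := p ^ j with hk
        have hyk : f (y ^ k) = f y ^ k := map_pow _ _ _
        have hy' : (orderOf (y ^ k)).Coprime p := by
          have hd : orderOf y ∣ orderOf (f y) * p ^ j := by
            refine orderOf_dvd_of_pow_eq_one ?_
            rw [pow_mul]
            have h1 : y ^ orderOf (f y) ∈ U := (hf1 _).mp (by rw [map_pow, pow_orderOf_eq_one])
            have h2 := pow_card_eq_one' (x := (⟨_, h1⟩ : U))
            rw [hj] at h2
            exact congrArg Subtype.val h2
          refine hcp.coprime_dvd_left (orderOf_dvd_of_pow_eq_one ?_)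
          rw [← pow_mul, hk, mul_comm]
          exact orderOf_dvd_iff_pow_eq_one.mp hd
        have hyc : c (y ^ k) = 1 := by
          rw [map_pow, ← hφ, (MonoidHom.mem_ker.mp hx), one_pow]
        have hyZ : zpowers (y ^ k) ≤ centralizer (Z0 : Set G) := by
          refine Cfsg.Agent.S0056.result _ Z0 le_normalizer_of_normal ?_ ?_
          · rw [Nat.card_zpowers]
            obtain ⟨i, hi⟩ := IsPGroup.iff_card.mp ((isPGroup_pCore p G).to_le inf_le_left :
              IsPGroup p Z0)
            rw [hi]; exact hy'.pow_right i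
          · intro v hv hvo a ha
            have hvp : v ^ p = 1 := by
              obtain ⟨i, hi⟩ := ((isPGroup_pCore p G).to_le inf_le_left : IsPGroup p Z0) ⟨v, hv⟩
              have h1 : v ^ (p ^ i) = 1 := congrArg Subtype.val hi
              have h2 : orderOf v = p := (Nat.prime_dvd_prime_iff_eq hvo hp.out).mp
                (hvo.dvd_of_dvd_pow (orderOf_dvd_of_pow_eq_one h1))
              exact h2 ▸ pow_orderOf_eq_one v
            have h1 : ((c (y ^ k) ⟨v, (hV v).mpr ⟨hv, hvp⟩⟩ : V) : G) = v := by
              rw [hyc]; rfl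
            rw [MulAut.conjNormal_apply, mul_inv_eq_iff_eq_mul] at h1
            obtain ⟨i, rfl⟩ := mem_zpowers_iff.mp ha
            exact ((show Commute (y ^ k) v from h1).zpow_left i).eq
        set ZP := (P : Subgroup G) ⊓ centralizer ((P : Subgroup G) : Set G) with hZP
        have hZPle : ZP ≤ Z0 := by
          have h1 : ZP ≤ centralizer (U : Set G) := inf_le_right.trans (centralizer_le hUP)
          exact le_inf (h1.trans hCU) h1
        set Y := (centralizer (ZP : Set G)).map f with hY
        have hUC : U ≤ centralizer (ZP : Set G) := le_centralizer_iff.mp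
          (hZPle.trans inf_le_right)
        have hYtop : Y ≠ ⊤ := by
          intro h
          have h1 : centralizer (ZP : Set G) = ⊤ := by
            rw [← comap_map_eq_self (f := f) (H := centralizer (ZP : Set G))
              (by rw [hf, QuotientGroup.ker_mk']; exact hUC), ← hY, h, comap_top]
          exact hcontra (hasNormalPComplement_of_injective
            ((MonoidHom.id G).codRestrict (centralizer (ZP : Set G)) fun g => h1 ▸ mem_top g)
            (fun a b hab => congrArg Subtype.val hab) hyp.2)
        have h1 : f (y ^ k) = 1 := by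
          refine hkill Y ?_ hYtop _ (mem_map_of_mem f ?_) ?_
          · rw [hPb]
            exact map_mono (le_centralizer_iff.mp inf_le_right)
          · exact centralizer_le hZPle (hyZ (mem_zpowers _))
          · rw [hyk]; exact hcp.coprime_dvd_left (orderOf_pow_dvd k)
        rw [hyk] at h1
        rw [← orderOf_eq_one_iff]
        exact Nat.eq_one_of_dvd_coprimes (hcp.pow_right j) dvd_rfl (orderOf_dvd_of_pow_eq_one h1)
      refine le_bot_iff.mp (hOp ▸ le_pCore fun x => ?_)
      obtain ⟨k, hk⟩ := hasNormalPComplement_iff_index.mp hQnpc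
      refine ⟨k, Subtype.ext ?_⟩
      have h1 : (x : G ⧸ U) ^ (p ^ k) ∈ φ.ker ⊓ K :=
        ⟨pow_mem x.2 _, hk ▸ Subgroup.pow_index_mem K (x : G ⧸ U)⟩
      rw [hCK, mem_bot] at h1
      exact h1
    have hφinj : Function.Injective φ := (MonoidHom.ker_eq_bot_iff φ).mp hCb
    -- the semidirect product
    let L := SemidirectProduct V (G ⧸ U) φ
    haveI : Finite L := Finite.of_equiv _ SemidirectProduct.equivProd.symm
    let l : V →* L := SemidirectProduct.inl
    let r : G ⧸ U →* L := SemidirectProduct.inr
    have hlinj : Function.Injective l := SemidirectProduct.inl_injective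
    have hrinj : Function.Injective r := SemidirectProduct.inr_injective
    have haut : ∀ (x : G ⧸ U) (v : V), r x * l v * (r x)⁻¹ = l (φ x v) := fun x v => by
      rw [← map_inv]; exact (SemidirectProduct.inl_aut x v).symm
    have hnorm : ∀ X : Subgroup (G ⧸ U), X.map r ≤ normalizer (l.range : Set L) := by
      intro X
      rintro _ ⟨x, -, rfl⟩
      refine mem_normalizer_of_conj_le ?_
      intro z hz
      obtain ⟨v, hv⟩ := mem_conj_smul.mp hz
      refine ⟨φ x v, ?_⟩
      rw [← haut, hv]; simp [mul_assoc]
    haveI : IsMulCommutative (K.map r) := map_isMulCommutative _ _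
    have hEel : IsElementaryAbelian p ((A.map f).map r) :=
      elemAbelian_map _ (elemAbelian_map _ hAel)
    have hVel' : IsElementaryAbelian p l.range := by
      rw [MonoidHom.range_eq_map]
      exact elemAbelian_map _ ⟨⟨⟨fun a b => Subtype.ext (hVel.1.is_comm.comm _ _)⟩⟩,
        fun a _ => Subtype.ext (by simpa using hVel.2 _ a.2)⟩
    have hAb : A.map f ≤ (Pb : Subgroup (G ⧸ U)) := hPb ▸ map_mono hAP
    have key := card_sq_mul_card_fixed_le hp2 l.range (K.map r) ((A.map f).map r) hVel' hEel
      (by rw [card_map_of_injective hrinj]; exact hKcop)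
      (le_trans (map_mono (hAb.trans hPn)) (le_normalizer_map r))
      (hnorm _) (hnorm _)
      (by
        refine (eq_bot_iff_forall _).mpr ?_
        rintro _ ⟨⟨x, hx, rfl⟩, hxc⟩
        have : x ∈ (Pb : Subgroup (G ⧸ U)) ⊓ centralizer (K : Set (G ⧸ U)) := by
          refine ⟨hAb hx, fun k hk => hrinj ?_⟩
          rw [map_mul, map_mul]
          exact hxc (r k) (mem_map_of_mem r hk)
        rw [hfaith, mem_bot] at this
        rw [this, map_one])
      (by
        refine (eq_bot_iff_forall _).mpr ?_
        rintro _ ⟨⟨x, hx, rfl⟩, hxc⟩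
        have : φ x = 1 := MulEquiv.ext fun v => hlinj (by
          rw [← haut, MulAut.one_apply, ← hxc (l v) ⟨v, rfl⟩, mul_inv_cancel_right])
        rw [hφinj (this.trans (map_one φ).symm), map_one])
      ((A.map f).map r) le_rfl
    rw [card_map_of_injective hrinj] at key
    set CVA := V ⊓ centralizer (A : Set G) with hCVA
    have hC : Nat.card CVA ≤
        Nat.card ↥(l.range ⊓ centralizer (((A.map f).map r : Subgroup L) : Set L)) := by
      rw [← card_subgroupOf (inf_le_left : CVA ≤ V), ← card_map_of_injective hlinj]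
      refine card_le_of_le ?_
      rintro _ ⟨v, hv, rfl⟩
      refine ⟨⟨v, rfl⟩, ?_⟩
      rintro _ ⟨_, ⟨a, ha, rfl⟩, rfl⟩
      rw [← mul_inv_eq_iff_eq_mul, haut, hφ]
      refine congrArg l (Subtype.ext ?_)
      change ((MulAut.conjNormal a v : V) : G) = v
      rw [MulAut.conjNormal_apply, show a * (v : G) = v * a from hv.2 a ha, mul_inv_cancel_right]
    have hVcard : Nat.card ↥l.range = Nat.card V := by
      rw [MonoidHom.range_eq_map, card_map_of_injective hlinj, card_top]
    rw [hVcard] at key
    -- the largest order of `A`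
    set B := A ⊓ U with hB
    have hBV : B ≤ centralizer (V : Set G) :=
      fun b hb v hv => (hUV b hb.2 v hv).symm
    have hel := elemAbelian_sup (elemAbelian_of_le hAel (inf_le_left : B ≤ A)) hVel hBV
    have hle : Nat.card ↥(B ⊔ V : Subgroup G) ≤ Nat.card A :=
      hAmax _ (sup_le (inf_le_left.trans hAP) (hVU.trans hUP)) hel
    have hprod := card_sup_mul_card_inf B V ((le_centralizer_iff.mp hBV).trans
      (centralizer_le_normalizer _))
    have hinf : Nat.card ↥(B ⊓ V : Subgroup G) ≤ Nat.card CVA := card_le_of_le fun x hx =>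
      ⟨hx.2, fun a ha => comm_of_elemAbelian hAel ha hx.1.1⟩
    have hA : Nat.card (A.map f) * Nat.card B = Nat.card A := by
      have e := (f.ker.subgroupOf A).card_mul_index
      rw [← e, mul_comm (Nat.card (A.map f))]
      have hi : (f.ker.subgroupOf A).index = Nat.card (A.map f) := by
        change f.ker.relIndex A = _
        rw [relIndex_ker]
      rw [hi, show f.ker.subgroupOf A = (A ⊓ f.ker).subgroupOf A by
          rw [inf_comm, inf_subgroupOf_right],
        card_subgroupOf inf_le_left, hf, QuotientGroup.ker_mk']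
    have hVle : Nat.card V ≤ Nat.card (A.map f) * Nat.card CVA := by
      refine _root_.le_of_mul_le_mul_left (a := Nat.card B) ?_ Nat.card_pos
      calc Nat.card B * Nat.card V
          = Nat.card ↥(B ⊔ V : Subgroup G) * Nat.card ↥(B ⊓ V : Subgroup G) := hprod.symm
        _ ≤ Nat.card A * Nat.card CVA := Nat.mul_le_mul hle hinf
        _ = Nat.card B * (Nat.card (A.map f) * Nat.card CVA) := by rw [← hA]; ring
    have hfin : Nat.card (A.map f) ^ 2 * Nat.card CVA ≤
        Nat.card (A.map f) * Nat.card CVA := le_trans (Nat.mul_le_mul_left _ hC) (key.trans hVle)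
    have h1 : Nat.card (A.map f) ≤ 1 := by
      have h2 := Nat.le_of_mul_le_mul_right hfin Nat.card_pos
      by_contra h
      push Not at h
      nlinarith
    refine hAU ?_
    have h2 : A.map f = ⊥ := Subgroup.card_eq_one.mp (le_antisymm h1 Nat.card_pos)
    rwa [Subgroup.map_eq_bot_iff, hf, QuotientGroup.ker_mk'] at h2

/-- Thompson's normal `p`-complement theorem. -/
theorem thompson_complement [Fact p.Prime] (hp2 : p ≠ 2) {G : Type u} [Group G] [Finite G]
    (P : Sylow p G)
    (h1 : HasNormalPComplement p
      (normalizer (thompsonSubgroupOf p (P : Subgroup G) : Set G)))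
    (h2 : HasNormalPComplement p (centralizer (((P : Subgroup G) ⊓
      centralizer ((P : Subgroup G) : Set G) : Subgroup G) : Set G))) :
    HasNormalPComplement p G :=
  thompson_complement_aux hp2 _ G le_rfl P ⟨h1, h2⟩

end Cfsg.Agent.Solv
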