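import Cfsg.Agent.Lib.Solv.Misc
import Mathlib.GroupTheory.Nilpotent
import Mathlib.GroupTheory.Exponent

/-!
Glauberman's replacement theorem.
-/

set_option autoImplicit false
set_option linter.style.haveILetI false
set_option linter.unusedSectionVars false

namespace Cfsg.Agent.Solv.Repl

open Subgroup
open scoped commutatorElement

variable {G : Type*} [Group G]

/-- The subgroup `[b, A]`. -/
def comAt (A : Subgroup G) (b : G) : Subgroup G :=
  Subgroup.closure {g : G | ∃ a ∈ A, g = b⁻¹ * a * b * a⁻¹}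

theorem comm_mul_right (x y z : G) : ⁅x, y * z⁆ = ⁅x, y⁆ * (y * ⁅x, z⁆ * y⁻¹) := by
  simp [commutatorElement_def]; group

theorem comm_mul_left (x y z : G) : ⁅x * y, z⁆ = (x * ⁅y, z⁆ * x⁻¹) * ⁅x, z⁆ := by
  simp [commutatorElement_def]; group

theorem kappa_eq (a b : G) : b⁻¹ * a * b * a⁻¹ = ⁅b⁻¹, a⁆ := by
  simp [commutatorElement_def]

theorem comAt_le_commutator (A B : Subgroup G) {b : G} (hb : b ∈ B) : comAt A b ≤ ⁅B, A⁆ := by
  rw [comAt, closure_le]
  rintro _ ⟨a, ha, rfl⟩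
  rw [kappa_eq]
  exact commutator_mem_commutator (inv_mem hb) ha

/-- The commutators of `[B, A]` are central in `B` when `A` centralizes `[B, B]`. -/
theorem commutator_commutator_le (A B : Subgroup G) (hAB : A ≤ normalizer (B : Set G))
    (hc : ⁅⁅B, B⁆, A⁆ = ⊥) :
    ⁅⁅B, A⁆, ⁅B, B⁆⁆ = ⊥ ∧ ⁅⁅B, A⁆, ⁅B, A⁆⁆ ≤ B ⊓ centralizer (B : Set G) := by
  have hTB : ⁅B, A⁆ ≤ B := commutator_le.mpr fun x hx a ha => by
    rw [commutatorElement_def, mul_assoc, mul_assoc]
    refine mul_mem hx ?_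
    rw [← mul_assoc]
    exact (mem_normalizer_iff.mp (hAB ha) x⁻¹).mp (inv_mem hx)
  have hB' : ⁅B, B⁆ ≤ B := commutator_le.mpr fun x hx y hy => by
    exact mul_mem (mul_mem (mul_mem hx hy) (inv_mem hx)) (inv_mem hy)
  have h1 : ⁅⁅B, A⁆, ⁅B, B⁆⁆ = ⊥ := by
    refine commutator_commutator_eq_bot_of_rotate ?_ ?_
    · rw [commutator_comm A, hc, commutator_bot_left]
    · exact le_bot_iff.mp (hc ▸ commutator_mono (commutator_mono hB' le_rfl) le_rfl)
  refine ⟨h1, le_inf ((commutator_mono hTB hTB).trans hB') ?_⟩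
  rw [← commutator_eq_bot_iff_le_centralizer]
  refine commutator_commutator_eq_bot_of_rotate ?_ ?_
  · refine le_bot_iff.mp ((commutator_mono (commutator_mono hTB le_rfl) le_rfl).trans ?_)
    rw [commutator_comm, h1]
  · refine le_bot_iff.mp ((commutator_mono (commutator_mono le_rfl hTB) le_rfl).trans ?_)
    rw [commutator_comm, h1]

/-- Glauberman's lemma: `[b, A]'` has exponent two. -/
theorem sq_eq_one_of_quad (A B : Subgroup G) (hAB : A ≤ normalizer (B : Set G))
    (hc : ⁅⁅B, B⁆, A⁆ = ⊥) (hA : IsMulCommutative A) {b : G} (hb : b ∈ B)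
    (hq : ⁅⁅comAt A b, A⁆, A⁆ = ⊥) : ∀ w ∈ ⁅comAt A b, comAt A b⁆, w ^ 2 = 1 := by
  obtain ⟨h1, h2⟩ := commutator_commutator_le A B hAB hc
  set K := comAt A b with hK
  have hKT : K ≤ ⁅B, A⁆ := comAt_le_commutator A B hb
  have hTB : ⁅B, A⁆ ≤ B := commutator_le.mpr fun x hx a ha => by
    rw [commutatorElement_def, mul_assoc, mul_assoc]
    refine mul_mem hx ?_
    rw [← mul_assoc]
    exact (mem_normalizer_iff.mp (hAB ha) x⁻¹).mp (inv_mem hx)
  have hKB : K ≤ B := hKT.trans hTB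
  set β := b⁻¹ with hβ
  have hβB : β ∈ B := inv_mem hb
  have hκ : ∀ a ∈ A, ⁅β, a⁆ ∈ K := fun a ha =>
    subset_closure ⟨a, ha, (kappa_eq a b).symm⟩
  -- `B'` commutes with `A` and with `[B, A]`
  have hA' : ∀ z ∈ ⁅B, B⁆, ∀ a ∈ A, a * z = z * a := fun z hz a ha =>
    (mem_centralizer_iff.mp (commutator_eq_bot_iff_le_centralizer.mp hc hz)) a ha
  have hT' : ∀ z ∈ ⁅B, B⁆, ∀ t ∈ ⁅B, A⁆, z * t = t * z := fun z hz t ht =>
    (mem_centralizer_iff.mp (commutator_eq_bot_iff_le_centralizer.mp h1 ht)) z hz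
  have hL : ∀ a ∈ A, ∀ c ∈ A, ⁅a, ⁅β, c⁆⁆ ∈ ⁅K, A⁆ := fun a ha c hc' => by
    rw [commutator_comm]; exact commutator_mem_commutator ha (hκ c hc')
  have hLA : ∀ l ∈ ⁅K, A⁆, ∀ a ∈ A, a * l = l * a := fun l hl a ha =>
    (mem_centralizer_iff.mp (commutator_eq_bot_iff_le_centralizer.mp hq hl)) a ha
  have hLB : ∀ l ∈ ⁅K, A⁆, l ∈ B := fun l hl => hTB (commutator_mono hKB le_rfl hl)
  -- `[K, A]` commutes with the generators of `K`
  have hLK : ∀ l ∈ ⁅K, A⁆, ∀ c ∈ A, Commute l ⁅β, c⁆ := by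
    intro l hl c hc'
    have hz : ⁅l, β⁆ ∈ ⁅B, B⁆ := commutator_mem_commutator (hLB l hl) hβB
    have e1 : ⁅l, β⁆ = ⁅l, c * β * c⁻¹⁆ := by
      calc ⁅l, β⁆ = c * ⁅l, β⁆ * c⁻¹ := by rw [hA' _ hz c hc', mul_inv_cancel_right]
        _ = ⁅c * l * c⁻¹, c * β * c⁻¹⁆ := by simp [commutatorElement_def]; group
        _ = _ := by rw [hLA l hl c hc', mul_inv_cancel_right]
    have e2 : c * β * c⁻¹ = ⁅β, c⁆⁻¹ * β := by simp [commutatorElement_def]; group
    rw [e2, comm_mul_right, ← hT' _ hz _ (inv_mem (hKT (hκ c hc'))), mul_inv_cancel_right] at e1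
    have e3 : ⁅l, ⁅β, c⁆⁻¹⁆ = 1 := mul_eq_right.mp e1.symm
    exact Commute.inv_right_iff.mp (commutatorElement_eq_one_iff_commute.mp e3)
  -- the generators commute modulo involutions
  have key : ∀ a ∈ A, ∀ c ∈ A, ⁅⁅β, a⁆, ⁅β, c⁆⁆ ^ 2 = 1 := by
    intro a ha c hc'
    have step : ∀ a ∈ A, ∀ c ∈ A, ⁅β, ⁅a, ⁅β, c⁆⁆⁆ = ⁅⁅β, a⁆, ⁅β, c⁆⁆ := by
      intro a ha c hc'
      set κa := ⁅β, a⁆ with hκa
      set κc := ⁅β, c⁆ with hκc
      have hz : ⁅β, κc⁆ ∈ ⁅B, B⁆ := commutator_mem_commutator hβB (hKB (hκ c hc'))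
      have hza : Commute (κa * a) ⁅β, κc⁆ :=
        Commute.mul_left (show Commute κa _ from (hT' _ hz _ (hKT (hκ a ha))).symm) (hA' _ hz a ha)
      have hσ : Commute κa ⁅a, κc⁆ := (hLK _ (hL a ha c hc') a ha).symm
      have hw : ⁅κa, κc⁆ ∈ B ⊓ centralizer (B : Set G) :=
        h2 (commutator_mem_commutator (hKT (hκ a ha)) (hKT (hκ c hc')))
      have hσw : Commute ⁅a, κc⁆ ⁅κa, κc⁆ :=
        mem_centralizer_iff.mp hw.2 _ (hLB _ (hL a ha c hc'))
      calc ⁅β, ⁅a, κc⁆⁆ = (β * ⁅a, κc⁆ * β⁻¹) * ⁅a, κc⁆⁻¹ := rfl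
        _ = ⁅β * a * β⁻¹, β * κc * β⁻¹⁆ * ⁅a, κc⁆⁻¹ := by simp [commutatorElement_def]; group
        _ = ⁅κa * a, ⁅β, κc⁆ * κc⁆ * ⁅a, κc⁆⁻¹ := by
          rw [show β * a * β⁻¹ = κa * a by rw [hκa]; simp [commutatorElement_def],
            show β * κc * β⁻¹ = ⁅β, κc⁆ * κc by simp [commutatorElement_def]]
        _ = ⁅κa, κc⁆ := by
          rw [comm_mul_right, commutatorElement_eq_one_iff_commute.mpr hza, one_mul]
          have e5 : ⁅κa * a, κc⁆ = ⁅a, κc⁆ * ⁅κa, κc⁆ := by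
            rw [comm_mul_left, hσ.eq, mul_inv_cancel_right]
          rw [e5]
          have hzc : Commute ⁅β, κc⁆ ⁅a, κc⁆ := (hT' _ hz _ (commutator_mono hKB le_rfl (hL a ha c hc')))
          have hzw : Commute ⁅β, κc⁆ ⁅κa, κc⁆ :=
            mem_centralizer_iff.mp hw.2 _ (show ⁅β, κc⁆ ∈ B from
              mul_mem (mul_mem (mul_mem hβB (hKB (hκ c hc'))) (inv_mem hβB)) (inv_mem (hKB (hκ c hc'))))
          rw [(hzc.mul_right hzw).eq, mul_inv_cancel_right, hσw.eq, mul_inv_cancel_right]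
    set κa := ⁅β, a⁆ with hκa
    set κc := ⁅β, c⁆ with hκc
    -- `κ (a c)` in two ways
    have e1 : κa * (⁅a, κc⁆ * κc) = κc * (⁅c, κa⁆ * κa) := by
      have h1 : ⁅β, a * c⁆ = κa * (⁅a, κc⁆ * κc) := by
        rw [comm_mul_right, hκa, hκc]; simp [commutatorElement_def, mul_assoc]
      have h1' : ⁅β, c * a⁆ = κc * (⁅c, κa⁆ * κa) := by
        rw [comm_mul_right, hκa, hκc]; simp [commutatorElement_def, mul_assoc]
      rw [← h1, ← h1', show a * c = c * a from congrArg Subtype.val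
        (hA.is_comm.comm (⟨a, ha⟩ : A) ⟨c, hc'⟩)]
    have hs := hLK _ (hL a ha c hc')
    have ht := hLK _ (hL c hc' a ha)
    have e2 : ⁅κa, κc⁆ = ⁅c, κa⁆ * ⁅a, κc⁆⁻¹ := by
      have h3 : κa * κc = ⁅c, κa⁆ * ⁅a, κc⁆⁻¹ * (κc * κa) := by
        have h4 : κa * κc * ⁅a, κc⁆ = ⁅c, κa⁆ * (κc * κa) := by
          rw [mul_assoc, ← (hs c hc').eq, e1, ← mul_assoc, ← (ht c hc').eq, mul_assoc]
        rw [← eq_mul_inv_iff_mul_eq] at h4
        rw [h4, mul_assoc ⁅c, κa⁆, mul_assoc ⁅c, κa⁆]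
        rw [(((hs c hc').inv_left.mul_right (hs a ha).inv_left)).eq]
      rw [commutatorElement_def, h3]
      group
    have hw : ⁅κa, κc⁆ ∈ B ⊓ centralizer (B : Set G) :=
      h2 (commutator_mem_commutator (hKT (hκ a ha)) (hKT (hκ c hc')))
    have e3 : ⁅c, κa⁆ = ⁅κa, κc⁆ * ⁅a, κc⁆ := by rw [e2, inv_mul_cancel_right]
    have e4 := step c hc' a ha
    rw [← hκa, ← hκc, e3, comm_mul_right] at e4
    rw [commutatorElement_eq_one_iff_commute.mpr (mem_centralizer_iff.mp hw.2 β hβB : Commute β _),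
      one_mul, step a ha c hc', mul_inv_cancel_right, ← commutatorElement_inv κa κc] at e4
    rw [pow_two]
    exact eq_inv_iff_mul_eq_one.mp e4
  -- extend to all of `K`
  let Z2 : Subgroup G :=
    { carrier := {z | z ∈ B ⊓ centralizer (B : Set G) ∧ z ^ 2 = 1}
      one_mem' := ⟨one_mem _, one_pow 2⟩
      mul_mem' := fun {x y} hx hy => ⟨mul_mem hx.1 hy.1, by
        rw [(show Commute x y from mem_centralizer_iff.mp hy.1.2 x hx.1.1).mul_pow, hx.2, hy.2,
          one_mul]⟩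
      inv_mem' := fun {x} hx => ⟨inv_mem hx.1, by rw [inv_pow, hx.2, inv_one]⟩ }
  have hfix : ∀ z ∈ Z2, ∀ y ∈ K, y * z * y⁻¹ = z := fun z hz y hy => by
    rw [mem_centralizer_iff.mp hz.1.2 y (hKB hy), mul_inv_cancel_right]
  have hgen : ∀ a ∈ A, ∀ y ∈ K, ⁅⁅β, a⁆, y⁆ ∈ Z2 := by
    intro a ha y hy
    rw [hK, comAt] at hy
    induction hy using Subgroup.closure_induction with
    | mem y hy =>
      obtain ⟨c, hc', rfl⟩ := hy
      rw [kappa_eq]
      exact ⟨h2 (commutator_mem_commutator (hKT (hκ a ha)) (hKT (hκ c hc'))), key a ha c hc'⟩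
    | one => simpa [commutatorElement_def] using Z2.one_mem
    | mul y z hy' hz' ihy ihz => rw [comm_mul_right, hfix _ ihz y hy']; exact mul_mem ihy ihz
    | inv y hy' ih =>
      have e : ⁅⁅β, a⁆, y⁻¹⁆ = y⁻¹ * ⁅⁅β, a⁆, y⁆⁻¹ * y := by simp [commutatorElement_def]; group
      have := hfix _ (inv_mem ih) y⁻¹ (inv_mem hy')
      rw [inv_inv] at this
      rw [e, this]
      exact inv_mem ih
  intro w hw
  refine (commutator_le.mpr (fun x hx y hy => ?_) hw : w ∈ Z2).2
  rw [hK, comAt] at hx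
  induction hx using Subgroup.closure_induction with
  | mem x hx => obtain ⟨c, hc', rfl⟩ := hx; rw [kappa_eq]; exact hgen c hc' y hy
  | one => simpa [commutatorElement_def] using Z2.one_mem
  | mul x z hx' hz' ihx ihz =>
    rw [comm_mul_left, hfix _ ihz x hx']
    exact mul_mem ihz ihx
  | inv x hx' ih =>
    have e : ⁅x⁻¹, y⁆ = x⁻¹ * ⁅x, y⁆⁻¹ * x := by simp [commutatorElement_def]; group
    have := hfix _ (inv_mem ih) x⁻¹ (inv_mem hx')
    rw [inv_inv] at this
    rw [e, this]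
    exact inv_mem ih

/-- The replacement subgroup. -/
def star (A : Subgroup G) (b : G) : Subgroup G :=
  (A ⊓ A.map (MulAut.conj (b⁻¹)).toMonoidHom) ⊔
    Subgroup.closure {g : G | ∃ a ∈ A, g = a * b⁻¹ * a⁻¹ * b}

theorem closure_eq_comAt (A : Subgroup G) (b : G) :
    Subgroup.closure {g : G | ∃ a ∈ A, g = a * b⁻¹ * a⁻¹ * b} = comAt A b := by
  apply le_antisymm <;> rw [comAt, closure_le] <;> rintro _ ⟨a, ha, rfl⟩
  · rw [show a * b⁻¹ * a⁻¹ * b = (b⁻¹ * a * b * a⁻¹)⁻¹ by group]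
    exact inv_mem (subset_closure ⟨a, ha, rfl⟩)
  · rw [show b⁻¹ * a * b * a⁻¹ = (a * b⁻¹ * a⁻¹ * b)⁻¹ by group]
    exact inv_mem (subset_closure ⟨a, ha, rfl⟩)

theorem mul_pow_of_central {x y c : G} (hc : y * x = c * (x * y)) (hcx : Commute c x)
    (hcy : Commute c y) (n : ℕ) : (x * y) ^ n = x ^ n * y ^ n * c ^ (n.choose 2) := by
  induction n with
  | zero => simp
  | succ n ih =>
    have hyx : ∀ m : ℕ, y ^ m * x = c ^ m * (x * y ^ m) := by
      intro m
      induction m with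
      | zero => simp
      | succ m ihm =>
        calc y ^ (m + 1) * x = y * (y ^ m * x) := by rw [pow_succ', mul_assoc]
          _ = c ^ m * (y * x) * y ^ m := by
            rw [ihm, ← mul_assoc, ← (hcy.pow_left m).eq]; group
          _ = c ^ (m + 1) * (x * y ^ (m + 1)) := by rw [hc, pow_succ c, pow_succ']; group
    have hch : (n + 1).choose 2 = n + n.choose 2 := by
      rw [Nat.choose_succ_succ, Nat.choose_one_right]
    rw [pow_succ, ih, hch, pow_add c]
    have hcn : ∀ k, Commute (c ^ k) (x * y) := fun k => (hcx.pow_left k).mul_right (hcy.pow_left k)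
    calc x ^ n * y ^ n * c ^ n.choose 2 * (x * y) = x ^ n * (y ^ n * x) * y * c ^ n.choose 2 := by
          rw [mul_assoc _ (c ^ _), (hcn _).eq]; group
      _ = x ^ (n + 1) * y ^ (n + 1) * (c ^ n * c ^ n.choose 2) := by
          rw [hyx, (show Commute (c ^ n) (x * y ^ n) from
            (hcx.pow_left n).mul_right (hcy.pow_pow n n)).eq]
          rw [mul_assoc (x ^ n), mul_assoc (x * y ^ n), (hcy.pow_left n).eq, pow_succ, pow_succ]
          group

section Main

variable [Finite G]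

/-- Glauberman's replacement: properties of `star A b`. -/
theorem star_spec {p : ℕ} [Fact p.Prime] (hS : IsPGroup p G) (B : Subgroup G) [B.Normal]
    (hB2 : p = 2 → IsMulCommutative B) (A : Subgroup G) (hA : IsMulCommutative A)
    (hBA : ⁅B, B⁆ ≤ A) (b : G) (hb : b ∈ B)
    (hbN : b ∈ normalizer ((normalizer (A : Set G)) : Set G)) (hbA : b ∉ normalizer (A : Set G)) :
    Nat.card (star A b) = Nat.card A ∧ IsMulCommutative (star A b) ∧ ⁅B, B⁆ ≤ star A b ∧
      A ⊓ B < star A b ⊓ B ∧ star A b ⊓ B < B ∧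
      A ≤ normalizer ((star A b : Subgroup G) : Set G) ∧ star A b ≤ normalizer (A : Set G) ∧
      b ∈ normalizer ((star A b : Subgroup G) : Set G) ∧
      normalizer (A : Set G) < normalizer ((star A b : Subgroup G) : Set G) ∧
      (p ≠ 2 → Monoid.exponent (star A b) ∣ Monoid.exponent A) := by
  set N := normalizer (A : Set G) with hN
  set Ab := A.map (MulAut.conj b⁻¹).toMonoidHom with hAb
  set A1 := A ⊓ Ab with hA1
  set K := comAt A b with hK
  have hstar : star A b = A1 ⊔ K := by rw [star, closure_eq_comAt]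
  have memAb : ∀ x : G, x ∈ Ab ↔ b * x * b⁻¹ ∈ A := fun x => by
    constructor
    · rintro ⟨y, hy, rfl⟩
      simpa [mul_assoc] using hy
    · intro h
      exact ⟨_, h, by simp [mul_assoc]⟩
  have hAN : A ≤ N := le_normalizer
  have hbN' : ∀ x ∈ N, b * x * b⁻¹ ∈ N := fun x hx => (mem_normalizer_iff.mp hbN x).mp hx
  have hbN'' : ∀ x ∈ N, b⁻¹ * x * b ∈ N := fun x hx => by
    have := (mem_normalizer_iff.mp (inv_mem hbN) x).mp hx
    rwa [inv_inv] at this
  have hAbN : Ab ≤ N := fun x hx => by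
    obtain ⟨y, hy, rfl⟩ := hx
    simpa using hbN'' y (hAN hy)
  have hNAb : N ≤ normalizer (Ab : Set G) := fun n hn => by
    rw [mem_normalizer_iff]
    intro x
    rw [memAb, memAb]
    have e : b * (n * x * n⁻¹) * b⁻¹ = (b * n * b⁻¹) * (b * x * b⁻¹) * (b * n * b⁻¹)⁻¹ := by group
    rw [e]
    exact mem_normalizer_iff.mp (hbN' n hn) _
  have hB'B : ⁅B, B⁆ ≤ B := commutator_le_left B B
  have hABb : A ⊓ B ≤ A1 := fun k hk => ⟨hk.1, (memAb k).mpr (by
    have e : b * k * b⁻¹ = ⁅b, k⁆ * k := by simp [commutatorElement_def]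
    rw [e]
    exact mul_mem (hBA (commutator_mem_commutator hb hk.2)) hk.1)⟩
  have hKB : K ≤ B := (comAt_le_commutator A B hb).trans (commutator_le_left B A)
  have hKN : K ≤ N := by
    rw [hK, comAt, closure_le]
    rintro _ ⟨a, ha, rfl⟩
    exact mul_mem (hbN'' a (hAN ha)) (inv_mem (hAN ha))
  have hcA : ∀ z ∈ A, ∀ a ∈ A, z * a = a * z := fun z hz a ha =>
    congrArg Subtype.val (hA.is_comm.comm (⟨z, hz⟩ : A) ⟨a, ha⟩)
  have hc : ⁅⁅B, B⁆, A⁆ = ⊥ := commutator_eq_bot_iff_le_centralizer.mpr fun z hz =>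
    mem_centralizer_iff.mpr fun a ha => hcA a ha z (hBA hz)
  have hq : ⁅⁅K, A⁆, A⁆ = ⊥ := by
    refine commutator_eq_bot_iff_le_centralizer.mpr ((commutator_le.mpr ?_ : ⁅K, A⁆ ≤ A).trans
      fun z hz => mem_centralizer_iff.mpr fun a ha => hcA a ha z hz)
    intro k hk a ha
    rw [commutatorElement_def]
    exact mul_mem ((mem_normalizer_iff.mp (hKN hk) a).mp ha) (inv_mem ha)
  have hKab : ∀ x ∈ K, ∀ y ∈ K, x * y = y * x := by
    intro x hx y hy
    by_cases h2 : p = 2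
    · exact congrArg Subtype.val ((hB2 h2).is_comm.comm (⟨x, hKB hx⟩ : B) ⟨y, hKB hy⟩)
    · have hw := sq_eq_one_of_quad A B (normalizer_eq_top (H := B) ▸ le_top) hc hA hb hq ⁅x, y⁆
        (commutator_mem_commutator hx hy)
      rw [← commutatorElement_eq_one_iff_mul_comm]
      obtain ⟨k, hk⟩ := hS ⁅x, y⁆
      have h3 : orderOf ⁅x, y⁆ ∣ Nat.gcd 2 (p ^ k) :=
        Nat.dvd_gcd (orderOf_dvd_of_pow_eq_one hw) (orderOf_dvd_of_pow_eq_one hk)
      have h4 : Nat.gcd 2 (p ^ k) = 1 := Nat.Coprime.pow_right k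
        ((Nat.coprime_primes Nat.prime_two Fact.out).mpr (Ne.symm h2))
      rw [h4] at h3
      exact orderOf_eq_one_iff.mp (Nat.dvd_one.mp h3)
  have hA1K : ∀ z ∈ A1, ∀ y ∈ K, z * y = y * z := by
    intro z hz y hy
    rw [hK, comAt] at hy
    have hz1 : Commute z y := by
      induction hy using Subgroup.closure_induction with
      | mem y hy =>
        obtain ⟨a, ha, rfl⟩ := hy
        obtain ⟨z', hz', he⟩ := hz.2
        have h2 : Commute z (b⁻¹ * a * b) := by
          rw [← he]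
          have h3 := (show Commute z' a from hcA z' hz' a ha).map (MulAut.conj b⁻¹).toMonoidHom
          simpa using h3
        exact h2.mul_right (show Commute z a from hcA z hz.1 a ha).inv_right
      | one => exact Commute.one_right z
      | mul _ _ _ _ h h' => exact h.mul_right h'
      | inv _ _ h => exact h.inv_right
    exact hz1
  have hab : IsMulCommutative (star A b) := by
    rw [hstar, ← Subgroup.closure_eq A1, hK, comAt, ← Subgroup.closure_union]
    refine isMulCommutative_closure fun x hx y hy => ?_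
    rcases hx with hx | hx <;> rcases hy with hy | hy
    · exact hcA x hx.1 y hy.1
    · exact hA1K x hx y (subset_closure hy)
    · exact (hA1K y hy x (subset_closure hx)).symm
    · exact hKab x (subset_closure hx) y (subset_closure hy)
  have hB'A1 : ⁅B, B⁆ ≤ A1 := fun z hz => hABb ⟨hBA hz, hB'B hz⟩
  have hcomm : ∀ x ∈ star A b, ∀ y ∈ star A b, x * y = y * x := fun x hx y hy =>
    congrArg Subtype.val (hab.is_comm.comm (⟨x, hx⟩ : star A b) ⟨y, hy⟩)
  have hA1N : A1 ≤ N := inf_le_left.trans hAN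
  have hdec : ∀ x ∈ star A b, ∃ z ∈ A1, ∃ k ∈ K, z * k = x := by
    intro x hx
    rw [hstar] at hx
    have hn : K ≤ normalizer (A1 : Set G) := fun k hk => mem_normalizer_iff.mpr fun z => by
      have h1 := le_inf (hKN) ((hKN).trans hNAb) hk
      constructor
      · exact fun hz => ⟨(mem_normalizer_iff.mp h1.1 z).mp hz.1, (mem_normalizer_iff.mp h1.2 z).mp hz.2⟩
      · exact fun hz => ⟨(mem_normalizer_iff.mp h1.1 z).mpr hz.1, (mem_normalizer_iff.mp h1.2 z).mpr hz.2⟩
    rw [← SetLike.mem_coe, coe_mul_of_right_le_normalizer_left A1 K hn] at hx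
    exact hx
  have hinf : A ⊓ star A b = A1 := by
    refine le_antisymm ?_ (le_inf inf_le_left (hstar ▸ le_sup_left))
    rintro x ⟨hxA, hx⟩
    obtain ⟨z, hz, k, hk, rfl⟩ := hdec x hx
    refine mul_mem hz (hABb ⟨?_, hKB hk⟩)
    simpa using A.mul_mem (A.inv_mem hz.1) hxA
  have hstarN : star A b ≤ N := hstar ▸ sup_le hA1N hKN
  have hsup : star A b ⊔ A = Ab ⊔ A := by
    apply le_antisymm
    · refine sup_le ?_ le_sup_right
      rw [hstar, hK, comAt]
      refine sup_le (inf_le_right.trans le_sup_left) ((closure_le _).mpr ?_)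
      rintro _ ⟨a, ha, rfl⟩
      exact mul_mem (mem_sup_left ((memAb _).mpr (by simpa [mul_assoc] using ha)))
        (mem_sup_right (inv_mem ha))
    · refine sup_le ?_ le_sup_right
      rintro _ ⟨a, ha, rfl⟩
      have h1 : b⁻¹ * a * b * a⁻¹ ∈ star A b ⊔ A :=
        mem_sup_left (hstar ▸ mem_sup_right (subset_closure ⟨a, ha, rfl⟩))
      have h2 := mul_mem h1 (mem_sup_right ha : a ∈ star A b ⊔ A)
      simpa using h2
  have hcardAb : Nat.card Ab = Nat.card A :=
    card_map_of_injective (MulAut.conj b⁻¹).injective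
  have hcard : Nat.card (star A b) = Nat.card A := by
    have e2 := card_sup_mul_card_inf A (star A b) hstarN
    have e3 := card_sup_mul_card_inf A Ab hAbN
    rw [hinf, sup_comm, hsup] at e2
    rw [sup_comm, ← hA1, e2, hcardAb] at e3
    exact Nat.eq_of_mul_eq_mul_left Nat.card_pos e3
  have hne : ∃ a ∈ A, b⁻¹ * a * b * a⁻¹ ∉ A := by
    by_contra h
    push Not at h
    apply hbA
    have hle : Ab ≤ A := by
      rintro _ ⟨a, ha, rfl⟩
      simpa using mul_mem (h a ha) ha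
    have heq := eq_of_le_of_card_ge hle hcardAb.ge
    refine mem_normalizer_iff.mpr fun x => ?_
    conv_lhs => rw [← heq, memAb]
  -- the action of `N` and `b`
  have hconjK : ∀ k ∈ K, ∀ y ∈ B, y⁻¹ * k * y ∈ star A b := by
    intro k hk y hy
    have e : y⁻¹ * k * y = ⁅y⁻¹, k⁆ * k := by simp [commutatorElement_def]
    rw [e, hstar]
    exact mul_mem (mem_sup_left (hB'A1 (commutator_mem_commutator (inv_mem hy) (hKB hk))))
      (mem_sup_right hk)
  have hnormN : ∀ n ∈ N, (star A b).map (MulAut.conj n).toMonoidHom ≤ star A b := by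
    intro n hn
    rw [map_le_iff_le_comap, hstar, hK, comAt, sup_le_iff, closure_le]
    refine ⟨fun z hz => mem_sup_left ⟨?_, ?_⟩, ?_⟩
    · simpa using (mem_normalizer_iff.mp hn z).mp hz.1
    · simpa using (mem_normalizer_iff.mp (hNAb hn) z).mp hz.2
    rintro _ ⟨a, ha, rfl⟩
    set a' := n * a * n⁻¹
    have ha' : a' ∈ A := (mem_normalizer_iff.mp hn a).mp ha
    set y := b⁻¹ * n * b * n⁻¹ with hy
    have hyN : y ∈ N := mul_mem (hbN'' n hn) (inv_mem hn)
    have hyB : y ∈ B := by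
      rw [hy, mul_assoc, mul_assoc]
      exact mul_mem (inv_mem hb) (by simpa [mul_assoc] using Normal.conj_mem ‹B.Normal› b hb n)
    have e : (MulAut.conj n).toMonoidHom (b⁻¹ * a * b * a⁻¹) =
        (y⁻¹ * (b⁻¹ * a' * b * a'⁻¹) * y) * (y⁻¹ * a' * y * a'⁻¹) := by
      simp only [MulEquiv.coe_toMonoidHom, MulAut.conj_apply, hy, a']
      group
    rw [SetLike.mem_coe, mem_comap, e, ← comAt, ← hK, ← hstar]
    refine mul_mem (hconjK _ (subset_closure ⟨a', ha', rfl⟩) y hyB) ?_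
    rw [hstar]
    refine mem_sup_left (hABb ⟨A.mul_mem ?_ (A.inv_mem ha'), ?_⟩)
    · have := (mem_normalizer_iff.mp (inv_mem hyN) a').mp ha'
      rwa [inv_inv] at this
    · rw [mul_assoc, mul_assoc]
      refine B.mul_mem (B.inv_mem hyB) ?_
      rw [← mul_assoc]
      exact Normal.conj_mem ‹B.Normal› y hyB a'
  have hNle : N ≤ normalizer ((star A b : Subgroup G) : Set G) := fun n hn => by
    rw [mem_normalizer_iff_map_conj_eq]
    exact eq_of_le_of_card_ge (hnormN n hn) (card_map_of_injective (MulAut.conj n).injective).ge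
  have hbstar : b ∈ normalizer ((star A b : Subgroup G) : Set G) := by
    rw [← inv_mem_iff, mem_normalizer_iff_map_conj_eq]
    refine eq_of_le_of_card_ge ?_ (card_map_of_injective (MulAut.conj b⁻¹).injective).ge
    rw [map_le_iff_le_comap, hstar, sup_le_iff]
    refine ⟨fun z hz => ?_, fun k hk => ?_⟩
    · rw [mem_comap]
      change b⁻¹ * z * b⁻¹⁻¹ ∈ _
      rw [inv_inv, show b⁻¹ * z * b = (b⁻¹ * z * b * z⁻¹) * z by group]
      exact mul_mem (mem_sup_right (subset_closure ⟨z, hz.1, rfl⟩)) (mem_sup_left hz)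
    · rw [mem_comap]
      change b⁻¹ * k * b⁻¹⁻¹ ∈ _
      rw [inv_inv, ← hstar]
      exact hconjK k hk b hb
  refine ⟨hcard, hab, hB'A1.trans (hstar ▸ le_sup_left), ?_, ?_, hAN.trans hNle, hstarN, hbstar,
    lt_of_le_of_ne hNle fun e => hbA (e ▸ hbstar), fun hp2 => ?_⟩
  · refine lt_of_le_of_ne (le_inf ((hABb).trans (hstar ▸ le_sup_left)) inf_le_right) fun e => ?_
    obtain ⟨a, ha, hna⟩ := hne
    have hk : b⁻¹ * a * b * a⁻¹ ∈ K := subset_closure ⟨a, ha, rfl⟩
    have : b⁻¹ * a * b * a⁻¹ ∈ A ⊓ B := e ▸ ⟨hstar ▸ mem_sup_right hk, hKB hk⟩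
    exact hna this.1
  · exact lt_of_le_of_ne inf_le_right fun e => hbA (hstarN (inf_eq_right.mp e hb))
  · set e := Monoid.exponent A with he
    have hAe : ∀ a ∈ A, a ^ e = 1 := fun a ha => by
      have := congrArg Subtype.val (Monoid.pow_exponent_eq_one (⟨a, ha⟩ : A))
      simpa using this
    have hodd : Odd e := by
      obtain ⟨k, hk⟩ := IsPGroup.iff_card.mp (hS.to_subgroup A)
      have hdvd : e ∣ p ^ k := hk ▸ Group.exponent_dvd_nat_card
      obtain ⟨j, -, hj⟩ := (Nat.dvd_prime_pow Fact.out).mp hdvd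
      rw [hj]
      exact ((Fact.out : p.Prime).odd_of_ne_two hp2).pow
    refine Monoid.exponent_dvd_of_forall_pow_eq_one fun x => ?_
    obtain ⟨x, hx⟩ := x
    apply Subtype.ext
    change x ^ e = 1
    obtain ⟨z, hz, k, hk, rfl⟩ := hdec x hx
    rw [(show Commute z k from hA1K z hz k hk).mul_pow, hAe z hz.1, one_mul]
    rw [hK, comAt] at hk
    induction hk using Subgroup.closure_induction with
    | mem y hy =>
      obtain ⟨a, ha, rfl⟩ := hy
      set u := b⁻¹ * a * b with hu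
      have huAb : u ∈ Ab := (memAb u).mpr (by simpa [hu, mul_assoc] using ha)
      have huN : u ∈ N := hAbN huAb
      have haN : a⁻¹ ∈ normalizer (Ab : Set G) := hNAb (hAN (inv_mem ha))
      have hcmem : ⁅a⁻¹, u⁆ ∈ A1 := by
        refine ⟨?_, ?_⟩
        · rw [commutatorElement_def, mul_assoc, mul_assoc]
          refine A.mul_mem (A.inv_mem ha) ?_
          rw [← mul_assoc]
          exact (mem_normalizer_iff.mp huN _).mp (A.inv_mem (A.inv_mem ha))
        · rw [commutatorElement_def]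
          exact Ab.mul_mem ((mem_normalizer_iff.mp haN u).mp huAb) (Ab.inv_mem huAb)
      have hu' : u ^ e = 1 := by
        have h1 := hAe a ha
        rw [hu, show b⁻¹ * a * b = b⁻¹ * a * b⁻¹⁻¹ by rw [inv_inv], conj_pow, h1]; group
      have hcx : Commute ⁅a⁻¹, u⁆ u := by
        obtain ⟨z', hz', he'⟩ := hcmem.2
        rw [← he', hu]
        have h3 := (show Commute z' a from hcA z' hz' a ha).map (MulAut.conj b⁻¹).toMonoidHom
        simpa using h3
      have hcy : Commute ⁅a⁻¹, u⁆ a⁻¹ := (show Commute _ a from hcA _ hcmem.1 a ha).inv_right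
      rw [mul_pow_of_central (c := ⁅a⁻¹, u⁆) (by simp [commutatorElement_def]) hcx hcy, hu',
        hAe _ (inv_mem ha), one_mul, one_mul]
      obtain ⟨m, hm⟩ : e ∣ e.choose 2 := by
        obtain ⟨j, hj⟩ := hodd
        refine ⟨j, ?_⟩
        rw [Nat.choose_two_right, hj, show 2 * j + 1 - 1 = 2 * j by omega,
          show (2 * j + 1) * (2 * j) = 2 * ((2 * j + 1) * j) by ring,
          Nat.mul_div_cancel_left _ two_pos]
      rw [hm, pow_mul, hAe _ hcmem.1, one_pow]
    | one => exact one_pow e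
    | mul y w hy hw ihy ihw =>
      rw [(show Commute y w from hKab y hy w hw).mul_pow, ihy (by
        exact hstar ▸ mul_mem (mem_sup_left hz) (mem_sup_right hy)), ihw (by
        exact hstar ▸ mul_mem (mem_sup_left hz) (mem_sup_right hw)), one_mul]
    | inv y hy ih =>
      rw [inv_pow, ih (by exact hstar ▸ mul_mem (mem_sup_left hz) (mem_sup_right hy)), inv_one]

/-- Some element of `B` normalizes `N(A)` but not `A`. -/
theorem exists_normalizer_step {p : ℕ} [Fact p.Prime] (hS : IsPGroup p G) (B : Subgroup G)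
    [B.Normal] (A : Subgroup G) (hnot : ¬ B ≤ normalizer (A : Set G)) :
    ∃ b ∈ B, b ∈ normalizer ((normalizer (A : Set G)) : Set G) ∧ b ∉ normalizer (A : Set G) := by
  set N := normalizer (A : Set G)
  set X := B ⊔ N
  have hlt : N.subgroupOf X < ⊤ := lt_top_iff_ne_top.mpr fun h =>
    hnot (le_sup_left.trans (subgroupOf_eq_top.mp h))
  haveI : Group.IsNilpotent X := (hS.to_subgroup X).isNilpotent
  have h2 := Group.normalizerCondition_of_isNilpotent (N.subgroupOf X) hlt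
  obtain ⟨x, hx, hxN⟩ := SetLike.exists_of_lt h2
  obtain ⟨c, hc, n, hn, he⟩ := mem_sup_of_normal_left.mp x.2
  have hxnorm : (x : G) ∈ normalizer (N : Set G) := by
    rw [mem_normalizer_iff] at hx ⊢
    intro y
    constructor
    · intro hy
      exact (hx ⟨y, mem_sup_right hy⟩).mp hy
    · intro hy
      have hyX : y ∈ X := by
        have := mul_mem (mul_mem (inv_mem x.2) (mem_sup_right hy : _ ∈ X)) x.2
        simpa [mul_assoc] using this
      exact (hx ⟨y, hyX⟩).mpr hy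
  refine ⟨c, hc, ?_, fun hcN => hxN (show (x : G) ∈ N from he ▸ mul_mem hcN hn)⟩
  have : c = (x : G) * n⁻¹ := by rw [← he, mul_inv_cancel_right]
  rw [this]
  exact mul_mem hxnorm (inv_mem (le_normalizer hn))

/-- Glauberman's replacement theorem. -/
theorem exists_replacement {p : ℕ} [Fact p.Prime] (hS : IsPGroup p G) (hp2 : p ≠ 2)
    (B : Subgroup G) [B.Normal] (A : Subgroup G) (hA : IsMulCommutative A) (hBA : ⁅B, B⁆ ≤ A)
    (hnot : ¬ B ≤ normalizer (A : Set G)) :
    ∃ A' : Subgroup G, IsMulCommutative A' ∧ Nat.card A' = Nat.card A ∧ ⁅B, B⁆ ≤ A' ∧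
      A ⊓ B < A' ⊓ B ∧ ¬ B ≤ A' ∧ A' ≤ normalizer (A : Set G) ∧
      Monoid.exponent A' ∣ Monoid.exponent A ∧
      ∀ D : Subgroup G, D.Normal → A ≤ D → A' ≤ D := by
  obtain ⟨b, hb, hbN, hbA⟩ := exists_normalizer_step hS B A hnot
  obtain ⟨h1, h2, h3, h4, h5, -, h7, -, -, h10⟩ :=
    star_spec hS B (fun h => absurd h hp2) A hA hBA b hb hbN hbA
  refine ⟨star A b, h2, h1, h3, h4, fun h => hbA (h7 (h hb)), h7, h10 hp2, fun D hD hAD => ?_⟩
  refine sup_le (inf_le_left.trans hAD) ((closure_le _).mpr ?_)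
  rintro _ ⟨a, ha, rfl⟩
  rw [mul_assoc, mul_assoc]
  refine mul_mem (hAD ha) ?_
  rw [← mul_assoc]
  simpa using hD.conj_mem _ (inv_mem (hAD ha)) b⁻¹

end Main

end Cfsg.Agent.Solv.Repl
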