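import Cfsg.Agent.Lib.Solv.Thompson
import Cfsg.Agent.Lib.Solv.Replacement
import Cfsg.Agent.Lib.Local.FusionReduction
import Cfsg.Prelude.Def_PLocal

/-!
Glauberman's `ZJ`-theorem, for both versions of the Thompson subgroup at once.
-/

set_option autoImplicit false
set_option linter.style.haveILetI false
set_option linter.unusedSectionVars false

namespace Cfsg.Agent.Solv.ZJ

open Subgroup
open scoped commutatorElement

variable {G : Type*} [Group G] {e : ℕ}

/-- Abelian of exponent dividing `e` (`e = 0`: abelian; `e = p`: elementary abelian). -/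
def Adm (e : ℕ) (A : Subgroup G) : Prop := IsMulCommutative A ∧ ∀ a ∈ A, a ^ e = 1

/-- The admissible subgroups of `Q` of largest order. -/
def fam (e : ℕ) (Q : Subgroup G) : Set (Subgroup G) :=
  {A | A ≤ Q ∧ Adm e A ∧ ∀ B : Subgroup G, B ≤ Q → Adm e B → Nat.card B ≤ Nat.card A}

/-- The intersection of the family. -/
def zj (e : ℕ) (Q : Subgroup G) : Subgroup G := Q ⊓ sInf (fam e Q)

/-- The join of the family. -/
def jf (e : ℕ) (Q : Subgroup G) : Subgroup G := sSup (fam e Q)

theorem adm_bot : Adm e (⊥ : Subgroup G) :=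
  ⟨inferInstance, fun a ha => by rw [mem_bot.mp ha, one_pow]⟩

theorem Adm.comm {A : Subgroup G} (h : Adm e A) {x y : G} (hx : x ∈ A) (hy : y ∈ A) :
    x * y = y * x :=
  congrArg Subtype.val (h.1.is_comm.comm (⟨x, hx⟩ : A) ⟨y, hy⟩)

theorem Adm.map {G' : Type*} [Group G'] (f : G →* G') {A : Subgroup G} (h : Adm e A) :
    Adm e (A.map f) := by
  haveI := h.1
  refine ⟨map_isMulCommutative A f, ?_⟩
  rintro _ ⟨a, ha, rfl⟩
  rw [← map_pow, h.2 a ha, map_one]

theorem exists_fam [Finite G] (e : ℕ) (Q : Subgroup G) : ∃ A, A ∈ fam e Q := by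
  obtain ⟨A, hA, hmax⟩ := Set.exists_max_image {A : Subgroup G | A ≤ Q ∧ Adm e A}
    (fun A => Nat.card A) (Set.toFinite _) ⟨⊥, bot_le, adm_bot⟩
  exact ⟨A, hA.1, hA.2, fun B hBQ hB => hmax B ⟨hBQ, hB⟩⟩

theorem zj_le (e : ℕ) (Q : Subgroup G) : zj e Q ≤ Q := inf_le_left

theorem zj_le_mem {Q A : Subgroup G} (hA : A ∈ fam e Q) : zj e Q ≤ A :=
  inf_le_right.trans (sInf_le hA)

theorem zj_comm [Finite G] (Q : Subgroup G) {x y : G} (hx : x ∈ zj e Q) (hy : y ∈ zj e Q) :
    x * y = y * x := by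
  obtain ⟨A, hA⟩ := exists_fam e Q
  exact hA.2.1.comm (zj_le_mem hA hx) (zj_le_mem hA hy)

theorem fam_eq_of_le [Finite G] {Q Q' A : Subgroup G} (hQ : Q' ≤ Q) (hA : A ∈ fam e Q)
    (hAQ : A ≤ Q') : fam e Q' = {X ∈ fam e Q | X ≤ Q'} := by
  ext X
  constructor
  · rintro ⟨hX, hXa, hmax⟩
    exact ⟨⟨hX.trans hQ, hXa, fun B hB hBa => (hA.2.2 B hB hBa).trans (hmax A hAQ hA.2.1)⟩, hX⟩
  · rintro ⟨⟨-, hXa, hmax⟩, hX⟩
    exact ⟨hX, hXa, fun B hB => hmax B (hB.trans hQ)⟩

theorem zj_mono [Finite G] {Q Q' A : Subgroup G} (hQ : Q' ≤ Q) (hA : A ∈ fam e Q) (hAQ : A ≤ Q') :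
    zj e Q ≤ zj e Q' := by
  refine le_inf ((zj_le_mem hA).trans hAQ) (le_sInf fun X hX => ?_)
  rw [fam_eq_of_le hQ hA hAQ] at hX
  exact zj_le_mem hX.1

theorem zj_eq_of_le [Finite G] {Q Q' : Subgroup G} (hQ : Q' ≤ Q) (hJ : jf e Q ≤ Q') :
    zj e Q' = zj e Q := by
  obtain ⟨A, hA⟩ := exists_fam e Q
  have hAQ : A ≤ Q' := (le_sSup hA).trans hJ
  refine le_antisymm ?_ (zj_mono hQ hA hAQ)
  refine le_inf (inf_le_left.trans hQ) (le_sInf fun X hX => zj_le_mem ?_)
  rw [fam_eq_of_le hQ hA hAQ]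
  exact ⟨hX, (le_sSup hX).trans hJ⟩

theorem mem_fam_map [Finite G] {G' : Type*} [Group G'] (f : G →* G') (hf : Function.Injective f)
    {Q A : Subgroup G} (hA : A ∈ fam e Q) : A.map f ∈ fam e (Q.map f) := by
  refine ⟨map_mono hA.1, hA.2.1.map f, fun B hB hBa => ?_⟩
  have hBe : (B.comap f).map f = B := map_comap_eq_self (hB.trans (map_le_range f Q))
  rw [← hBe, card_map_of_injective hf, card_map_of_injective hf]
  refine hA.2.2 _ ((comap_mono hB).trans (comap_map_eq_self_of_injective hf Q).le) ⟨?_, fun a ha => ?_⟩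
  · exact ⟨⟨fun x y => Subtype.ext (hf (by rw [Subgroup.coe_mul, Subgroup.coe_mul, map_mul, map_mul,
      hBa.comm x.2 y.2]))⟩⟩
  · exact hf (by rw [map_pow, hBa.2 _ ha, map_one])

theorem exists_fam_map [Finite G] {G' : Type*} [Group G'] (f : G →* G') (hf : Function.Injective f)
    {Q : Subgroup G} {B : Subgroup G'} (hB : B ∈ fam e (Q.map f)) :
    ∃ A ∈ fam e Q, A.map f = B := by
  obtain ⟨A₀, hA₀⟩ := exists_fam e Q
  have hBe : (B.comap f).map f = B := map_comap_eq_self (hB.1.trans (map_le_range f Q))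
  refine ⟨B.comap f, ⟨(comap_mono hB.1).trans (comap_map_eq_self_of_injective hf Q).le,
    ⟨⟨⟨fun x y => Subtype.ext (hf (by rw [Subgroup.coe_mul, Subgroup.coe_mul, map_mul, map_mul,
      hB.2.1.comm x.2 y.2]))⟩⟩, fun a ha => hf (by rw [map_pow, hB.2.1.2 _ ha, map_one])⟩,
    fun C hC hCa => ?_⟩, hBe⟩
  have h := hB.2.2 (C.map f) (map_mono hC) (hCa.map f)
  rw [← hBe, card_map_of_injective hf, card_map_of_injective hf] at h
  exact h

theorem zj_map [Finite G] {G' : Type*} [Group G'] (f : G →* G') (hf : Function.Injective f)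
    (Q : Subgroup G) : zj e (Q.map f) = (zj e Q).map f := by
  ext x
  constructor
  · rintro ⟨⟨y, hy, rfl⟩, h2⟩
    refine ⟨y, ⟨hy, mem_sInf.mpr fun A hA => ?_⟩, rfl⟩
    obtain ⟨z, hz, hzy⟩ := mem_sInf.mp h2 _ (mem_fam_map f hf hA)
    rwa [← hf hzy]
  · rintro ⟨y, hy, rfl⟩
    refine ⟨mem_map_of_mem f hy.1, mem_sInf.mpr fun B hB => ?_⟩
    obtain ⟨A, hA, rfl⟩ := exists_fam_map f hf hB
    exact mem_map_of_mem f (zj_le_mem hA hy)

theorem normalizer_le_zj [Finite G] (Q : Subgroup G) :
    normalizer (Q : Set G) ≤ normalizer (zj e Q : Set G) := by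
  intro g hg
  rw [mem_normalizer_iff_map_conj_eq] at hg ⊢
  rw [← zj_map _ (MulAut.conj g).injective, hg]

theorem le_normalizer_zj [Finite G] (Q : Subgroup G) : Q ≤ normalizer (zj e Q : Set G) :=
  le_normalizer.trans (normalizer_le_zj Q)

theorem zj_ne_bot_aux [Finite G] {p : ℕ} [Fact p.Prime] {Q : Subgroup G} (hQ : IsPGroup p Q)
    (he : p ∣ e) (h1 : Q ≠ ⊥) : zj e Q ≠ ⊥ := by
  haveI : Nontrivial Q := Q.nontrivial_iff_ne_bot.mpr h1
  haveI := hQ.center_nontrivial
  obtain ⟨k, hk⟩ := IsPGroup.iff_card.mp (hQ.to_subgroup (center Q))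
  have hdvd : p ∣ Nat.card (center Q) := by
    rw [hk]
    refine dvd_pow_self p fun h0 => ?_
    rw [h0, pow_zero] at hk
    have := Finite.one_lt_card (α := center Q)
    omega
  obtain ⟨z, hz⟩ := exists_prime_orderOf_dvd_card' p hdvd
  intro hbot
  have hzp : ((z : Q) : G) ^ p = 1 := by
    rw [← SubgroupClass.coe_pow, ← SubgroupClass.coe_pow, ← hz, pow_orderOf_eq_one]; rfl
  have hzm : ((z : Q) : G) ∈ zj e Q := by
    refine ⟨(z : Q).2, mem_sInf.mpr fun A hA => ?_⟩
    have hcen : ∀ a ∈ A, a * ((z : Q) : G) = ((z : Q) : G) * a := fun a ha =>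
      congrArg Subtype.val (mem_center_iff.mp z.2 ⟨a, hA.1 ha⟩)
    set w := ((z : Q) : G) with hw
    have hle : A ⊔ zpowers w ≤ Q := sup_le hA.1 (zpowers_le.mpr (z : Q).2)
    have hadm : Adm e (A ⊔ zpowers w : Subgroup G) := by
      have hcl : A ⊔ zpowers w = Subgroup.closure ((A : Set G) ∪ {w}) := by
        rw [Subgroup.closure_union, Subgroup.closure_eq, zpowers_eq_closure]
      have hc : IsMulCommutative (A ⊔ zpowers w : Subgroup G) := hcl ▸ isMulCommutative_closure (by
        rintro x (hx | hx) y (hy | hy)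
        · exact hA.2.1.comm hx hy
        · rw [Set.mem_singleton_iff] at hy; subst hy; exact hcen x hx
        · rw [Set.mem_singleton_iff] at hx; subst hx; exact (hcen y hy).symm
        · rw [Set.mem_singleton_iff] at hx hy; rw [hx, hy])
      refine ⟨hc, fun a ha => ?_⟩
      rw [hcl] at ha
      induction ha using Subgroup.closure_induction with
      | mem x hx =>
        rcases hx with hx | hx
        · exact hA.2.1.2 x hx
        · rw [Set.mem_singleton_iff] at hx
          obtain ⟨j, rfl⟩ := he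
          rw [hx, pow_mul, hzp, one_pow]
      | one => exact one_pow e
      | mul x y hx hy ihx ihy =>
        rw [← hcl] at hx hy
        have hxy : Commute x y := congrArg Subtype.val (hc.is_comm.comm
          (⟨x, hx⟩ : (A ⊔ zpowers w : Subgroup G)) ⟨y, hy⟩)
        rw [hxy.mul_pow, ihx, ihy, one_mul]
      | inv x _ ih => rw [inv_pow, ih, inv_one]
    have heq := eq_of_le_of_card_ge (le_sup_left : A ≤ A ⊔ zpowers w) (hA.2.2 _ hle hadm)
    rw [heq]
    exact mem_sup_right (mem_zpowers w)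
  rw [hbot, mem_bot] at hzm
  rw [show z = 1 from Subtype.ext (Subtype.ext hzm), orderOf_one] at hz
  exact (Fact.out : p.Prime).one_lt.ne hz

/-! ### `p`-stability and the theorem -/

variable {p : ℕ} [Fact p.Prime]

/-- `p`-stability for the action of `p`-subgroups on normal `p`-subgroups. -/
def Stab (p : ℕ) (G : Type*) [Group G] : Prop :=
  ∀ (B : Subgroup G) [B.Normal], IsPGroup p B → ∀ A : Subgroup G, IsPGroup p A →
    ⁅⁅B, A⁆, A⁆ = ⊥ →
    A.map (QuotientGroup.mk' (centralizer (B : Set G))) ≤ pCore p (G ⧸ centralizer (B : Set G))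

/-- The Sylow subgroup of a normal subgroup cut out by `P`. -/
theorem exists_sylow_inf [Finite G] (P : Sylow p G) (L : Subgroup G) [L.Normal] :
    ∃ PL : Sylow p L, (PL : Subgroup L).map L.subtype = (P : Subgroup G) ⊓ L := by
  have hidx : ¬ p ∣ ((P : Subgroup G) ⊓ L).relIndex L := by
    rw [inf_relIndex_right]
    exact Local.FusionRed.not_dvd_relIndex_normal P L
  exact ⟨((P.isPGroup'.to_le (inf_le_left : (P : Subgroup G) ⊓ L ≤ _)).of_equiv
    (subgroupOfEquivOfLe inf_le_right).symm).toSylow hidx, map_subgroupOf_eq_of_le inf_le_right⟩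

theorem stab_of_isPStableOn
    (h : ∀ (B : Subgroup G) [B.Normal], IsPGroup p B → IsPStableOn p B) : Stab p G := by
  intro B _ hB A _ hq
  rintro _ ⟨a, ha, rfl⟩
  refine h B hB a (le_bot_iff.mp ?_)
  rw [← hq]
  exact commutator_mono (commutator_mono le_rfl (zpowers_le.mpr ha)) (zpowers_le.mpr ha)

/-- The key step: `B ∩ Z(J(P))` is normal for a normal `p`-subgroup `B`; stability is needed only
for the members of the family. -/
theorem inf_zj_normal' [Finite G] (hp2 : p ≠ 2) (P : Sylow p G)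
    (hst : ∀ (B : Subgroup G) [B.Normal], IsPGroup p B → ∀ A ∈ fam e (P : Subgroup G),
      ⁅⁅B, A⁆, A⁆ = ⊥ →
      A.map (QuotientGroup.mk' (centralizer (B : Set G))) ≤ pCore p (G ⧸ centralizer (B : Set G))) :
    ∀ (n : ℕ) (B : Subgroup G), Nat.card B ≤ n → B.Normal → IsPGroup p B →
      (B ⊓ zj e (P : Subgroup G)).Normal := by
  intro n
  induction n with
  | zero => intro B hn; exact absurd hn (not_le.mpr Nat.card_pos)
  | succ n ih =>
    intro B hn hBn hBp
    haveI := hBn
    set Z := zj e (P : Subgroup G) with hZ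
    set W := B ⊓ Z with hW
    by_contra hWn
    have hBP : B ≤ (P : Subgroup G) := (le_pCore hBp).trans (pCore_le_sylow P)
    -- `B` is generated by the conjugates of `W`
    set B1 := normalClosure (W : Set G) with hB1
    have hB1B : B1 ≤ B := normalClosure_le_normal (fun x hx => hx.1)
    have hB1eq : B1 = B := by
      by_contra hne
      have hlt : Nat.card B1 < Nat.card B := lt_of_le_of_ne (card_le_of_le hB1B) fun h =>
        hne (eq_of_le_of_card_ge hB1B h.ge)
      have h := ih B1 (by omega) inferInstance (hBp.to_le hB1B)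
      have he' : B1 ⊓ Z = W := le_antisymm (inf_le_inf_right Z hB1B)
        (le_inf (fun x hx => subset_normalClosure hx) inf_le_right)
      rw [he'] at h
      exact hWn h
    -- `B' ≤ Z`
    have hB1' : B ≠ ⊥ := fun h => hWn (by
      have : W = ⊥ := le_bot_iff.mp (h ▸ (inf_le_left : W ≤ B))
      rw [this]; infer_instance)
    haveI : Nontrivial B := B.nontrivial_iff_ne_bot.mpr hB1'
    have hB'B : ⁅B, B⁆ ≤ B := commutator_le_left B B
    have hB'lt : Nat.card (⁅B, B⁆ : Subgroup G) < Nat.card B := by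
      refine lt_of_le_of_ne (card_le_of_le hB'B) fun h => ?_
      have heq : ⁅B, B⁆ = B := eq_of_le_of_card_ge hB'B h.ge
      haveI := hBp.isNilpotent
      haveI : Group.IsSolvable B := inferInstance
      refine (Group.IsSolvable.commutator_lt_top_of_nontrivial B).ne ?_
      apply Subgroup.map_injective B.subtype_injective
      rw [Subgroup.map_subtype_commutator, heq, ← MonoidHom.range_eq_map, range_subtype]
    haveI hB'n : (⁅B, B⁆ : Subgroup G).Normal := inferInstance
    haveI hN : (⁅B, B⁆ ⊓ Z).Normal := ih _ (by omega) hB'n (hBp.to_le hB'B)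
    set N := ⁅B, B⁆ ⊓ Z with hNdef
    have hB'Z : ⁅B, B⁆ ≤ Z := by
      have h1 : B1 ≤ (centralizer ((B.map (QuotientGroup.mk' N) : Subgroup (G ⧸ N)) : Set (G ⧸ N))).comap
          (QuotientGroup.mk' N) := by
        haveI : (B.map (QuotientGroup.mk' N)).Normal := hBn.map _ (QuotientGroup.mk'_surjective N)
        refine normalClosure_le_normal fun w hw => ?_
        rw [SetLike.mem_coe, mem_comap, mem_centralizer_iff]
        rintro _ ⟨y, hy, rfl⟩
        rw [← map_mul, ← map_mul, QuotientGroup.mk'_apply, QuotientGroup.mk'_apply, QuotientGroup.eq]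
        have hmem : ⁅y⁻¹, w⁻¹⁆ ∈ N := by
          refine ⟨commutator_mem_commutator (inv_mem hy) (inv_mem hw.1), ?_⟩
          change ⁅y⁻¹, w⁻¹⁆ ∈ Z
          rw [commutatorElement_def]
          refine Z.mul_mem ?_ (Z.inv_mem (Z.inv_mem hw.2))
          exact (mem_normalizer_iff.mp (le_normalizer_zj _ (hBP (inv_mem hy))) _).mp (inv_mem hw.2)
        have e1 : (y * w)⁻¹ * (w * y) = (⁅y⁻¹, w⁻¹⁆)⁻¹ := by
          simp [commutatorElement_def]; group
        first
          | (rw [e1]; exact inv_mem hmem)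
          | (rw [show (y * w)⁻¹ * (w * y) = (w⁻¹ * y⁻¹ * w * y) by group,
                show w⁻¹ * y⁻¹ * w * y = ⁅w⁻¹, y⁻¹⁆ by simp [commutatorElement_def],
                ← commutatorElement_inv]
             exact inv_mem hmem)
      rw [hB1eq] at h1
      refine le_trans (((Subgroup.map_eq_bot_iff _).mp ?_).trans (QuotientGroup.ker_mk' N).le) inf_le_right
      rw [map_commutator, commutator_eq_bot_iff_le_centralizer, map_le_iff_le_comap]
      exact h1
    -- the kernel
    set L := (normalizer (W : Set G)).normalCore with hL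
    have hPW : (P : Subgroup G) ≤ normalizer (W : Set G) := by
      intro x hx
      rw [mem_normalizer_iff_map_conj_eq]
      rw [hW, map_inf_eq _ _ _ (MulAut.conj x).injective,
        mem_normalizer_iff_map_conj_eq.mp (le_normalizer_zj (P : Subgroup G) hx),
        mem_normalizer_iff_map_conj_eq.mp
          (show x ∈ normalizer (B : Set G) by rw [normalizer_eq_top]; trivial)]
    have hquad : ∀ A ∈ fam e (P : Subgroup G), B ≤ normalizer (A : Set G) → A ≤ L := by
      intro A hA hBA
      have hAp : IsPGroup p A := P.isPGroup'.to_le hA.1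
      have hq : ⁅⁅B, A⁆, A⁆ = ⊥ := by
        refine commutator_eq_bot_iff_le_centralizer.mpr ((commutator_le.mpr ?_ : ⁅B, A⁆ ≤ A).trans
          fun x hx => mem_centralizer_iff.mpr fun a ha => hA.2.1.comm ha hx)
        intro y hy a ha
        rw [commutatorElement_def]
        exact mul_mem ((mem_normalizer_iff.mp (hBA hy) a).mp ha) (inv_mem ha)
      have hmap := hst B hBp A hA hq
      set C := centralizer (B : Set G)
      set π := QuotientGroup.mk' C
      have hM : (pCore p (G ⧸ C)).comap π ≤ normalizer (W : Set G) := by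
        intro m hm
        have h1 := pCore_le_sylow (P.mapSurjective (QuotientGroup.mk'_surjective C)) hm
        obtain ⟨x, hx, hxm⟩ := h1
        have hc : x⁻¹ * m ∈ C := QuotientGroup.eq.mp hxm
        have hcW : x⁻¹ * m ∈ normalizer (W : Set G) := by
          rw [mem_normalizer_iff]
          intro w
          have hcc : ∀ v ∈ W, (x⁻¹ * m) * v * (x⁻¹ * m)⁻¹ = v := fun v hv => by
            rw [← mem_centralizer_iff.mp hc v hv.1, mul_inv_cancel_right]
          constructor
          · intro hw; rw [hcc w hw]; exact hw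
          · intro hw
            have h3 := hcc _ hw
            have h4 : (x⁻¹ * m) * w * (x⁻¹ * m)⁻¹ = w := mul_left_cancel (mul_right_cancel h3)
            rwa [h4] at hw
        have := mul_mem (hPW hx) hcW
        rwa [mul_inv_cancel_left] at this
      refine le_trans (map_le_iff_le_comap.mp hmap) ?_
      haveI : ((pCore p (G ⧸ C)).comap π).Normal := inferInstance
      exact normal_le_normalCore.mpr hM
    -- a maximal member outside the kernel
    by_cases hall : ∀ A ∈ fam e (P : Subgroup G), A ≤ L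
    · apply hWn
      rw [← normalizer_eq_top_iff, eq_top_iff]
      obtain ⟨PL, hQ⟩ := exists_sylow_inf P L
      have hfr := Sylow.normalizer_sup_eq_top PL
      rw [hQ] at hfr
      rw [← hfr]
      refine sup_le (fun g hg => ?_) (normalCore_le _)
      have hQZ : zj e ((P : Subgroup G) ⊓ L) = Z :=
        zj_eq_of_le inf_le_left (sSup_le fun A hA => le_inf hA.1 (hall A hA))
      have hgZ := normalizer_le_zj (e := e) _ hg
      rw [hQZ] at hgZ
      rw [mem_normalizer_iff_map_conj_eq] at hgZ ⊢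
      rw [hW, map_inf_eq _ _ _ (MulAut.conj g).injective, hgZ,
        mem_normalizer_iff_map_conj_eq.mp
          (show g ∈ normalizer (B : Set G) by rw [normalizer_eq_top]; trivial)]
    push Not at hall
    obtain ⟨A, ⟨hA, hAL⟩, hmax⟩ := Set.exists_max_image
      {A | A ∈ fam e (P : Subgroup G) ∧ ¬ A ≤ L} (fun A => Nat.card ↥(A ⊓ B)) (Set.toFinite _)
      (by obtain ⟨A, h1, h2⟩ := hall; exact ⟨A, h1, h2⟩)
    have hnot : ¬ B ≤ normalizer (A : Set G) := fun h => hAL (hquad A hA h)
    -- replacement inside `P`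
    obtain ⟨A', hA'ab, hA'c, -, hA'B, -, hA'N, hA'e, -⟩ := Repl.exists_replacement
      (P.isPGroup') hp2 (B.subgroupOf (P : Subgroup G)) (A.subgroupOf (P : Subgroup G))
      (by haveI := hA.2.1.1; exact subgroupOf_isMulCommutative _ _)
      (by
        rw [← map_le_map_iff_of_injective (P : Subgroup G).subtype_injective, map_commutator,
          map_subgroupOf_eq_of_le hBP, map_subgroupOf_eq_of_le hA.1]
        exact hB'Z.trans (zj_le_mem hA))
      (fun h => hnot fun y hy => by
        have h1 := h (show (⟨y, hBP hy⟩ : (P : Subgroup G)) ∈ B.subgroupOf P from hy)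
        rw [mem_normalizer_iff] at h1 ⊢
        intro x
        constructor
        · intro hx
          exact (h1 ⟨x, hA.1 hx⟩).mp hx
        · intro hx
          have hxP : x ∈ (P : Subgroup G) := by
            have := mul_mem (mul_mem (inv_mem (hBP hy)) (hA.1 hx)) (hBP hy)
            simpa [mul_assoc] using this
          exact (h1 ⟨x, hxP⟩).mpr hx)
    set A₂ := A'.map (P : Subgroup G).subtype with hA₂
    have hA₂fam : A₂ ∈ fam e (P : Subgroup G) := by
      refine ⟨map_subtype_le _, ⟨?_, ?_⟩, fun C hC hCa => ?_⟩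
      · haveI := hA'ab; exact map_isMulCommutative _ _
      · rintro _ ⟨a, ha, rfl⟩
        rw [← map_pow]
        have hdvd : Monoid.exponent A' ∣ e := by
          refine hA'e.trans (Monoid.exponent_dvd_of_forall_pow_eq_one fun x => ?_)
          exact Subtype.ext (Subtype.ext (by simpa using hA.2.1.2 _ x.2))
        obtain ⟨j, hj⟩ := hdvd
        have h1 : (⟨a, ha⟩ : A') ^ e = 1 := by rw [hj, pow_mul, Monoid.pow_exponent_eq_one, one_pow]
        have h2 := congrArg Subtype.val h1
        rw [SubgroupClass.coe_pow, OneMemClass.coe_one] at h2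
        rw [h2, map_one]
      · rw [hA₂, card_map_subtype, hA'c, card_subgroupOf hA.1]
        exact hA.2.2 C hC hCa
    have hA₂L : A₂ ≤ L := by
      by_contra h
      have h1 := hmax A₂ ⟨hA₂fam, h⟩
      have h2 : Nat.card ↥(A.subgroupOf (P : Subgroup G) ⊓ B.subgroupOf (P : Subgroup G)) <
          Nat.card ↥(A' ⊓ B.subgroupOf (P : Subgroup G)) :=
        lt_of_le_of_ne (card_le_of_le hA'B.le) fun h => hA'B.ne (eq_of_le_of_card_ge hA'B.le h.ge)
      have h3 : A'.map (P : Subgroup G).subtype ⊓ B =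
          (A' ⊓ B.subgroupOf (P : Subgroup G)).map (P : Subgroup G).subtype := by
        rw [map_inf_eq _ _ _ (P : Subgroup G).subtype_injective, map_subgroupOf_eq_of_le hBP]
      simp only [hA₂, h3, card_map_subtype] at h1
      rw [show Nat.card ↥(A ⊓ B) = Nat.card ↥(A.subgroupOf (P : Subgroup G) ⊓ B.subgroupOf (P : Subgroup G))
        from (card_subgroupOf (inf_le_left.trans hA.1)).symm] at h1
      omega
    -- `B` lies in the new member
    set Q := (P : Subgroup G) ⊓ L with hQdef
    have hA₂Q : A₂ ≤ Q := le_inf hA₂fam.1 hA₂L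
    have hZQ : Z ≤ zj e Q := zj_mono inf_le_left hA₂fam hA₂Q
    have hBA₂ : B ≤ A₂ := by
      rw [← hB1eq]
      obtain ⟨PL, hQ⟩ := exists_sylow_inf P L
      have hfr := Sylow.normalizer_sup_eq_top PL
      rw [hQ] at hfr
      have hAQfam : A₂ ∈ fam e Q := by
        rw [fam_eq_of_le inf_le_left hA₂fam hA₂Q]; exact ⟨hA₂fam, hA₂Q⟩
      rw [hB1, normalClosure, closure_le]
      intro x hx
      rw [Group.mem_conjugatesOfSet_iff] at hx
      obtain ⟨w, hw, hconj⟩ := hx
      obtain ⟨g, rfl⟩ := isConj_iff.mp hconj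
      have hg : g ∈ normalizer (Q : Set G) ⊔ L := by rw [hfr]; trivial
      rw [mem_sup_of_normal_right] at hg
      obtain ⟨k, hk, l, hl, rfl⟩ := hg
      have hlw : l * w * l⁻¹ ∈ W := (mem_normalizer_iff.mp (normalCore_le _ hl) w).mp hw
      have h5 : k * (l * w * l⁻¹) * k⁻¹ ∈ zj e Q :=
        (mem_normalizer_iff.mp (normalizer_le_zj Q hk) _).mp (hZQ hlw.2)
      refine zj_le_mem hAQfam ?_
      convert h5 using 1
      group
    -- `B` normalizes `A`
    refine hnot fun y hy => ?_
    obtain ⟨y', hy', rfl⟩ := hBA₂ hy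
    have h6 := hA'N hy'
    rw [mem_normalizer_iff] at h6 ⊢
    intro x
    constructor
    · intro hx
      exact (h6 ⟨x, hA.1 hx⟩).mp hx
    · intro hx
      have hxP : x ∈ (P : Subgroup G) := by
        have := mul_mem (mul_mem (inv_mem y'.2) (hA.1 hx)) y'.2
        simpa [mul_assoc] using this
      exact (h6 ⟨x, hxP⟩).mpr hx

/-- The key step for a stable group. -/
theorem inf_zj_normal [Finite G] (hp2 : p ≠ 2) (hst : Stab p G) (P : Sylow p G) :
    ∀ (n : ℕ) (B : Subgroup G), Nat.card B ≤ n → B.Normal → IsPGroup p B →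
      (B ⊓ zj e (P : Subgroup G)).Normal :=
  inf_zj_normal' hp2 P fun B _ hB A hA hq => hst B hB A (P.isPGroup'.to_le hA.1) hq

/-- Glauberman's theorem: `Z(J(P))` is normal. -/
theorem zj_normal [Finite G] (hp2 : p ≠ 2) (hst : Stab p G)
    (hc : centralizer (pCore p G : Set G) ≤ pCore p G) (P : Sylow p G) :
    (zj e (P : Subgroup G)).Normal := by
  set O := pCore p G
  set Z := zj e (P : Subgroup G)
  have hZO : Z ≤ O := by
    have hZp : IsPGroup p Z := P.isPGroup'.to_le (zj_le _ _)
    have hq : ⁅⁅O, Z⁆, Z⁆ = ⊥ := by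
      refine commutator_eq_bot_iff_le_centralizer.mpr ((commutator_le.mpr ?_ : ⁅O, Z⁆ ≤ Z).trans
        fun x hx => mem_centralizer_iff.mpr fun a ha => zj_comm _ ha hx)
      intro y hy a ha
      rw [commutatorElement_def]
      exact mul_mem ((mem_normalizer_iff.mp (le_normalizer_zj _ (pCore_le_sylow P hy)) a).mp ha)
        (inv_mem ha)
    have h1 := hst O (isPGroup_pCore p G) Z hZp hq
    set π := QuotientGroup.mk' (centralizer (O : Set G))
    refine (map_le_iff_le_comap.mp h1).trans (le_pCore ?_)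
    refine (isPGroup_pCore p _).comap_of_ker_isPGroup π ?_
    rw [QuotientGroup.ker_mk']
    exact (isPGroup_pCore p G).to_le hc
  have h := inf_zj_normal (e := e) hp2 hst P _ O le_rfl inferInstance (isPGroup_pCore p G)
  rwa [inf_eq_right.mpr hZO] at h

theorem zj_characteristic [Finite G] (hp2 : p ≠ 2) (hst : Stab p G)
    (hc : centralizer (pCore p G : Set G) ≤ pCore p G) (P : Sylow p G) :
    (zj e (P : Subgroup G)).Characteristic := by
  haveI := zj_normal (e := e) hp2 hst hc P
  refine characteristic_iff_map_eq.mpr fun φ => ?_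
  obtain ⟨g, hg⟩ := MulAction.exists_smul_eq G P (P.mapSurjective (f := φ.toMonoidHom) φ.surjective)
  have h1 : (P : Subgroup G).map φ.toMonoidHom = (P : Subgroup G).map (MulAut.conj g).toMonoidHom := by
    have := congrArg (fun Q : Sylow p G => (Q : Subgroup G)) hg
    exact this.symm
  rw [← zj_map _ φ.injective, h1, zj_map _ (MulAut.conj g).injective]
  exact mem_normalizer_iff_map_conj_eq.mp (by rw [normalizer_eq_top]; trivial)

/-! ### The two Thompson subgroups -/

theorem zj_zero [Finite G] (Q : Subgroup G) : zj 0 Q = centerThompsonAOf Q := by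
  have hJ : thompsonSubgroupAOf Q = jf 0 Q := by
    apply le_antisymm
    · rw [thompsonSubgroupAOf, map_le_iff_le_comap]
      refine sSup_le fun A hA => map_le_iff_le_comap.mp (le_sSup ?_)
      haveI := hA.1
      refine ⟨map_subtype_le A, ⟨map_isMulCommutative _ _, fun a _ => pow_zero a⟩, fun B hB hBa => ?_⟩
      haveI := hBa.1
      rw [card_map_subtype, ← card_subgroupOf hB]
      exact hA.2 _ (subgroupOf_isMulCommutative _ _)
    · refine sSup_le fun A hA => ?_
      rw [← map_subgroupOf_eq_of_le hA.1]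
      refine map_mono (le_sSup ⟨?_, fun B hB => ?_⟩)
      · haveI := hA.2.1.1; exact subgroupOf_isMulCommutative _ _
      · rw [card_subgroupOf hA.1, ← card_map_subtype Q B]
        haveI := hB
        exact hA.2.2 _ (map_subtype_le B) ⟨map_isMulCommutative _ _, fun a _ => pow_zero a⟩
  rw [centerThompsonAOf, hJ]
  apply le_antisymm
  · obtain ⟨A, hA⟩ := exists_fam 0 Q
    refine le_inf ((zj_le_mem hA).trans (le_sSup hA)) ?_
    rw [le_centralizer_iff]
    refine sSup_le fun X hX a ha => mem_centralizer_iff.mpr fun z hz => ?_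
    exact hX.2.1.comm (zj_le_mem hX hz) ha
  · rintro x ⟨hx, hxc⟩
    have hxQ : x ∈ Q := (sSup_le fun A hA => hA.1 : jf 0 Q ≤ Q) hx
    refine ⟨hxQ, mem_sInf.mpr fun A hA => ?_⟩
    have hcen : ∀ a ∈ A, a * x = x * a := fun a ha => hxc a (le_sSup hA ha)
    have hcl : A ⊔ zpowers x = Subgroup.closure ((A : Set G) ∪ {x}) := by
      rw [Subgroup.closure_union, Subgroup.closure_eq, zpowers_eq_closure]
    have hc : IsMulCommutative (A ⊔ zpowers x : Subgroup G) := hcl ▸ isMulCommutative_closure (by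
      rintro u (hu | hu) v (hv | hv)
      · exact hA.2.1.comm hu hv
      · rw [Set.mem_singleton_iff] at hv; subst hv; exact hcen u hu
      · rw [Set.mem_singleton_iff] at hu; subst hu; exact (hcen v hv).symm
      · rw [Set.mem_singleton_iff] at hu hv; rw [hu, hv])
    have heq := eq_of_le_of_card_ge (le_sup_left : A ≤ A ⊔ zpowers x)
      (hA.2.2 _ (sup_le hA.1 (zpowers_le.mpr hxQ)) ⟨hc, fun a _ => pow_zero a⟩)
    rw [heq]
    exact mem_sup_right (mem_zpowers x)

theorem zj_prime [Finite G] (Q : Subgroup G) :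
    zj p Q = (omegaCenterThompson p ↥Q).map Q.subtype := by
  apply le_antisymm
  · intro x hx
    have hxQ := zj_le p Q hx
    obtain ⟨A, hA⟩ := exists_maxElemAbelian (G := Q) p
    have hfam : ∀ X ∈ maxElementaryAbelianSubgroups p Q, X.map Q.subtype ∈ fam p Q := fun X hX => by
      refine ⟨map_subtype_le X, elemAbelian_map _ hX.1, fun B hB hBa => ?_⟩
      rw [card_map_subtype, ← card_subgroupOf hB]
      exact hX.2 _ (elemAbelian_subgroupOf hBa)
    have hxA : ∀ X ∈ maxElementaryAbelianSubgroups p Q, (⟨x, hxQ⟩ : Q) ∈ X := fun X hX => by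
      obtain ⟨y, hy, hyx⟩ := zj_le_mem (hfam X hX) hx
      rwa [show (⟨x, hxQ⟩ : Q) = y from Subtype.ext hyx.symm]
    refine ⟨⟨x, hxQ⟩, subset_closure ⟨⟨le_thompson hA (hxA A hA), ?_⟩, hA.1.2 _ (hxA A hA)⟩, rfl⟩
    change (⟨x, hxQ⟩ : Q) ∈ centralizer (thompsonSubgroup p Q : Set Q)
    rw [mem_centralizer_iff]
    have hle : thompsonSubgroup p Q ≤ centralizer ({(⟨x, hxQ⟩ : Q)} : Set Q) :=
      sSup_le fun X hX a ha => mem_centralizer_iff.mpr fun z hz => by
        rw [Set.mem_singleton_iff] at hz; subst hz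
        exact comm_of_elemAbelian hX.1 (hxA X hX) ha
    exact fun a ha => (mem_centralizer_iff.mp (hle ha) _ (Set.mem_singleton _)).symm
  · rw [map_le_iff_le_comap, omegaCenterThompson, omegaOne, closure_le]
    rintro x ⟨⟨hx1, hx2⟩, hxp⟩
    refine ⟨x.2, mem_sInf.mpr fun A hA => ?_⟩
    have hA' : A.subgroupOf Q ∈ maxElementaryAbelianSubgroups p Q := by
      refine ⟨elemAbelian_subgroupOf hA.2.1, fun B hB => ?_⟩
      rw [card_subgroupOf hA.1, ← card_map_subtype Q B]
      exact hA.2.2 _ (map_subtype_le B) (elemAbelian_map _ hB)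
    exact mem_of_centralizes_maxElemAbelian hA' hxp
      (mem_centralizer_iff.mpr fun a ha => hx2 a (le_thompson hA' ha))

theorem fam_zero_eq [Finite G] (D : Subgroup G) :
    fam 0 D = (fun A : Subgroup ↥D => A.map D.subtype) '' maxAbelianSubgroups ↥D := by
  ext X
  constructor
  · intro hX
    refine ⟨X.subgroupOf D, ⟨?_, fun B hB => ?_⟩, map_subgroupOf_eq_of_le hX.1⟩
    · haveI := hX.2.1.1; exact subgroupOf_isMulCommutative _ _
    · haveI := hB
      rw [card_subgroupOf hX.1, ← card_map_subtype D B]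
      exact hX.2.2 _ (map_subtype_le B) ⟨map_isMulCommutative _ _, fun a _ => pow_zero a⟩
  · rintro ⟨A, hA, rfl⟩
    haveI := hA.1
    refine ⟨map_subtype_le A, ⟨map_isMulCommutative _ _, fun a _ => pow_zero a⟩, fun B hB hBa => ?_⟩
    haveI := hBa.1
    show Nat.card B ≤ Nat.card (A.map D.subtype)
    rw [card_map_subtype, ← card_subgroupOf hB]
    exact hA.2 _ (subgroupOf_isMulCommutative _ _)

theorem fam_prime_eq [Finite G] (D : Subgroup G) :
    fam p D = (fun A : Subgroup ↥D => A.map D.subtype) '' maxElementaryAbelianSubgroups p ↥D := by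
  ext X
  constructor
  · intro hX
    refine ⟨X.subgroupOf D, ⟨elemAbelian_subgroupOf hX.2.1, fun B hB => ?_⟩,
      map_subgroupOf_eq_of_le hX.1⟩
    rw [card_subgroupOf hX.1, ← card_map_subtype D B]
    exact hX.2.2 _ (map_subtype_le B) (elemAbelian_map _ hB)
  · rintro ⟨A, hA, rfl⟩
    refine ⟨map_subtype_le A, elemAbelian_map _ hA.1, fun B hB hBa => ?_⟩
    show Nat.card B ≤ Nat.card (A.map D.subtype)
    rw [card_map_subtype, ← card_subgroupOf hB]
    exact hA.2 _ (elemAbelian_subgroupOf hBa)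

/-- The replacement property of the family. -/
theorem exists_normalizing [Finite G] (hG : IsPGroup p G) (hp2 : p ≠ 2) (D : Subgroup G) [D.Normal]
    (B : Subgroup G) [B.Normal]
    (h : ∃ U ∈ fam e D, ⁅B, B⁆ ≤ U ∧ ¬ B ≤ U) :
    ∃ A ∈ fam e D, ⁅B, B⁆ ≤ A ∧ ¬ B ≤ A ∧ B ≤ normalizer (A : Set G) := by
  obtain ⟨A, ⟨hA, hBA, hnA⟩, hmax⟩ := Set.exists_max_image
    {A | A ∈ fam e D ∧ ⁅B, B⁆ ≤ A ∧ ¬ B ≤ A} (fun A => Nat.card ↥(A ⊓ B)) (Set.toFinite _)
    (by obtain ⟨U, h1, h2, h3⟩ := h; exact ⟨U, h1, h2, h3⟩)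
  refine ⟨A, hA, hBA, hnA, ?_⟩
  by_contra hnot
  obtain ⟨A', h1, h2, h3, h4, h5, -, h7, h8⟩ :=
    Repl.exists_replacement hG hp2 B A hA.2.1.1 hBA hnot
  have hfam : A' ∈ fam e D := by
    refine ⟨h8 D inferInstance hA.1, ⟨h1, fun a ha => ?_⟩, fun C hC hCa => ?_⟩
    · have hdvd : Monoid.exponent A' ∣ e := by
        refine h7.trans (Monoid.exponent_dvd_of_forall_pow_eq_one fun x => ?_)
        exact Subtype.ext (by simpa using hA.2.1.2 _ x.2)
      obtain ⟨j, hj⟩ := hdvd
      have h9 : (⟨a, ha⟩ : A') ^ e = 1 := by rw [hj, pow_mul, Monoid.pow_exponent_eq_one, one_pow]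
      simpa using congrArg Subtype.val h9
    · rw [h2]; exact hA.2.2 C hC hCa
  have := hmax A' ⟨hfam, h3, h5⟩
  exact absurd (eq_of_le_of_card_ge h4.le this) h4.ne

end Cfsg.Agent.Solv.ZJ
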