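import Cfsg.Agent.Lib.Solv.Gaschutz

/-!
Conjugacy part of the Schur–Zassenhaus theorem, in relative form:
if `H` normalises `N`, `|N|` is prime to `|H|`, `N` or `H` is solvable, and `K ≤ N ⊔ H` has the
order of `H`, then `K` is conjugate to `H` by an element of `N`.
-/

set_option autoImplicit false
set_option linter.style.haveILetI false

namespace Cfsg.Agent.Solv

open Subgroup
open scoped Pointwise

universe u

section Aux

variable {G : Type*} [Group G]

theorem mem_conj_smul {g x : G} {H : Subgroup G} :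
    x ∈ MulAut.conj g • H ↔ g⁻¹ * x * g ∈ H := by
  rw [mem_pointwise_smul_iff_inv_smul_mem]
  simp [← map_inv, mul_assoc]

theorem conj_smul_conj_smul (a b : G) (H : Subgroup G) :
    MulAut.conj a • MulAut.conj b • H = MulAut.conj (a * b) • H := by
  rw [smul_smul, ← map_mul]

theorem conj_smul_eq_self_of_mem_normalizer {g : G} {H : Subgroup G}
    (hg : g ∈ normalizer (H : Set G)) : MulAut.conj g • H = H := by
  ext x
  rw [mem_conj_smul]
  exact (mem_normalizer_iff''.mp hg x).symm

theorem card_conj_smul (g : G) (H : Subgroup G) :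
    Nat.card ↥(MulAut.conj g • H) = Nat.card H :=
  Nat.card_congr (Subgroup.equivSMul (MulAut.conj g) H).symm.toEquiv

theorem map_conj_smul {G' : Type*} [Group G'] (f : G →* G') (g : G) (H : Subgroup G) :
    (MulAut.conj g • H).map f = MulAut.conj (f g) • H.map f := by
  ext x
  rw [mem_conj_smul]
  constructor
  · rintro ⟨y, hy, rfl⟩
    exact ⟨g⁻¹ * y * g, mem_conj_smul.mp hy, by simp⟩
  · rintro ⟨y, hy, hxy⟩
    refine ⟨g * y * g⁻¹, mem_conj_smul.mpr (by simpa [mul_assoc] using hy), ?_⟩
    rw [map_mul, map_mul, map_inv, hxy]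
    group

theorem le_normalizer_of_conj_mem [Finite G] {X K : Subgroup G}
    (h : ∀ a ∈ X, ∀ k ∈ K, a * k * a⁻¹ ∈ K) : X ≤ normalizer (K : Set G) := by
  intro a ha
  rw [mem_normalizer_iff]
  exact fun k => ⟨fun hk => h a ha k hk, fun hk => by
    simpa [mul_assoc] using h a⁻¹ (X.inv_mem ha) _ hk⟩

theorem normalizer_le_normalizer_commutator (H K : Subgroup G) :
    normalizer (H : Set G) ⊓ normalizer (K : Set G) ≤ normalizer ((⁅H, K⁆ : Subgroup G) : Set G) := by
  have key : ∀ a ∈ normalizer (H : Set G) ⊓ normalizer (K : Set G),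
      ∀ x ∈ ⁅H, K⁆, a * x * a⁻¹ ∈ ⁅H, K⁆ := by
    intro a ha x hx
    have h1 : MulAut.conj a x ∈ (⁅H, K⁆).map (MulAut.conj a).toMonoidHom := ⟨x, hx, rfl⟩
    rw [map_commutator] at h1
    refine commutator_mono ?_ ?_ h1
    · rintro _ ⟨y, hy, rfl⟩
      exact (mem_normalizer_iff.mp ha.1 y).mp hy
    · rintro _ ⟨y, hy, rfl⟩
      exact (mem_normalizer_iff.mp ha.2 y).mp hy
  intro a ha
  rw [mem_normalizer_iff]
  refine fun x => ⟨key a ha x, fun hx => ?_⟩
  simpa [mul_assoc] using key a⁻¹ (inv_mem ha) _ hx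

theorem normalizer_inf_le_normalizer_sup (H K : Subgroup G) :
    normalizer (H : Set G) ⊓ normalizer (K : Set G) ≤
      normalizer ((H ⊔ K : Subgroup G) : Set G) := by
  have key : ∀ a ∈ normalizer (H : Set G) ⊓ normalizer (K : Set G),
      ∀ x ∈ H ⊔ K, a * x * a⁻¹ ∈ H ⊔ K := by
    intro a ha x hx
    refine (sup_le (c := (H ⊔ K).comap (MulAut.conj a).toMonoidHom)
      (fun y hy => mem_sup_left ((mem_normalizer_iff.mp ha.1 y).mp hy))
      (fun y hy => mem_sup_right ((mem_normalizer_iff.mp ha.2 y).mp hy)) hx : _)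
  intro a ha
  rw [mem_normalizer_iff]
  refine fun x => ⟨key a ha x, fun hx => ?_⟩
  simpa [mul_assoc] using key a⁻¹ (inv_mem ha) _ hx

theorem le_normalizer_inf {X H K : Subgroup G} (hH : X ≤ normalizer (H : Set G))
    (hK : X ≤ normalizer (K : Set G)) : X ≤ normalizer ((H ⊓ K : Subgroup G) : Set G) := by
  intro a ha
  rw [mem_normalizer_iff]
  intro x
  simp only [mem_inf]
  exact and_congr (mem_normalizer_iff.mp (hH ha) x) (mem_normalizer_iff.mp (hK ha) x)

theorem card_map_of_inf_ker [Finite G] {G' : Type*} [Group G'] (f : G →* G') (H : Subgroup G)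
    (h : H ⊓ f.ker = ⊥) : Nat.card ↥(H.map f) = Nat.card H := by
  refine Nat.card_image_of_injOn (s := (H : Set G)) ?_
  intro a ha b hb hab
  have : a⁻¹ * b ∈ H ⊓ f.ker := ⟨H.mul_mem (H.inv_mem ha) hb, by simp [hab]⟩
  rw [h, mem_bot] at this
  exact inv_mul_eq_one.mp this

theorem card_map_mk'_mul [Finite G] (N : Subgroup G) [N.Normal] (H : Subgroup G) (h : N ≤ H) :
    Nat.card N * Nat.card ↥(H.map (QuotientGroup.mk' N)) = Nat.card H := by
  rw [← card_comap_mk', comap_map_eq_self (by rwa [QuotientGroup.ker_mk'])]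

theorem sup_eq_sup_of_card [Finite G] {N H K : Subgroup G} (hHN : H ≤ normalizer (N : Set G))
    (hK : K ≤ N ⊔ H) (hcard : Nat.card K = Nat.card H)
    (hcop : (Nat.card N).Coprime (Nat.card H)) : N ⊔ K = N ⊔ H := by
  have hKN : K ≤ normalizer (N : Set G) := hK.trans (sup_le le_normalizer hHN)
  refine eq_of_le_of_card_ge (sup_le le_sup_left hK) (le_of_eq ?_)
  have e1 := card_sup_mul_card_inf N K hKN
  have e2 := card_sup_mul_card_inf N H hHN
  rw [inf_eq_bot_of_coprime_card N H hcop] at e2
  rw [inf_eq_bot_of_coprime_card N K (by rwa [hcard])] at e1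
  simp only [card_bot, mul_one] at e1 e2
  rw [e1, e2, hcard]

theorem card_sup_of_coprime [Finite G] {N H : Subgroup G} (hHN : H ≤ normalizer (N : Set G))
    (hcop : (Nat.card N).Coprime (Nat.card H)) :
    Nat.card ↥(N ⊔ H) = Nat.card N * Nat.card H := by
  have e2 := card_sup_mul_card_inf N H hHN
  rwa [inf_eq_bot_of_coprime_card N H hcop, card_bot, mul_one] at e2

end Aux

/-- abelian kernel -/
theorem conj_of_card_eq_abelian {G : Type*} [Group G] [Finite G] (N H K : Subgroup G)
    [IsMulCommutative N] (hHN : H ≤ normalizer (N : Set G)) (hK : K ≤ N ⊔ H)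
    (hcard : Nat.card K = Nat.card H) (hcop : (Nat.card N).Coprime (Nat.card H)) :
    ∃ n ∈ N, MulAut.conj n • H = K := by
  haveI : (N.subgroupOf (N ⊔ H)).Normal :=
    normal_subgroupOf_of_le_normalizer (sup_le le_normalizer hHN)
  have hmul : ∀ X : Subgroup G, X ≤ N ⊔ H → Nat.card X = Nat.card H →
      IsComplement' (N.subgroupOf (N ⊔ H)) (X.subgroupOf (N ⊔ H)) := fun X hX hXc => by
    refine isComplement'_of_coprime ?_ ?_
    · rw [card_subgroupOf le_sup_left, card_subgroupOf hX, hXc, card_sup_of_coprime hHN hcop]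
    · rwa [card_subgroupOf le_sup_left, card_subgroupOf hX, hXc]
  have hidx : (N.subgroupOf (N ⊔ H)).index = Nat.card H := by
    rw [(hmul H le_sup_right rfl).symm.index_eq_card, card_subgroupOf le_sup_right]
  obtain ⟨a, ha, hac⟩ := conj_complement_of_abelian (N.subgroupOf (N ⊔ H))
    (by rw [hidx, card_subgroupOf le_sup_left]; exact hcop)
    _ _ (hmul H le_sup_right rfl) (hmul K hK hcard)
  refine ⟨a, ha, ?_⟩
  have h2 := congrArg (Subgroup.map (N ⊔ H).subtype) hac
  rwa [map_conj_smul, map_subgroupOf_eq_of_le le_sup_right, map_subgroupOf_eq_of_le hK,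
    coe_subtype] at h2

theorem conj_of_card_eq_solvable_kernel {G : Type u} [Group G] [Finite G] :
    ∀ (N : Subgroup G), Group.IsSolvable N → ∀ (H K : Subgroup G),
      H ≤ normalizer (N : Set G) → K ≤ N ⊔ H → Nat.card K = Nat.card H →
      (Nat.card N).Coprime (Nat.card H) → ∃ n ∈ N, MulAut.conj n • H = K := by
  intro N
  induction N using WellFoundedLT.induction with
  | _ N ih =>
    intro hs H K hHN hK hcard hcop
    rcases eq_or_ne N ⊥ with rfl | hN
    · refine ⟨1, one_mem _, ?_⟩
      rw [map_one, one_smul]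
      exact (eq_of_le_of_card_ge (by simpa using hK) hcard.ge).symm
    haveI : Nontrivial N := (nontrivial_iff_ne_bot N).mpr hN
    have hlt : ⁅N, N⁆ < N := by
      refine lt_of_le_of_ne (commutator_le_self N) fun h => ?_
      refine (Group.IsSolvable.commutator_lt_top_of_nontrivial (G := N)).ne ?_
      apply map_injective N.subtype_injective
      rw [Subgroup.map_subtype_commutator, h, ← MonoidHom.range_eq_map, range_subtype]
    have hMn : N ⊔ H ≤ normalizer ((⁅N, N⁆ : Subgroup G) : Set G) :=
      le_trans (le_inf (sup_le le_normalizer hHN) (sup_le le_normalizer hHN))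
        (normalizer_le_normalizer_commutator N N)
    have hMle : ⁅N, N⁆ ≤ N ⊔ H := (commutator_le_self N).trans le_sup_left
    haveI : ((⁅N, N⁆ : Subgroup G).subgroupOf (N ⊔ H)).Normal :=
      normal_subgroupOf_of_le_normalizer hMn
    let f := QuotientGroup.mk' ((⁅N, N⁆ : Subgroup G).subgroupOf (N ⊔ H))
    haveI : IsMulCommutative ↥((N.subgroupOf (N ⊔ H)).map f) := by
      rw [← commutator_self_eq_bot_iff, ← map_commutator, Subgroup.map_eq_bot_iff, QuotientGroup.ker_mk']
      rw [← map_le_map_iff_of_injective (N ⊔ H).subtype_injective, map_commutator,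
        map_subgroupOf_eq_of_le le_sup_left, map_subgroupOf_eq_of_le hMle]
    have hcardH : ∀ X : Subgroup G, X ≤ N ⊔ H → Nat.card X = Nat.card H →
        Nat.card ↥((X.subgroupOf (N ⊔ H)).map f) = Nat.card H := by
      intro X hX hXc
      rw [card_map_of_inf_ker, card_subgroupOf hX, hXc]
      rw [QuotientGroup.ker_mk']
      refine inf_eq_bot_of_coprime_card _ _ ?_
      rw [card_subgroupOf hX, card_subgroupOf hMle, hXc]
      exact hcop.symm.coprime_dvd_right (card_dvd_of_le hlt.le)
    refine Exists.elim (conj_of_card_eq_abelian ((N.subgroupOf (N ⊔ H)).map f)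
      ((H.subgroupOf (N ⊔ H)).map f) ((K.subgroupOf (N ⊔ H)).map f) ?_ ?_ ?_ ?_) ?_
    · refine le_trans (map_mono ?_) (le_normalizer_map f)
      intro x hx
      rw [mem_normalizer_iff]
      intro y
      exact mem_normalizer_iff.mp (hHN hx) y
    · rw [← Subgroup.map_sup, ← subgroupOf_sup le_sup_left le_sup_right]
      exact map_mono fun x _ => x.2
    · rw [hcardH K hK hcard, hcardH H le_sup_right rfl]
    · rw [hcardH H le_sup_right rfl]
      refine hcop.coprime_dvd_left ((card_map_dvd _ f).trans ?_)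
      rw [card_subgroupOf le_sup_left]
    rintro a ⟨ha, hac⟩
    obtain ⟨n, hn, rfl⟩ := ha
    rw [← map_conj_smul] at hac
    have hKle : K.subgroupOf (N ⊔ H) ≤ MulAut.conj n • H.subgroupOf (N ⊔ H) ⊔
        (⁅N, N⁆ : Subgroup G).subgroupOf (N ⊔ H) := by
      intro x hx
      have : f x ∈ (MulAut.conj n • H.subgroupOf (N ⊔ H)).map f := by
        rw [hac]; exact mem_map_of_mem f hx
      rw [← mem_comap, comap_map_eq, QuotientGroup.ker_mk'] at this
      exact this
    have hKle' := map_mono (f := (N ⊔ H).subtype) hKle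
    rw [Subgroup.map_sup, map_conj_smul, map_subgroupOf_eq_of_le hK,
      map_subgroupOf_eq_of_le le_sup_right, map_subgroupOf_eq_of_le hMle, coe_subtype,
      sup_comm] at hKle'
    haveI : Group.IsSolvable ↥(⁅N, N⁆ : Subgroup G) :=
      Group.isSolvable_of_isSolvable_injective (inclusion_injective hlt.le)
    have hn' : MulAut.conj (n : G) • H ≤ normalizer ((⁅N, N⁆ : Subgroup G) : Set G) := by
      intro x hx
      rw [mem_conj_smul] at hx
      have h1 : (n : G) ∈ normalizer ((⁅N, N⁆ : Subgroup G) : Set G) := hMn n.2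
      have h2 := hMn (mem_sup_right hx : _ ∈ N ⊔ H)
      have h3 := mul_mem (mul_mem h1 h2) (inv_mem h1)
      simpa [mul_assoc] using h3
    obtain ⟨m, hm, hmc⟩ := ih _ hlt inferInstance (MulAut.conj (n : G) • H) K hn' hKle'
      (by rw [card_conj_smul, hcard])
      (by rw [card_conj_smul]; exact hcop.coprime_dvd_left (card_dvd_of_le hlt.le))
    exact ⟨m * n, N.mul_mem (hlt.le hm) hn, by rw [← conj_smul_conj_smul, hmc]⟩

/-- solvable complement -/
theorem conj_of_card_eq_solvable_complement :
    ∀ (c : ℕ) {G : Type u} [Group G] [Finite G] (N H K : Subgroup G), Nat.card H = c →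
      Group.IsSolvable H → H ≤ normalizer (N : Set G) → K ≤ N ⊔ H → Nat.card K = Nat.card H →
      (Nat.card N).Coprime (Nat.card H) → ∃ n ∈ N, MulAut.conj n • H = K := by
  intro c
  induction c using Nat.strong_induction_on with
  | _ c ih =>
    intro G _ _ N H K hc hs hHN hK hcard hcop
    rcases eq_or_ne H ⊥ with rfl | hH
    · refine ⟨1, one_mem _, ?_⟩
      rw [map_one, one_smul]
      exact (eq_bot_of_card_eq K (by rw [hcard, card_bot])).symm
    obtain ⟨p, hp, hpd⟩ := Nat.exists_prime_and_dvd (n := Nat.card H)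
      (by have := (one_lt_card_iff_ne_bot H).mpr hH; omega)
    haveI : Fact p.Prime := ⟨hp⟩
    haveI : Nontrivial H := (nontrivial_iff_ne_bot H).mpr hH
    by_cases hpg : IsPGroup p H
    · -- Sylow
      haveI : (N.subgroupOf (N ⊔ H)).Normal :=
        normal_subgroupOf_of_le_normalizer (sup_le le_normalizer hHN)
      have hsyl : ∀ X : Subgroup G, X ≤ N ⊔ H → Nat.card X = Nat.card H →
          ∃ P : Sylow p ↥(N ⊔ H), (P : Subgroup ↥(N ⊔ H)) = X.subgroupOf (N ⊔ H) := by
        intro X hX hXc
        have h1 : IsPGroup p ↥(X.subgroupOf (N ⊔ H)) := by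
          obtain ⟨k, hk⟩ := IsPGroup.iff_card.mp hpg
          exact IsPGroup.of_card (n := k) (by rw [card_subgroupOf hX, hXc, hk])
        have h2 : ¬ p ∣ (X.subgroupOf (N ⊔ H)).index := by
          have e := (X.subgroupOf (N ⊔ H)).card_mul_index
          rw [card_subgroupOf hX, hXc, card_sup_of_coprime hHN hcop,
            mul_comm (Nat.card N)] at e
          rw [Nat.eq_of_mul_eq_mul_left Nat.card_pos e]
          exact hp.coprime_iff_not_dvd.mp (hcop.coprime_dvd_right hpd).symm
        exact ⟨h1.toSylow h2, IsPGroup.toSylow_coe _ _⟩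
      obtain ⟨P, hP⟩ := hsyl H le_sup_right rfl
      obtain ⟨Q, hQ⟩ := hsyl K hK hcard
      obtain ⟨g, hg⟩ := MulAction.exists_smul_eq ↥(N ⊔ H) P Q
      have h1 := congrArg (fun S : Sylow p ↥(N ⊔ H) =>
        (S : Subgroup ↥(N ⊔ H)).map (N ⊔ H).subtype) hg
      rw [Sylow.coe_subgroup_smul, map_conj_smul, hP, hQ,
        map_subgroupOf_eq_of_le le_sup_right, map_subgroupOf_eq_of_le hK] at h1
      have hg' : g ∈ N.subgroupOf (N ⊔ H) ⊔ H.subgroupOf (N ⊔ H) := by
        rw [← subgroupOf_sup le_sup_left le_sup_right]; exact g.2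
      obtain ⟨n, hn, h, hh, rfl⟩ := mem_sup_of_normal_left.mp hg'
      refine ⟨n, hn, ?_⟩
      rwa [coe_subtype, Subgroup.coe_mul, ← conj_smul_conj_smul,
        conj_smul_eq_self_of_mem_normalizer (le_normalizer (mem_subgroupOf.mp hh))] at h1
    obtain ⟨R, hRH, hRn, hR0, hR1⟩ : ∃ R : Subgroup G, R ≤ H ∧
        H ≤ normalizer (R : Set G) ∧ R ≠ ⊥ ∧ R ≠ H := by
      rcases eq_or_ne ⁅H, H⁆ ⊥ with hH' | hH'
      · obtain ⟨P⟩ := Sylow.nonempty (p := p) (G := H)
        refine ⟨(P : Subgroup H).map H.subtype, map_subtype_le _, ?_, ?_, ?_⟩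
        · haveI := commutator_self_eq_bot_iff.mp hH'
          intro x hx
          rw [mem_normalizer_iff]
          intro y
          constructor
          · intro hy
            have hyH := map_subtype_le _ hy
            have : (⟨x, hx⟩ : H) * ⟨y, hyH⟩ = ⟨y, hyH⟩ * ⟨x, hx⟩ := mul_comm' _ _
            rw [show x * y = y * x from congrArg Subtype.val this]
            simpa using hy
          · intro hy
            have hyH : y ∈ H := by
              have := H.mul_mem (H.mul_mem (H.inv_mem hx) (map_subtype_le _ hy)) hx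
              simpa [mul_assoc] using this
            have : (⟨x, hx⟩ : H) * ⟨y, hyH⟩ = ⟨y, hyH⟩ * ⟨x, hx⟩ := mul_comm' _ _
            rw [show x * y = y * x from congrArg Subtype.val this] at hy
            simpa using hy
        · intro h
          rw [map_eq_bot_iff_of_injective _ H.subtype_injective] at h
          exact P.ne_bot_of_dvd_card hpd h
        · intro h
          exact hpg (h ▸ (P.isPGroup'.map H.subtype))
      · refine ⟨⁅H, H⁆, commutator_le_self H, ?_, hH', ?_⟩
        · exact le_trans (le_inf le_normalizer le_normalizer)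
            (normalizer_le_normalizer_commutator H H)
        · intro h
          refine (Group.IsSolvable.commutator_lt_top_of_nontrivial (G := H)).ne ?_
          apply map_injective H.subtype_injective
          rw [Subgroup.map_subtype_commutator, h, ← MonoidHom.range_eq_map, range_subtype]
    have hRlt : Nat.card R < c := by
      rw [← hc]
      exact lt_of_not_ge fun h => hR1 (eq_of_le_of_card_ge hRH h)
    have hRN : R ≤ normalizer (N : Set G) := hRH.trans hHN
    have hNR : N ⊔ R ≤ N ⊔ H := sup_le_sup_left hRH N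
    have hNK := sup_eq_sup_of_card hHN hK hcard hcop
    have hKN : K ≤ normalizer (N : Set G) := hK.trans (sup_le le_normalizer hHN)
    have hcopR : (Nat.card N).Coprime (Nat.card R) := hcop.coprime_dvd_right (card_dvd_of_le hRH)
    have hSsup : N ⊔ (K ⊓ (N ⊔ R)) = N ⊔ R := by
      refine le_antisymm (sup_le le_sup_left inf_le_right) fun x hx => ?_
      have hx' : x ∈ (↑(N ⊔ K) : Set G) := by rw [hNK]; exact hNR hx
      rw [coe_mul_of_right_le_normalizer_left N K hKN] at hx'
      obtain ⟨a, ha, b, hb, rfl⟩ := hx'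
      refine mul_mem_sup ha ⟨hb, ?_⟩
      simpa using mul_mem (inv_mem (mem_sup_left ha : a ∈ N ⊔ R)) hx
    have hScard : Nat.card ↥(K ⊓ (N ⊔ R)) = Nat.card R := by
      have e1 := card_sup_of_coprime (N := N) (H := K ⊓ (N ⊔ R)) (inf_le_left.trans hKN)
        (Nat.Coprime.coprime_dvd_right (card_dvd_of_le inf_le_left) (by rwa [hcard]))
      rw [hSsup, card_sup_of_coprime hRN hcopR] at e1
      exact (Nat.eq_of_mul_eq_mul_left Nat.card_pos e1).symm
    haveI : Group.IsSolvable R :=
      Group.isSolvable_of_isSolvable_injective (inclusion_injective hRH)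
    obtain ⟨n₁, hn₁, hS⟩ := ih _ hRlt N R (K ⊓ (N ⊔ R)) rfl inferInstance hRN inf_le_right
      hScard hcopR
    set S := K ⊓ (N ⊔ R) with hSdef
    set H₁ := MulAut.conj n₁ • H with hH₁
    have hH₁S : H₁ ≤ normalizer (S : Set G) := by
      rw [← hS]
      intro x hx
      rw [mem_conj_smul] at hx
      rw [mem_normalizer_iff]
      intro y
      rw [mem_conj_smul, mem_conj_smul, mem_normalizer_iff.mp (hRn hx) (n₁⁻¹ * y * n₁)]
      simp [mul_assoc]
    have hKS : K ≤ normalizer (S : Set G) := by
      refine le_normalizer_inf le_normalizer (hK.trans (sup_le ?_ ?_))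
      · exact le_sup_left.trans le_normalizer
      · exact le_trans (le_inf hHN hRn) (normalizer_inf_le_normalizer_sup N R)
    have hH₁N : H₁ ≤ normalizer (N : Set G) := by
      intro x hx
      rw [mem_conj_smul] at hx
      have h1 : n₁ ∈ normalizer (N : Set G) := le_normalizer hn₁
      simpa [mul_assoc] using mul_mem (mul_mem h1 (hHN hx)) (inv_mem h1)
    have hKle : K ≤ N ⊔ H₁ := by
      refine hK.trans (sup_le le_sup_left fun x hx => ?_)
      have h1 : n₁ * x * n₁⁻¹ ∈ N ⊔ H₁ :=
        mem_sup_right (mem_conj_smul.mpr (by simpa [mul_assoc] using hx))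
      have h2 : n₁ ∈ N ⊔ H₁ := mem_sup_left hn₁
      simpa [mul_assoc] using mul_mem (mul_mem (inv_mem h2) h1) h2
    have hS1 : S ≤ H₁ := hS ▸ smul_mono_right _ hRH
    -- pass to `normalizer S ⧸ S`
    let M := normalizer (S : Set G)
    haveI : (S.subgroupOf M).Normal := normal_subgroupOf_of_le_normalizer le_rfl
    let f := QuotientGroup.mk' (S.subgroupOf M)
    have hcardX : ∀ X : Subgroup G, X ≤ M → S ≤ X →
        Nat.card S * Nat.card ↥((X.subgroupOf M).map f) = Nat.card X := by
      intro X hXM hSX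
      rw [← card_subgroupOf (show S ≤ M from le_normalizer), ← card_subgroupOf hXM]
      exact card_map_mk'_mul _ _ fun x hx => hSX hx
    have e1 := hcardX H₁ hH₁S hS1
    rw [hH₁, card_conj_smul, ← hH₁] at e1
    have e2 := hcardX K hKS inf_le_left
    have hlt : Nat.card ↥((H₁.subgroupOf M).map f) < c := by
      rw [← hc, ← e1]
      refine lt_mul_of_one_lt_left Nat.card_pos ?_
      rw [hScard]
      exact (one_lt_card_iff_ne_bot R).mpr hR0
    haveI : Group.IsSolvable H₁ :=
      Group.isSolvable_of_surjective (f := (Subgroup.equivSMul (MulAut.conj n₁) H).toMonoidHom)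
        (Subgroup.equivSMul (MulAut.conj n₁) H).surjective
    haveI : Group.IsSolvable ↥(H₁.subgroupOf M) :=
      Group.isSolvable_of_isSolvable_injective (f := (subgroupOfEquivOfLe hH₁S).toMonoidHom)
        (subgroupOfEquivOfLe hH₁S).injective
    haveI : Group.IsSolvable ↥((H₁.subgroupOf M).map f) :=
      Group.isSolvable_of_surjective (f.subgroupMap_surjective (H₁.subgroupOf M))
    refine Exists.elim (ih _ hlt (((N ⊓ M).subgroupOf M).map f)
      ((H₁.subgroupOf M).map f) ((K.subgroupOf M).map f) rfl inferInstance ?_ ?_ ?_ ?_) ?_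
    · refine le_trans (map_mono ?_) (le_normalizer_map f)
      intro x hx
      rw [mem_normalizer_iff]
      intro y
      exact mem_normalizer_iff.mp
        (le_normalizer_inf hH₁N (hH₁S.trans le_normalizer) hx) y
    · rw [← Subgroup.map_sup]
      refine map_mono fun x hx => ?_
      have hx' : (x : G) ∈ (↑(N ⊔ H₁) : Set G) := hKle hx
      rw [coe_mul_of_right_le_normalizer_left N H₁ hH₁N] at hx'
      obtain ⟨a, ha, b, hb, hab⟩ := hx'
      have haM : a ∈ M := by
        have := mul_mem x.2 (inv_mem (hH₁S hb))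
        rw [← hab] at this
        simpa using this
      have hxe : x = ⟨a, haM⟩ * ⟨b, hH₁S hb⟩ := Subtype.ext hab.symm
      rw [hxe]
      exact mul_mem_sup (show (⟨a, haM⟩ : M) ∈ (N ⊓ M).subgroupOf M from ⟨ha, haM⟩) hb
    · refine Nat.eq_of_mul_eq_mul_left (Nat.card_pos (α := S)) ?_
      rw [e1, e2, hcard]
    · refine (hcop.coprime_dvd_left ((card_map_dvd _ f).trans ?_)).coprime_dvd_right
        (Dvd.intro_left _ e1)
      rw [card_subgroupOf inf_le_right]
      exact card_dvd_of_le inf_le_left
    rintro a ⟨ha, hac⟩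
    obtain ⟨m, hm, rfl⟩ := ha
    rw [← map_conj_smul] at hac
    refine ⟨(m : G) * n₁, N.mul_mem hm.1 hn₁, ?_⟩
    rw [← conj_smul_conj_smul, ← hH₁]
    have h3 := congrArg (fun X => Subgroup.map M.subtype (Subgroup.comap f X)) hac
    have hk1 : f.ker ≤ MulAut.conj m • H₁.subgroupOf M := by
      rw [QuotientGroup.ker_mk']
      intro x hx
      rw [mem_conj_smul]
      refine (fun y hy => hS1 hy) _ ?_
      simpa using (mem_normalizer_iff''.mp m.2 (x : G)).mp hx
    have hk2 : f.ker ≤ K.subgroupOf M := by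
      rw [QuotientGroup.ker_mk']
      exact fun x hx => hx.1

    rw [comap_map_eq_self hk1, comap_map_eq_self hk2, map_conj_smul,
      map_subgroupOf_eq_of_le hH₁S, map_subgroupOf_eq_of_le hKS, coe_subtype] at h3
    exact h3

/-- Conjugacy in Schur–Zassenhaus, relative form. -/
theorem conj_of_card_eq {G : Type u} [Group G] [Finite G] (N H K : Subgroup G)
    (hsolv : Group.IsSolvable N ∨ Group.IsSolvable H) (hHN : H ≤ normalizer (N : Set G))
    (hK : K ≤ N ⊔ H) (hcard : Nat.card K = Nat.card H)
    (hcop : (Nat.card N).Coprime (Nat.card H)) : ∃ n ∈ N, MulAut.conj n • H = K := by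
  rcases hsolv with h | h
  · exact conj_of_card_eq_solvable_kernel N h H K hHN hK hcard hcop
  · exact conj_of_card_eq_solvable_complement _ N H K rfl h hHN hK hcard hcop

/-- Conjugacy in Schur–Zassenhaus. -/
theorem schurZassenhaus_conj {G : Type u} [Group G] [Finite G] (N : Subgroup G) [N.Normal]
    (hN : (Nat.card N).Coprime N.index)
    (hsolv : Group.IsSolvable N ∨ Group.IsSolvable (G ⧸ N))
    (H K : Subgroup G) (hH : IsComplement' N H) (hK : IsComplement' N K) :
    ∃ n ∈ N, MulAut.conj n • H = K := by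
  refine conj_of_card_eq N H K (hsolv.imp_right fun h => ?_) le_normalizer_of_normal
    (by rw [hH.sup_eq_top]; exact le_top) (by rw [← hK.symm.index_eq_card, hH.symm.index_eq_card])
    (by rwa [← hH.symm.index_eq_card])
  haveI := h
  refine Group.isSolvable_of_isSolvable_injective
    (f := (QuotientGroup.mk' N).comp H.subtype) ?_
  rw [injective_iff_map_eq_one]
  intro x hx
  have : (x : G) ∈ N ⊓ H := ⟨(QuotientGroup.eq_one_iff _).mp hx, x.2⟩
  rw [disjoint_iff.mp hH.disjoint, mem_bot] at this
  exact Subtype.ext this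

end Cfsg.Agent.Solv
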