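import Cfsg.Prelude.Def_PLocal
import Cfsg.Prelude.Def_OddOrderLocal
import Cfsg.Agent.Lib.Solv.Thompson
import Cfsg.Agent.Lib.Solv.Replacement

/-!
Finite `p`-groups, `p` odd, with a cyclic subgroup of index `p`.
-/

set_option autoImplicit false
set_option linter.style.haveILetI false

namespace Cfsg.Agent.Solv.CycP

open Subgroup
open scoped commutatorElement

variable {R : Type*} [Group R] [Finite R] {p : ℕ} [hp : Fact p.Prime]

theorem index_eq_of_coatom {K : Type*} [Group K] [Finite K] (hK : IsPGroup p K) (M : Subgroup K)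
    (hM : IsCoatom M) : M.index = p := by
  haveI := hK.isNilpotent
  haveI := coatom_normal_of_isNilpotent inferInstance M hM
  have h1 := prime_index_of_coatom_normal M hM
  exact (Nat.prime_dvd_prime_iff_eq h1 hp.out).mp (h1.dvd_of_dvd_pow
    ((IsPGroup.iff_card.mp hK).choose_spec ▸ M.index_dvd_card))

theorem normal_of_index_prime (hR : IsPGroup p R) (C : Subgroup R) (hC : C.index = p) :
    C.Normal := by
  obtain ⟨n, hn⟩ := IsPGroup.iff_card.mp hR
  have h1 : n ≠ 0 := fun e => by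
    have h2 := C.index_dvd_card
    rw [hC, hn, e, pow_zero, Nat.dvd_one] at h2
    exact hp.out.one_lt.ne' h2
  exact normal_of_index_eq_minFac_card (by rw [hC, hn, Nat.pow_minFac h1, hp.out.minFac_eq])

theorem int_lift {r : ℤ} {m : ℕ} (hp2 : p ≠ 2) (h1 : (p : ℤ) ∣ r - 1)
    (h : (p : ℤ) ^ m ∣ r ^ p - 1) : (p : ℤ) ^ m ∣ (r - 1) * p := by
  obtain ⟨b, hb⟩ := h1
  obtain ⟨t, ht⟩ := odd_sq_dvd_geom_sum₂_sub (R := ℤ) (p := p) 1 b (hp.out.odd_of_ne_two hp2)
  simp only [one_pow, mul_one] at ht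
  have hS : (∑ i ∈ Finset.range p, r ^ i) = (p : ℤ) * (1 + p * t) := by
    have hr : r = 1 + p * b := by linarith
    rw [hr]
    linear_combination ht
  have hmul := geom_sum_mul r p
  rw [hS] at hmul
  rw [← hmul, show (p : ℤ) * (1 + p * t) * (r - 1) = (r - 1) * p * (1 + p * t) by ring] at h
  refine IsCoprime.dvd_of_dvd_mul_right ?_ h
  refine IsCoprime.pow_left ⟨-t, 1, ?_⟩
  ring

structure Data (C : Subgroup R) (c g : R) : Prop where
  gen : C = zpowers c
  notMem : g ∉ C
  comm_pow : ⁅g, c⁆ ^ p = 1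
  comm_mem : ⁅g, c⁆ ∈ zpowers c
  derived : ∀ x y : R, ⁅x, y⁆ ∈ zpowers ⁅g, c⁆
  central : ⁅g, c⁆ ∈ center R

theorem exists_data (hp2 : p ≠ 2) (hR : IsPGroup p R) (C : Subgroup R) (hC : IsCyclic C)
    (hCi : C.index = p) : ∃ c g : R, Data (p := p) C c g := by
  haveI := normal_of_index_prime hR C hCi
  obtain ⟨⟨c, hc⟩, hgen⟩ := isCyclic_iff_exists_zpowers_eq_top.mp hC
  have hCc : C = zpowers c := by
    have := congrArg (Subgroup.map C.subtype) hgen
    rw [MonoidHom.map_zpowers, ← MonoidHom.range_eq_map, range_subtype] at this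
    exact this.symm
  obtain ⟨g, hg⟩ : ∃ g, g ∉ C := by
    by_contra hno
    simp only [not_exists, not_not] at hno
    rw [(eq_top_iff' C).mpr hno, index_top] at hCi
    exact hp.out.one_lt.ne hCi
  obtain ⟨r, hr⟩ := mem_zpowers_iff.mp (hCc ▸ Normal.conj_mem inferInstance c hc g)
  have hgp : g ^ p ∈ C := by
    rw [← QuotientGroup.eq_one_iff, QuotientGroup.mk_pow, ← hCi, index_eq_card]
    exact pow_card_eq_one'
  have hit : ∀ n : ℕ, g ^ n * c * (g ^ n)⁻¹ = c ^ (r ^ n) := by
    intro n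
    induction n with
    | zero => simp
    | succ n ih =>
      rw [pow_succ', mul_inv_rev, show g * g ^ n * c * ((g ^ n)⁻¹ * g⁻¹) =
        g * (g ^ n * c * (g ^ n)⁻¹) * g⁻¹ by group, ih, ← conj_zpow, ← hr, ← zpow_mul, pow_succ']
  obtain ⟨k, hk⟩ := mem_zpowers_iff.mp (hCc ▸ hgp)
  have hfix : c ^ (r ^ p) = c := by
    rw [← hit p, ← hk]; group
  have hdiv : (orderOf c : ℤ) ∣ r ^ p - 1 := by
    rw [orderOf_dvd_iff_zpow_eq_one, zpow_sub, hfix, zpow_one, mul_inv_cancel]
  obtain ⟨m, hm⟩ := IsPGroup.iff_orderOf.mp hR c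
  have hz : ⁅g, c⁆ = c ^ (r - 1) := by
    rw [commutatorElement_def, zpow_sub, zpow_one, hr]
  have hzp : ⁅g, c⁆ ^ p = 1 ∧ g * ⁅g, c⁆ * g⁻¹ = ⁅g, c⁆ := by
    rcases Nat.eq_zero_or_pos m with rfl | hm0
    · rw [pow_zero, orderOf_eq_one_iff] at hm
      simp [hz, hm]
    have hpr : (p : ℤ) ∣ r - 1 := by
      have h1 : (p : ℤ) ∣ r ^ p - 1 := by
        refine dvd_trans ?_ hdiv
        rw [hm]; exact_mod_cast dvd_pow_self p hm0.ne'
      rw [← ZMod.intCast_zmod_eq_zero_iff_dvd, Int.cast_sub, Int.cast_pow, ZMod.pow_card,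
        ← Int.cast_sub, ZMod.intCast_zmod_eq_zero_iff_dvd] at h1
      exact h1
    have h2 : (orderOf c : ℤ) ∣ (r - 1) * p := by
      rw [hm, Nat.cast_pow] at hdiv ⊢
      exact int_lift hp2 hpr hdiv
    have h3 : c ^ ((r - 1) * p) = 1 := orderOf_dvd_iff_zpow_eq_one.mp h2
    refine ⟨by rw [hz, ← zpow_natCast, ← zpow_mul, h3], ?_⟩
    obtain ⟨b, hb⟩ := hpr
    rw [hz, ← conj_zpow, ← hr, ← zpow_mul, ← mul_inv_eq_one, ← zpow_neg, ← zpow_add]
    rw [show r * (r - 1) + -(r - 1) = (r - 1) * p * b by linear_combination (r - 1) * hb, zpow_mul, h3, one_zpow]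
  have hzC : ⁅g, c⁆ ∈ zpowers c := hz ▸ zpow_mem (mem_zpowers c) _
  have hdec : ∀ x : R, ∃ i j : ℤ, x = g ^ i * c ^ j := by
    intro x
    haveI : Fact (Nat.card (R ⧸ C)).Prime := ⟨by rw [← index_eq_card, hCi]; exact hp.out⟩
    obtain ⟨i, hi⟩ := mem_zpowers_iff.mp (mem_zpowers_of_prime_card (G := R ⧸ C) (p := Nat.card (R ⧸ C))
      (g := (QuotientGroup.mk g : R ⧸ C)) (g' := QuotientGroup.mk x) rfl
      (fun e => hg ((QuotientGroup.eq_one_iff g).mp e)))
    rw [← QuotientGroup.mk_zpow, QuotientGroup.eq, hCc] at hi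
    obtain ⟨j, hj⟩ := mem_zpowers_iff.mp hi
    exact ⟨i, j, by rw [hj, mul_inv_cancel_left]⟩
  have hzc : ⁅g, c⁆ ∈ center R := by
    rw [mem_center_iff]
    intro x
    obtain ⟨i, j, rfl⟩ := hdec x
    have h1 : Commute g ⁅g, c⁆ := mul_inv_eq_iff_eq_mul.mp hzp.2
    have h2 : Commute c ⁅g, c⁆ := by
      rw [hz]; exact (Commute.refl c).zpow_right _
    exact ((h1.zpow_left i).mul_left (h2.zpow_left j)).eq
  refine ⟨c, g, hCc, hg, hzp.1, hzC, fun x y => ?_, hzc⟩
  set N := zpowers ⁅g, c⁆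
  haveI : N.Normal := ⟨fun a ha b => by
    obtain ⟨i, rfl⟩ := mem_zpowers_iff.mp ha
    rw [mem_center_iff.mp (Subgroup.zpow_mem _ hzc i) b, mul_inv_cancel_right]
    exact ha⟩
  rw [← QuotientGroup.eq_one_iff]
  change QuotientGroup.mk' N ⁅x, y⁆ = 1
  rw [map_commutatorElement, commutatorElement_eq_one_iff_mul_comm]
  have hcomm : Commute (QuotientGroup.mk' N g) (QuotientGroup.mk' N c) := by
    rw [← commutatorElement_eq_one_iff_commute, ← map_commutatorElement]
    exact (QuotientGroup.eq_one_iff _).mpr (mem_zpowers _)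
  obtain ⟨i, j, rfl⟩ := hdec x
  obtain ⟨i', j', rfl⟩ := hdec y
  simp only [map_mul, map_zpow]
  exact ((((Commute.refl _).zpow_zpow i i').mul_right (hcomm.zpow_zpow i j')).mul_left
    (((hcomm.symm.zpow_zpow j i')).mul_right ((Commute.refl _).zpow_zpow j j'))).eq

/-- In a noncyclic `p`-group with cyclic maximal subgroup the roots of unity form `C_p × C_p`. -/
theorem omega (hp2 : p ≠ 2) (hR : IsPGroup p R) (hnc : ¬ IsCyclic R) (C : Subgroup R)
    (hC : IsCyclic C) (hCi : C.index = p) :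
    IsElementaryAbelian p (closure {x : R | x ^ p = 1}) ∧
      Nat.card (closure {x : R | x ^ p = 1}) = p ^ 2 := by
  obtain ⟨c, g, d⟩ := exists_data hp2 hR C hC hCi
  have hchoose : p ∣ p.choose 2 := hp.out.dvd_choose_self (by norm_num)
    (lt_of_le_of_ne hp.out.two_le (Ne.symm hp2))
  have hmul : ∀ x y : R, (x * y) ^ p = x ^ p * y ^ p := by
    intro x y
    obtain ⟨k, hk⟩ := mem_zpowers_iff.mp (d.derived y x)
    have hcz : ⁅y, x⁆ ∈ center R := hk ▸ Subgroup.zpow_mem _ d.central k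
    rw [Repl.mul_pow_of_central (x := x) (y := y) (c := ⁅y, x⁆)
      (by simp only [commutatorElement_def]; group)
      (mem_center_iff.mp hcz x).symm (mem_center_iff.mp hcz y).symm]
    have hcp : ⁅y, x⁆ ^ p = 1 := by
      rw [← hk, ← zpow_natCast, ← zpow_mul, mul_comm, zpow_mul, zpow_natCast, d.comm_pow, one_zpow]
    obtain ⟨t, ht⟩ := hchoose
    rw [ht, pow_mul, hcp, one_pow, mul_one]
  let φ : R →* R := MonoidHom.mk' (fun x => x ^ p) hmul
  have hker : closure {x : R | x ^ p = 1} = φ.ker := by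
    refine le_antisymm ((closure_le _).mpr fun x hx => hx) fun x hx => subset_closure hx
  obtain ⟨n, hn⟩ := IsPGroup.iff_card.mp hR
  haveI := normal_of_index_prime hR C hCi
  have hgp : g ^ p ∈ zpowers c := by
    rw [← d.gen, ← QuotientGroup.eq_one_iff, QuotientGroup.mk_pow, ← hCi, index_eq_card]
    exact pow_card_eq_one'
  have hCcard : orderOf c * p = p ^ n := by
    rw [← hn, ← C.card_mul_index, hCi, d.gen, Nat.card_zpowers]
  obtain ⟨m, hm⟩ := IsPGroup.iff_orderOf.mp hR c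
  have hm0 : m ≠ 0 := by
    rintro rfl
    rw [pow_zero] at hm
    refine hnc (isCyclic_of_prime_card (p := p) ?_)
    rw [← C.card_mul_index, hCi, d.gen, Nat.card_zpowers, hm, one_mul]
  have hrange : φ.range = zpowers (c ^ p) := by
    refine le_antisymm ?_ (zpowers_le.mpr ⟨c, rfl⟩)
    obtain ⟨k, hk⟩ := mem_zpowers_iff.mp hgp
    have hpk : (p : ℤ) ∣ k := by
      by_contra hnd
      refine hnc ⟨g, fun x => ?_⟩
      have hcop : IsCoprime k (orderOf c : ℤ) := by
        rw [hm, Nat.cast_pow]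
        exact ((Nat.prime_iff_prime_int.mp hp.out).coprime_iff_not_dvd.mpr hnd).symm.pow_right
      obtain ⟨u, v, huv⟩ := hcop
      have hcg : c ∈ zpowers g := by
        refine mem_zpowers_iff.mpr ⟨(p : ℤ) * u, ?_⟩
        rw [zpow_mul, zpow_natCast, ← hk, ← zpow_mul]
        conv_rhs => rw [← zpow_one c, ← huv, zpow_add, mul_comm v, zpow_mul c (orderOf c : ℤ),
          zpow_natCast c (orderOf c), pow_orderOf_eq_one, one_zpow, mul_one, mul_comm u]
      have hle : C < zpowers g := lt_of_le_of_ne (d.gen ▸ zpowers_le.mpr hcg)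
        fun e => d.notMem (e ▸ mem_zpowers g)
      have h2 := relIndex_mul_index hle.le
      rw [hCi] at h2
      have h3 : C.relIndex (zpowers g) ≠ 1 := fun e => hle.not_ge (relIndex_eq_one.mp e)
      have h4 : (zpowers g).index = 1 := by
        have h5 := (hp.out.eq_one_or_self_of_dvd _ ⟨_, h2.symm⟩).resolve_left h3
        rw [h5] at h2
        exact Nat.eq_of_mul_eq_mul_left hp.out.pos (h2.trans (mul_one p).symm)
      exact mem_zpowers_iff.mp ((index_eq_one.mp h4).ge (mem_top x))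
    obtain ⟨j, rfl⟩ := hpk
    rintro _ ⟨x, rfl⟩
    have hx : x ∈ closure ({g, c} : Set R) := by
      haveI : Fact (Nat.card (R ⧸ C)).Prime := ⟨by rw [← index_eq_card, hCi]; exact hp.out⟩
      obtain ⟨i, hi⟩ := mem_zpowers_iff.mp (mem_zpowers_of_prime_card (G := R ⧸ C)
        (p := Nat.card (R ⧸ C)) (g := (QuotientGroup.mk g : R ⧸ C)) (g' := QuotientGroup.mk x) rfl
        (fun e => d.notMem ((QuotientGroup.eq_one_iff g).mp e)))
      rw [← QuotientGroup.mk_zpow, QuotientGroup.eq, d.gen] at hi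
      have hgm : g ∈ closure ({g, c} : Set R) := subset_closure (Or.inl rfl)
      have hcm : c ∈ closure ({g, c} : Set R) := subset_closure (Or.inr rfl)
      have h1 := (closure ({g, c} : Set R)).mul_mem (Subgroup.zpow_mem _ hgm i)
        (zpowers_le.mpr hcm hi)
      rwa [mul_inv_cancel_left] at h1
    refine (closure_le ((zpowers (c ^ p)).comap φ)).mpr ?_ hx
    intro a ha
    rw [SetLike.mem_coe, mem_comap]
    change a ^ p ∈ zpowers (c ^ p)
    rcases ha with rfl | rfl
    · exact mem_zpowers_iff.mpr ⟨j, by rw [← zpow_natCast, ← zpow_mul]; exact hk⟩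
    · exact mem_zpowers _
  have hcard : Nat.card φ.ker = p ^ 2 := by
    have h1 := φ.ker.card_mul_index
    rw [index_ker, hrange, Nat.card_zpowers, orderOf_pow, hm, Nat.gcd_eq_right (dvd_pow_self p hm0),
      hn, ← hCcard, hm] at h1
    obtain ⟨m, rfl⟩ := Nat.exists_eq_succ_of_ne_zero hm0
    rw [pow_succ, Nat.mul_div_cancel _ hp.out.pos] at h1
    exact Nat.eq_of_mul_eq_mul_right (pow_pos hp.out.pos m) (h1.trans (by ring))
  rw [hker]
  refine ⟨?_, hcard⟩
  exact ⟨⟨⟨IsPGroup.commutative_of_card_eq_prime_sq hcard⟩⟩, fun x hx => hx⟩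

theorem root_mem {G : Type*} [Group G] {a x : G} {k : ℕ} (ha : orderOf a = p ^ (k + 1))
    (hx : x ∈ zpowers a) (hxp : x ^ p = 1) : x ∈ zpowers (a ^ p ^ k) := by
  obtain ⟨i, rfl⟩ := mem_zpowers_iff.mp hx
  rw [← zpow_natCast, ← zpow_mul, ← orderOf_dvd_iff_zpow_eq_one, ha, pow_succ, Nat.cast_mul] at hxp
  obtain ⟨j, rfl⟩ := Int.dvd_of_mul_dvd_mul_right (by exact_mod_cast hp.out.ne_zero) hxp
  exact mem_zpowers_iff.mpr ⟨j, by rw [← zpow_natCast, ← zpow_mul]⟩

/-- A non-cyclic normal subgroup contains a normal `C_p × C_p`. -/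
theorem exists_normal_rank_two (hp2 : p ≠ 2) (hR : IsPGroup p R) :
    ∀ N : Subgroup R, N.Normal → ¬ IsCyclic N →
      ∃ A : Subgroup R, A ≤ N ∧ A.Normal ∧ IsElementaryAbelian p A ∧ Nat.card A = p ^ 2 := by
  intro N
  induction N using WellFoundedLT.induction with
  | _ N ih =>
    intro hN hnc
    haveI := hR.isNilpotent
    have hN1 : N ≠ ⊥ := fun e => hnc (e ▸ inferInstance)
    have hlt : ⁅N, (⊤ : Subgroup R)⁆ < N :=
      commutator_lt_of_nilpotent (M := ⊤) (U := N) inferInstance le_top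
        (by rw [normalizer_eq_top_iff.mpr hN]) hN1
    haveI : Nontrivial N := nontrivial_iff_ne_bot N |>.mpr hN1
    have hne : (⁅N, (⊤ : Subgroup R)⁆).subgroupOf N ≠ ⊤ := fun e =>
      hlt.not_ge (subgroupOf_eq_top.mp e)
    obtain ⟨M, hM, hle⟩ := exists_coatom_ge hne
    have hNp : IsPGroup p N := hR.to_subgroup N
    have hMi : M.index = p := index_eq_of_coatom hNp M hM
    set M' := M.map N.subtype with hM'
    have hleM : ⁅N, (⊤ : Subgroup R)⁆ ≤ M' := by
      rw [← map_subgroupOf_eq_of_le hlt.le]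
      exact map_mono hle
    haveI : M'.Normal := ⟨fun m hm x => by
      have h1 : ⁅m, x⁆ ∈ M' := hleM (commutator_mem_commutator (map_subtype_le M hm) (mem_top x))
      have h2 := M'.mul_mem (M'.inv_mem h1) hm
      rwa [show ⁅m, x⁆⁻¹ * m = x * m * x⁻¹ by simp only [commutatorElement_def]; group] at h2⟩
    by_cases hMc : IsCyclic M'
    · haveI : IsCyclic M := (equivMapOfInjective M N.subtype N.subtype_injective).isCyclic.mpr hMc
      obtain ⟨h1, h2⟩ := omega hp2 hNp hnc M inferInstance hMi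
      set O := closure {x : N | x ^ p = 1} with hO
      haveI : O.Characteristic := characteristic_iff_map_le.mpr fun φ => by
        rw [hO, MonoidHom.map_closure]
        refine closure_mono ?_
        rintro _ ⟨x, hx, rfl⟩
        show φ x ^ p = 1
        rw [← map_pow, hx, map_one]
      haveI := hN
      exact ⟨O.map N.subtype, map_subtype_le _, inferInstance, elemAbelian_map _ h1,
        (Subgroup.card_map_of_injective N.subtype_injective).trans h2⟩
    · have hM'lt : M' < N := lt_of_le_of_ne (map_subtype_le M) fun e => hM.1 (by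
        rw [← comap_map_eq_self_of_injective N.subtype_injective M, ← hM', e, comap_subtype,
          subgroupOf_self])
      obtain ⟨A, hA, rest⟩ := ih M' hM'lt inferInstance hMc
      exact ⟨A, hA.trans hM'lt.le, rest⟩

end Cfsg.Agent.Solv.CycP
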