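import Mathlib
import Cfsg.Agent.Lib.Solv.CyclicIndexP
import Cfsg.Agent.Lib.Solv.StructMisc
import Cfsg.Agent.Lib.Classical.DihedralRecog

/-!
`p`-groups of maximal class.
-/

set_option autoImplicit false
set_option linter.style.haveILetI false

namespace Cfsg.Agent.Solv.MaxClass

open Subgroup
open scoped commutatorElement

universe u

variable {G : Type u} [Group G] [Finite G] {p : ℕ} [hp : Fact p.Prime]

theorem noncyclic_abelianization (hP : IsPGroup p G) (hna : ∃ x y : G, x * y ≠ y * x) :
    ¬ IsCyclic (G ⧸ commutator G) := fun h => by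
  obtain ⟨z, hz⟩ := IsCyclic.exists_generator (α := G ⧸ commutator G)
  obtain ⟨g, rfl⟩ := QuotientGroup.mk_surjective z
  haveI := hP.isNilpotent
  have hle : commutator G ≤ frattini G := Solv.commutator_le_frattini
  have h1 : zpowers g ⊔ frattini G = ⊤ := eq_top_iff.mpr fun x _ => by
    obtain ⟨i, hi⟩ := mem_zpowers_iff.mp (hz x)
    rw [← QuotientGroup.mk_zpow, QuotientGroup.eq] at hi
    have := Subgroup.mul_mem _ (mem_sup_left (Subgroup.zpow_mem _ (mem_zpowers g) i) :
      g ^ i ∈ zpowers g ⊔ frattini G) (mem_sup_right (hle hi))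
    rwa [mul_inv_cancel_left] at this
  have h2 : zpowers g = ⊤ := frattini_nongenerating h1
  obtain ⟨x, y, hxy⟩ := hna
  obtain ⟨i, rfl⟩ := mem_zpowers_iff.mp (h2.ge (mem_top x))
  obtain ⟨j, rfl⟩ := mem_zpowers_iff.mp (h2.ge (mem_top y))
  exact hxy ((Commute.refl g).zpow_zpow i j).eq

theorem sq_le_index_commutator (hP : IsPGroup p G) (hna : ∃ x y : G, x * y ≠ y * x) :
    p ^ 2 ≤ (commutator G).index := by
  obtain ⟨k, hk⟩ := IsPGroup.iff_card.mp (hP.to_quotient (commutator G))
  rw [index_eq_card, hk]
  refine Nat.pow_le_pow_right hp.out.pos ?_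
  by_contra hlt
  refine noncyclic_abelianization hP hna ?_
  interval_cases k
  · haveI := (Nat.card_eq_one_iff_unique.mp (hk.trans (pow_zero p))).1
    infer_instance
  · exact isCyclic_of_prime_card (hk.trans (pow_one p))

theorem index_step (hP : IsPGroup p G) {i : ℕ}
    (hi : (⊤ : Subgroup G).lowerCentralSeries i ≠ ⊥) :
    ((⊤ : Subgroup G).lowerCentralSeries i).index * p ≤
      ((⊤ : Subgroup G).lowerCentralSeries (i + 1)).index := by
  haveI := hP.isNilpotent
  set A := (⊤ : Subgroup G).lowerCentralSeries i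
  have hlt : ⁅A, (⊤ : Subgroup G)⁆ < A := commutator_lt_of_nilpotent inferInstance le_top
    (by rw [normalizer_eq_top_iff.mpr inferInstance]) hi
  rw [Subgroup.lowerCentralSeries_succ]
  rw [← relIndex_mul_index hlt.le, mul_comm A.index]
  refine Nat.mul_le_mul ?_ le_rfl
  obtain ⟨k, hk⟩ := IsPGroup.iff_card.mp hP
  have hdvd : (⁅A, (⊤ : Subgroup G)⁆).relIndex A ∣ p ^ k :=
    hk ▸ (relIndex_dvd_card _ A).trans A.card_subgroup_dvd_card
  obtain ⟨j, -, hj⟩ := (Nat.dvd_prime_pow hp.out).mp hdvd
  rw [hj]
  refine le_of_eq_of_le (pow_one p).symm (Nat.pow_le_pow_right hp.out.pos ?_)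
  by_contra h0
  rw [show j = 0 by omega, pow_zero, relIndex_eq_one] at hj
  exact hlt.not_ge hj

theorem index_chain (hP : IsPGroup p G) (i : ℕ) : ∀ j : ℕ,
    i + j ≤ (haveI := hP.isNilpotent; Group.nilpotencyClass G) →
    ((⊤ : Subgroup G).lowerCentralSeries i).index * p ^ j ≤
      ((⊤ : Subgroup G).lowerCentralSeries (i + j)).index := by
  haveI := hP.isNilpotent
  intro j
  induction j with
  | zero => intro _; simp
  | succ j ih =>
    intro hj
    have hne : (⊤ : Subgroup G).lowerCentralSeries (i + j) ≠ ⊥ := fun e => by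
      have := Subgroup.lowerCentralSeries_eq_bot_iff_nilpotencyClass_le.mp e
      omega
    calc _ = ((⊤ : Subgroup G).lowerCentralSeries i).index * p ^ j * p := by rw [pow_succ, mul_assoc]
      _ ≤ ((⊤ : Subgroup G).lowerCentralSeries (i + j)).index * p :=
        Nat.mul_le_mul (ih (by omega)) le_rfl
      _ ≤ _ := index_step hP hne

theorem not_comm_of_two_le [Group.IsNilpotent G] (h : 2 ≤ Group.nilpotencyClass G) :
    ∃ x y : G, x * y ≠ y * x := by
  by_contra hc
  simp only [ne_eq, not_exists, not_not] at hc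
  have h1 : (⊤ : Subgroup G).lowerCentralSeries 1 = ⊥ := by
    rw [Subgroup.lowerCentralSeries_succ, eq_bot_iff, commutator_le]
    intro a _ b _
    rw [mem_bot, commutatorElement_eq_one_iff_mul_comm]
    exact hc a b
  have := Subgroup.lowerCentralSeries_eq_bot_iff_nilpotencyClass_le.mp h1
  omega

theorem index_of_lcs (hP : IsPGroup p G) {i : ℕ} (hi : 1 ≤ i)
    (hic : i ≤ (haveI := hP.isNilpotent; Group.nilpotencyClass G))
    (h2 : 2 ≤ (haveI := hP.isNilpotent; Group.nilpotencyClass G)) :
    p ^ (i + 1) ≤ ((⊤ : Subgroup G).lowerCentralSeries i).index := by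
  haveI := hP.isNilpotent
  have h := index_chain hP 1 (i - 1) (by omega)
  rw [show 1 + (i - 1) = i by omega] at h
  refine le_trans ?_ h
  rw [show i + 1 = 2 + (i - 1) by omega, pow_add]
  exact Nat.mul_le_mul (sq_le_index_commutator hP (not_comm_of_two_le h2)) le_rfl

theorem class_le {n : ℕ} (hG : Nat.card G = p ^ n) (hn : 2 ≤ n) [Group.IsNilpotent G] :
    Group.nilpotencyClass G ≤ n - 1 := by
  have hP : IsPGroup p G := IsPGroup.of_card hG
  by_cases h2 : 2 ≤ Group.nilpotencyClass G
  · have h := index_of_lcs hP (i := Group.nilpotencyClass G) (by omega) le_rfl h2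
    have h' := Nat.le_of_dvd Nat.card_pos (index_dvd_card ((⊤ : Subgroup G).lowerCentralSeries (Group.nilpotencyClass G)))
    have := (Nat.pow_le_pow_iff_right hp.out.one_lt).mp ((h.trans h').trans hG.le)
    omega
  · omega

theorem index_lcs_eq {n : ℕ} (hG : Nat.card G = p ^ n) [Group.IsNilpotent G]
    (hn : 3 ≤ n) (hc : Group.nilpotencyClass G = n - 1) {i : ℕ} (hi : 1 ≤ i) (hi' : i ≤ n - 1) :
    ((⊤ : Subgroup G).lowerCentralSeries i).index = p ^ (i + 1) := by
  have hP : IsPGroup p G := IsPGroup.of_card hG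
  refine le_antisymm ?_ (index_of_lcs hP hi (by omega) (by omega))
  have h := index_chain hP i (n - 1 - i) (by omega)
  have h' := Nat.le_of_dvd Nat.card_pos
    (index_dvd_card ((⊤ : Subgroup G).lowerCentralSeries (i + (n - 1 - i))))
  rw [hG] at h'
  refine Nat.le_of_mul_le_mul_right ((h.trans h').trans ?_) (pow_pos hp.out.pos (n - 1 - i))
  rw [← pow_add]
  exact le_of_eq (by congr 1; omega)

theorem normal_eq_lcs {n : ℕ} (hG : Nat.card G = p ^ n) [Group.IsNilpotent G]
    (hn : 3 ≤ n) (hc : Group.nilpotencyClass G = n - 1) (N : Subgroup G) [N.Normal] (r : ℕ)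
    (hr : 2 ≤ r) (hN : N.index = p ^ r) : N = (⊤ : Subgroup G).lowerCentralSeries (r - 1) := by
  have hrn : r ≤ n := (Nat.pow_dvd_pow_iff_le_right hp.out.one_lt).mp (hN ▸ hG ▸ N.index_dvd_card)
  have hq : Nat.card (G ⧸ N) = p ^ r := (index_eq_card N).symm.trans hN
  have hle : (⊤ : Subgroup G).lowerCentralSeries (r - 1) ≤ N := by
    have h1 := Subgroup.lowerCentralSeries_eq_bot_iff_nilpotencyClass_le.mpr (class_le hq hr)
    rw [← QuotientGroup.ker_mk' N, ← Subgroup.map_eq_bot_iff, eq_bot_iff]
    refine le_trans ?_ h1.le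
    rw [map_lowerCentralSeries]
    exact lowerCentralSeries_mono _ le_top
  have h2 := index_lcs_eq hG hn hc (i := r - 1) (by omega) (by omega)
  rw [show r - 1 + 1 = r by omega] at h2
  refine (eq_of_le_of_card_ge hle ?_).symm
  have e1 := N.card_mul_index
  rw [hN, ← ((⊤ : Subgroup G).lowerCentralSeries (r - 1)).card_mul_index, h2] at e1
  exact (Nat.eq_of_mul_eq_mul_right (pow_pos hp.out.pos r) e1).le

/-- An elementary abelian group of order `p ^ 2` has `p + 1` subgroups of order `p`. -/
theorem card_subgroups_prime {Q : Type*} [Group Q] [Finite Q] (hQ : Nat.card Q = p ^ 2)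
    (he : ∀ x : Q, x ^ p = 1) : Nat.card {H : Subgroup Q // Nat.card H = p} = p + 1 := by
  classical
  let e : {z : Q // z ≠ 1} ≃ Σ H : {H : Subgroup Q // Nat.card H = p}, {z : H.1 // z ≠ 1} :=
    { toFun := fun z => ⟨⟨zpowers z.1, by rw [Nat.card_zpowers, orderOf_eq_prime (he _) z.2]⟩,
        ⟨⟨z.1, mem_zpowers _⟩, fun h => z.2 (congrArg Subtype.val h)⟩⟩
      invFun := fun w => ⟨w.2.1.1, fun h => w.2.2 (Subtype.ext h)⟩
      left_inv := fun z => rfl
      right_inv := by
        rintro ⟨⟨H, hH⟩, ⟨⟨z, hz⟩, hz1⟩⟩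
        have heq : zpowers z = H := eq_of_le_of_card_ge (zpowers_le.mpr hz) (by
          rw [hH, Nat.card_zpowers, orderOf_eq_prime (he z) (fun h => hz1 (Subtype.ext h))])
        subst heq
        rfl }
  have h1 := Nat.card_congr e
  haveI := Fintype.ofFinite {H : Subgroup Q // Nat.card H = p}
  rw [Nat.card_sigma] at h1
  have h2 : Nat.card {z : Q // z ≠ 1} = p ^ 2 - 1 := by
    haveI := Fintype.ofFinite Q
    rw [Nat.card_eq_fintype_card, Fintype.card_subtype_compl, Fintype.card_subtype_eq,
      ← Nat.card_eq_fintype_card, hQ]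
  rw [h2, Finset.sum_congr rfl (fun H _ => by
    haveI := Fintype.ofFinite H.1
    rw [Nat.card_eq_fintype_card, Fintype.card_subtype_compl, Fintype.card_subtype_eq,
      ← Nat.card_eq_fintype_card, H.2]), Finset.sum_const, smul_eq_mul, Finset.card_univ,
    ← Nat.card_eq_fintype_card] at h1
  have h3 : p ^ 2 - 1 = (p + 1) * (p - 1) := by
    obtain ⟨q, rfl⟩ : ∃ q, p = q + 1 := ⟨p - 1, by have := hp.out.pos; omega⟩
    rw [Nat.add_sub_cancel, show (q + 1) ^ 2 = (q + 1 + 1) * q + 1 by ring, Nat.add_sub_cancel]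
  rw [h3] at h1
  exact (Nat.eq_of_mul_eq_mul_right (Nat.sub_pos_of_lt hp.out.one_lt) h1).symm

theorem card_normal_index_prime {n : ℕ} (hG : Nat.card G = p ^ n) [Group.IsNilpotent G]
    (hn : 3 ≤ n) (hc : Group.nilpotencyClass G = n - 1) :
    Nat.card {N : Subgroup G // N.Normal ∧ N.index = p} = p + 1 := by
  have hP : IsPGroup p G := IsPGroup.of_card hG
  set D := commutator G
  have hD : D.index = p ^ 2 := index_lcs_eq hG hn hc (i := 1) le_rfl (by omega)
  have hQ : Nat.card (G ⧸ D) = p ^ 2 := (index_eq_card D).symm.trans hD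
  have hnc : ¬ IsCyclic (G ⧸ D) :=
    noncyclic_abelianization hP (not_comm_of_two_le (by omega))
  have he : ∀ x : G ⧸ D, x ^ p = 1 := by
    intro x
    obtain ⟨k, hk2, hk⟩ := (Nat.dvd_prime_pow hp.out).mp (hQ ▸ orderOf_dvd_natCard x)
    rw [← orderOf_dvd_iff_pow_eq_one, hk]
    interval_cases k
    · simp
    · simp
    · exact absurd (isCyclic_of_orderOf_eq_card x (hk.trans hQ.symm)) hnc
  rw [← card_subgroups_prime hQ he]
  set f := QuotientGroup.mk' D
  have hle : ∀ N : Subgroup G, N.Normal → N.index = p → D ≤ N := by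
    intro N hN hi
    haveI := hN
    haveI : IsCyclic (G ⧸ N) := isCyclic_of_prime_card (p := p) ((index_eq_card N).symm.trans hi)
    rw [show D = ⁅(⊤ : Subgroup G), ⊤⁆ from commutator_def G, commutator_le]
    intro a _ b _
    rw [← QuotientGroup.eq_one_iff]
    change QuotientGroup.mk' N ⁅a, b⁆ = 1
    rw [map_commutatorElement, commutatorElement_eq_one_iff_mul_comm]
    exact (IsCyclic.commGroup (α := G ⧸ N)).mul_comm _ _
  have hidx : ∀ H : Subgroup (G ⧸ D), H.index = p ↔ Nat.card H = p := by
    intro H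
    have := H.card_mul_index
    rw [hQ, sq] at this
    constructor
    · intro h; rw [h] at this; exact Nat.eq_of_mul_eq_mul_right hp.out.pos this
    · intro h; rw [h] at this; exact Nat.eq_of_mul_eq_mul_left hp.out.pos this
  refine Nat.card_congr
    { toFun := fun N => ⟨N.1.map f, (hidx _).mp (by
        rw [index_map_eq N.1 (QuotientGroup.mk'_surjective D)
          (by rw [QuotientGroup.ker_mk']; exact hle _ N.2.1 N.2.2)]
        exact N.2.2)⟩
      invFun := fun H => ⟨H.1.comap f, by
        have hi : (H.1.comap f).index = p := by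
          rw [index_comap_of_surjective _ (QuotientGroup.mk'_surjective D)]
          exact (hidx _).mpr H.2
        exact ⟨CycP.normal_of_index_prime hP _ hi, hi⟩⟩
      left_inv := fun N => Subtype.ext (by
        show comap f (map f N.1) = N.1
        rw [comap_map_eq_self]
        rw [QuotientGroup.ker_mk']
        exact hle _ N.2.1 N.2.2)
      right_inv := fun H => Subtype.ext
        (map_comap_eq_self_of_surjective (QuotientGroup.mk'_surjective D) _) }

/-- A group with a self-centralizing subgroup of order `p ^ 2` has maximal class. -/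
theorem class_eq_of_self_centralizing : ∀ (n : ℕ) (X : Type u) [Group X] [Finite X] (A : Subgroup X),
    Nat.card X = p ^ n → Nat.card A = p ^ 2 → centralizer (A : Set X) = A →
    Group.nilpotencyClass X = n - 1 := by
  intro n
  induction n with
  | zero =>
    intro X _ _ A hX hA _
    have := Nat.le_of_dvd Nat.card_pos A.card_subgroup_dvd_card
    rw [hA, hX, pow_zero] at this
    exact absurd this (not_le.mpr (Nat.one_lt_pow two_ne_zero hp.out.one_lt))
  | succ n ih =>
    intro X _ _ A hX hA hC
    have hPX : IsPGroup p X := IsPGroup.of_card hX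
    haveI := hPX.isNilpotent
    have hn : 2 ≤ n + 1 := (Nat.pow_le_pow_iff_right hp.out.one_lt).mp
      (hA.symm.le.trans ((Nat.le_of_dvd Nat.card_pos A.card_subgroup_dvd_card).trans hX.le))
    haveI : Nontrivial X := Finite.one_lt_card_iff_nontrivial.mp
      (hX ▸ Nat.one_lt_pow (Nat.succ_ne_zero n) hp.out.one_lt)
    have h0 : Group.nilpotencyClass X ≠ 0 := fun h => by
      haveI := Group.nilpotencyClass_zero_iff_subsingleton.mp h
      exact not_subsingleton X inferInstance
    by_cases hAt : A = ⊤
    · have h1 : n + 1 = 2 := Nat.pow_right_injective hp.out.two_le (by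
        show p ^ (n + 1) = p ^ 2; rw [← hX, ← hA, hAt, card_top])
      have h2 : (⊤ : Subgroup X).lowerCentralSeries 1 = ⊥ := by
        rw [Subgroup.lowerCentralSeries_succ, eq_bot_iff, commutator_le]
        intro a _ b _
        rw [mem_bot, commutatorElement_eq_one_iff_mul_comm]
        exact IsPGroup.commutative_of_card_eq_prime_sq (hX.trans (by rw [h1])) a b
      have := Subgroup.lowerCentralSeries_eq_bot_iff_nilpotencyClass_le.mp h2
      omega
    set Z := center X
    have hZA : Z ≤ A := (center_le_centralizer _).trans hC.le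
    have hAne : ∃ x, x ∉ A := by
      by_contra h
      simp only [not_exists, not_not] at h
      exact hAt ((eq_top_iff' A).mpr h)
    obtain ⟨x₀, hx₀⟩ := hAne
    have hZne : Z ≠ A := fun e => hx₀ (by
      rw [← hC, ← e, mem_centralizer_iff]
      exact fun z hz => (mem_center_iff.mp hz x₀).symm)
    have hpsub : ∀ W : Subgroup X, W < A → W ≠ ⊥ → Nat.card W = p := by
      intro W hW hb
      obtain ⟨k, hk2, hk⟩ := (Nat.dvd_prime_pow hp.out).mp (hA ▸ card_dvd_of_le hW.le)
      interval_cases k
      · exact absurd (Subgroup.eq_bot_of_card_eq _ (hk.trans (pow_zero p))) hb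
      · exact hk.trans (pow_one p)
      · exact absurd (eq_of_le_of_card_ge hW.le (hA.trans hk.symm).le) hW.ne
    have hZ1 : Z ≠ ⊥ := (nontrivial_iff_ne_bot _).mp hPX.center_nontrivial
    have hZc : Nat.card Z = p := hpsub Z (lt_of_le_of_ne hZA hZne) hZ1
    obtain ⟨a, ha, haZ⟩ := SetLike.exists_of_lt (lt_of_le_of_ne hZA hZne)
    have hAgen : A = Z ⊔ zpowers a := by
      refine le_antisymm (le_of_eq ?_) (sup_le hZA (zpowers_le.mpr ha))
      refine (eq_of_le_of_card_ge (sup_le hZA (zpowers_le.mpr ha)) ?_).symm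
      by_contra hlt
      have hsup : Z ⊔ zpowers a < A := lt_of_le_of_ne (sup_le hZA (zpowers_le.mpr ha))
        fun e => hlt (by rw [e])
      have h3 := hpsub _ hsup fun e => hZ1 (le_bot_iff.mp (e ▸ le_sup_left))
      have h4 : Z = Z ⊔ zpowers a := eq_of_le_of_card_ge le_sup_left (h3.trans hZc.symm).le
      exact haZ (h4.ge (mem_sup_right (mem_zpowers a)))
    set f := QuotientGroup.mk' Z
    set K := (centralizer (A.map f : Set (X ⧸ Z))).comap f
    have hKmem : ∀ x, x ∈ K → ⁅x, a⁆ ∈ Z := fun x hx => by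
      rw [← QuotientGroup.eq_one_iff]
      change f ⁅x, a⁆ = 1
      rw [map_commutatorElement, commutatorElement_eq_one_iff_mul_comm]
      exact (mem_centralizer_iff.mp hx (f a) ⟨a, ha, rfl⟩).symm
    have hmemA : ∀ x : X, Commute x a → x ∈ A := fun x hx => by
      rw [← hC]
      have hle : A ≤ centralizer ({x} : Set X) := by
        rw [hAgen]
        refine sup_le (fun z hz => mem_centralizer_singleton_iff.mpr (mem_center_iff.mp hz x).symm)
          (zpowers_le.mpr (mem_centralizer_singleton_iff.mpr hx.symm.eq))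
      exact fun y hy => mem_centralizer_singleton_iff.mp (hle hy)
    have hAK : A ≤ K := fun x hx => by
      show f x ∈ centralizer (A.map f : Set (X ⧸ Z))
      rw [mem_centralizer_iff]
      rintro _ ⟨b, hb, rfl⟩
      rw [← map_mul, ← map_mul, mem_centralizer_iff.mp (hC.ge hx) b hb]
    have hKle : A.relIndex K ≤ p := by
      rw [← hZc]
      let φ : K ⧸ A.subgroupOf K → Z := fun q =>
        ⟨⁅((Quotient.out q : K) : X), a⁆, hKmem _ (Quotient.out q).2⟩
      refine Nat.card_le_card_of_injective φ fun q q' hq => ?_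
      rw [← QuotientGroup.out_eq' q, ← QuotientGroup.out_eq' q', QuotientGroup.eq]
      have h1 := congrArg Subtype.val hq
      simp only [φ, commutatorElement_def, mul_left_inj] at h1
      refine hmemA _ ?_
      show ((Quotient.out q : K) : X)⁻¹ * ((Quotient.out q' : K) : X) * a =
        a * (((Quotient.out q : K) : X)⁻¹ * ((Quotient.out q' : K) : X))
      generalize ((Quotient.out q : K) : X) = u at h1 ⊢
      generalize ((Quotient.out q' : K) : X) = v at h1 ⊢
      calc u⁻¹ * v * a = u⁻¹ * (v * a * v⁻¹) * v := by group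
        _ = u⁻¹ * (u * a * u⁻¹) * v := by rw [h1]
        _ = a * (u⁻¹ * v) := by group
    have hKne : K ≠ A := by
      intro e
      have hlt := Group.normalizerCondition_of_isNilpotent A (lt_top_iff_ne_top.mpr hAt)
      set N := normalizer (A : Set X) with hN
      have hW : ⁅A, N⁆ < A := commutator_lt_of_nilpotent inferInstance hlt.le le_rfl
        (fun h => hZ1 (le_bot_iff.mp (h ▸ hZA)))
      refine hlt.ne (le_antisymm hlt.le ?_)
      by_cases hWZ : ⁅A, N⁆ ≤ Z
      · intro x hx
        rw [← e]
        show f x ∈ centralizer (A.map f : Set (X ⧸ Z))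
        rw [mem_centralizer_iff]
        rintro _ ⟨b, hb, rfl⟩
        rw [← commutatorElement_eq_one_iff_mul_comm, ← map_commutatorElement]
        exact (QuotientGroup.eq_one_iff _).mpr (hWZ (commutator_mem_commutator hb hx))
      · set W := ⁅A, N⁆
        have hWb : W ≠ ⊥ := fun h => hWZ (h ▸ bot_le)
        have hWc : Nat.card W = p := hpsub W hW hWb
        have hW2 : ⁅W, N⁆ = ⊥ := by
          have h2 : ⁅W, N⁆ < W := commutator_lt_of_nilpotent inferInstance
            (hW.le.trans le_normalizer) (normalizer_commutator_ge_right A N)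
            hWb
          obtain ⟨k, hk1, hk⟩ := (Nat.dvd_prime_pow hp.out (i := Nat.card ↥⁅W, N⁆) (m := 1)).mp
            (by rw [pow_one, ← hWc]; exact card_dvd_of_le h2.le)
          interval_cases k
          · exact Subgroup.eq_bot_of_card_eq _ (hk.trans (pow_zero p))
          · exact absurd (eq_of_le_of_card_ge h2.le (hWc.trans (hk.trans (pow_one p)).symm).le) h2.ne
        have hA' : A = W ⊔ Z := by
          refine (eq_of_le_of_card_ge (sup_le hW.le hZA) ?_).symm
          by_contra hlt'
          have hsup : W ⊔ Z < A := lt_of_le_of_ne (sup_le hW.le hZA) fun h => hlt' (by rw [h])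
          have h3 := hpsub _ hsup fun h => hWb (le_bot_iff.mp (h ▸ le_sup_left))
          have h4 : Z = W ⊔ Z := eq_of_le_of_card_ge le_sup_right (h3.trans hZc.symm).le
          exact hWZ (h4 ▸ le_sup_left)
        intro x hx
        rw [← hC, hA']
        have hle : W ⊔ Z ≤ centralizer ({x} : Set X) := by
          refine sup_le (fun w hw => mem_centralizer_singleton_iff.mpr ?_)
            (fun z hz => mem_centralizer_singleton_iff.mpr (mem_center_iff.mp hz x).symm)
          exact mem_centralizer_iff.mp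
            (commutator_eq_bot_iff_le_centralizer.mp hW2 hw) x hx |>.symm
        exact fun y hy => mem_centralizer_singleton_iff.mp (hle hy)
    have hKc : Nat.card (K.map f) = p ^ 2 := by
      have h1 := card_comap_mk' Z (K.map f)
      rw [comap_map_eq_self (by rw [QuotientGroup.ker_mk']; exact hZA.trans hAK), hZc] at h1
      have h2 : A.relIndex K = p := by
        obtain ⟨k, hk⟩ := IsPGroup.iff_card.mp hPX
        obtain ⟨j, -, hj⟩ := (Nat.dvd_prime_pow hp.out).mp
          (hk ▸ (relIndex_dvd_card A K).trans K.card_subgroup_dvd_card)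
        rcases Nat.lt_or_ge j 2 with hj2 | hj2
        · interval_cases j
          · exact absurd (relIndex_eq_one.mp (hj.trans (pow_zero p))) fun h =>
              hKne (le_antisymm h hAK)
          · exact hj.trans (pow_one p)
        · exact absurd hKle (not_le.mpr (hj ▸ lt_of_lt_of_le
            (by simpa using Nat.pow_lt_pow_right hp.out.one_lt one_lt_two)
            (Nat.pow_le_pow_right hp.out.pos hj2)))
      have h3 : Nat.card A * A.relIndex K = Nat.card K := by
        rw [← relIndex_bot_left, ← relIndex_bot_left, relIndex_mul_relIndex ⊥ A K bot_le hAK]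
      rw [hA, h2, h1, sq] at h3
      exact (Nat.eq_of_mul_eq_mul_left hp.out.pos (h3.symm.trans (by ring))).trans (sq p).symm
    have hKC : centralizer (K.map f : Set (X ⧸ Z)) = K.map f := by
      refine le_antisymm ?_ ?_
      · refine (centralizer_le (SetLike.coe_subset_coe.mpr (map_mono hAK))).trans ?_
        rw [map_comap_eq_self_of_surjective (QuotientGroup.mk'_surjective Z)]
      · intro z hz y hy
        exact congrArg Subtype.val
          (IsPGroup.commutative_of_card_eq_prime_sq hKc (⟨y, hy⟩ : K.map f) ⟨z, hz⟩)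
    have hQ : Nat.card (X ⧸ Z) = p ^ n := by
      have h1 := Z.card_mul_index
      rw [hX, hZc, index_eq_card, pow_succ'] at h1
      exact Nat.eq_of_mul_eq_mul_left hp.out.pos h1
    have h5 := ih (X ⧸ Z) (K.map f) hQ hKc hKC
    rw [Group.nilpotencyClass_quotient_center] at h5
    have hn2 : 2 ≤ n := (Nat.pow_le_pow_iff_right hp.out.one_lt).mp
      (hKc.symm.le.trans ((Nat.le_of_dvd Nat.card_pos (K.map f).card_subgroup_dvd_card).trans hQ.le))
    omega

end Cfsg.Agent.Solv.MaxClass
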