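import Cfsg.Agent.Lib.Solv.MaxClass

/-!
Two-groups with abelianization of order four.
-/

set_option autoImplicit false
set_option linter.style.haveILetI false

namespace Cfsg.Agent.Solv.MaxClass

open Subgroup
open scoped commutatorElement

universe u

variable {G : Type u} [Group G] [Finite G]

theorem not_comm_of_index_four {n : ℕ} (hn : 3 ≤ n) (hG : Nat.card G = 2 ^ n)
    (h4 : (commutator G).index = 4) : ∃ x y : G, x * y ≠ y * x := by
  by_contra hc
  simp only [ne_eq, not_exists, not_not] at hc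
  have h1 : commutator G = ⊥ := by
    rw [_root_.commutator_def, eq_bot_iff, commutator_le]
    intro a _ b _
    rw [mem_bot, commutatorElement_eq_one_iff_mul_comm]
    exact hc a b
  rw [h1, index_bot, hG] at h4
  have : 2 ^ 3 ≤ 2 ^ n := Nat.pow_le_pow_right two_pos hn
  omega

/-- The derived group of a metabelian two-generator group modulo the centre. -/
theorem commutator_le_zpowers {g c : G} (hgc : Commute (g ^ 2) c)
    (hcw : Commute c ⁅g, c⁆) (hgen : ∀ x : G, x ∈ closure ({g, c} : Set G) ⊔ center G) :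
    commutator G ≤ zpowers ⁅g, c⁆ := by
  set N := zpowers ⁅g, c⁆ with hN
  have hnorm : closure ({g, c} : Set G) ⊔ center G ≤ normalizer (N : Set G) := by
    refine sup_le ((closure_le _).mpr ?_) (center_le_normalizer _)
    have hg : g * ⁅g, c⁆ * g⁻¹ = ⁅g, c⁆⁻¹ := by
      calc g * ⁅g, c⁆ * g⁻¹ = (g ^ 2 * c) * (g ^ 2)⁻¹ * (g * c⁻¹ * g⁻¹) := by
            rw [commutatorElement_def, pow_two]; group
        _ = ⁅g, c⁆⁻¹ := by rw [hgc.eq, commutatorElement_def]; group
    have key : ∀ a : G, a * ⁅g, c⁆ * a⁻¹ ∈ N → a ∈ normalizer (N : Set G) := fun a ha => by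
      rw [mem_normalizer_iff_map_conj_eq]
      refine eq_of_le_of_card_ge ?_ (card_map_of_injective (MulAut.conj a).injective).ge
      rw [hN, MonoidHom.map_zpowers, zpowers_le]
      exact ha
    rintro a (rfl | rfl)
    · exact key _ (hg ▸ N.inv_mem (mem_zpowers _))
    · refine key _ ?_
      rw [hcw.eq, mul_inv_cancel_right]
      exact mem_zpowers _
  haveI : N.Normal := normalizer_eq_top_iff.mp (eq_top_iff.mpr fun x _ => hnorm (hgen x))
  set f := QuotientGroup.mk' N
  have hcomm : Commute (f g) (f c) := by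
    rw [← commutatorElement_eq_one_iff_commute, ← map_commutatorElement]
    exact (QuotientGroup.eq_one_iff _).mpr (mem_zpowers _)
  have hzc : ∀ z ∈ center G, ∀ y : G, Commute (f z) (f y) := fun z hz y =>
    (Commute.map (show Commute z y from (mem_center_iff.mp hz y).symm) f)
  have hall : ∀ a : G, a ∈ ({g, c} : Set G) → closure ({g, c} : Set G) ⊔ center G ≤
      (centralizer ({f a} : Set (G ⧸ N))).comap f := by
    intro a ha
    refine sup_le ((closure_le _).mpr fun b hb => ?_) fun z hz => ?_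
    · rw [SetLike.mem_coe, mem_comap, mem_centralizer_singleton_iff]
      rcases ha with rfl | rfl <;> rcases hb with rfl | rfl
      · rfl
      · exact hcomm.symm.eq
      · exact hcomm.eq
      · rfl
    · rw [mem_comap, mem_centralizer_singleton_iff]
      exact (hzc z hz a).eq
  rw [_root_.commutator_def, commutator_le]
  intro x _ y _
  rw [← QuotientGroup.eq_one_iff]
  change f ⁅x, y⁆ = 1
  rw [map_commutatorElement, commutatorElement_eq_one_iff_mul_comm]
  have hy : closure ({g, c} : Set G) ⊔ center G ≤ (centralizer ({f x} : Set (G ⧸ N))).comap f := by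
    refine sup_le ((closure_le _).mpr fun b hb => ?_) fun z hz => ?_
    · rw [SetLike.mem_coe, mem_comap, mem_centralizer_singleton_iff]
      exact (mem_centralizer_singleton_iff.mp (mem_comap.mp (hall b hb (hgen x)))).symm
    · rw [mem_comap, mem_centralizer_singleton_iff]
      exact (hzc z hz x).eq
  exact (mem_centralizer_singleton_iff.mp (mem_comap.mp (hy (hgen y)))).symm

theorem mem_closure_pair {C : Subgroup G} (hC : C.index = 2) {g : G} (hg : g ∉ C) {H : Subgroup G}
    (hgH : g ∈ H) (hCH : C ≤ H) (x : G) : x ∈ H := by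
  by_cases hx : x ∈ C
  · exact hCH hx
  · have h2 : g⁻¹ * x ∈ C := (mul_mem_iff_of_index_two hC).mpr
      (by simp only [inv_mem_iff]; exact ⟨fun h => absurd h hg, fun h => absurd h hx⟩)
    have := H.mul_mem hgH (hCH h2)
    rwa [mul_inv_cancel_left] at this

/-- Taussky: a `2`-group with abelianization of order four has a cyclic subgroup of index two. -/
theorem exists_cyclic_index_two : ∀ (n : ℕ), 3 ≤ n → ∀ (X : Type u) [Group X] [Finite X],
    Nat.card X = 2 ^ n → (commutator X).index = 4 → ∃ c : X, (zpowers c).index = 2 := by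
  intro n hn
  haveI : Fact (Nat.Prime 2) := ⟨Nat.prime_two⟩
  induction n, hn using Nat.le_induction with
  | base =>
    intro X _ _ hX h4
    obtain ⟨x, y, hxy⟩ := not_comm_of_index_four le_rfl hX h4
    obtain ⟨a, ha⟩ : ∃ a : X, a ^ 2 ≠ 1 := by
      by_contra h
      simp only [ne_eq, not_exists, not_not] at h
      refine hxy ?_
      have hi : ∀ a : X, a⁻¹ = a := fun a => inv_eq_of_mul_eq_one_right (by rw [← pow_two]; exact h a)
      calc x * y = (x * y)⁻¹ := (hi _).symm
        _ = y⁻¹ * x⁻¹ := mul_inv_rev x y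
        _ = y * x := by rw [hi, hi]
    refine ⟨a, ?_⟩
    obtain ⟨k, hk3, hk⟩ := (Nat.dvd_prime_pow Nat.prime_two).mp (hX ▸ orderOf_dvd_natCard a)
    have h1 := (zpowers a).card_mul_index
    rw [Nat.card_zpowers, hk, hX] at h1
    interval_cases k
    · exact absurd (by rw [show a = 1 from orderOf_eq_one_iff.mp (hk.trans (pow_zero 2)), one_pow]) ha
    · exact absurd (by rw [← pow_one 2, ← hk, pow_orderOf_eq_one]) ha
    · omega
    · haveI := isCyclic_of_orderOf_eq_card a (hk.trans hX.symm)
      exact absurd ((IsCyclic.commGroup (α := X)).mul_comm x y) hxy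
  | succ n hn ih =>
    intro X _ _ hX h4
    have hP : IsPGroup 2 X := IsPGroup.of_card hX
    haveI := hP.isNilpotent
    set D := commutator X
    have hDb : D ≠ ⊥ := fun e => by
      rw [e, index_bot, hX] at h4
      have : 2 ^ 3 ≤ 2 ^ (n + 1) := Nat.pow_le_pow_right two_pos (by omega)
      omega
    obtain ⟨z, hz, hzo⟩ : ∃ z ∈ D ⊓ center X, orderOf z = 2 := by
      haveI : Nontrivial ↥(D ⊓ center X) := (nontrivial_iff_ne_bot _).mpr (inf_center_ne_bot D hDb)
      obtain ⟨k, hk, hkc⟩ := (hP.to_subgroup (D ⊓ center X)).nontrivial_iff_card.mp inferInstance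
      obtain ⟨z, hz⟩ := exists_prime_orderOf_dvd_card' (G := ↥(D ⊓ center X)) 2
        (hkc ▸ dvd_pow_self 2 (by omega))
      exact ⟨z, z.2, (orderOf_coe z).trans hz⟩
    set Z0 := zpowers z
    have hZ0c : Z0 ≤ center X := zpowers_le.mpr hz.2
    haveI : Z0.Normal := ⟨fun a ha b => by
      rw [mem_center_iff.mp (hZ0c ha) b, mul_inv_cancel_right]; exact ha⟩
    set f := QuotientGroup.mk' Z0
    have hf : Function.Surjective f := QuotientGroup.mk'_surjective Z0
    have hQ : Nat.card (X ⧸ Z0) = 2 ^ n := by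
      have h1 := Z0.card_mul_index
      rw [hX, Nat.card_zpowers, hzo, index_eq_card, pow_succ'] at h1
      exact Nat.eq_of_mul_eq_mul_left two_pos h1
    have hQ4 : (commutator (X ⧸ Z0)).index = 4 := by
      have e : commutator (X ⧸ Z0) = D.map f := by
        rw [_root_.commutator_def, show D = ⁅(⊤ : Subgroup X), ⊤⁆ from _root_.commutator_def X, map_commutator,
          map_top_of_surjective f hf]
      rw [e, index_map_eq D hf (by rw [QuotientGroup.ker_mk']; exact zpowers_le.mpr hz.1)]
      exact h4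
    obtain ⟨cb, hcb⟩ := ih (X ⧸ Z0) hQ hQ4
    obtain ⟨c, rfl⟩ := hf cb
    refine ⟨c, ?_⟩
    set C := zpowers c ⊔ Z0
    have hCi : C.index = 2 := by
      rw [← hcb, ← MonoidHom.map_zpowers, ← index_comap_of_surjective _ hf, comap_map_eq,
        QuotientGroup.ker_mk']
    by_cases hzc : z ∈ zpowers c
    · rw [← hCi, show C = zpowers c from sup_eq_left.mpr (zpowers_le.mpr hzc)]
    exfalso
    obtain ⟨g, hg⟩ : ∃ g, g ∉ C := by
      by_contra h
      simp only [not_exists, not_not] at h
      rw [(eq_top_iff' C).mpr h, index_top] at hCi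
      omega
    have hCcomm : ∀ x ∈ C, Commute c x := by
      have : C ≤ centralizer ({c} : Set X) := sup_le
        (zpowers_le.mpr (mem_centralizer_singleton_iff.mpr rfl))
        (hZ0c.trans (center_le_centralizer _))
      exact fun x hx => (mem_centralizer_singleton_iff.mp (this hx)).symm
    haveI := CycP.normal_of_index_prime hP C hCi
    have hwC : ⁅g, c⁆ ∈ C := by
      rw [commutatorElement_def]
      exact C.mul_mem (Normal.conj_mem inferInstance c (mem_sup_left (mem_zpowers c)) g)
        (C.inv_mem (mem_sup_left (mem_zpowers c)))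
    have hD := commutator_le_zpowers (g := g) (c := c) (hCcomm _ (sq_mem_of_index_two hCi g)).symm
      (hCcomm _ hwC) (mem_closure_pair hCi hg (mem_sup_left (subset_closure (Or.inl rfl)))
        (sup_le (le_sup_of_le_left (zpowers_le.mpr (subset_closure (Or.inr rfl))))
          (hZ0c.trans le_sup_right)))
    obtain ⟨k, hk⟩ := mem_zpowers_iff.mp (hD hz.1)
    obtain ⟨u, hu, e, he, hue⟩ := mem_sup_of_normal_right.mp hwC
    obtain ⟨i, rfl⟩ := mem_zpowers_iff.mp hu
    obtain ⟨j, rfl⟩ := mem_zpowers_iff.mp he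
    have hcz : Commute c z := mem_center_iff.mp hz.2 c
    have hzk : z = c ^ (i * k) * z ^ (j * k) := by
      rw [zpow_mul, zpow_mul, ← (hcz.zpow_zpow i j).mul_zpow, hue, hk]
    have hz2 : ∀ m : ℤ, z ^ (2 * m) = 1 := fun m => by
      rw [zpow_mul, zpow_ofNat, ← hzo, pow_orderOf_eq_one, one_zpow]
    obtain ⟨t, ht | ht⟩ := Int.even_or_odd' k
    · refine hzc (mem_zpowers_iff.mpr ⟨i * k, ?_⟩)
      rw [ht] at hzk ⊢
      rwa [show j * (2 * t) = 2 * (j * t) by ring, hz2, mul_one, eq_comm] at hzk
    · have hik : c ^ (i * k) = 1 := by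
        obtain ⟨s, hs | hs⟩ := Int.even_or_odd' j
        · exfalso
          refine hzc (mem_zpowers_iff.mpr ⟨i * k, ?_⟩)
          rwa [hs, show 2 * s * k = 2 * (s * k) by ring, hz2, mul_one, eq_comm] at hzk
        · rw [hs, ht, show (2 * s + 1) * (2 * t + 1) = 2 * (2 * s * t + s + t) + 1 by ring,
            zpow_add, hz2, one_mul, zpow_one, eq_comm, mul_eq_right] at hzk
          rw [ht]; exact hzk
      obtain ⟨m, hm⟩ := IsPGroup.iff_orderOf.mp hP c
      have hi : c ^ i = 1 := by
        rw [← orderOf_dvd_iff_zpow_eq_one, hm] at hik ⊢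
        rw [ht] at hik
        refine IsCoprime.dvd_of_dvd_mul_right ?_ hik
        push_cast
        exact IsCoprime.pow_left ⟨-t, 1, by ring⟩
      rw [hi, one_mul] at hue
      have h5 : D ≤ Z0 := hD.trans (zpowers_le.mpr (hue ▸ zpow_mem (mem_zpowers z) j))
      have h6 := Nat.le_of_dvd Nat.card_pos (card_dvd_of_le h5)
      rw [Nat.card_zpowers, hzo] at h6
      have h7 := D.card_mul_index
      rw [h4, hX] at h7
      have : 2 ^ 4 ≤ 2 ^ (n + 1) := Nat.pow_le_pow_right two_pos (by omega)
      omega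

/-- The shape of a `2`-group with abelianization of order four. -/
theorem structure_two {n : ℕ} (hn : 3 ≤ n) (hG : Nat.card G = 2 ^ n) (h4 : (commutator G).index = 4) :
    ∃ c g : G, orderOf c = 2 ^ (n - 1) ∧ g ∉ zpowers c ∧ center G = zpowers (c ^ 2 ^ (n - 2)) ∧
      center G ≤ commutator G ∧ g * c * g⁻¹ * c ∈ center G ∧ g ^ 2 ∈ center G := by
  haveI : Fact (Nat.Prime 2) := ⟨Nat.prime_two⟩
  have hP : IsPGroup 2 G := IsPGroup.of_card hG
  haveI := hP.isNilpotent
  obtain ⟨c, hci⟩ := exists_cyclic_index_two n hn G hG h4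
  obtain ⟨m, rfl⟩ : ∃ m, n = m + 2 := ⟨n - 2, by omega⟩
  rw [show m + 2 - 1 = m + 1 from rfl, show m + 2 - 2 = m from rfl]
  have hc : orderOf c = 2 ^ (m + 1) := by
    have h1 := (zpowers c).card_mul_index
    rw [hci, hG, Nat.card_zpowers, pow_succ] at h1
    exact Nat.eq_of_mul_eq_mul_right two_pos h1
  obtain ⟨g, hg⟩ : ∃ g, g ∉ zpowers c := by
    by_contra h
    simp only [not_exists, not_not] at h
    rw [(eq_top_iff' _).mpr h, index_top] at hci
    omega
  haveI := CycP.normal_of_index_prime hP (zpowers c) hci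
  obtain ⟨r, hr⟩ := mem_zpowers_iff.mp (Normal.conj_mem inferInstance c (mem_zpowers c) g)
  have hw : ⁅g, c⁆ = c ^ (r - 1) := by
    rw [commutatorElement_def, zpow_sub, zpow_one, hr]
  have hgc : Commute (g ^ 2) c := by
    obtain ⟨j, hj⟩ := mem_zpowers_iff.mp (sq_mem_of_index_two hci g)
    rw [← hj]
    exact (Commute.refl c).zpow_left j
  have hD : commutator G ≤ zpowers ⁅g, c⁆ := commutator_le_zpowers hgc
    (by rw [hw]; exact (Commute.refl c).zpow_right _)
    (fun x => mem_sup_left (mem_closure_pair hci hg (subset_closure (Or.inl rfl))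
      (zpowers_le.mpr (subset_closure (Or.inr rfl))) x))
  have hrr : (2 : ℤ) ^ (m + 1) ∣ r * r - 1 := by
    have h1 : c ^ (r * r) = c := by
      rw [zpow_mul, hr, conj_zpow, hr]
      calc g * (g * c * g⁻¹) * g⁻¹ = g ^ 2 * c * (g ^ 2)⁻¹ := by simp [pow_two, mul_assoc]
        _ = c := by rw [hgc.eq, mul_inv_cancel_right]
    have h2 : c ^ (r * r - 1) = 1 := by rw [zpow_sub, h1, zpow_one, mul_inv_cancel]
    rw [← orderOf_dvd_iff_zpow_eq_one, hc] at h2
    exact_mod_cast h2
  have hDc : Nat.card (commutator G) = 2 ^ m := by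
    have h1 := (commutator G).card_mul_index
    rw [h4, hG, show 2 ^ (m + 2) = 2 ^ m * 4 by ring] at h1
    exact Nat.eq_of_mul_eq_mul_right (by norm_num) h1
  obtain ⟨u, rfl⟩ : ∃ u : ℤ, r = 2 * u + 1 := by
    obtain ⟨u, hu | hu⟩ := Int.even_or_odd' r
    · exfalso
      obtain ⟨t, ht⟩ := hrr
      rw [hu, pow_succ] at ht
      have : (2 : ℤ) ∣ 1 := ⟨2 * u * u - 2 ^ m * t, by linarith⟩
      norm_num at this
    · exact ⟨u, hu⟩
  obtain ⟨v, rfl⟩ : ∃ v : ℤ, u = 2 * v + 1 := by
    obtain ⟨v, hv | hv⟩ := Int.even_or_odd' u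
    · exfalso
      obtain ⟨k, rfl⟩ : ∃ k, m = k + 1 := ⟨m - 1, by omega⟩
      have h1 := Nat.le_of_dvd Nat.card_pos (card_dvd_of_le hD)
      rw [hDc, Nat.card_zpowers, hw, hv] at h1
      have h2 : (c ^ (2 * (2 * v) + 1 - 1 : ℤ)) ^ 2 ^ k = 1 := by
        rw [← zpow_natCast, ← zpow_mul, ← orderOf_dvd_iff_zpow_eq_one, hc]
        exact ⟨v, by push_cast; ring⟩
      have h3 := Nat.le_of_dvd (pow_pos two_pos k) (orderOf_dvd_of_pow_eq_one h2)
      have : 2 ^ k < 2 ^ (k + 1) := Nat.pow_lt_pow_right one_lt_two (Nat.lt_succ_self k)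
      omega
    · exact ⟨v, hv⟩
  have hcop : IsCoprime ((2 : ℤ) ^ m) (2 * v + 1) := IsCoprime.pow_left ⟨-v, 1, by ring⟩
  have hz : c ^ (2 ^ m : ℕ) ∈ center G := by
    rw [mem_center_iff]
    intro x
    have h1 : closure ({g, c} : Set G) ≤ centralizer ({c ^ (2 ^ m : ℕ)} : Set G) := by
      rw [closure_le]
      rintro a (rfl | rfl)
      · rw [SetLike.mem_coe, mem_centralizer_singleton_iff]
        refine mul_inv_eq_iff_eq_mul.mp ?_
        rw [← conj_pow, ← hr, ← zpow_natCast, ← zpow_natCast, ← zpow_mul, ← mul_inv_eq_one, ← zpow_neg,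
          ← zpow_add, ← orderOf_dvd_iff_zpow_eq_one, hc]
        exact ⟨2 * v + 1, by push_cast; ring⟩
      · rw [SetLike.mem_coe, mem_centralizer_singleton_iff]
        exact ((Commute.refl a).pow_right _).eq
    exact mem_centralizer_singleton_iff.mp (h1 (mem_closure_pair hci hg
      (subset_closure (Or.inl rfl)) (zpowers_le.mpr (subset_closure (Or.inr rfl))) x))
  obtain ⟨x₀, y₀, hxy⟩ := not_comm_of_index_four hn hG h4
  have hZc : center G ≤ zpowers (c ^ (2 ^ m : ℕ)) := by
    intro z hz'
    have hzC : z ∈ zpowers c := by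
      by_contra hzn
      have hcz : Commute z c := (mem_center_iff.mp hz' c).symm
      have h1 : closure ({z, c} : Set G) ≤ centralizer (closure ({z, c} : Set G) : Set G) := by
        rw [closure_le]
        intro a ha
        rw [SetLike.mem_coe, mem_centralizer_iff]
        have : closure ({z, c} : Set G) ≤ centralizer ({a} : Set G) := by
          rw [closure_le]
          rintro b (rfl | rfl) <;> rw [SetLike.mem_coe, mem_centralizer_singleton_iff] <;>
            rcases ha with rfl | rfl
          · rfl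
          · exact hcz.eq
          · exact hcz.symm.eq
          · rfl
        exact fun b hb => mem_centralizer_singleton_iff.mp (this hb)
      have hall : ∀ x : G, x ∈ closure ({z, c} : Set G) := mem_closure_pair hci hzn
        (subset_closure (Or.inl rfl)) (zpowers_le.mpr (subset_closure (Or.inr rfl)))
      exact hxy (mem_centralizer_iff.mp (h1 (hall y₀)) x₀ (hall x₀))
    obtain ⟨i, rfl⟩ := mem_zpowers_iff.mp hzC
    have h2 : g * c ^ i * g⁻¹ = c ^ i := by rw [mem_center_iff.mp hz' g, mul_inv_cancel_right]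
    rw [← conj_zpow, ← hr, ← zpow_mul, ← mul_inv_eq_one, ← zpow_neg, ← zpow_add,
      ← orderOf_dvd_iff_zpow_eq_one, hc] at h2
    obtain ⟨t, ht⟩ := h2
    push_cast at ht
    obtain ⟨s, rfl⟩ : (2 : ℤ) ^ m ∣ i :=
      hcop.dvd_of_dvd_mul_left ⟨t, by rw [pow_succ] at ht; linarith⟩
    exact mem_zpowers_iff.mpr ⟨s, by rw [← zpow_natCast, ← zpow_mul]; push_cast; ring_nf⟩
  have hZ : center G = zpowers (c ^ (2 ^ m : ℕ)) := le_antisymm hZc (zpowers_le.mpr hz)
  have hdiv : (2 : ℤ) ^ m ∣ 2 * (2 * v + 1) + 1 + 1 := by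
    obtain ⟨t, ht⟩ := hrr
    exact hcop.dvd_of_dvd_mul_left ⟨t, by rw [pow_succ] at ht; linarith⟩
  refine ⟨c, g, hc, hg, hZ, ?_, ?_, ?_⟩
  · haveI : Nontrivial ↥(commutator G ⊓ center G) := (nontrivial_iff_ne_bot _).mpr
      (inf_center_ne_bot (commutator G) fun e => by
        rw [e, card_bot] at hDc
        have : 2 ^ 1 ≤ 2 ^ m := Nat.pow_le_pow_right two_pos (by omega)
        omega)
    have hcard : Nat.card (center G) ≤ Nat.card ↥(commutator G ⊓ center G) := by
      have h1 : Nat.card (center G) = 2 := by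
        rw [hZ, Nat.card_zpowers, orderOf_pow' _ (pow_ne_zero _ two_ne_zero), hc,
          Nat.gcd_eq_right (Nat.pow_dvd_pow 2 (Nat.le_succ m)), pow_succ,
          Nat.mul_div_cancel_left _ (pow_pos two_pos m)]
      rw [h1]
      exact Finite.one_lt_card
    exact (eq_of_le_of_card_ge inf_le_right hcard).ge.trans inf_le_left
  · obtain ⟨t, ht⟩ := hdiv
    rw [← hr, ← zpow_add_one, ht, hZ]
    exact mem_zpowers_iff.mpr ⟨t, by rw [← zpow_natCast, ← zpow_mul]; push_cast; rfl⟩
  · obtain ⟨j, hj⟩ := mem_zpowers_iff.mp (sq_mem_of_index_two hci g)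
    rw [mem_center_iff]
    intro x
    have h1 : closure ({g, c} : Set G) ≤ centralizer ({g ^ 2} : Set G) := by
      rw [closure_le]
      rintro a (rfl | rfl)
      · rw [SetLike.mem_coe, mem_centralizer_singleton_iff]
        exact ((Commute.refl a).pow_right _).eq
      · rw [SetLike.mem_coe, mem_centralizer_singleton_iff]
        exact hgc.symm.eq
    exact mem_centralizer_singleton_iff.mp (h1 (mem_closure_pair hci hg
      (subset_closure (Or.inl rfl)) (zpowers_le.mpr (subset_closure (Or.inr rfl))) x))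

theorem dihedral_quotient {n : ℕ} (hn : 3 ≤ n) (hG : Nat.card G = 2 ^ n)
    (h4 : (commutator G).index = 4) : Nonempty (G ⧸ center G ≃* DihedralGroup (2 ^ (n - 2))) := by
  haveI : Fact (Nat.Prime 2) := ⟨Nat.prime_two⟩
  obtain ⟨c, g, hc, hg, hZ, -, hinv, hsq⟩ := structure_two hn hG h4
  obtain ⟨m, rfl⟩ : ∃ m, n = m + 2 := ⟨n - 2, by omega⟩
  rw [show m + 2 - 2 = m from rfl] at hZ ⊢
  rw [show m + 2 - 1 = m + 1 from rfl] at hc
  set f := QuotientGroup.mk' (center G) with hf
  have hfs : Function.Surjective f := QuotientGroup.mk'_surjective _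
  have hci : (zpowers c).index = 2 := by
    have h1 := (zpowers c).card_mul_index
    rw [hG, Nat.card_zpowers, hc, pow_succ _ (m + 1)] at h1
    exact Nat.eq_of_mul_eq_mul_left (pow_pos two_pos _) h1
  have hker : f.ker ≤ zpowers c := by
    rw [hf, QuotientGroup.ker_mk', hZ]; exact zpowers_le.mpr (pow_mem (mem_zpowers c) _)
  set C := zpowers (f c) with hC
  have hCmap : C = (zpowers c).map f := (MonoidHom.map_zpowers f c).symm
  have hCi : C.index = 2 := by rw [hCmap, index_map_eq _ hfs hker, hci]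
  have hQ : Nat.card (G ⧸ center G) = 2 ^ (m + 1) := by
    have h1 := (center G).card_mul_index
    rw [hG, hZ, Nat.card_zpowers, orderOf_pow' _ (pow_ne_zero _ two_ne_zero), hc,
      Nat.gcd_eq_right (Nat.pow_dvd_pow 2 (Nat.le_succ m)), pow_succ _ m,
      Nat.mul_div_cancel_left _ (pow_pos two_pos m), ← hZ, index_eq_card] at h1
    exact Nat.eq_of_mul_eq_mul_left two_pos (h1.trans (by ring))
  have hCc : Nat.card C = 2 ^ m := by
    have h1 := C.card_mul_index
    rw [hCi, hQ, pow_succ] at h1
    exact Nat.eq_of_mul_eq_mul_right two_pos h1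
  have hnot : f g ∉ C := by
    intro h
    rw [hCmap, ← mem_comap, comap_map_eq, sup_eq_left.mpr hker] at h
    exact hg h
  have hs : f g * f g = 1 := by
    rw [← map_mul, ← pow_two]
    exact (QuotientGroup.eq_one_iff _).mpr hsq
  have hgi : f g * f c * f g = (f c)⁻¹ := by
    have h1 : f (g * c * g⁻¹ * c) = 1 := (QuotientGroup.eq_one_iff _).mpr hinv
    rw [map_mul, map_mul, map_mul, map_inv, inv_eq_of_mul_eq_one_right hs] at h1
    exact eq_inv_of_mul_eq_one_left h1
  haveI : IsCyclic C := inferInstance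
  have key := Cfsg.Agent.Classical.nonempty_dihedral C.subtype C.subtype_injective (f g) hs
    (fun a ha => hnot (ha ▸ a.2)) ?_ ?_
  · rwa [hCc] at key
  · rintro ⟨a, ha⟩
    obtain ⟨i, rfl⟩ := mem_zpowers_iff.mp ha
    have hgi' : f g * f c * (f g)⁻¹ = (f c)⁻¹ := by rw [inv_eq_of_mul_eq_one_right hs]; exact hgi
    show f g * f c ^ i * f g = (f c ^ i)⁻¹
    have := conj_zpow (a := f g) (b := f c) (i := i)
    rw [hgi', inv_eq_of_mul_eq_one_right hs, inv_zpow] at this
    exact this.symm
  · intro x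
    by_cases hx : x ∈ C
    · exact ⟨⟨x, hx⟩, Or.inl rfl⟩
    · refine ⟨⟨x * f g, (mul_mem_iff_of_index_two hCi).mpr
        ⟨fun h => absurd h hx, fun h => absurd h hnot⟩⟩, Or.inr ?_⟩
      show x = x * f g * f g
      rw [mul_assoc, hs, mul_one]

theorem class_of_index_four : ∀ (n : ℕ), 3 ≤ n → ∀ (X : Type u) [Group X] [Finite X],
    Nat.card X = 2 ^ n → (commutator X).index = 4 → Group.nilpotencyClass X = n - 1 := by
  intro n hn
  haveI : Fact (Nat.Prime 2) := ⟨Nat.prime_two⟩
  induction n, hn using Nat.le_induction with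
  | base =>
    intro X _ _ hX h4
    haveI := (IsPGroup.of_card hX).isNilpotent
    have h1 := class_le hX (by norm_num)
    obtain ⟨x, y, hxy⟩ := not_comm_of_index_four le_rfl hX h4
    rcases Nat.lt_or_ge (Group.nilpotencyClass X) 2 with h2 | h2
    · exfalso
      have h3 := Subgroup.lowerCentralSeries_eq_bot_iff_nilpotencyClass_le.mpr
        (show Group.nilpotencyClass X ≤ 1 by omega)
      rw [Subgroup.lowerCentralSeries_succ, eq_bot_iff, commutator_le] at h3
      exact hxy (commutatorElement_eq_one_iff_mul_comm.mp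
        (mem_bot.mp (h3 x (mem_top x) y (mem_top y))))
    · omega
  | succ n hn ih =>
    intro X _ _ hX h4
    haveI := (IsPGroup.of_card hX).isNilpotent
    obtain ⟨c, g, hc, -, hZ, hZD, -, -⟩ := structure_two (by omega) hX h4
    have hZc : Nat.card (center X) = 2 := by
      obtain ⟨m, rfl⟩ : ∃ m, n = m + 1 := ⟨n - 1, by omega⟩
      rw [show m + 1 + 1 - 1 = m + 1 from rfl] at hc
      rw [hZ, show m + 1 + 1 - 2 = m from rfl, Nat.card_zpowers,
        orderOf_pow' _ (pow_ne_zero _ two_ne_zero), hc,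
        Nat.gcd_eq_right (Nat.pow_dvd_pow 2 (Nat.le_succ m)), pow_succ,
        Nat.mul_div_cancel_left _ (pow_pos two_pos m)]
    have hQ : Nat.card (X ⧸ center X) = 2 ^ n := by
      have h1 := (center X).card_mul_index
      rw [hX, hZc, index_eq_card, pow_succ'] at h1
      exact Nat.eq_of_mul_eq_mul_left two_pos h1
    have hQ4 : (commutator (X ⧸ center X)).index = 4 := by
      have e : commutator (X ⧸ center X) = (commutator X).map (QuotientGroup.mk' (center X)) := by
        rw [_root_.commutator_def, _root_.commutator_def, map_commutator,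
          map_top_of_surjective _ (QuotientGroup.mk'_surjective _)]
      rw [e, index_map_eq _ (QuotientGroup.mk'_surjective _) (by rw [QuotientGroup.ker_mk']; exact hZD)]
      exact h4
    have h5 := ih (X ⧸ center X) hQ hQ4
    rw [Group.nilpotencyClass_quotient_center] at h5
    omega

end Cfsg.Agent.Solv.MaxClass
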