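import Cfsg.Agent.Lib.Solv.JTransvection
import Cfsg.Agent.Lib.Solv.ZJ
import Cfsg.Agent.Lib.Solv.Replacement
import Cfsg.Agent.Lib.Local.WeakClosureFunctor
import Cfsg.Agent.Lib.Fusion.ThompsonAbelian

/-!
The abelian Thompson subgroup and weak closure of elements.
-/

set_option autoImplicit false
set_option linter.style.haveILetI false
set_option linter.unusedSectionVars false

namespace Cfsg.Agent.Solv.JWC

open Subgroup
open scoped Pointwise commutatorElement

universe u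

variable {G : Type u} [Group G] [Finite G] {p : ℕ} [Fact p.Prime]

theorem thompsonAOf_eq_jf (Q : Subgroup G) : thompsonSubgroupAOf Q = ZJ.jf 0 Q := by
  apply le_antisymm
  · rw [thompsonSubgroupAOf, map_le_iff_le_comap]
    refine sSup_le fun A hA => map_le_iff_le_comap.mp (le_sSup ?_)
    haveI := hA.1
    refine ⟨map_subtype_le A, ⟨map_isMulCommutative _ _, fun a _ => pow_zero a⟩, fun B hB hBa => ?_⟩
    haveI := hBa.1
    rw [card_map_subtype, ← card_subgroupOf hB]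
    exact hA.2 _ (subgroupOf_isMulCommutative _ _)
  · refine sSup_le fun A hA => ?_
    rw [← map_subgroupOf_eq_of_le hA.1]
    refine map_mono (le_sSup ⟨?_, fun B hB => ?_⟩)
    · haveI := hA.2.1.1; exact subgroupOf_isMulCommutative _ _
    · rw [card_subgroupOf hA.1, ← card_map_subtype Q B]
      haveI := hB
      exact hA.2.2 _ (map_subtype_le B) ⟨map_isMulCommutative _ _, fun a _ => pow_zero a⟩

theorem adm_sup {A B : Subgroup G} (hA : IsMulCommutative A) (hB : IsMulCommutative B)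
    (h : ∀ a ∈ A, ∀ b ∈ B, a * b = b * a) : ZJ.Adm 0 (A ⊔ B) := by
  have hcl : A ⊔ B = Subgroup.closure ((A : Set G) ∪ B) := by
    rw [Subgroup.closure_union, Subgroup.closure_eq, Subgroup.closure_eq]
  refine ⟨hcl ▸ isMulCommutative_closure (by
    rintro u (hu | hu) v (hv | hv)
    · exact congrArg Subtype.val (hA.is_comm.comm (⟨u, hu⟩ : A) ⟨v, hv⟩)
    · exact h u hu v hv
    · exact (h v hv u hu).symm
    · exact congrArg Subtype.val (hB.is_comm.comm (⟨u, hu⟩ : B) ⟨v, hv⟩)), fun a _ => pow_zero a⟩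

theorem mem_of_comm {Q A : Subgroup G} (hA : A ∈ ZJ.fam 0 Q) {x : G} (hx : x ∈ Q)
    (h : ∀ a ∈ A, a * x = x * a) : x ∈ A := by
  have heq := eq_of_le_of_card_ge (le_sup_left : A ≤ A ⊔ zpowers x)
    (hA.2.2 _ (sup_le hA.1 (zpowers_le.mpr hx)) (adm_sup hA.2.1.1 inferInstance fun a ha b hb => by
      obtain ⟨i, rfl⟩ := hb
      exact ((show Commute a x from h a ha).zpow_right i).eq))
  rw [heq]
  exact mem_sup_right (mem_zpowers x)

theorem isConjugacyFunctor_thompsonAOf : IsConjugacyFunctor (G := G) p thompsonSubgroupAOf := by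
  intro P _
  refine ⟨map_subtype_le _, fun h => Fusion.ThompsonA.thompsonA_ne_bot P h, fun g => ?_⟩
  rw [Fusion.ThompsonA.thompsonAOf_map _ P (by
    rw [(MonoidHom.ker_eq_bot_iff _).mpr (MulAut.conj g).injective, inf_bot_eq])]

theorem center_le_thompsonAOf (P : Subgroup G) : P ⊓ centralizer (P : Set G) ≤ thompsonSubgroupAOf P := by
  rintro x ⟨hx, hxc⟩
  obtain ⟨A, hA⟩ := ZJ.exists_fam 0 P
  rw [thompsonAOf_eq_jf]
  exact le_sSup hA (mem_of_comm hA hx fun a ha => mem_centralizer_iff.mp hxc a (hA.1 ha))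

/-- A member outside the core of largest intersection with `V` is normalized by `V`. -/
theorem exists_member (T Q V : Subgroup G) (hTp : IsPGroup p T) [V.Normal] (hVQ : V ≤ Q) (hQT : Q ≤ T)
    (hQV : V ≤ centralizer (Q : Set G)) (hex : ∃ A ∈ ZJ.fam 0 T, ¬ A ≤ Q) :
    ∃ A ∈ ZJ.fam 0 T, ¬ A ≤ Q ∧ V ≤ normalizer (A : Set G) ∧
      ∀ B ∈ ZJ.fam 0 T, ¬ B ≤ Q → Nat.card ↥(B ⊓ V) ≤ Nat.card ↥(A ⊓ V) := by
  obtain ⟨A, ⟨hA, hAQ⟩, hmax⟩ := Set.exists_max_image {A | A ∈ ZJ.fam 0 T ∧ ¬ A ≤ Q}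
    (fun A => Nat.card ↥(A ⊓ V)) (Set.toFinite _) (by obtain ⟨A, h1, h2⟩ := hex; exact ⟨A, h1, h2⟩)
  refine ⟨A, hA, hAQ, ?_, fun B h1 h2 => hmax B ⟨h1, h2⟩⟩
  have hVT : V ≤ T := hVQ.trans hQT
  have hVc : ∀ u ∈ V, ∀ v ∈ V, u * v = v * u := fun u hu v hv =>
    mem_centralizer_iff.mp (hQV hv) u (hVQ hu)
  by_contra hnot
  set A₀ := A.subgroupOf T
  set V₀ := V.subgroupOf T
  have hVc₀ : IsMulCommutative V₀ := ⟨⟨fun u v => Subtype.ext (Subtype.ext (hVc _ u.2 _ v.2))⟩⟩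
  have hVV : ⁅V₀, V₀⁆ ≤ A₀ := commutator_le.mpr fun u hu v hv => by
    rw [commutatorElement_eq_one_iff_mul_comm.mpr (Subtype.ext (hVc _ hu _ hv))]; exact one_mem _
  have hA₀c : IsMulCommutative A₀ := by haveI := hA.2.1.1; exact subgroupOf_isMulCommutative _ _
  obtain ⟨b, hb, hbN, hbA⟩ := Repl.exists_normalizer_step hTp V₀ A₀ (fun h => hnot fun y hy => by
    have h1 := h (show (⟨y, hVT hy⟩ : T) ∈ V₀ from hy)
    rw [mem_normalizer_iff] at h1 ⊢
    intro x
    constructor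
    · intro hx
      exact (h1 ⟨x, hA.1 hx⟩).mp hx
    · intro hx
      have hxT : x ∈ T := by
        have := mul_mem (mul_mem (inv_mem (hVT hy)) (hA.1 hx)) (hVT hy)
        simpa [mul_assoc] using this
      exact (h1 ⟨x, hxT⟩).mpr hx)
  obtain ⟨h1, h2, -, h4, -, -, h7, -, -, -⟩ :=
    Repl.star_spec hTp V₀ (fun _ => hVc₀) A₀ hA₀c hVV b hb hbN hbA
  set S₀ := Repl.star A₀ b
  set A₂ := S₀.map T.subtype with hA₂
  have hfam : A₂ ∈ ZJ.fam 0 T := by
    refine ⟨map_subtype_le _, ⟨?_, fun a _ => pow_zero a⟩, fun C hC hCa => ?_⟩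
    · haveI := h2; exact map_isMulCommutative _ _
    · rw [hA₂, card_map_subtype, h1, card_subgroupOf hA.1]
      exact hA.2.2 C hC hCa
  have hlt : Nat.card ↥(A ⊓ V) < Nat.card ↥(A₂ ⊓ V) := by
    have h3 : A₂ ⊓ V = (S₀ ⊓ V₀).map T.subtype := by
      rw [map_inf_eq _ _ _ T.subtype_injective, map_subgroupOf_eq_of_le hVT]
    rw [h3, card_map_subtype, ← card_subgroupOf (inf_le_left.trans hA.1 : A ⊓ V ≤ T)]
    exact lt_of_le_of_ne (card_le_of_le h4.le) fun h => h4.ne (eq_of_le_of_card_ge h4.le h.ge)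
  have hA₂Q : A₂ ≤ Q := by
    by_contra h
    exact absurd (hmax A₂ ⟨hfam, h⟩) (not_le.mpr hlt)
  have hVA₂ : V ≤ A₂ := fun v hv => mem_of_comm hfam (hVT hv) fun a ha =>
    mem_centralizer_iff.mp (hQV hv) a (hA₂Q ha)
  refine hnot fun y hy => ?_
  obtain ⟨y', hy', rfl⟩ := hVA₂ hy
  have h6 := h7 hy'
  rw [mem_normalizer_iff] at h6 ⊢
  intro x
  constructor
  · intro hx
    exact (h6 ⟨x, hA.1 hx⟩).mp hx
  · intro hx
    have hxT : x ∈ T := by
      have := mul_mem (mul_mem (inv_mem y'.2) (hA.1 hx)) y'.2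
      simpa [mul_assoc] using this
    exact (h6 ⟨x, hxT⟩).mpr hx

/-- When `J(T)` is not normal some member leaves the core. -/
theorem exists_outside {H T : Subgroup G} (hTH : T ≤ H) (hTp : IsPGroup p T) (hidx : ¬ p ∣ T.relIndex H)
    (hn : ¬ H ≤ normalizer (thompsonSubgroupAOf T : Set G)) :
    ∃ A ∈ ZJ.fam 0 T, ¬ A ≤ pCoreOf p H := by
  by_contra hall
  push Not at hall
  refine hn ?_
  have hQH : H ≤ normalizer (pCoreOf p H : Set G) := by
    intro h hh
    rw [mem_normalizer_iff_map_conj_eq]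
    refine eq_of_le_of_card_ge ?_ (card_map_of_injective (MulAut.conj h).injective).ge
    rintro _ ⟨_, ⟨q, hq, rfl⟩, rfl⟩
    refine ⟨⟨h, hh⟩ * q * ⟨h, hh⟩⁻¹, ?_, rfl⟩
    haveI : (pCore p H).Normal := inferInstance
    exact this.conj_mem q hq _
  have hQT : pCoreOf p H ≤ T := by
    rintro _ ⟨q, hq, rfl⟩
    exact pCore_le_sylow (P := (hTp.comap_subtype).toSylow hidx) hq
  obtain ⟨A, hA⟩ := ZJ.exists_fam 0 T
  have hfe := ZJ.fam_eq_of_le hQT hA (hall A hA)
  have hJ : thompsonSubgroupAOf T = thompsonSubgroupAOf (pCoreOf p H) := by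
    rw [thompsonAOf_eq_jf, thompsonAOf_eq_jf, ZJ.jf, ZJ.jf, hfe]
    exact le_antisymm (sSup_le fun X hX => le_sSup ⟨hX, hall X hX⟩) (sSup_le fun X hX => le_sSup hX.1)
  rw [hJ]
  exact hQH.trans (Local.FusionRed.normalizer_le_normalizer_functor isConjugacyFunctor_thompsonAOf
    ((isPGroup_pCore p H).map _))

/-- A quadratic element outside the core. -/
theorem exists_quadratic {H T : Subgroup G} (hTH : T ≤ H) (hTp : IsPGroup p T) (hidx : ¬ p ∣ T.relIndex H)
    (hn : ¬ H ≤ normalizer (thompsonSubgroupAOf T : Set G)) :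
    ∃ g : G, g ∈ T ∧ g ∉ pCoreOf p H ∧
      ⁅⁅pCoreOf p H ⊓ centralizer (pCoreOf p H : Set G), zpowers g⁆, zpowers g⁆ = ⊥ := by
  obtain ⟨A₀, hA₀, hA₀Q⟩ := exists_outside hTH hTp hidx hn
  have hA₀T : A₀ ≤ T := hA₀.1
  set R : Sylow p H := (hTp.comap_subtype).toSylow hidx
  set Q := pCore p H with hQ
  haveI : Q.Normal := inferInstance
  set V := Q ⊓ centralizer (Q : Set H) with hV
  haveI : V.Normal := inferInstance
  have hAfam : A₀.subgroupOf H ∈ ZJ.fam 0 (T.subgroupOf H) := by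
    refine ⟨comap_mono hA₀.1, ⟨?_, fun a _ => pow_zero a⟩, fun B hB hBa => ?_⟩
    · haveI := hA₀.2.1.1; exact subgroupOf_isMulCommutative _ _
    · rw [card_subgroupOf (hA₀T.trans hTH), ← card_map_subtype H B]
      haveI := hBa.1
      exact hA₀.2.2 _ (by rintro _ ⟨b, hb, rfl⟩; exact hB hb) ⟨map_isMulCommutative _ _, fun a _ => pow_zero a⟩
  obtain ⟨A, hA, hAQ, hVA, -⟩ := exists_member (p := p) (T.subgroupOf H) Q V
    hTp.comap_subtype inf_le_left (pCore_le_sylow (P := R)) inf_le_right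
    ⟨_, hAfam, fun h => hA₀Q fun a ha => ⟨⟨a, hTH (hA₀T ha)⟩, h (show (⟨a, hTH (hA₀T ha)⟩ : H) ∈ A₀.subgroupOf H from ha), rfl⟩⟩
  obtain ⟨g, hg, hgQ⟩ := SetLike.not_le_iff_exists.mp hAQ
  refine ⟨g, hA.1 hg, fun h => hgQ ?_, ?_⟩
  · obtain ⟨y, hy, hye⟩ := h
    rwa [show g = y from Subtype.ext hye.symm]
  have hq : ⁅⁅V, A⁆, A⁆ = ⊥ := by
    refine commutator_eq_bot_iff_le_centralizer.mpr ((commutator_le.mpr ?_ : ⁅V, A⁆ ≤ A).trans
      fun y hy => mem_centralizer_iff.mpr fun w hw => hA.2.1.comm hw hy)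
    intro y hy w hw
    rw [commutatorElement_def]
    exact mul_mem ((mem_normalizer_iff.mp (hVA hy) w).mp hw) (inv_mem hw)
  have hle : pCoreOf p H ⊓ centralizer (pCoreOf p H : Set G) ≤ V.map H.subtype := by
    rintro _ ⟨⟨y, hy, rfl⟩, hc⟩
    refine ⟨y, ⟨hy, mem_centralizer_iff.mpr fun z hz => Subtype.ext ?_⟩, rfl⟩
    exact mem_centralizer_iff.mp hc _ ⟨z, hz, rfl⟩
  have hz : zpowers (g : G) ≤ A.map H.subtype := zpowers_le.mpr ⟨g, hg, rfl⟩
  refine le_bot_iff.mp ((commutator_mono (commutator_mono hle hz) hz).trans ?_)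
  rw [← map_commutator, ← map_commutator, hq, Subgroup.map_bot]

/-- Orbit products of square-trivial values cancel. -/
theorem prod_moved {Y : Type*} [Group Y] [Finite Y] {Ω : Type*} [MulAction Y Ω] [Finite Ω] {V : Type*}
    [CommGroup V] (ρ : Y →* MulAut V) (f : Ω → V) (h2 : ∀ c, f c * f c = 1) (𝔄 : Set (Subgroup Y))
    (hprop : ∀ A ∈ 𝔄, ∀ B ≤ A, B.relIndex A = 2 → ∀ w : V, w * w = 1 → (∀ b ∈ B, ρ b w = w) →
      ∀ a ∈ A, ρ a w = w) :
    ∀ (n : ℕ) (L : Subgroup Y), Nat.card L ≤ n → IsPGroup 2 L → (∀ l ∈ L, ∀ c, f (l • c) = ρ l (f c)) →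
      ∀ D : Finset Ω, (∀ l ∈ L, ∀ c ∈ D, l • c ∈ D) →
      (∀ c ∈ D, ∃ A ∈ 𝔄, A ≤ L ∧ ∃ a ∈ A, a • c ≠ c) → ∏ c ∈ D, f c = 1 := by
  classical
  haveI : Fact (Nat.Prime 2) := ⟨Nat.prime_two⟩
  intro n
  induction n with
  | zero => intro L hL; exact absurd (Nat.card_pos (α := L)) (by omega)
  | succ n ih =>
    intro L hLn hLp hf D
    induction hD : D.card using Nat.strong_induction_on generalizing D with
    | _ m ihD =>
    intro hinvD hmv
    rcases D.eq_empty_or_nonempty with rfl | ⟨c, hc⟩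
    · simp
    let O : Finset Ω := D.filter (fun d => ∃ l ∈ L, l • c = d)
    have hOinv : ∀ l ∈ L, ∀ d ∈ O, l • d ∈ O := by
      intro l hl d hd
      obtain ⟨hdD, l', hl', rfl⟩ := Finset.mem_filter.1 hd
      exact Finset.mem_filter.2 ⟨hinvD l hl _ hdD, l * l', mul_mem hl hl', mul_smul l l' c⟩
    have hrest : ∏ d ∈ D \ O, f d = 1 := by
      refine ihD _ ?_ _ rfl (fun l hl d hd => ?_) fun d hd => hmv d (Finset.mem_sdiff.1 hd).1
      · rw [← hD]
        refine Finset.card_lt_card ⟨Finset.sdiff_subset, fun h => ?_⟩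
        exact (Finset.mem_sdiff.1 (h hc)).2 (Finset.mem_filter.2 ⟨hc, 1, one_mem L, one_smul Y c⟩)
      · obtain ⟨hdD, hdO⟩ := Finset.mem_sdiff.1 hd
        refine Finset.mem_sdiff.2 ⟨hinvD l hl d hdD, fun h => hdO ?_⟩
        have := hOinv l⁻¹ (inv_mem hl) _ h
        rwa [inv_smul_smul] at this
    rw [← Finset.prod_sdiff (Finset.filter_subset _ D : O ⊆ D), hrest, one_mul]
    haveI : Group.IsNilpotent L := hLp.isNilpotent
    let L₀ : Subgroup L := MulAction.stabilizer L c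
    have hL₀ : L₀ ≠ ⊤ := by
      intro h
      obtain ⟨A, -, hAL, a, ha, hac⟩ := hmv c hc
      exact hac (h.ge (mem_top (⟨a, hAL ha⟩ : L)))
    obtain ⟨L₁, hL₁, hle⟩ := ((eq_top_or_exists_le_coatom L₀).resolve_left hL₀)
    haveI : L₁.Normal := Group.normalizerCondition_of_isNilpotent.normal_of_coatom L₁ hL₁
    have hidx : L₁.index = 2 := by
      obtain ⟨k, hk⟩ := (hLp.to_quotient L₁).exists_card_eq
      rw [index_eq_card]
      rcases k with _ | k
      · exfalso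
        rw [pow_zero, ← index_eq_card, index_eq_one] at hk
        exact hL₁.1 hk
      obtain ⟨M, hM⟩ := Sylow.exists_subgroup_card_pow_prime 2 (n := 1)
        (by rw [hk, pow_one]; exact dvd_pow_self 2 (Nat.succ_ne_zero k))
      have hcm : L₁ < M.comap (QuotientGroup.mk' L₁) := by
        refine lt_of_le_of_ne (fun l hl => ?_) fun e => ?_
        · show QuotientGroup.mk' L₁ l ∈ M
          rw [show QuotientGroup.mk' L₁ l = 1 from (QuotientGroup.eq_one_iff l).2 hl]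
          exact one_mem M
        · have : M = ⊥ := by
            rw [← map_comap_eq_self_of_surjective (QuotientGroup.mk'_surjective L₁) M, ← e,
              Subgroup.map_eq_bot_iff, QuotientGroup.ker_mk']
          rw [this, card_bot, pow_one] at hM
          omega
      have hMtop : M = ⊤ := by
        rw [← map_comap_eq_self_of_surjective (QuotientGroup.mk'_surjective L₁) M, hL₁.2 _ hcm,
          map_top_of_surjective _ (QuotientGroup.mk'_surjective L₁)]
      rw [hMtop, card_top, pow_one] at hM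
      exact hM
    set L₁' := L₁.map L.subtype with hL₁'
    by_cases hcase : ∀ A ∈ 𝔄, A ≤ L → A ≤ L₁'
    · refine ih L₁' ?_ ((hLp.to_subgroup L₁).map _) (fun l hl => hf l (map_subtype_le _ hl)) O ?_ ?_
      · rw [hL₁', card_map_subtype]
        have h1 := L₁.card_mul_index
        rw [hidx] at h1
        have := Nat.card_pos (α := L₁)
        omega
      · exact fun l hl d hd => hOinv l (map_subtype_le _ hl) d hd
      · intro d hd
        obtain ⟨A, hA, hAL, h⟩ := hmv d (Finset.mem_filter.1 hd).1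
        exact ⟨A, hA, hcase A hA hAL, h⟩
    push Not at hcase
    obtain ⟨A, hA, hAL, hAL₁⟩ := hcase
    obtain ⟨v, hv, hvL₁⟩ := SetLike.not_le_iff_exists.mp hAL₁
    have hvL : v ∈ L := hAL hv
    have hmemL₁ : ∀ y : L, (y : Y) ∈ L₁' ↔ y ∈ L₁ := fun y =>
      ⟨fun ⟨z, hz, hze⟩ => (Subtype.ext hze : z = y) ▸ hz, fun h => ⟨y, h, rfl⟩⟩
    let O₁ : Finset Ω := O.filter (fun d => ∃ l ∈ L₁, (l : Y) • c = d)
    set S := ∏ d ∈ O₁, f d with hS
    have hfix : ∀ l ∈ L₁, ρ (l : Y) S = S := by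
      intro l hl
      rw [hS, map_prod]
      refine Finset.prod_nbij' (fun d => (l : Y) • d) (fun d => (l : Y)⁻¹ • d) ?_ ?_
        (fun d _ => inv_smul_smul _ d) (fun d _ => smul_inv_smul _ d) fun d _ => (hf l l.2 d).symm
      · intro d hd
        obtain ⟨hdO, l', hl', rfl⟩ := Finset.mem_filter.1 hd
        exact Finset.mem_filter.2 ⟨hOinv l l.2 _ hdO, l * l', mul_mem hl hl', mul_smul _ _ c⟩
      · intro d hd
        obtain ⟨hdO, l', hl', rfl⟩ := Finset.mem_filter.1 hd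
        refine Finset.mem_filter.2 ⟨hOinv _ (inv_mem l.2) _ hdO, l⁻¹ * l', mul_mem (inv_mem hl) hl', ?_⟩
        rw [coe_mul, coe_inv, mul_smul]
    have hS2 : S * S = 1 := by
      rw [hS, ← Finset.prod_mul_distrib]
      exact Finset.prod_eq_one fun d _ => h2 d
    have hrel : (A ⊓ L₁').relIndex A = 2 := by
      rw [inf_relIndex_left, relIndex, index_eq_two_iff]
      refine ⟨⟨v, hv⟩, fun b => ?_⟩
      simp only [mem_subgroupOf, coe_mul]
      have h1 := Subgroup.mul_mem_iff_of_index_two hidx (a := (⟨b, hAL b.2⟩ : L)) (b := ⟨v, hvL⟩)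
      rw [← hmemL₁, ← hmemL₁, ← hmemL₁] at h1
      simp only [coe_mul, hvL₁, iff_false] at h1
      rw [xor_iff_iff_not]
      tauto
    have hvS : ρ v S = S := hprop A hA (A ⊓ L₁') inf_le_left hrel S hS2 (fun b hb => by
      obtain ⟨l, hl, rfl⟩ := hb.2
      exact hfix l hl) v hv
    have hsplit : O = O₁ ∪ O₁.image (fun d => v • d) := by
      ext d
      constructor
      · intro hd
        obtain ⟨-, l, hl, rfl⟩ := Finset.mem_filter.1 hd
        by_cases hl1 : (⟨l, hl⟩ : L) ∈ L₁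
        · exact Finset.mem_union_left _ (Finset.mem_filter.2 ⟨hd, ⟨l, hl⟩, hl1, rfl⟩)
        · refine Finset.mem_union_right _ (Finset.mem_image.2 ⟨v⁻¹ • (l • c), Finset.mem_filter.2
            ⟨hOinv _ (inv_mem hvL) _ hd, (⟨v, hvL⟩ : L)⁻¹ * ⟨l, hl⟩, ?_, ?_⟩, smul_inv_smul v _⟩)
          · rw [Subgroup.mul_mem_iff_of_index_two hidx, inv_mem_iff]
            exact iff_of_false (fun h => hvL₁ ⟨_, h, rfl⟩) hl1
          · rw [coe_mul, coe_inv, mul_smul]
      · intro hd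
        rcases Finset.mem_union.1 hd with h | h
        · exact (Finset.mem_filter.1 h).1
        · obtain ⟨e, he, rfl⟩ := Finset.mem_image.1 h
          exact hOinv v hvL e (Finset.mem_filter.1 he).1
    have hdisj : Disjoint O₁ (O₁.image (fun d => v • d)) := by
      rw [Finset.disjoint_left]
      intro d hd hd'
      obtain ⟨-, l, hl, rfl⟩ := Finset.mem_filter.1 hd
      obtain ⟨e, he, hee⟩ := Finset.mem_image.1 hd'
      obtain ⟨-, l', hl', rfl⟩ := Finset.mem_filter.1 he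
      have h1 : l⁻¹ * (⟨v, hvL⟩ * l') ∈ L₀ := by
        show (((l⁻¹ * (⟨v, hvL⟩ * l') : L) : Y)) • c = c
        rw [coe_mul, coe_inv, coe_mul, mul_smul, mul_smul, hee, inv_smul_smul]
      have h2' := hle h1
      rw [L₁.mul_mem_cancel_left (inv_mem hl), L₁.mul_mem_cancel_right hl'] at h2'
      exact hvL₁ ⟨_, h2', rfl⟩
    show ∏ d ∈ O, f d = 1
    rw [hsplit, Finset.prod_union hdisj, Finset.prod_image fun a _ b _ h => smul_left_cancel v h,
      Finset.prod_congr rfl fun d _ => hf v hvL d, ← map_prod, ← hS, hvS, hS2]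

/-- An element fixed by the proper overgroups of a Sylow `2`-subgroup is central, without `S₄`. -/
theorem fixed_of_free {Y : Type u} [Group Y] [Finite Y] (hfree : ¬ Involves (Equiv.Perm (Fin 4)) Y)
    (R : Sylow 2 Y) (hex : ∃ A ∈ ZJ.fam 0 (R : Subgroup Y), ¬ A ≤ pCore 2 Y) :
    ∀ (k : ℕ) (x : Y), x ^ 2 ^ k = 1 → x ∈ pCore 2 Y → x ∈ centralizer (pCore 2 Y : Set Y) →
      (∀ H : Subgroup Y, (R : Subgroup Y) ≤ H → H ≠ ⊤ → ∀ h ∈ H, h * x * h⁻¹ = x) →
      ∀ y : Y, y * x * y⁻¹ = x := by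
  classical
  haveI : Fact (Nat.Prime 2) := ⟨Nat.prime_two⟩
  intro k
  induction k with
  | zero => intro x hx _ _ _ y; simp at hx; subst hx; group
  | succ k ih =>
  intro x hxk hxQ hxC hx
  set Q := pCore 2 Y with hQ
  haveI hQn : Q.Normal := inferInstance
  set V := Q ⊓ centralizer (Q : Set Y) with hV
  haveI hVn : V.Normal := inferInstance
  have hxV : x ∈ V := ⟨hxQ, hxC⟩
  have hVc : ∀ u ∈ V, ∀ v ∈ V, u * v = v * u := fun u hu v hv => mem_centralizer_iff.mp hv.2 u hu.1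
  obtain ⟨A₀, hA₀, hA₀Q, -, hmax⟩ := exists_member (p := 2) (R : Subgroup Y) Q V R.isPGroup'
    inf_le_left (pCore_le_sylow R) inf_le_right hex
  have hRne : (R : Subgroup Y) ≠ ⊤ := fun h => hA₀Q fun a _ => by
    haveI : (R : Subgroup Y).Normal := h ▸ inferInstance
    exact le_pCore R.isPGroup' (h ▸ mem_top a)
  have hRfix : ∀ r ∈ (R : Subgroup Y), r * x * r⁻¹ = x := hx _ le_rfl hRne
  by_cases hbad : ∃ B ≤ A₀, B.relIndex A₀ = 2 ∧ ∃ w ∈ V, w * w = 1 ∧ (∀ b ∈ B, b * w * b⁻¹ = w) ∧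
      ∃ a ∈ A₀, a * w * a⁻¹ ≠ w
  · -- a transvection
    obtain ⟨B, hBA, hrel, w, hw, hw2, hBw, a, ha, haw⟩ := hbad
    have hidx2 : (B.subgroupOf A₀).index = 2 := hrel
    have hcomA : ∀ s ∈ A₀, ∀ t ∈ A₀, s * t = t * s := fun s hs t ht => hA₀.2.1.comm hs ht
    have haB : a ∉ B := fun h => haw (hBw a h)
    have hBV : A₀ ⊓ V ≤ B := by
      rintro s ⟨hs, hsV⟩
      by_contra hsB
      apply haw
      have h1 := (Subgroup.mul_mem_iff_of_index_two hidx2 (a := (⟨a, ha⟩ : A₀)) (b := ⟨s, hs⟩)).mpr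
        (iff_of_false haB hsB)
      have h2 := hBw (a * s) h1
      have h3 : s * w * s⁻¹ = w := by rw [hVc s hsV w hw, mul_inv_cancel_right]
      calc a * w * a⁻¹ = a * (s * w * s⁻¹) * a⁻¹ := by rw [h3]
        _ = a * s * w * (a * s)⁻¹ := by group
        _ = w := h2
    set Vb := V ⊓ centralizer (B : Set Y) with hVb
    have hwVb : w ∈ Vb := ⟨hw, mem_centralizer_iff.mpr fun b hb => mul_inv_eq_iff_eq_mul.mp (hBw b hb)⟩
    haveI : IsMulCommutative Vb := ⟨⟨fun u v => Subtype.ext (hVc _ u.2.1 _ v.2.1)⟩⟩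
    haveI : IsMulCommutative B := ⟨⟨fun u v => Subtype.ext (hcomA _ (hBA u.2) _ (hBA v.2))⟩⟩
    have hadm : ZJ.Adm 0 (B ⊔ Vb) := adm_sup inferInstance inferInstance fun b hb v hv =>
      mem_centralizer_iff.mp hv.2 b hb
    have hBR : B ⊔ Vb ≤ (R : Subgroup Y) := sup_le (hBA.trans hA₀.1)
      ((inf_le_left.trans inf_le_left).trans (pCore_le_sylow R))
    have hint : B ⊓ Vb = A₀ ⊓ V := le_antisymm (inf_le_inf hBA inf_le_left)
      (le_inf hBV fun s hs => ⟨hs.2, mem_centralizer_iff.mpr fun b hb => hcomA b (hBA hb) s hs.1⟩)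
    have hwA : w ∉ A₀ := fun h => haw (by rw [hcomA a ha w h, mul_inv_cancel_right])
    have hlt : 2 * Nat.card ↥(A₀ ⊓ V) ≤ Nat.card Vb := by
      rw [← hint]
      have h1 := ((B ⊓ Vb).subgroupOf Vb).card_mul_index
      rw [card_subgroupOf inf_le_right] at h1
      have h2 : ((B ⊓ Vb).subgroupOf Vb).index ≠ 1 := fun e => hwA <| by
        rw [index_eq_one, subgroupOf_eq_top] at e
        exact hBA (e hwVb).1
      have h3 : ((B ⊓ Vb).subgroupOf Vb).index ≠ 0 := index_ne_zero_of_finite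
      rw [← h1, mul_comm 2]
      exact Nat.mul_le_mul_left _ (by omega)
    have hcard := card_sup_mul_card_inf B Vb (fun v hv => by
      rw [mem_normalizer_iff_map_conj_eq]
      refine eq_of_le_of_card_ge ?_ (card_map_of_injective (MulAut.conj v).injective).ge
      rintro _ ⟨b, hb, rfl⟩
      change v * b * v⁻¹ ∈ B
      rw [← mem_centralizer_iff.mp hv.2 b hb, mul_inv_cancel_right]
      exact hb)
    rw [hint] at hcard
    have hA0B : Nat.card A₀ = 2 * Nat.card B := by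
      have h1 := (B.subgroupOf A₀).card_mul_index
      rw [hidx2, card_subgroupOf hBA] at h1
      omega
    have hle1 : Nat.card ↥(B ⊔ Vb) ≤ Nat.card A₀ := hA₀.2.2 _ hBR hadm
    have hVbeq : Nat.card Vb ≤ 2 * Nat.card ↥(A₀ ⊓ V) := by
      have := Nat.mul_le_mul_right (Nat.card ↥(A₀ ⊓ V)) hle1
      rw [hcard, hA0B] at this
      have hB0 : 0 < Nat.card B := Nat.card_pos
      nlinarith
    have hge : Nat.card A₀ ≤ Nat.card ↥(B ⊔ Vb) := by
      have hI : 0 < Nat.card ↥(A₀ ⊓ V) := Nat.card_pos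
      refine le_of_mul_le_mul_right ?_ hI
      rw [hcard, hA0B, mul_comm 2, mul_assoc]
      exact Nat.mul_le_mul_left _ hlt
    have hfam : B ⊔ Vb ∈ ZJ.fam 0 (R : Subgroup Y) :=
      ⟨hBR, hadm, fun C hC hCa => (hA₀.2.2 C hC hCa).trans hge⟩
    have hBQ : B ≤ Q := by
      by_contra h
      have h1 := hmax _ hfam fun h' => h (le_sup_left.trans h')
      have h2 : Nat.card Vb ≤ Nat.card ↥((B ⊔ Vb) ⊓ V) :=
        card_le_of_le (le_inf le_sup_right inf_le_left)
      have hI : 0 < Nat.card ↥(A₀ ⊓ V) := Nat.card_pos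
      omega
    have hVbV : Vb = V := le_antisymm inf_le_left fun v hv =>
      ⟨hv, mem_centralizer_iff.mpr fun b hb => mem_centralizer_iff.mp hv.2 b (hBQ hb)⟩
    rw [hVbV] at hVbeq hlt
    have hidxV : ((A₀ ⊓ V).subgroupOf V).index = 2 := by
      have h1 := ((A₀ ⊓ V).subgroupOf V).card_mul_index
      rw [card_subgroupOf inf_le_right] at h1
      have hI : 0 < Nat.card ↥(A₀ ⊓ V) := Nat.card_pos
      refine Nat.eq_of_mul_eq_mul_left hI ?_
      rw [h1]; omega
    have haa : a * a ∈ B := (Subgroup.mul_mem_iff_of_index_two hidx2 (a := (⟨a, ha⟩ : A₀)) (b := ⟨a, ha⟩)).mpr Iff.rfl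
    set α := w⁻¹ * (a * w * a⁻¹) with hα
    have hawV : a * w * a⁻¹ ∈ V := hVn.conj_mem w hw a
    have hαV : α ∈ V := V.mul_mem (V.inv_mem hw) hawV
    have hα2 : α * α = 1 := by
      have h1 : (a * w * a⁻¹) * (a * w * a⁻¹) = 1 := by
        rw [show (a * w * a⁻¹) * (a * w * a⁻¹) = a * (w * w) * a⁻¹ by group, hw2]; group
      have h2 : a * w * a⁻¹ * w⁻¹ = w⁻¹ * (a * w * a⁻¹) := hVc _ hawV _ (V.inv_mem hw)
      rw [hα, show w⁻¹ * (a * w * a⁻¹) * (w⁻¹ * (a * w * a⁻¹)) =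
        w⁻¹ * ((a * w * a⁻¹) * w⁻¹) * (a * w * a⁻¹) by group, h2,
        show w⁻¹ * (w⁻¹ * (a * w * a⁻¹)) * (a * w * a⁻¹) = (w * w)⁻¹ * ((a * w * a⁻¹) * (a * w * a⁻¹)) by group,
        h1, hw2, inv_one, one_mul]
    have hmoves : Moves V a α := by
      refine ⟨hαV, hα2, ?_, fun v hv => ?_⟩
      · have h1 : a * (a * w * a⁻¹) * a⁻¹ = w := by
          rw [show a * (a * w * a⁻¹) * a⁻¹ = (a * a) * w * (a * a)⁻¹ by group]
          exact hBw _ haa
        calc a * α * a⁻¹ = (a * w * a⁻¹)⁻¹ * (a * (a * w * a⁻¹) * a⁻¹) := by rw [hα]; group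
          _ = (a * w * a⁻¹)⁻¹ * w := by rw [h1]
          _ = α⁻¹ := by rw [hα]; group
          _ = α := inv_eq_of_mul_eq_one_right hα2
      · by_cases hvA : v ∈ A₀
        · left; rw [hcomA a ha v hvA, mul_inv_cancel_right]
        · right
          have hmem := (Subgroup.mul_mem_iff_of_index_two hidxV (a := (⟨w, hw⟩ : V)⁻¹) (b := ⟨v, hv⟩)).mpr
            (iff_of_false (fun h => hwA (by simpa using A₀.inv_mem h.1))
              (fun h => hvA h.1))
          have hs : w⁻¹ * v ∈ A₀ := hmem.1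
          have h1 : a * (w⁻¹ * v) * a⁻¹ = w⁻¹ * v := by rw [hcomA a ha _ hs, mul_inv_cancel_right]
          calc a * v * a⁻¹ = (a * w * a⁻¹) * (a * (w⁻¹ * v) * a⁻¹) := by group
            _ = (a * w * a⁻¹) * (w⁻¹ * v) := by rw [h1]
            _ = (w⁻¹ * (a * w * a⁻¹)) * v := by rw [← mul_assoc, hVc _ hawV _ (V.inv_mem hw)]
            _ = v * α := hVc _ hαV _ hv
    have hpc := mem_pCore_of_moves hfree V hVc hmoves
    set C := centralizer (V : Set Y) with hC
    haveI hCn : C.Normal := inferInstance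
    set N := (pCore 2 (Y ⧸ C)).comap (QuotientGroup.mk' C) with hN
    haveI : N.Normal := inferInstance
    have haQ : a ∉ Q := fun h => haw (by
      rw [mem_centralizer_iff.mp hw.2 a h, mul_inv_cancel_right])
    have haN : a ∈ (R : Subgroup Y) ⊓ N := ⟨hA₀.1 ha, hpc⟩
    have hRn : (R : Subgroup Y) ≤ normalizer (((R : Subgroup Y) ⊓ N : Subgroup Y) : Set Y) :=
      le_normalizer_inf le_normalizer le_normalizer_of_normal
    have hne : normalizer (((R : Subgroup Y) ⊓ N : Subgroup Y) : Set Y) ≠ ⊤ := fun h => by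
      haveI := normalizer_eq_top_iff.mp h
      exact haQ (le_pCore (R.isPGroup'.to_le inf_le_left) haN)
    have hNx : ∀ n ∈ N, n * x * n⁻¹ = x := by
      intro n hn
      obtain ⟨t, ht, htn⟩ := pCore_le_sylow (R.mapSurjective (QuotientGroup.mk'_surjective C)) hn
      have hc : t⁻¹ * n ∈ C := QuotientGroup.eq.mp htn
      have h1 : (t⁻¹ * n) * x * (t⁻¹ * n)⁻¹ = x := by
        rw [← mem_centralizer_iff.mp hc x hxV, mul_inv_cancel_right]
      calc n * x * n⁻¹ = t * ((t⁻¹ * n) * x * (t⁻¹ * n)⁻¹) * t⁻¹ := by group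
        _ = x := by rw [h1]; exact hRfix t ht
    intro y
    obtain ⟨s, hs, n, hn, rfl⟩ := mem_sup_of_normal_right.mp
      ((Local.WeakClosure.normalizer_inf_sup_eq_top R N).ge (mem_top y))
    calc s * n * x * (s * n)⁻¹ = s * (n * x * n⁻¹) * s⁻¹ := by group
      _ = x := by rw [hNx n hn]; exact hx _ hRn hne s hs
  -- cancellation
  have hx2 : ∀ y : Y, y * (x * x) * y⁻¹ = x * x := by
    refine ih (x * x) ?_ (mul_mem hxQ hxQ) (mul_mem hxC hxC) fun H h1 h2 h hh => ?_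
    · rw [← pow_two, ← pow_mul, ← pow_succ']; exact hxk
    · rw [show h * (x * x) * h⁻¹ = (h * x * h⁻¹) * (h * x * h⁻¹) by group, hx H h1 h2 h hh]
  let M : Subgroup Y := centralizer {x}
  have hMmem : ∀ m, m ∈ M ↔ m * x * m⁻¹ = x := fun m => by
    rw [mem_centralizer_singleton_iff, mul_inv_eq_iff_eq_mul]
  have hRM : (R : Subgroup Y) ≤ M := fun r hr => (hMmem r).2 (hRfix r hr)
  letI : CommGroup V := { (inferInstance : Group V) with
    mul_comm := fun a b => Subtype.ext (hVc a a.2 b b.2) }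
  letI : Fintype (Y ⧸ M) := Fintype.ofFinite _
  let F : Y ⧸ M → V := fun c => MulAut.conjNormal c.out ⟨x, hxV⟩
  have hF : ∀ (y : Y) (c : Y ⧸ M), F (y • c) = MulAut.conjNormal y (F c) := by
    intro y c
    refine Subtype.ext ?_
    simp only [F, MulAut.conjNormal_apply]
    obtain ⟨m, hm⟩ := QuotientGroup.mk_out_eq_mul M (y * c.out)
    have hyc : y • c = ((y * c.out : Y) : Y ⧸ M) := by
      conv_lhs => rw [← c.out_eq]
      rfl
    rw [hyc, hm]
    calc y * c.out * (m : Y) * x * (y * c.out * (m : Y))⁻¹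
        = y * c.out * ((m : Y) * x * (m : Y)⁻¹) * (y * c.out)⁻¹ := by group
      _ = _ := by rw [(hMmem _).1 m.2]; group
  have hF1 : F ((1 : Y) : Y ⧸ M) = ⟨x, hxV⟩ := by
    refine Subtype.ext ?_
    obtain ⟨m, hm⟩ := QuotientGroup.mk_out_eq_mul M (1 : Y)
    simp only [F, MulAut.conjNormal_apply]
    rw [hm, one_mul, (hMmem _).1 m.2]
  let f : Y ⧸ M → V := fun c => F c * (⟨x, hxV⟩ : V)⁻¹
  have hf2 : ∀ c, f c * f c = 1 := by
    intro c
    have h1 : F c * F c = (⟨x, hxV⟩ : V) * ⟨x, hxV⟩ := by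
      rw [show F c * F c = MulAut.conjNormal c.out ((⟨x, hxV⟩ : V) * ⟨x, hxV⟩) from (map_mul _ _ _).symm]
      refine Subtype.ext ?_
      rw [MulAut.conjNormal_apply]
      exact hx2 _
    simp only [f]
    rw [mul_mul_mul_comm, h1, ← mul_inv, mul_inv_cancel]
  let 𝔄 : Set (Subgroup Y) := {A | A ≤ (R : Subgroup Y) ∧ ∃ y : Y, A = A₀.map (MulAut.conj y).toMonoidHom}
  have hprop : ∀ A ∈ 𝔄, ∀ B ≤ A, B.relIndex A = 2 → ∀ w : V, w * w = 1 →
      (∀ b ∈ B, MulAut.conjNormal b w = w) → ∀ a ∈ A, MulAut.conjNormal a w = w := by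
    rintro A ⟨-, y, rfl⟩ B hB hrel w hw2 hBw a ⟨a0, ha0, rfl⟩
    push Not at hbad
    set B0 := B.comap (MulAut.conj y).toMonoidHom
    have hB0A : B0 ≤ A₀ := (comap_mono hB).trans (comap_map_eq_self_of_injective (MulAut.conj y).injective _).le
    have hrel0 : B0.relIndex A₀ = 2 := by rw [relIndex_comap]; exact hrel
    set w0 := y⁻¹ * (w : Y) * y with hw0
    have hw0V : w0 ∈ V := by simpa using hVn.conj_mem _ w.2 y⁻¹
    have h1 := hbad B0 hB0A hrel0 w0 hw0V
      (by rw [hw0, show y⁻¹ * (w : Y) * y * (y⁻¹ * (w : Y) * y) = y⁻¹ * ((w : Y) * w) * y by group,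
        show (w : Y) * w = 1 from congrArg Subtype.val hw2]; group)
      (fun b hb => by
        have h := congrArg Subtype.val (hBw _ hb)
        simp only [MulAut.conjNormal_apply, MulEquiv.coe_toMonoidHom, MulAut.conj_apply] at h
        calc b * w0 * b⁻¹ = y⁻¹ * (y * b * y⁻¹ * (w : Y) * (y * b * y⁻¹)⁻¹) * y := by rw [hw0]; group
          _ = w0 := by rw [h]) a0 ha0
    refine Subtype.ext ?_
    simp only [MulAut.conjNormal_apply, MulEquiv.coe_toMonoidHom, MulAut.conj_apply]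
    calc y * a0 * y⁻¹ * (w : Y) * (y * a0 * y⁻¹)⁻¹ = y * (a0 * w0 * a0⁻¹) * y⁻¹ := by rw [hw0]; group
      _ = w := by rw [h1, hw0]; group
  have hgood : ∀ c ∈ (Finset.univ.erase ((1 : Y) : Y ⧸ M)), ∃ A ∈ 𝔄, A ≤ (R : Subgroup Y) ∧
      ∃ a ∈ A, a • c ≠ c := by
    intro c hc
    by_contra hcon
    push Not at hcon
    refine Finset.ne_of_mem_erase hc ?_
    obtain ⟨z, rfl⟩ := QuotientGroup.mk_surjective c
    set E : Subgroup Y := sSup 𝔄 with hE
    have hER : E ≤ (R : Subgroup Y) := sSup_le fun A hA => hA.1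
    have hEM : E.map (MulAut.conj z⁻¹).toMonoidHom ≤ M := by
      rw [map_le_iff_le_comap]
      refine sSup_le fun A hA v hv => ?_
      have h1 : ((v * z : Y) : Y ⧸ M) = (z : Y ⧸ M) := hcon A hA hA.1 v hv
      rw [eq_comm, QuotientGroup.eq] at h1
      simpa [mul_assoc] using h1
    obtain ⟨m, hm, hm'⟩ := Local.exists_conj_le_of_not_dvd_relIndex hRM R.isPGroup'
      (fun h => R.not_dvd_index (h.trans (relIndex_dvd_index_of_le hRM))) hEM ((R.isPGroup'.to_le hER).map _)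
    have hnorm : ∀ d : Y, (∀ A ∈ 𝔄, A.map (MulAut.conj d).toMonoidHom ≤ (R : Subgroup Y)) →
        d ∈ normalizer (E : Set Y) := by
      intro d hd
      rw [mem_normalizer_iff_map_conj_eq]
      refine eq_of_le_of_card_ge ?_ (card_map_of_injective (MulAut.conj d).injective).ge
      rw [map_le_iff_le_comap]
      refine sSup_le fun A hA => map_le_iff_le_comap.mp (le_sSup ⟨hd A hA, ?_⟩)
      obtain ⟨-, y, rfl⟩ := hA
      refine ⟨d * y, ?_⟩
      rw [map_map]
      congr 1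
      ext w
      simp [mul_assoc]
    have hdN : m * z⁻¹ ∈ normalizer (E : Set Y) := hnorm _ fun A hA => by
      rintro _ ⟨v, hv, rfl⟩
      have := hm' _ ⟨v, le_sSup hA hv, rfl⟩
      simpa [mul_assoc] using this
    have hRN : (R : Subgroup Y) ≤ normalizer (E : Set Y) := fun r hr => hnorm r fun A hA => by
      rintro _ ⟨v, hv, rfl⟩
      exact mul_mem (mul_mem hr (hA.1 hv)) (inv_mem hr)
    have hNne : normalizer (E : Set Y) ≠ ⊤ := fun h => by
      haveI := normalizer_eq_top_iff.1 h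
      exact hA₀Q ((le_sSup (show A₀ ∈ 𝔄 from ⟨hA₀.1, 1, by ext; simp⟩) : A₀ ≤ E).trans
        (le_pCore (R.isPGroup'.to_le hER)))
    have h1 := (hMmem _).2 (hx _ hRN hNne _ hdN)
    rw [QuotientGroup.eq, mul_one]
    have h2 := mul_mem (inv_mem hm) h1
    rwa [inv_mul_cancel_left] at h2
  have hzero := prod_moved (MulAut.conjNormal : Y →* MulAut V) f hf2 𝔄 hprop _ (R : Subgroup Y) le_rfl R.isPGroup'
    (fun l hl c => by
      simp only [f]
      rw [hF, map_mul, map_inv, show MulAut.conjNormal l (⟨x, hxV⟩ : V) = ⟨x, hxV⟩ from Subtype.ext (by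
        rw [MulAut.conjNormal_apply]; exact hRfix l hl)])
    (Finset.univ.erase ((1 : Y) : Y ⧸ M)) (fun l hl c hc => by
      refine Finset.mem_erase.2 ⟨fun h => Finset.ne_of_mem_erase hc ?_, Finset.mem_univ _⟩
      have h1 : c = l⁻¹ • ((1 : Y) : Y ⧸ M) := eq_inv_smul_iff.2 h
      rw [h1]
      show ((l⁻¹ * 1 : Y) : Y ⧸ M) = _
      rw [QuotientGroup.eq]
      simpa using hRM hl) hgood
  set n := Fintype.card (Y ⧸ M) with hn
  have hz : ∏ c : Y ⧸ M, F c = (⟨x, hxV⟩ : V) ^ n := by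
    have h1 : ∏ c : Y ⧸ M, f c = 1 := by
      rw [← Finset.prod_erase_mul _ _ (Finset.mem_univ ((1 : Y) : Y ⧸ M)), hzero, one_mul]
      simp only [f, hF1, mul_inv_cancel]
    simp only [f] at h1
    rw [Finset.prod_mul_distrib, Finset.prod_const, Finset.card_univ, inv_pow, mul_inv_eq_one] at h1
    exact h1
  have hodd : Nat.Coprime n 2 := by
    rw [Nat.coprime_comm, Nat.prime_two.coprime_iff_not_dvd, hn, ← Nat.card_eq_fintype_card, ← index_eq_card]
    exact fun h => R.not_dvd_index (h.trans ⟨(R : Subgroup Y).relIndex M, by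
      rw [mul_comm]; exact (relIndex_mul_index hRM).symm⟩)
  intro y
  have hfix : Commute y (x ^ n) := by
    have h1 : MulAut.conjNormal y ((⟨x, hxV⟩ : V) ^ n) = (⟨x, hxV⟩ : V) ^ n := by
      rw [← hz, map_prod]
      exact Fintype.prod_equiv (MulAction.toPerm y) _ _ fun c => (hF y c).symm
    have h2 := congrArg Subtype.val h1
    simp only [MulAut.conjNormal_apply, SubgroupClass.coe_pow] at h2
    exact mul_inv_eq_iff_eq_mul.mp h2
  have hcop : Nat.Coprime n (orderOf x) :=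
    Nat.Coprime.coprime_dvd_right (orderOf_dvd_of_pow_eq_one hxk) (hodd.pow_right (k + 1))
  obtain ⟨m, hm⟩ := exists_pow_eq_self_of_coprime hcop
  have h3 := hfix.pow_right m
  rw [hm] at h3
  exact mul_inv_eq_iff_eq_mul.mpr h3.eq

end Cfsg.Agent.Solv.JWC
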