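import Cfsg.Agent.Lib.Solv.NaturalSection
import Cfsg.Agent.Lib.Solv.QuadraticStable
import Cfsg.Agent.Lib.Local.QdExtension
import Cfsg.Prelude.Def_LocalEven

/-!
Groups without a section isomorphic to `Qd(p)` act `p`-stably.
-/

set_option autoImplicit false
set_option linter.style.haveILetI false
set_option linter.unusedSectionVars false

universe u v w

namespace Cfsg.Agent.Solv.Quad

open Subgroup
open scoped commutatorElement MatrixGroups Pointwise

variable {p : ℕ} [Fact p.Prime]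

theorem involves_of_hom {H : Type w} [Group H] {X : Type v} [Group X] (K : Subgroup X) (θ : K →* H)
    (hθ : Function.Surjective θ) : Cfsg.Involves H X := by
  have hR : (θ.ker.map K.subtype).subgroupOf K = θ.ker :=
    comap_map_eq_self_of_injective K.subtype_injective _
  have hn : ((θ.ker.map K.subtype).subgroupOf K).Normal := by rw [hR]; infer_instance
  exact ⟨K, θ.ker.map K.subtype, hn,
    ⟨(QuotientGroup.quotientMulEquivOfEq hR).trans (QuotientGroup.quotientKerEquivOfSurjective θ hθ)⟩⟩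

theorem exists_hom_of_involves {H : Type w} [Group H] {X : Type v} [Group X] (h : Cfsg.Involves H X) :
    ∃ (K : Subgroup X) (θ : K →* H), Function.Surjective θ := by
  obtain ⟨K, R, hR, ⟨e⟩⟩ := h
  haveI := hR
  exact ⟨K, e.toMonoidHom.comp (QuotientGroup.mk' _), e.surjective.comp (QuotientGroup.mk'_surjective _)⟩

theorem involves_of_surjective {H : Type w} [Group H] {X : Type v} [Group X] {Y : Type u} [Group Y]
    (f : X →* Y) (hf : Function.Surjective f) (h : Cfsg.Involves H Y) : Cfsg.Involves H X := by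
  obtain ⟨K, θ, hθ⟩ := exists_hom_of_involves h
  refine involves_of_hom (K.comap f) (θ.comp (f.subgroupComap K)) (hθ.comp ?_)
  rintro ⟨y, hy⟩
  obtain ⟨x, rfl⟩ := hf y
  exact ⟨⟨x, hy⟩, rfl⟩

theorem involves_of_subgroup {H : Type w} [Group H] {X : Type v} [Group X] {P : Subgroup X}
    (h : Cfsg.Involves H P) : Cfsg.Involves H X := by
  obtain ⟨K, θ, hθ⟩ := exists_hom_of_involves h
  let e := K.equivMapOfInjective P.subtype P.subtype_injective
  exact involves_of_hom _ (θ.comp e.symm.toMonoidHom) (hθ.comp e.symm.surjective)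

open Local in
/-- A natural section inside a normal elementary abelian subgroup gives `Qd(p)`. -/
theorem involves_qd_of_natSec (hp2 : p ≠ 2) {X : Type v} [Group X] [Finite X] {W : Type u}
    [AddCommGroup W] [Module (ZMod p) W] (ρ : X →* (W ≃ₗ[ZMod p] W)) (ι : W → X)
    (hι : Function.Injective ι) (hadd : ∀ x y, ι (x + y) = ι x * ι y)
    (hconj : ∀ x w, ι (ρ x w) = x * ι w * x⁻¹) (h : NatSec ρ) : Cfsg.Involves ↥(Cfsg.qd p) X := by
  classical
  obtain ⟨S, W1, u0, u1, χ₀, hχ₀, hW1, hind, hrel⟩ := h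
  -- the group of elements acting on the section
  set Rel : X → SL(2, ZMod p) → Prop := fun y M => (∀ w ∈ W1, ρ y w ∈ W1) ∧
    ρ y u0 - ((M : Matrix (Fin 2) (Fin 2) (ZMod p)) 0 0 • u0 +
      (M : Matrix (Fin 2) (Fin 2) (ZMod p)) 1 0 • u1) ∈ W1 ∧
    ρ y u1 - ((M : Matrix (Fin 2) (Fin 2) (ZMod p)) 0 1 • u0 +
      (M : Matrix (Fin 2) (Fin 2) (ZMod p)) 1 1 • u1) ∈ W1 with hRel
  have huniq : ∀ y M N, Rel y M → Rel y N → M = N := by
    intro y M N hM hN
    have key : ∀ (v : W) (a b a' b' : ZMod p), v - (a • u0 + b • u1) ∈ W1 →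
        v - (a' • u0 + b' • u1) ∈ W1 → a = a' ∧ b = b' := by
      intro v a b a' b' h1 h2
      have h3 := W1.sub_mem h2 h1
      have e : v - (a' • u0 + b' • u1) - (v - (a • u0 + b • u1)) = (a - a') • u0 + (b - b') • u1 := by
        module
      rw [e] at h3
      exact ⟨sub_eq_zero.mp (hind _ _ h3).1, sub_eq_zero.mp (hind _ _ h3).2⟩
    obtain ⟨e1, e2⟩ := key _ _ _ _ _ hM.2.1 hN.2.1
    obtain ⟨e3, e4⟩ := key _ _ _ _ _ hM.2.2 hN.2.2
    exact Dickson.sl_ext (Cfsg.Agent.Classical.SL2.coord e1 e3 e2 e4)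
  have hone : Rel 1 1 := by
    refine ⟨fun w hw => ?_, ?_, ?_⟩
    · rw [map_one]; exact hw
    · rw [map_one]; simp
    · rw [map_one]; simp
  have hmul : ∀ x y M N, Rel x M → Rel y N → Rel (x * y) (M * N) := by
    intro x y M N hM hN
    refine ⟨fun w hw => ?_, ?_, ?_⟩
    · rw [map_mul]; exact hM.1 _ (hN.1 w hw)
    · have h1 := hM.1 _ hN.2.1
      rw [map_sub, map_add, map_smul, map_smul] at h1
      have h2 := W1.add_mem (W1.add_mem h1 (W1.smul_mem ((N : Matrix (Fin 2) (Fin 2) (ZMod p)) 0 0) hM.2.1))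
        (W1.smul_mem ((N : Matrix (Fin 2) (Fin 2) (ZMod p)) 1 0) hM.2.2)
      rw [map_mul]
      convert h2 using 1
      simp only [Matrix.SpecialLinearGroup.coe_mul, Matrix.mul_apply, Fin.sum_univ_two,
        LinearEquiv.mul_apply, Dickson.val_mul]
      module
    · have h1 := hM.1 _ hN.2.2
      rw [map_sub, map_add, map_smul, map_smul] at h1
      have h2 := W1.add_mem (W1.add_mem h1 (W1.smul_mem ((N : Matrix (Fin 2) (Fin 2) (ZMod p)) 0 1) hM.2.1))
        (W1.smul_mem ((N : Matrix (Fin 2) (Fin 2) (ZMod p)) 1 1) hM.2.2)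
      rw [map_mul]
      convert h2 using 1
      simp only [Matrix.SpecialLinearGroup.coe_mul, Matrix.mul_apply, Fin.sum_univ_two,
        LinearEquiv.mul_apply, Dickson.val_mul]
      module
  let Y : Subgroup X :=
    { carrier := {y | ∃ M, Rel y M}
      one_mem' := ⟨1, hone⟩
      mul_mem' := fun {x y} ⟨M, hM⟩ ⟨N, hN⟩ => ⟨M * N, hmul x y M N hM hN⟩
      inv_mem' := fun {x} ⟨M, hM⟩ => by
        obtain ⟨n, hn⟩ : ∃ n : ℕ, x ^ n = x⁻¹ := mem_powers_iff_mem_zpowers.mpr (inv_mem (mem_zpowers x))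
        rw [← hn]
        refine ⟨M ^ n, ?_⟩
        clear hn
        induction n with
        | zero => rw [pow_zero, pow_zero]; exact hone
        | succ n ih => rw [pow_succ, pow_succ]; exact hmul _ _ _ _ ih hM }
  let χ : Y →* SL(2, ZMod p) := MonoidHom.mk' (fun y => Classical.choose y.2) fun x y =>
    huniq _ _ _ (Classical.choose_spec (x * y).2)
      (hmul _ _ _ _ (Classical.choose_spec x.2) (Classical.choose_spec y.2))
  have hχ : ∀ y : Y, Rel y (χ y) := fun y => Classical.choose_spec y.2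
  have hχsurj : Function.Surjective χ := fun M => by
    obtain ⟨s, rfl⟩ := hχ₀ M
    have hs : Rel (s : X) (χ₀ s) := ⟨fun w hw => hW1 s s.2 w hw, (hrel s).1, (hrel s).2⟩
    exact ⟨⟨s, _, hs⟩, huniq _ _ _ (hχ _) hs⟩
  -- the translations
  set W2 := W1 ⊔ Submodule.span (ZMod p) {u0, u1} with hW2
  have hu0 : u0 ∈ W2 := Submodule.mem_sup_right (Submodule.subset_span (by simp))
  have hu1 : u1 ∈ W2 := Submodule.mem_sup_right (Submodule.subset_span (by simp))
  have hdecW : ∀ w ∈ W2, ∃ c d : ZMod p, w - (c • u0 + d • u1) ∈ W1 := by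
    intro w hw
    obtain ⟨x, hx, z, hz, rfl⟩ := Submodule.mem_sup.mp hw
    obtain ⟨c, d, rfl⟩ := Submodule.mem_span_pair.mp hz
    exact ⟨c, d, by rwa [add_sub_cancel_right]⟩
  have hmemW : ∀ (v : W) (c d : ZMod p), v - (c • u0 + d • u1) ∈ W1 → v ∈ W2 := by
    intro v c d hv
    have := W2.add_mem (Submodule.mem_sup_left hv : _ ∈ W2) (W2.add_mem (W2.smul_mem c hu0) (W2.smul_mem d hu1))
    rwa [sub_add_cancel] at this
  -- coordinates of a moved vector
  have hmove : ∀ (y : Y) (v : W) (c d : ZMod p), v - (c • u0 + d • u1) ∈ W1 →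
      ρ (y : X) v - (((χ y : Matrix (Fin 2) (Fin 2) (ZMod p)) 0 0 * c +
        (χ y : Matrix (Fin 2) (Fin 2) (ZMod p)) 0 1 * d) • u0 +
        ((χ y : Matrix (Fin 2) (Fin 2) (ZMod p)) 1 0 * c +
        (χ y : Matrix (Fin 2) (Fin 2) (ZMod p)) 1 1 * d) • u1) ∈ W1 := by
    intro y v c d hv
    obtain ⟨h1, h2, h3⟩ := hχ y
    have h4 := h1 _ hv
    rw [map_sub, map_add, map_smul, map_smul] at h4
    have h5 := W1.add_mem (W1.add_mem h4 (W1.smul_mem c h2)) (W1.smul_mem d h3)
    convert h5 using 1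
    module
  have hW2inv : ∀ y : Y, ∀ v ∈ W2, ρ (y : X) v ∈ W2 := fun y v hv => by
    obtain ⟨c, d, h⟩ := hdecW v hv
    exact hmemW _ _ _ (hmove y v c d h)
  have hι0 : ι 0 = 1 := by
    have := hadd 0 0
    rw [add_zero] at this
    exact left_eq_mul.mp this
  have hιn : ∀ (n : ℕ) w, ι ((n : ZMod p) • w) = ι w ^ n := by
    intro n w
    induction n with
    | zero => simp [hι0]
    | succ n ih => rw [Nat.cast_succ, add_smul, one_smul, hadd, ih, pow_succ]
  have hιp : ∀ w, ι w ^ p = 1 := fun w => by rw [← hιn, ZMod.natCast_self, zero_smul, hι0]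
  have hρι : ∀ w v, ρ (ι w) v = v := fun w v => hι (by
    rw [hconj, ← hadd, add_comm, hadd, mul_inv_cancel_right])
  have hιY : ∀ w, ι w ∈ Y := fun w => ⟨1, fun v hv => by rwa [hρι], by rw [hρι]; simp, by rw [hρι]; simp⟩
  have hιinv : ∀ w, ι (-w) = (ι w)⁻¹ := fun w =>
    eq_inv_of_mul_eq_one_left (by rw [← hadd, neg_add_cancel, hι0])
  let V2 : Subgroup Y :=
    { carrier := {y | ∃ w ∈ W2, ι w = y}
      one_mem' := ⟨0, W2.zero_mem, hι0⟩
      mul_mem' := fun {x y} ⟨w, hw, hwe⟩ ⟨w', hw', hwe'⟩ => ⟨w + w', W2.add_mem hw hw', by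
        rw [hadd, hwe, hwe', Subgroup.coe_mul]⟩
      inv_mem' := fun {x} ⟨w, hw, hwe⟩ => ⟨-w, W2.neg_mem hw, by rw [hιinv, hwe, Subgroup.coe_inv]⟩ }
  haveI hV2n : V2.Normal := ⟨fun v hv y => by
    obtain ⟨w, hw, hwe⟩ := hv
    exact ⟨ρ (y : X) w, hW2inv y w hw, by rw [hconj, hwe]; rfl⟩⟩
  have hχV : ∀ v ∈ V2, χ v = 1 := by
    rintro v ⟨w, hw, hwe⟩
    refine huniq _ _ _ (hχ v) ⟨fun z hz => ?_, ?_, ?_⟩
    · rw [← hwe, hρι]; exact hz
    · rw [← hwe, hρι]; simp
    · rw [← hwe, hρι]; simp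
  -- the complement
  have hnegc : ∀ g : SL(2, ZMod p), Commute Dickson.negI g := fun g => Dickson.sl_ext (by
    rw [Dickson.neg_coe, Dickson.val_mul, Dickson.negI_coe, mul_neg_one])
  set N1 := zpowers (Dickson.negI : SL(2, ZMod p)) with hN1
  haveI : N1.Normal := ⟨fun z hz g => by
    obtain ⟨k, rfl⟩ := hz
    rw [← ((hnegc g).zpow_left k).eq, mul_inv_cancel_right]
    exact N1.zpow_mem (mem_zpowers _) k⟩
  have hnegsq : (Dickson.negI : SL(2, ZMod p)) * Dickson.negI = 1 :=
    Dickson.sl_ext (by rw [Dickson.neg_coe, Dickson.negI_coe, neg_neg]; rfl)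
  have hN1p : IsPGroup 2 N1 := isPGroup_of_elemAbelian (elemAbelian_zpowers (by rw [pow_two, hnegsq]))
  set M0 := N1.comap χ with hM0
  haveI : M0.Normal := inferInstance
  obtain ⟨T0⟩ : Nonempty (Sylow 2 M0) := inferInstance
  have hsur0 : Function.Surjective (χ.subgroupComap N1) := fun ⟨z, hz⟩ => by
    obtain ⟨x, rfl⟩ := hχsurj z
    exact ⟨⟨x, hz⟩, rfl⟩
  have htop : ((T0.mapSurjective hsur0 : Sylow 2 N1) : Subgroup N1) = ⊤ :=
    top_le_iff.mp ((T0.mapSurjective hsur0).is_maximal' (hN1p.to_subgroup ⊤) le_top).le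
  obtain ⟨t, ht, hte⟩ := htop.ge (mem_top (⟨Dickson.negI, mem_zpowers _⟩ : N1))
  have htneg : χ (t : Y) = Dickson.negI := congrArg Subtype.val hte
  set T2 := (T0 : Subgroup M0).map M0.subtype with hT2
  set L := normalizer (T2 : Set Y) with hL
  have hTL : T2 ≤ L := le_normalizer
  have htT : (t : Y) ∈ T2 := mem_map_of_mem _ ht
  have hχL : L.map χ = ⊤ := by
    have hfr := Sylow.normalizer_sup_eq_top T0
    rw [← hT2, ← hL] at hfr
    rw [eq_top_iff, ← map_top_of_surjective χ hχsurj, ← hfr, Subgroup.map_sup]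
    refine sup_le le_rfl ((map_comap_le χ N1).trans ?_)
    rw [hN1, zpowers_le, ← htneg]
    exact mem_map_of_mem χ (hTL htT)
  have hLV : ∀ v ∈ V2, v ∈ L → ∀ w, ι w = (v : X) → ∀ c d : ZMod p,
      w - (c • u0 + d • u1) ∈ W1 → c = 0 ∧ d = 0 := by
    intro v hv hvL w hwe c d hcd
    -- `v` commutes with `t`
    have h1 : v * (t : Y) * v⁻¹ * (t : Y)⁻¹ ∈ T2 :=
      T2.mul_mem ((mem_normalizer_iff.mp hvL _).mp htT) (T2.inv_mem htT)
    have h2 : v * (t : Y) * v⁻¹ * (t : Y)⁻¹ ∈ V2 := by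
      rw [mul_assoc v, mul_assoc v]
      exact V2.mul_mem hv (hV2n.conj_mem _ (V2.inv_mem hv) _)
    have h3 : v * (t : Y) * v⁻¹ * (t : Y)⁻¹ = 1 := by
      obtain ⟨k, hk⟩ := (T0.isPGroup'.map M0.subtype) ⟨_, h1⟩
      obtain ⟨w', -, hw'⟩ := h2
      have hp1 : (v * (t : Y) * v⁻¹ * (t : Y)⁻¹) ^ p = 1 := Subtype.ext (by
        rw [SubgroupClass.coe_pow, ← hw', hιp]; rfl)
      have hk' : (v * (t : Y) * v⁻¹ * (t : Y)⁻¹) ^ 2 ^ k = 1 := by
        have := congrArg Subtype.val hk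
        simpa using this
      have hdvd := Nat.dvd_gcd (orderOf_dvd_of_pow_eq_one hp1) (orderOf_dvd_of_pow_eq_one hk')
      have hg : Nat.gcd p (2 ^ k) = 1 := Nat.Coprime.pow_right k
        ((Nat.coprime_primes Fact.out Nat.prime_two).mpr hp2)
      rw [hg] at hdvd
      exact orderOf_eq_one_iff.mp (Nat.dvd_one.mp hdvd)
    have h4 : ρ ((t : Y) : X) w = w := hι (by
      rw [hconj, hwe]
      have h5 : v * (t : Y) = (t : Y) * v := by
        rw [mul_inv_eq_one, mul_inv_eq_iff_eq_mul] at h3; exact h3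
      have h6 := congrArg Subtype.val h5
      rw [Subgroup.coe_mul, Subgroup.coe_mul] at h6
      rw [← h6, mul_inv_cancel_right])
    have h7 := hmove (t : Y) w c d hcd
    rw [htneg, h4, Dickson.negI_coe] at h7
    simp at h7
    have h8 := W1.sub_mem hcd h7
    have e : w - (c • u0 + d • u1) - (w - (-(c • u0) + -(d • u1))) = (-2 * c) • u0 + (-2 * d) • u1 := by
      module
    rw [e] at h8
    have h20 := Dickson.two_ne (F := ZMod p) hp2
    obtain ⟨e1, e2⟩ := hind _ _ h8
    exact ⟨(mul_eq_zero.mp e1).resolve_left (neg_ne_zero.mpr h20),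
      (mul_eq_zero.mp e2).resolve_left (neg_ne_zero.mpr h20)⟩
  -- the map onto `Qd(p)`
  set K := V2 ⊔ L with hK
  let Good : Y → Cfsg.qd p → Prop := fun k q =>
    ∃ (v : Y) (l : Y) (w : W) (c d : ZMod p), v ∈ V2 ∧ l ∈ L ∧ k = v * l ∧ ι w = (v : X) ∧
      w - (c • u0 + d • u1) ∈ W1 ∧
      q = qdElt ((χ l : Matrix (Fin 2) (Fin 2) (ZMod p)) 0 0) ((χ l : Matrix (Fin 2) (Fin 2) (ZMod p)) 0 1)
        ((χ l : Matrix (Fin 2) (Fin 2) (ZMod p)) 1 0) ((χ l : Matrix (Fin 2) (Fin 2) (ZMod p)) 1 1) c d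
        (Dickson.det_eq (χ l))
  have hGex : ∀ k : K, ∃ q, Good k q := by
    intro k
    obtain ⟨v, hv, l, hl, hvl⟩ := mem_sup_of_normal_left.mp k.2
    obtain ⟨w, hw, hwe⟩ := hv
    obtain ⟨c, d, hcd⟩ := hdecW w hw
    exact ⟨_, v, l, w, c, d, ⟨w, hw, hwe⟩, hl, hvl.symm, hwe, hcd, rfl⟩
  have hGuniq : ∀ k q q', Good k q → Good k q' → q = q' := by
    rintro k q q' ⟨v, l, w, c, d, hv, hl, rfl, hwe, hcd, rfl⟩ ⟨v', l', w', c', d', hv', hl', he, hwe', hcd', rfl⟩
    have hmem : v'⁻¹ * v = l' * l⁻¹ := by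
      rw [inv_mul_eq_iff_eq_mul, ← mul_assoc, ← he, mul_inv_cancel_right]
    have h1 : v'⁻¹ * v ∈ V2 := V2.mul_mem (V2.inv_mem hv') hv
    have h2 : v'⁻¹ * v ∈ L := hmem ▸ L.mul_mem hl' (L.inv_mem hl)
    have h3 : ι (-w' + w) = ((v'⁻¹ * v : Y) : X) := by
      rw [hadd, hιinv, hwe, hwe', Subgroup.coe_mul, Subgroup.coe_inv]
    have h4 : (-w' + w) - ((-c' + c) • u0 + (-d' + d) • u1) ∈ W1 := by
      have := W1.sub_mem hcd hcd'
      convert this using 1
      module
    obtain ⟨e1, e2⟩ := hLV _ h1 h2 _ h3 _ _ h4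
    have e3 : χ l = χ l' := by
      have := hχV _ h1
      rw [hmem, map_mul, map_inv, mul_inv_eq_one] at this
      exact this.symm
    exact qdElt_congr _ _ (by rw [e3]) (by rw [e3]) (by rw [e3]) (by rw [e3])
      (neg_add_eq_zero.mp e1).symm (neg_add_eq_zero.mp e2).symm
  have hGmul : ∀ k k' q q', Good k q → Good k' q' → Good (k * k') (q * q') := by
    rintro k k' q q' ⟨v, l, w, c, d, hv, hl, rfl, hwe, hcd, rfl⟩ ⟨v', l', w', c', d', hv', hl', rfl, hwe', hcd', rfl⟩
    have hd' := hmove l w' c' d' hcd'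
    refine ⟨v * (l * v' * l⁻¹), l * l', w + ρ (l : X) w',
      c + ((χ l : Matrix (Fin 2) (Fin 2) (ZMod p)) 0 0 * c' + (χ l : Matrix (Fin 2) (Fin 2) (ZMod p)) 0 1 * d'),
      d + ((χ l : Matrix (Fin 2) (Fin 2) (ZMod p)) 1 0 * c' + (χ l : Matrix (Fin 2) (Fin 2) (ZMod p)) 1 1 * d'),
      V2.mul_mem hv (hV2n.conj_mem v' hv' l), L.mul_mem hl hl', by group, ?_, ?_, ?_⟩
    · rw [hadd, hconj, hwe, hwe']
      simp only [Subgroup.coe_mul, Subgroup.coe_inv]
    · have := W1.add_mem hcd hd'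
      convert this using 1
      module
    · rw [qdElt_mul]
      refine qdElt_congr _ _ ?_ ?_ ?_ ?_ (by ring) (by ring) <;>
        simp [map_mul, Matrix.mul_apply, Fin.sum_univ_two]
  let θ : K →* Cfsg.qd p := MonoidHom.mk' (fun k => Classical.choose (hGex k)) fun x y =>
    hGuniq _ _ _ (Classical.choose_spec (hGex (x * y)))
      (hGmul _ _ _ _ (Classical.choose_spec (hGex x)) (Classical.choose_spec (hGex y)))
  refine involves_of_subgroup (P := Y) (involves_of_hom K θ fun q => ?_)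
  obtain ⟨a, b, c, e, r, s, hdet, rfl⟩ := exists_qdElt q
  set M : SL(2, ZMod p) := ⟨!![a, b; c, e], by rw [Matrix.det_fin_two]; simpa using hdet⟩ with hM
  obtain ⟨l, hl, hlM⟩ := hχL.ge (mem_top M)
  have hwW : r • u0 + s • u1 ∈ W2 := W2.add_mem (W2.smul_mem r hu0) (W2.smul_mem s hu1)
  have hv : (⟨ι (r • u0 + s • u1), hιY _⟩ : Y) ∈ V2 := ⟨_, hwW, rfl⟩
  refine ⟨⟨_, K.mul_mem (mem_sup_left hv : _ ∈ K) (mem_sup_right hl : l ∈ K)⟩,
    hGuniq _ _ _ (Classical.choose_spec (hGex _)) ?_⟩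
  refine ⟨_, l, r • u0 + s • u1, r, s, hv, hl, rfl, rfl, by rw [sub_self]; exact W1.zero_mem, ?_⟩
  exact qdElt_congr _ _ (by rw [hlM]; rfl) (by rw [hlM]; rfl) (by rw [hlM]; rfl) (by rw [hlM]; rfl) rfl rfl

/-- A quadratic element on a normal elementary abelian subgroup, outside `O_p`, gives `Qd(p)`. -/
theorem involves_qd_of_elem (hp2 : p ≠ 2) {X : Type v} [Group X] [Finite X] (V : Subgroup X) [V.Normal]
    (hV : IsElementaryAbelian p V) {a : X} (ha : ⁅⁅V, zpowers a⁆, zpowers a⁆ = ⊥)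
    (hna : (QuotientGroup.mk a : X ⧸ centralizer (V : Set X)) ∉ pCore p (X ⧸ centralizer (V : Set X))) :
    Cfsg.Involves ↥(Cfsg.qd p) X := by
  classical
  set C := centralizer (V : Set X) with hC
  set π := QuotientGroup.mk' C
  haveI := hV.1
  letI : CommGroup V := { (inferInstance : Group V) with mul_comm := fun x y => mul_comm' x y }
  have hexp : ∀ v : V, v ^ p = 1 := fun v => Subtype.ext (by simpa using hV.2 _ v.2)
  obtain ⟨inst⟩ : Nonempty (Module (ZMod p) (Additive V)) :=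
    ⟨AddCommGroup.zmodModule fun v => by
      show Additive.ofMul (v.toMul ^ p) = 0
      rw [hexp]; rfl⟩
  letI := inst
  let L : X → (Additive V ≃ₗ[ZMod p] Additive V) := fun x =>
    LinearEquiv.ofLinearMap ((MonoidHom.toAdditive (MulAut.conjNormal x : MulAut V).toMonoidHom).toZModLinearMap p)
      ((MonoidHom.toAdditive (MulAut.conjNormal x⁻¹ : MulAut V).toMonoidHom).toZModLinearMap p)
      (LinearMap.ext fun v => congrArg Additive.ofMul (Subtype.ext (by
        change x * (x⁻¹ * (v.toMul : X) * x⁻¹⁻¹) * x⁻¹ = (v.toMul : X)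
        group)))
      (LinearMap.ext fun v => congrArg Additive.ofMul (Subtype.ext (by
        change x⁻¹ * (x * (v.toMul : X) * x⁻¹) * x⁻¹⁻¹ = (v.toMul : X)
        group)))
  have hL : ∀ (x : X) (v : Additive V), ((L x v).toMul : X) = x * (v.toMul : X) * x⁻¹ := fun _ _ => rfl
  let ρ : X →* (Additive V ≃ₗ[ZMod p] Additive V) := MonoidHom.mk' L fun x y =>
    LinearEquiv.ext fun v => Additive.toMul.injective (Subtype.ext (by
      rw [LinearEquiv.mul_apply, hL, hL, hL]; group))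
  have hker : ∀ x, ρ x = 1 → x ∈ C := fun x hx => mem_centralizer_iff.mpr fun v hv => by
    have h1 := congrArg (fun (e : Additive V ≃ₗ[ZMod p] Additive V) =>
      ((e (Additive.ofMul (⟨v, hv⟩ : V))).toMul : X)) hx
    have h2 : x * v * x⁻¹ = v := (hL x _).symm.trans h1
    exact (mul_inv_eq_iff_eq_mul.mp h2).symm
  have hker' : ∀ x ∈ C, ρ x = 1 := fun x hx => LinearEquiv.ext fun v => Additive.toMul.injective
    (Subtype.ext (by
      change ((L x v).toMul : X) = _
      rw [hL, ← mem_centralizer_iff.mp hx _ v.toMul.2, mul_inv_cancel_right]; rfl))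
  have hquad : IsQuad (ρ a) := by
    intro v
    apply Additive.toMul.injective
    apply Subtype.ext
    have hq := congrArg Subtype.val (quadGrp_conjNormal V ha v.toMul)
    simp only [MulAut.conjNormal_apply, Subgroup.coe_mul, Subgroup.coe_inv] at hq
    change ((L a (L a v - v)).toMul : X) = ((L a v - v).toMul : X)
    simp only [hL, toMul_sub, div_eq_mul_inv, Subgroup.coe_mul, Subgroup.coe_inv]
    exact hq
  have hap : ρ a ^ p = 1 := hquad.pow_char
  -- Baer–Suzuki in the automizer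
  have hpg : IsPGroup p (zpowers (π a)) := by
    refine isPGroup_of_elemAbelian (elemAbelian_zpowers ?_)
    rw [← map_pow]
    exact (QuotientGroup.eq_one_iff _).mpr (hker _ (by rw [map_pow, hap]))
  obtain ⟨g, hg⟩ : ∃ g : X ⧸ C, ¬ IsPGroup p ↥(zpowers (π a) ⊔ MulAut.conj g • zpowers (π a)) := by
    by_contra hall
    push Not at hall
    obtain ⟨N, hN, hNp, haN⟩ := Inv.baerSuzuki (zpowers (π a)) hpg hall
    exact hna (le_pCore hNp (haN (mem_zpowers _)))
  obtain ⟨g, rfl⟩ := QuotientGroup.mk'_surjective C g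
  set b := g * a * g⁻¹ with hb
  set P := Subgroup.closure ({a, b} : Set X) with hP
  let aP : P := ⟨a, subset_closure (by simp)⟩
  let bP : P := ⟨b, subset_closure (by simp)⟩
  have hbq : IsQuad (ρ b) := by
    intro v
    rw [hb, map_mul, map_mul, map_inv]
    change ρ g (ρ a ((ρ g).symm (ρ g (ρ a ((ρ g).symm v)) - v))) = ρ g (ρ a ((ρ g).symm v)) - v
    have h1 := hquad ((ρ g).symm v)
    have h2 : (ρ g).symm (ρ g (ρ a ((ρ g).symm v)) - v) = ρ a ((ρ g).symm v) - (ρ g).symm v := by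
      rw [map_sub, LinearEquiv.symm_apply_apply]
    rw [h2, h1, map_sub, LinearEquiv.apply_symm_apply]
  have hnp : ¬ IsPGroup p (ρ.comp P.subtype).range := by
    intro hp'
    apply hg
    have hle : zpowers (π a) ⊔ MulAut.conj (π g) • zpowers (π a) ≤ P.map π := by
      refine sup_le (zpowers_le.mpr (mem_map_of_mem π aP.2)) ?_
      rintro _ ⟨_, ⟨k, rfl⟩, rfl⟩
      change π g * (π a) ^ k * (π g)⁻¹ ∈ _
      rw [← conj_zpow, ← map_inv, ← map_mul, ← map_mul]
      exact (P.map π).zpow_mem (mem_map_of_mem π bP.2) k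
    refine IsPGroup.to_le ?_ hle
    rintro ⟨_, x, hx, rfl⟩
    obtain ⟨k, hk⟩ := hp' ⟨_, ⟨x, hx⟩, rfl⟩
    refine ⟨k, Subtype.ext ?_⟩
    rw [SubgroupClass.coe_pow, OneMemClass.coe_one, ← map_pow]
    refine (QuotientGroup.eq_one_iff _).mpr (hker _ ?_)
    rw [map_pow]
    exact congrArg Subtype.val hk
  haveI : Finite (Additive V) := Finite.of_equiv V Additive.ofMul
  obtain ⟨S, W1, u0, u1, χ, hχ, h1, h2, h3⟩ := natSec_of_pair hp2 _ le_rfl (ρ.comp P.subtype) aP bP
    (closure_pair_top a b) hquad hbq hnp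
  have hnat : NatSec ρ := by
    let e := S.equivMapOfInjective P.subtype P.subtype_injective
    refine ⟨S.map P.subtype, W1, u0, u1, χ.comp e.symm.toMonoidHom, hχ.comp e.symm.surjective, ?_, h2, fun s => ?_⟩
    · rintro _ ⟨s, hs, rfl⟩ w hw
      exact h1 s hs w hw
    · obtain ⟨s, rfl⟩ := e.surjective s
      simp only [MonoidHom.coe_comp, MulEquiv.coe_toMonoidHom, Function.comp_apply, MulEquiv.symm_apply_apply]
      exact h3 s
  exact involves_qd_of_natSec hp2 ρ (fun v => ((v.toMul : V) : X)) (fun x y h => Additive.toMul.injective (Subtype.ext h))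
    (fun x y => rfl) (fun x w => hL x w) hnat

/-- `Qd(p)`-free groups are `p`-stable on normal `p`-subgroups. -/
theorem exists_normal_of_qdFree (hp2 : p ≠ 2) : ∀ (n : ℕ) {X : Type v} [Group X] [Finite X],
    ¬ Cfsg.Involves ↥(Cfsg.qd p) X → ∀ (B : Subgroup X) [B.Normal], Nat.card B ≤ n → IsPGroup p B →
    ∀ a : X, ⁅⁅B, zpowers a⁆, zpowers a⁆ = ⊥ →
    ∃ D : Subgroup X, D.Normal ∧ a ∈ D ∧ ∀ d ∈ D, ∃ k : ℕ, d ^ p ^ k ∈ centralizer (B : Set X) := by
  intro n
  induction n with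
  | zero => intro X _ _ _ B _ hn; exact absurd hn (not_le.mpr Nat.card_pos)
  | succ n ih =>
    intro X _ _ hfree B hBn hn hB a ha
    classical
    rcases eq_or_ne B ⊥ with rfl | hB1
    · refine ⟨⊤, inferInstance, mem_top a, fun d _ => ⟨0, ?_⟩⟩
      rw [mem_centralizer_iff]
      intro v hv
      rw [SetLike.mem_coe, mem_bot] at hv
      rw [hv, one_mul, mul_one]
    haveI : Nontrivial B := B.nontrivial_iff_ne_bot.mpr hB1
    haveI := centerP_characteristic p B
    set Z := (centerP p B).map B.subtype with hZ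
    haveI : Z.Normal := inferInstance
    have hZB : Z ≤ B := map_subtype_le _
    have hZel : IsElementaryAbelian p Z := by
      refine ⟨⟨⟨fun x y => Subtype.ext ?_⟩⟩, ?_⟩
      · obtain ⟨x', hx', hxe⟩ := x.2
        obtain ⟨y', hy', hye⟩ := y.2
        rw [Subgroup.coe_mul, Subgroup.coe_mul, ← hxe, ← hye, ← map_mul, ← map_mul,
          mem_center_iff.mp hy'.1 x']
      · rintro _ ⟨x, hx, rfl⟩
        rw [← map_pow, hx.2, map_one]
    have hZne : Z ≠ ⊥ := by
      haveI := hB.center_nontrivial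
      obtain ⟨k, hk⟩ := IsPGroup.iff_card.mp (hB.to_subgroup (center B))
      have hdvd : p ∣ Nat.card (center B) := by
        rw [hk]
        refine dvd_pow_self p fun h0 => ?_
        rw [h0, pow_zero] at hk
        have := Finite.one_lt_card (α := center B)
        omega
      obtain ⟨z, hz⟩ := exists_prime_orderOf_dvd_card' p hdvd
      intro hbot
      have hzm : ((z : B) : X) ∈ Z := ⟨z, ⟨z.2, by
        rw [← SubgroupClass.coe_pow, ← hz, pow_orderOf_eq_one]; rfl⟩, rfl⟩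
      rw [hbot, mem_bot] at hzm
      rw [show z = 1 from Subtype.ext (Subtype.ext hzm), orderOf_one] at hz
      exact (Fact.out : p.Prime).one_lt.ne hz
    have haZ : ⁅⁅Z, zpowers a⁆, zpowers a⁆ = ⊥ :=
      le_bot_iff.mp ((commutator_mono (commutator_mono hZB le_rfl) le_rfl).trans ha.le)
    have h1 : (QuotientGroup.mk a : X ⧸ centralizer (Z : Set X)) ∈ pCore p (X ⧸ centralizer (Z : Set X)) := by
      by_contra hna
      exact hfree (involves_qd_of_elem hp2 Z hZel haZ hna)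
    set π := QuotientGroup.mk' Z
    haveI : (B.map π).Normal := hBn.map _ (QuotientGroup.mk'_surjective Z)
    have hcard : Nat.card (B.map π) ≤ n := by
      have hlt : Nat.card (B.map π) < Nat.card B := by
        have e1 := (Z.subgroupOf B).card_mul_index
        rw [card_subgroupOf hZB] at e1
        have e2 : Nat.card (B.map π) = (Z.subgroupOf B).index := by
          have h3 := relIndex_ker (K := B) π
          rw [QuotientGroup.ker_mk'] at h3
          exact h3.symm
        rw [e2, ← e1]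
        exact lt_mul_of_one_lt_left (Nat.pos_of_ne_zero fun h0 => by
          rw [h0, mul_zero] at e1; exact absurd e1.symm Nat.card_pos.ne')
          ((one_lt_card_iff_ne_bot Z).mpr hZne)
      omega
    obtain ⟨D2, hD2n, haD2, hD2⟩ := ih (fun h => hfree (involves_of_surjective π
      (QuotientGroup.mk'_surjective Z) h)) (B.map π) hcard (hB.map π) (π a) (by
        rw [← MonoidHom.map_zpowers, ← map_commutator, ← map_commutator, ha, Subgroup.map_bot])
    haveI := hD2n
    refine ⟨(pCore p (X ⧸ centralizer (Z : Set X))).comap (QuotientGroup.mk' _) ⊓ D2.comap π,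
      inferInstance, ⟨h1, haD2⟩, ?_⟩
    rintro d ⟨hd1, hd2⟩
    obtain ⟨i, hi⟩ := isPGroup_pCore p _ ⟨_, hd1⟩
    obtain ⟨j, hj⟩ := hD2 (π d) hd2
    have hi' : d ^ p ^ (i + j) ∈ centralizer (Z : Set X) := by
      have h2 : d ^ p ^ i ∈ centralizer (Z : Set X) := (QuotientGroup.eq_one_iff _).mp (by
        have := congrArg Subtype.val hi
        rw [SubgroupClass.coe_pow, OneMemClass.coe_one] at this
        exact this)
      rw [pow_add, pow_mul]
      exact pow_mem h2 _
    have hj' : π (d ^ p ^ (i + j)) ∈ centralizer ((B.map π : Subgroup (X ⧸ Z)) : Set (X ⧸ Z)) := by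
      rw [map_pow, add_comm, pow_add, pow_mul]
      exact pow_mem hj _
    refine ⟨i + j + 1, ?_⟩
    rw [pow_succ, pow_mul]
    set g := d ^ p ^ (i + j)
    rw [mem_centralizer_iff]
    intro v hv
    set z := g * v * g⁻¹ * v⁻¹ with hz
    have hzZ : z ∈ Z := by
      rw [← QuotientGroup.eq_one_iff]
      change π z = 1
      rw [hz, map_mul, map_mul, map_mul, map_inv, map_inv,
        ← mem_centralizer_iff.mp hj' _ (mem_map_of_mem π hv)]
      group
    have hgz : g * z = z * g := (mem_centralizer_iff.mp hi' z hzZ).symm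
    have hpw : ∀ m : ℕ, g ^ m * v * (g ^ m)⁻¹ = z ^ m * v := by
      intro m
      induction m with
      | zero => simp
      | succ m ihm =>
        calc g ^ (m + 1) * v * (g ^ (m + 1))⁻¹ = g * (g ^ m * v * (g ^ m)⁻¹) * g⁻¹ := by
              rw [pow_succ']; group
          _ = g * z ^ m * g⁻¹ * (g * v * g⁻¹) := by rw [ihm]; group
          _ = z ^ m * (z * v) := by
              rw [((show Commute g z from hgz).pow_right m).eq, mul_inv_cancel_right]
              congr 1
              rw [hz, inv_mul_cancel_right]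
          _ = z ^ (m + 1) * v := by rw [pow_succ, mul_assoc (z ^ m) z v]
    have h5 := hpw p
    rw [hZel.2 z hzZ, one_mul] at h5
    exact (mul_inv_eq_iff_eq_mul.mp h5).symm

theorem isPStableOn_of_qdFree {X : Type v} [Group X] [Finite X] (hp2 : p ≠ 2)
    (hfree : ¬ Cfsg.Involves ↥(Cfsg.qd p) X) (B : Subgroup X) [B.Normal] (hB : IsPGroup p B) :
    IsPStableOn p B := by
  intro a ha
  obtain ⟨D, hDn, haD, hD⟩ := exists_normal_of_qdFree hp2 _ hfree B le_rfl hB a ha
  haveI := hDn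
  set π := QuotientGroup.mk' (centralizer (B : Set X))
  haveI : (D.map π).Normal := hDn.map _ (QuotientGroup.mk'_surjective _)
  refine le_pCore (fun x => ?_) (mem_map_of_mem π haD)
  obtain ⟨_, d, hd, rfl⟩ := x
  obtain ⟨k, hk⟩ := hD d hd
  refine ⟨k, Subtype.ext ?_⟩
  rw [SubgroupClass.coe_pow, OneMemClass.coe_one, ← map_pow]
  exact (QuotientGroup.eq_one_iff _).mpr hk

end Cfsg.Agent.Solv.Quad
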