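import Cfsg.Agent.Lib.Solv.ZJCenter
import Cfsg.Agent.Lib.Solv.QuadraticStable
import Cfsg.Agent.Lib.Solv.Coprime
import Cfsg.Agent.Lib.Local.NPCFunctor
import Cfsg.Agent.Lib.Local.ClassTwoFactorization

/-!
Consequences of the `ZJ`-theorem: transfer of `p`-stability, local control, and the normal
`p`-complement criterion of Glauberman and Thompson.
-/

set_option autoImplicit false
set_option linter.style.haveILetI false
set_option linter.unusedSectionVars false

universe u

namespace Cfsg.Agent.Solv.ZJ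

open Subgroup
open scoped commutatorElement Pointwise

variable {p : ℕ} [Fact p.Prime]

/-- `p`-stability descends along the quotient by the `p'`-core. -/
theorem stab_of_surjective {G G' : Type*} [Group G] [Finite G] [Group G'] [Finite G']
    (h : IsPStable p G) (f : G →* G') (hf : Function.Surjective f)
    (hker : f.ker = pPrimeCore p G) : Stab p G' := by
  intro B _ hB A hA hq
  set M := B.comap f with hM
  haveI : M.Normal := inferInstance
  obtain ⟨PB⟩ : Nonempty (Sylow p M) := inferInstance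
  set Bm := (PB : Subgroup M).map M.subtype with hBm
  have hBmM : Bm ≤ M := map_subtype_le _
  have hsurB : Function.Surjective (f.subgroupComap B) := fun ⟨y, hy⟩ => by
    obtain ⟨x, rfl⟩ := hf y
    exact ⟨⟨x, hy⟩, rfl⟩
  have hBmB : Bm.map f = B := by
    refine le_antisymm (map_le_iff_le_comap.mpr hBmM) fun y hy => ?_
    have htop : ((PB.mapSurjective hsurB : Sylow p B) : Subgroup B) = ⊤ :=
      top_le_iff.mp ((PB.mapSurjective hsurB).is_maximal' (hB.to_subgroup ⊤) le_top).le
    obtain ⟨z, hz, hzx⟩ := htop.ge (mem_top (⟨y, hy⟩ : B))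
    exact ⟨z, mem_map_of_mem _ hz, congrArg Subtype.val hzx⟩
  have hsupM : pPrimeCore p G ⊔ Bm = M := by
    refine le_antisymm (sup_le ?_ hBmM) fun x hx => ?_
    · rw [← hker]; exact f.ker_le_comap B
    · have hx' : f x ∈ Bm.map f := hBmB ▸ hx
      obtain ⟨b, hb, hbx⟩ := hx'
      have h1 : x * b⁻¹ ∈ pPrimeCore p G := by
        rw [← hker, MonoidHom.mem_ker, map_mul, map_inv, hbx, mul_inv_cancel]
      have := mul_mem (mem_sup_left h1 : x * b⁻¹ ∈ pPrimeCore p G ⊔ Bm) (mem_sup_right hb)
      rwa [inv_mul_cancel_right] at this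
  have hBmp : IsPGroup p Bm := PB.isPGroup'.map _
  have hMle : Bm ≤ pPrimePCore p G := fun x hx => by
    change QuotientGroup.mk' (pPrimeCore p G) x ∈ pCore p (G ⧸ pPrimeCore p G)
    haveI : (M.map (QuotientGroup.mk' (pPrimeCore p G))).Normal :=
      Normal.map inferInstance _ (QuotientGroup.mk'_surjective _)
    refine le_pCore ?_ (mem_map_of_mem _ (hBmM hx))
    rintro ⟨_, m, hm, rfl⟩
    obtain ⟨k, hk⟩ := hB ⟨f m, hm⟩
    refine ⟨k, Subtype.ext ?_⟩
    rw [SubgroupClass.coe_pow, OneMemClass.coe_one, ← map_pow]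
    refine (QuotientGroup.eq_one_iff _).mpr ?_
    rw [← hker, MonoidHom.mem_ker, map_pow]
    exact congrArg Subtype.val hk
  set N := normalizer (Bm : Set G) with hN
  have hNf : N.map f = ⊤ := by
    have hfr := Sylow.normalizer_sup_eq_top PB
    rw [← hBm, ← hN] at hfr
    rw [eq_top_iff, ← map_top_of_surjective f hf, ← hfr, Subgroup.map_sup]
    refine sup_le le_rfl (le_trans ?_ (map_mono (le_normalizer : Bm ≤ N)))
    rw [hBmB]
    exact map_comap_le f B
  set A0 := A.comap f ⊓ N with hA0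
  obtain ⟨PA⟩ : Nonempty (Sylow p A0) := inferInstance
  set Am := (PA : Subgroup A0).map A0.subtype with hAm
  let g : A0 →* A := (f.comp A0.subtype).codRestrict A fun x => x.2.1
  have hsurA : Function.Surjective g := fun ⟨y, hy⟩ => by
    obtain ⟨x, hx, rfl⟩ := hNf.ge (mem_top y)
    exact ⟨⟨x, hy, hx⟩, rfl⟩
  have hAmN : Am ≤ N := (map_subtype_le _).trans inf_le_right
  have hq0 : ⁅⁅Bm, Am⁆, Am⁆ = ⊥ := by
    have h1 : ⁅Bm, Am⁆ ≤ Bm := commutator_le.mpr fun b hb a ha => by
      rw [commutatorElement_def, mul_assoc, mul_assoc]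
      refine Bm.mul_mem hb ?_
      rw [← mul_assoc]
      exact (mem_normalizer_iff.mp (hAmN ha) b⁻¹).mp (Bm.inv_mem hb)
    have h2 : ⁅⁅Bm, Am⁆, Am⁆ ≤ Bm := (commutator_mono h1 le_rfl).trans h1
    have h3 : ⁅⁅Bm, Am⁆, Am⁆ ≤ pPrimeCore p G := by
      refine le_trans ?_ hker.le
      rw [← Subgroup.map_eq_bot_iff, map_commutator, map_commutator, hBmB, ← le_bot_iff, ← hq]
      have hAmA : Am.map f ≤ A := by
        rintro _ ⟨_, ⟨x, _, rfl⟩, rfl⟩
        exact x.2.1
      exact commutator_mono (commutator_mono le_rfl hAmA) hAmA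
    exact le_bot_iff.mp ((le_inf h2 h3).trans
      (inf_eq_bot_of_isPGroup hBmp (card_pPrimeCore_coprime p G)).le)
  have himg := h.2.2 Am Bm (PA.isPGroup'.map _) hBmp
    (fun a ha x hx => (mem_normalizer_iff.mp (hAmN ha) x).mp hx) hMle
    (by rw [hsupM]; infer_instance) hq0
  set C' := (centralizer (Bm : Set G)).subgroupOf N
  set C := centralizer (B : Set G') with hC
  have hcc : C' ≤ C.comap (f.comp N.subtype) := fun c hc => by
    rw [mem_comap, hC, mem_centralizer_iff]
    intro y hy
    rw [SetLike.mem_coe, ← hBmB] at hy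
    obtain ⟨b, hb, rfl⟩ := hy
    rw [MonoidHom.comp_apply, ← map_mul, ← map_mul]
    exact congrArg f (mem_centralizer_iff.mp hc b hb)
  let ψ : N ⧸ C' →* G' ⧸ C := QuotientGroup.map C' C (f.comp N.subtype) hcc
  have hψ : Function.Surjective ψ := fun z => by
    obtain ⟨y, rfl⟩ := QuotientGroup.mk_surjective z
    obtain ⟨x, hx, rfl⟩ := hNf.ge (mem_top y)
    exact ⟨QuotientGroup.mk ⟨x, hx⟩, rfl⟩
  rintro _ ⟨a, ha, rfl⟩
  have htopA : ((PA.mapSurjective hsurA : Sylow p A) : Subgroup A) = ⊤ :=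
    top_le_iff.mp ((PA.mapSurjective hsurA).is_maximal' (hA.to_subgroup ⊤) le_top).le
  obtain ⟨z, hz, hzx⟩ := htopA.ge (mem_top (⟨a, ha⟩ : A))
  have hza : f z = a := congrArg Subtype.val hzx
  have hzm : (z : G) ∈ Am := mem_map_of_mem _ hz
  refine map_pCore_le_of_surjective p ψ hψ ⟨_, himg ⟨⟨z, hAmN hzm⟩, hzm, rfl⟩, ?_⟩
  rw [← hza]
  rfl

theorem stab_quotient {G : Type*} [Group G] [Finite G] (h : IsPStable p G) :
    Stab p (G ⧸ pPrimeCore p G) :=
  stab_of_surjective h _ (QuotientGroup.mk'_surjective _) (QuotientGroup.ker_mk' _)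

theorem stab_of_isPStable {G : Type*} [Group G] [Finite G] (h : IsPStable p G)
    (hO : pPrimeCore p G = ⊥) : Stab p G :=
  stab_of_surjective h (MonoidHom.id G) Function.surjective_id (by rw [hO]; rfl)

theorem centralizer_pCore_le_of_constrained {G : Type u} [Group G] [Finite G]
    (h : IsPConstrained p G) (hO : pPrimeCore p G = ⊥) :
    centralizer (pCore p G : Set G) ≤ pCore p G := by
  let e : G ≃* G ⧸ pPrimeCore p G :=
    QuotientGroup.quotientBot.symm.trans (QuotientGroup.quotientMulEquivOfEq hO.symm)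
  exact Local.FusionRed.centralizer_pCore_le_of_equiv e.symm
    (Local.ClassTwo.centralizer_pCore_le_of_isPConstrained h)

/-! ### The functors -/

/-- The abelian functor. -/
def WA (Q : Type u) [Group Q] : Subgroup Q := zj 0 (⊤ : Subgroup Q)

/-- The elementary functor. -/
def WE (p : ℕ) (Q : Type u) [Group Q] : Subgroup Q := centerThompsonOf p (⊤ : Subgroup Q)

theorem zj_le_centerThompsonOf {G : Type*} [Group G] [Finite G] (Q : Subgroup G) :
    zj p Q ≤ centerThompsonOf p Q := by
  intro v hv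
  obtain ⟨A, hA⟩ := exists_fam p Q
  refine ⟨(thompsonOf_eq_jf _).ge (le_sSup hA (zj_le_mem hA hv)), mem_centralizer_iff.mpr ?_⟩
  intro a ha
  have hle : jf p Q ≤ centralizer ({v} : Set G) := sSup_le fun X hX b hb =>
    mem_centralizer_iff.mpr fun w hw => by
      rw [Set.mem_singleton_iff] at hw; subst hw
      exact hX.2.1.comm (zj_le_mem hX hv) hb
  exact (mem_centralizer_iff.mp (hle ((thompsonOf_eq_jf _).le ha)) v (Set.mem_singleton v)).symm

theorem centerThompsonOf_map {G H : Type*} [Group G] [Group H] [Finite G] [Finite H] (f : G →* H)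
    (hf : Function.Injective f) (Q : Subgroup G) :
    centerThompsonOf p (Q.map f) = (centerThompsonOf p Q).map f := by
  rw [centerThompsonOf, centerThompsonOf, center_map _ _ (by
    rw [(MonoidHom.ker_eq_bot_iff _).mpr hf, inf_bot_eq]), thompsonOf_map _ _ (by
    rw [(MonoidHom.ker_eq_bot_iff _).mpr hf, inf_bot_eq])]

theorem inducedFunctor_WA {G : Type u} [Group G] [Finite G] (P : Subgroup G) :
    inducedFunctor WA P = zj 0 P := by
  rw [inducedFunctor]
  change (zj 0 (⊤ : Subgroup P)).map P.subtype = zj 0 P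
  rw [← zj_map _ P.subtype_injective, ← MonoidHom.range_eq_map, range_subtype]

theorem inducedFunctor_WE {G : Type u} [Group G] [Finite G] (P : Subgroup G) :
    inducedFunctor (WE p) P = centerThompsonOf p P := by
  rw [inducedFunctor]
  change (centerThompsonOf p (⊤ : Subgroup P)).map P.subtype = centerThompsonOf p P
  rw [← centerThompsonOf_map _ P.subtype_injective, ← MonoidHom.range_eq_map, range_subtype]

theorem isCharPFunctor_WA : IsCharPFunctor.{u} p WA := by
  refine ⟨fun Q _ _ hQ _ => zj_ne_bot_aux (p := p) (hQ.to_subgroup ⊤) (dvd_zero p) top_ne_bot,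
    fun Q R _ _ _ hQ φ => ?_⟩
  haveI : Finite R := Finite.of_equiv Q φ.toEquiv
  change (zj 0 (⊤ : Subgroup Q)).map φ.toMonoidHom = zj 0 (⊤ : Subgroup R)
  rw [← zj_map _ φ.injective, map_top_of_surjective _ φ.surjective]

theorem isCharPFunctor_WE : IsCharPFunctor.{u} p (WE p) := by
  refine ⟨fun Q _ _ hQ _ h => ?_, fun Q R _ _ _ hQ φ => ?_⟩
  · exact zj_ne_bot_aux (p := p) (hQ.to_subgroup ⊤) dvd_rfl top_ne_bot
      (le_bot_iff.mp ((zj_le_centerThompsonOf _).trans h.le))
  · haveI : Finite R := Finite.of_equiv Q φ.toEquiv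
    change (centerThompsonOf p (⊤ : Subgroup Q)).map φ.toMonoidHom = centerThompsonOf p (⊤ : Subgroup R)
    rw [← centerThompsonOf_map _ φ.injective, map_top_of_surjective _ φ.surjective]

/-! ### The normal `p`-complement criterion -/

/-- In the minimal configuration `SL(2, p)` is not involved. -/
theorem not_invSL_of_coatom {Y : Type u} [Group Y] [Finite Y] (hp2 : p ≠ 2)
    (hQ : HasNormalPComplement p (Y ⧸ pCore p Y)) (T : Sylow p Y)
    (hco : IsCoatom (T : Subgroup Y)) : ¬ Quad.InvSL p Y := by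
  set O := pCore p Y
  set π := QuotientGroup.mk' O
  have hOT : O ≤ (T : Subgroup Y) := pCore_le_sylow T
  set Tb := T.mapSurjective (QuotientGroup.mk'_surjective O) with hTb
  set N := pPrimeCore p (Y ⧸ O) with hNdef
  have hNc : (Nat.card N).Coprime p := card_pPrimeCore_coprime p _
  obtain ⟨k, hk⟩ := hasNormalPComplement_iff_index.mp hQ
  have hcop : (Nat.card (Tb : Subgroup (Y ⧸ O))).Coprime (Nat.card N) := by
    obtain ⟨j, hj⟩ := IsPGroup.iff_card.mp Tb.isPGroup'
    rw [hj]
    exact (hNc.pow_right j).symm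
  have hsolv : Group.IsSolvable (Tb : Subgroup (Y ⧸ O)) ∨ Group.IsSolvable N := by
    haveI := Tb.isPGroup'.isNilpotent
    exact Or.inl inferInstance
  -- a Sylow `2`-subgroup of `N` normalized by `Tb`
  obtain ⟨S⟩ : Nonempty (Sylow 2 N) := inferInstance
  obtain ⟨n, hn, hinv⟩ := exists_conj_invariant (Tb : Subgroup (Y ⧸ O)) N le_normalizer_of_normal hcop hsolv
    ((S : Subgroup N).map N.subtype) fun a _ => by
      let σ : MulAut N := MulAut.conjNormal a
      obtain ⟨k, hk'⟩ := MulAction.exists_smul_eq N S (S.mapSurjective (f := σ.toMonoidHom) σ.surjective)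
      have h1 : (S : Subgroup N).map σ.toMonoidHom = (S : Subgroup N).map (MulAut.conj k).toMonoidHom := by
        have := congrArg (fun Q : Sylow 2 N => (Q : Subgroup N)) hk'
        exact this.symm
      refine ⟨k, k.2, ?_⟩
      ext x
      constructor
      · rintro ⟨_, ⟨y, hy, rfl⟩, rfl⟩
        obtain ⟨w, hw, hwe⟩ := h1.ge (mem_map_of_mem (MulAut.conj k).toMonoidHom hy)
        exact ⟨w, mem_map_of_mem _ hw, (congrArg Subtype.val hwe)⟩
      · rintro ⟨_, ⟨y, hy, rfl⟩, rfl⟩
        obtain ⟨w, hw, hwe⟩ := h1.le (mem_map_of_mem σ.toMonoidHom hy)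
        exact ⟨w, mem_map_of_mem _ hw, (congrArg Subtype.val hwe)⟩
  set S' := MulAut.conj n • (S : Subgroup N).map N.subtype with hS'
  have hS'N : S' ≤ N := by
    rintro _ ⟨y, hy, rfl⟩
    obtain ⟨z, _, rfl⟩ := hy
    exact (inferInstance : N.Normal).conj_mem _ z.2 n
  have hS'T : S' ⊓ (Tb : Subgroup (Y ⧸ O)) = ⊥ :=
    le_bot_iff.mp ((inf_le_inf_right _ hS'N).trans (inf_eq_bot_of_coprime hcop.symm).le)
  have hS'ab : ∀ x ∈ S', ∀ y ∈ S', x * y = y * x := by
    by_contra hnab
    push Not at hnab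
    have hS'ne : S' ≠ ⊥ := by
      obtain ⟨x, hx, y, hy, hne⟩ := hnab
      intro h
      rw [h, mem_bot] at hx
      exact hne (by rw [hx, one_mul, mul_one])
    set D := ⁅S', S'⁆ with hD
    have hDS : D ≤ S' := commutator_le.mpr fun x hx y hy =>
      S'.mul_mem (S'.mul_mem (S'.mul_mem hx hy) (S'.inv_mem hx)) (S'.inv_mem hy)
    have hTD : (Tb : Subgroup (Y ⧸ O)) ≤ normalizer (D : Set (Y ⧸ O)) := fun t ht => by
      have h1 := hinv ht
      rw [mem_normalizer_iff_map_conj_eq] at h1 ⊢
      rw [hD, map_commutator, h1]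
    have hle : (T : Subgroup Y) ≤ (D ⊔ (Tb : Subgroup (Y ⧸ O))).comap π := fun t ht =>
      mem_sup_right (mem_map_of_mem π ht)
    rcases hle.lt_or_eq with hlt | heq
    · have h1 := hco.2 _ hlt
      have h2 : D ⊔ (Tb : Subgroup (Y ⧸ O)) = ⊤ :=
        comap_injective (QuotientGroup.mk'_surjective O) (by rw [h1, comap_top])
      have h3 := card_sup_mul_card_inf D (Tb : Subgroup (Y ⧸ O)) hTD
      rw [h2, le_bot_iff.mp ((inf_le_inf_right _ hDS).trans hS'T.le), card_bot, mul_one, card_top] at h3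
      have h4 := card_sup_mul_card_inf S' (Tb : Subgroup (Y ⧸ O)) hinv
      rw [hS'T, card_bot, mul_one] at h4
      have h5 : Nat.card ↥(S' ⊔ (Tb : Subgroup (Y ⧸ O))) ≤ Nat.card (Y ⧸ O) := card_le_card_group _
      rw [h3, h4] at h5
      have h6 : Nat.card S' ≤ Nat.card D := Nat.le_of_mul_le_mul_right h5 Nat.card_pos
      have h7 : D = S' := eq_of_le_of_card_ge hDS h6
      have hSp : IsPGroup 2 S' := (S.isPGroup'.map _).map _
      haveI := hSp.isNilpotent
      haveI : Nontrivial S' := S'.nontrivial_iff_ne_bot.mpr hS'ne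
      haveI : Group.IsSolvable S' := inferInstance
      refine (Group.IsSolvable.commutator_lt_top_of_nontrivial S').ne ?_
      apply Subgroup.map_injective S'.subtype_injective
      rw [Subgroup.map_subtype_commutator, ← hD, h7, ← MonoidHom.range_eq_map, range_subtype]
    · obtain ⟨x, hx, y, hy, hne⟩ := hnab
      apply hne
      rw [← commutatorElement_eq_one_iff_mul_comm, ← mem_bot, ← hS'T]
      refine ⟨hDS (commutator_mem_commutator hx hy), ?_⟩
      obtain ⟨z, hz⟩ := QuotientGroup.mk'_surjective O ⁅x, y⁆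
      have hzT : z ∈ (T : Subgroup Y) := by
        rw [heq, mem_comap, hz]
        exact mem_sup_left (commutator_mem_commutator hx hy)
      exact ⟨z, hzT, hz⟩
  -- Sylow `2`-subgroups of `Y` are abelian
  have hab : ∀ U : Sylow 2 Y, IsMulCommutative U := by
    intro U
    set Ub := (U : Subgroup Y).map π with hUb
    have hUp : IsPGroup 2 Ub := U.isPGroup'.map π
    have hUN : Ub ≤ N := by
      refine le_of_coprime_index N ?_
      obtain ⟨j, hj⟩ := IsPGroup.iff_card.mp hUp
      rw [hj, hk]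
      exact ((Nat.coprime_primes Nat.prime_two Fact.out).mpr (Ne.symm hp2)).pow j k
    obtain ⟨R, hR⟩ := (hUp.of_equiv (subgroupOfEquivOfLe hUN).symm).exists_le_sylow
    obtain ⟨m, hm⟩ := MulAction.exists_smul_eq N S R
    refine ⟨⟨fun x y => Subtype.ext ?_⟩⟩
    have key : ∀ z : (U : Subgroup Y), ∃ w ∈ S', π (z : Y) = ((m : Y ⧸ O) * n⁻¹) * w * ((m : Y ⧸ O) * n⁻¹)⁻¹ := by
      intro z
      have h1 : (⟨π (z : Y), hUN (mem_map_of_mem π z.2)⟩ : N) ∈ (R : Subgroup N) :=
        hR (show _ ∈ Ub.subgroupOf N from mem_map_of_mem π z.2)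
      rw [← hm] at h1
      obtain ⟨w, hw, hwe⟩ := h1
      refine ⟨n * (w : Y ⧸ O) * n⁻¹, ⟨_, mem_map_of_mem _ hw, rfl⟩, ?_⟩
      have h2 : (m : Y ⧸ O) * w * (m : Y ⧸ O)⁻¹ = π (z : Y) := congrArg Subtype.val hwe
      rw [← h2]; group
    obtain ⟨a, ha, hax⟩ := key x
    obtain ⟨b, hb, hby⟩ := key y
    have h3 : ⁅(x : Y), (y : Y)⁆ ∈ (U : Subgroup Y) ⊓ O := by
      refine ⟨(U : Subgroup Y).mul_mem ((U : Subgroup Y).mul_mem ((U : Subgroup Y).mul_mem x.2 y.2)
        ((U : Subgroup Y).inv_mem x.2)) ((U : Subgroup Y).inv_mem y.2), ?_⟩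
      change ⁅(x : Y), (y : Y)⁆ ∈ O
      rw [← QuotientGroup.eq_one_iff]
      change π ⁅(x : Y), (y : Y)⁆ = 1
      rw [map_commutatorElement, hax, hby, commutatorElement_eq_one_iff_mul_comm]
      exact ((show Commute a b from hS'ab a ha b hb).map (MulAut.conj ((m : Y ⧸ O) * n⁻¹)).toMonoidHom).eq
    rw [inf_comm, inf_eq_bot_of_isPGroup (isPGroup_pCore p Y) (by
      obtain ⟨j, hj⟩ := IsPGroup.iff_card.mp U.isPGroup'
      rw [hj]
      exact (((Nat.coprime_primes Nat.prime_two Fact.out).mpr (Ne.symm hp2)).pow_left j)), mem_bot,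
      commutatorElement_eq_one_iff_mul_comm] at h3
    exact h3
  intro h
  obtain ⟨U⟩ : Nonempty (Sylow 2 Y) := inferInstance
  exact h.not_comm_sylow hp2 U (hab U)

/-- In the minimal configuration the action is `p`-stable. -/
theorem stab_of_coatom {Y : Type u} [Group Y] [Finite Y] (hp2 : p ≠ 2)
    (hQ : HasNormalPComplement p (Y ⧸ pCore p Y)) (T : Sylow p Y)
    (hco : IsCoatom (T : Subgroup Y)) : Stab p Y :=
  stab_of_isPStableOn fun B _ hB => Quad.isPStableOn_of_free hp2 (not_invSL_of_coatom hp2 hQ T hco) B hB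

theorem npc_of_zj {G : Type u} [Group G] [Finite G] (hp2 : p ≠ 2) (P : Sylow p G)
    (h : HasNormalPComplement p (normalizer (zj 0 (P : Subgroup G) : Set G))) :
    HasNormalPComplement p G := by
  refine Local.NPCFunctor.npc_of_functor isCharPFunctor_WA (fun Y _ _ _ hC hQ T hco => ?_) P
    (by rwa [inducedFunctor_WA])
  rw [inducedFunctor_WA]
  exact zj_normal hp2 (stab_of_coatom hp2 hQ T hco) hC T

theorem npc_of_centerThompson {G : Type u} [Group G] [Finite G] (hp2 : p ≠ 2) (P : Sylow p G)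
    (h : HasNormalPComplement p (normalizer (centerThompsonOf p (P : Subgroup G) : Set G))) :
    HasNormalPComplement p G := by
  refine Local.NPCFunctor.npc_of_functor isCharPFunctor_WE (fun Y _ _ _ hC hQ T hco => ?_) P
    (by rwa [inducedFunctor_WE])
  rw [inducedFunctor_WE]
  exact centerThompsonOf_normal hp2 (stab_of_coatom hp2 hQ T hco) hC T

/-! ### Local control -/

theorem map_le_conj {G : Type u} [Group G] {g : G} {X Y : Subgroup G}
    (h : ∀ x ∈ X, g * x * g⁻¹ ∈ Y) : X.map (MulAut.conj g).toMonoidHom ≤ Y := by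
  rintro _ ⟨x, hx, rfl⟩
  exact h x hx

/-- All `p`-locals inside `N(Z(J(P)))`. -/
theorem normalizer_le_of_locals {G : Type u} [Group G] [Finite G] (P : Sylow p G)
    (hloc : ∀ Q : Subgroup G, IsPGroup p Q → Q ≠ ⊥ → ∀ R : Sylow p (normalizer (Q : Set G)),
      (zj 0 (R : Subgroup (normalizer (Q : Set G)))).Normal) :
    ∀ (n : ℕ) (Q : Subgroup G), Q ≤ (P : Subgroup G) → Q ≠ ⊥ →
      Nat.card (P : Subgroup G) ≤ Nat.card ↥((P : Subgroup G) ⊓ normalizer (Q : Set G)) + n →
      normalizer (Q : Set G) ≤ normalizer (zj 0 (P : Subgroup G) : Set G) := by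
  intro n
  induction n using Nat.strong_induction_on with
  | _ n ih =>
    intro Q hQP hQ1 hn
    set H := normalizer (Q : Set G) with hH
    set M := normalizer (zj 0 (P : Subgroup G) : Set G) with hM
    set T := (P : Subgroup G) ⊓ H with hT
    have hPM : (P : Subgroup G) ≤ M := le_normalizer_zj _
    -- normality of the local functor value
    have hnorm : ∀ R : Subgroup G, R ≤ H → IsPGroup p R → ¬ p ∣ R.relIndex H →
        H ≤ normalizer (zj 0 R : Set G) := by
      intro R hRH hRp hidx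
      let RS : Sylow p H := (hRp.of_equiv (subgroupOfEquivOfLe hRH).symm).toSylow hidx
      have hn' := hloc Q (P.isPGroup'.to_le hQP) hQ1 RS
      intro h hh
      rw [mem_normalizer_iff_map_conj_eq]
      have e1 : zj 0 R = (zj 0 (RS : Subgroup H)).map H.subtype := by
        rw [← zj_map _ H.subtype_injective]
        exact congrArg (zj 0) (map_subgroupOf_eq_of_le hRH).symm
      rw [e1, map_map]
      have e2 : (MulAut.conj h).toMonoidHom.comp H.subtype =
          H.subtype.comp (MulAut.conj (⟨h, hh⟩ : H)).toMonoidHom := by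
        ext x; simp
      have e3 := mem_normalizer_iff_map_conj_eq.mp
        (show (⟨h, hh⟩ : H) ∈ normalizer ((zj 0 (RS : Subgroup H) : Subgroup H) : Set H) by
          haveI := hn'
          rw [normalizer_eq_top]; trivial)
      change map ((MulAut.conj h).toMonoidHom.comp H.subtype) _ = _
      rw [e2, ← map_map]
      exact congrArg (map H.subtype) e3
    by_cases hidx : p ∣ T.relIndex H
    · -- a larger `p`-subgroup of `M ⊓ H`
      obtain ⟨R, hR⟩ := ((P.isPGroup'.to_le (inf_le_left : T ≤ _)).of_equiv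
        (subgroupOfEquivOfLe (inf_le_right : T ≤ H)).symm).exists_le_sylow
      set R' := (R : Subgroup H).map H.subtype with hR'
      have hTR : T ≤ R' := fun x hx => ⟨⟨x, hx.2⟩, hR hx, rfl⟩
      have hne : T ≠ R' := by
        intro e
        apply R.not_dvd_index
        rw [e, hR'] at hidx
        rwa [relIndex, subgroupOf, comap_map_eq_self_of_injective H.subtype_injective] at hidx
      have hR'p : IsPGroup p R' := R.isPGroup'.map _
      haveI := hR'p.isNilpotent
      have hlt : T.subgroupOf R' < ⊤ := lt_top_iff_ne_top.mpr fun h =>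
        hne (le_antisymm hTR (subgroupOf_eq_top.mp h))
      obtain ⟨w, hw, hwn⟩ := SetLike.exists_of_lt (Group.normalizerCondition_of_isNilpotent _ hlt)
      rw [← subgroupOf_normalizer_eq hTR] at hw
      set T1 := R' ⊓ normalizer (T : Set G) with hT1
      have hTT1 : T ≤ T1 := le_inf hTR le_normalizer
      have hTltT1 : Nat.card T < Nat.card T1 :=
        lt_of_le_of_ne (card_le_of_le hTT1) fun e => hwn (show (w : G) ∈ T by
          rw [eq_of_le_of_card_ge hTT1 e.ge]; exact ⟨w.2, hw⟩)
      by_cases hTP : T = (P : Subgroup G)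
      · exact absurd (P.is_maximal' hR'p (hTP ▸ hTR)) fun e => hne (by rw [hTP, e])
      have hT1M : T1 ≤ M := by
        have hTne : T ≠ ⊥ := fun e => hQ1 (le_bot_iff.mp (e ▸ le_inf hQP le_normalizer))
        have hlt' := Local.lt_sylow_inf_normalizer P (lt_of_le_of_ne inf_le_left hTP)
        have hc : Nat.card T < Nat.card ↥((P : Subgroup G) ⊓ normalizer (T : Set G)) :=
          lt_of_le_of_ne (card_le_of_le hlt'.le) fun e => hlt'.ne (eq_of_le_of_card_ge hlt'.le e.ge)
        exact inf_le_right.trans (ih (n - 1) (by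
          have := card_le_of_le (inf_le_left : (P : Subgroup G) ⊓ normalizer (T : Set G) ≤ _)
          omega) T inf_le_left hTne (by omega))
      obtain ⟨m, hm, hmT1⟩ := Local.exists_conj_le_of_not_dvd_relIndex hPM P.isPGroup' (by
        intro hd
        exact P.not_dvd_index (hd.trans (relIndex_dvd_index_of_le hPM))) hT1M (hR'p.to_le inf_le_left)
      set Q2 := Q.map (MulAut.conj m).toMonoidHom with hQ2
      have hQT : Q ≤ T1 := (le_inf hQP le_normalizer).trans hTT1
      have hQ2P : Q2 ≤ (P : Subgroup G) := map_le_conj fun x hx => hmT1 x (hQT hx)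
      have hQ2ne : Q2 ≠ ⊥ := fun e =>
        hQ1 ((map_eq_bot_iff_of_injective _ (MulAut.conj m).injective).mp e)
      have hnQ2 : normalizer (Q2 : Set G) = H.map (MulAut.conj m).toMonoidHom :=
        (Local.map_conj_normalizer m Q).symm
      have h2 : Nat.card T1 ≤ Nat.card ↥((P : Subgroup G) ⊓ normalizer (Q2 : Set G)) := by
        rw [← card_map_of_injective (f := (MulAut.conj m).toMonoidHom) (K := T1) (MulAut.conj m).injective]
        refine card_le_of_le (le_inf (map_le_conj hmT1) ?_)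
        rw [hnQ2]
        exact map_mono (inf_le_left.trans (map_subtype_le _))
      have h3 := ih (n - 1) (by
        have := card_le_of_le (inf_le_left : (P : Subgroup G) ⊓ normalizer (Q2 : Set G) ≤ _)
        omega) Q2 hQ2P hQ2ne (by omega)
      rw [hnQ2] at h3
      intro h hh
      have h4 := h3 (mem_map_of_mem (MulAut.conj m).toMonoidHom hh)
      have h5 := M.mul_mem (M.mul_mem (M.inv_mem hm) h4) hm
      simpa [mul_assoc] using h5
    · -- `T` is Sylow in `H`
      have hHZ := hnorm T inf_le_right (P.isPGroup'.to_le inf_le_left) hidx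
      by_cases hTP : T = (P : Subgroup G)
      · rw [hTP] at hHZ
        exact hHZ
      set Z := zj 0 T with hZ
      have hTne : T ≠ ⊥ := fun e => hQ1 (le_bot_iff.mp (e ▸ le_inf hQP le_normalizer))
      have hZne : Z ≠ ⊥ :=
        zj_ne_bot_aux (P.isPGroup'.to_le inf_le_left : IsPGroup p T) (dvd_zero p) hTne
      have hlt' := Local.lt_sylow_inf_normalizer P (lt_of_le_of_ne inf_le_left hTP)
      have hc : Nat.card T < Nat.card ↥((P : Subgroup G) ⊓ normalizer (T : Set G)) :=
        lt_of_le_of_ne (card_le_of_le hlt'.le) fun e => hlt'.ne (eq_of_le_of_card_ge hlt'.le e.ge)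
      have hc2 : Nat.card ↥((P : Subgroup G) ⊓ normalizer (T : Set G)) ≤
          Nat.card ↥((P : Subgroup G) ⊓ normalizer (Z : Set G)) :=
        card_le_of_le (inf_le_inf_left _ (normalizer_le_zj T))
      exact hHZ.trans (ih (n - 1) (by
        have := card_le_of_le (inf_le_left : (P : Subgroup G) ⊓ normalizer (Z : Set G) ≤ _)
        omega) Z ((zj_le _ _).trans inf_le_left) hZne (by omega))

/-! ### Control of fusion without `SL(2, p)` -/

theorem controls_of_free {G : Type u} [Group G] [Finite G] (hp2 : p ≠ 2)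
    (hfree : ¬ Quad.InvSL p G) :
    Local.FusionRed.Hyp p G {WE.{u} p} := by
  intro X _ _ hX hC S
  obtain ⟨K, f, hf⟩ := hX
  have hfreeX : ¬ Quad.InvSL p X := fun h => hfree (h.of_surjective f hf).of_subgroup
  refine Local.FusionRed.ctrlAt_of_normal (fun W hW => ?_) (Set.mem_singleton (WE.{u} p)) S ?_
  · rw [Set.mem_singleton_iff] at hW
    subst hW
    exact isCharPFunctor_WE
  · rw [inducedFunctor_WE]
    exact centerThompsonOf_normal hp2
      (stab_of_isPStableOn fun B _ hB => Quad.isPStableOn_of_free hp2 hfreeX B hB) hC S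

end Cfsg.Agent.Solv.ZJ
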