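import Cfsg.Agent.Lib.Solv.QdStable
import Cfsg.Agent.Lib.Solv.ZJApps

/-!
`Qd(p)` and control of strong fusion by `Z(J)`.
-/

set_option autoImplicit false
set_option linter.unusedSectionVars false
set_option linter.style.haveILetI false

universe u v

namespace Cfsg.Agent.Solv.Quad

open Subgroup Local
open scoped commutatorElement

variable {p : ℕ} [Fact p.Prime]

/-- Without `Qd(p)`, `Z(J(P))` controls strong fusion. -/
theorem hyp_of_qdFree {G : Type u} [Group G] [Finite G] (hp2 : p ≠ 2)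
    (hfree : ¬ Involves ↥(qd p) G) : FusionRed.Hyp p G {ZJ.WA.{u}} := by
  intro X _ _ hX hC S
  obtain ⟨K, f, hf⟩ := hX
  have hfreeX : ¬ Involves ↥(qd p) X := fun h => hfree (involves_of_subgroup (involves_of_surjective f hf h))
  refine FusionRed.ctrlAt_of_normal (fun W hW => ?_) (Set.mem_singleton ZJ.WA.{u}) S ?_
  · rw [Set.mem_singleton_iff] at hW
    subst hW
    exact ZJ.isCharPFunctor_WA
  · rw [ZJ.inducedFunctor_WA]
    exact ZJ.zj_normal hp2
      (ZJ.stab_of_isPStableOn fun B _ hB => isPStableOn_of_qdFree hp2 hfreeX B hB) hC S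

theorem controlsStrongFusion_zj_of_qdFree {G : Type u} [Group G] [Finite G] (hp2 : p ≠ 2)
    (hfree : ¬ Involves ↥(qd p) G) (S : Sylow p G) :
    ControlsStrongFusion p (centerThompsonAOf (S : Subgroup G)) := by
  rw [← ZJ.zj_zero, ← ZJ.inducedFunctor_WA]
  refine FusionRed.controlsStrongFusion_of_ctrlAt S (FusionRed.ctrl_of_hyp (fun W hW => ?_) G
    (hyp_of_qdFree hp2 hfree) S)
  rw [Set.mem_singleton_iff] at hW
  subst hW
  exact ZJ.isCharPFunctor_WA

theorem controlsStrongFusion_map {X : Type u} {Y : Type v} [Group X] [Group Y] [Finite X] (e : X ≃* Y)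
    {U : Subgroup X} (h : ControlsStrongFusion p U) : ControlsStrongFusion p (U.map e.toMonoidHom) := by
  obtain ⟨T, hUT, hT⟩ := h
  refine ⟨T.mapSurjective (f := e.toMonoidHom) e.surjective, map_mono hUT, fun A hA => ⟨hA, fun g hg => ?_⟩⟩
  have hback : ∀ y ∈ (T : Subgroup X).map e.toMonoidHom, e.symm y ∈ (T : Subgroup X) := by
    rintro _ ⟨t, ht, rfl⟩
    rw [MulEquiv.coe_toMonoidHom, MulEquiv.symm_apply_apply]
    exact ht
  obtain ⟨x, hx, he⟩ := (hT (e.symm '' A) (by rintro _ ⟨a, ha, rfl⟩; exact hback a (hA ha))).2 (e.symm g) (by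
    rintro _ ⟨_, ⟨a, ha, rfl⟩, rfl⟩
    have h' := hback _ (hg ⟨a, ha, rfl⟩)
    simp only [map_mul, map_inv] at h'
    exact h')
  refine ⟨e x, le_normalizer_map e.toMonoidHom (mem_map_of_mem _ hx), fun a ha => ?_⟩
  simpa using congrArg e (he _ ⟨a, ha, rfl⟩)

theorem mem_transGroup_of_commute {q : qd p} (h : ∀ v ∈ transGroup (p := p), v * q = q * v) :
    q ∈ transGroup (p := p) := by
  obtain ⟨a, b, c, e, r, s, hd, rfl⟩ := exists_qdElt q
  have key : ∀ r' s' : ZMod p, r + r' = a * r' + b * s' + r ∧ s + s' = c * r' + e * s' + s := fun r' s' => by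
    have h1 := h (Local.trans r' s') ⟨r', s', rfl⟩
    rw [Local.trans, qdElt_mul, qdElt_mul] at h1
    have h2 := congrArg (fun q : qd p => ((q : Matrix.SpecialLinearGroup (Fin 3) (ZMod p)) :
      Matrix (Fin 3) (Fin 3) (ZMod p)) 0 2) h1
    have h3 := congrArg (fun q : qd p => ((q : Matrix.SpecialLinearGroup (Fin 3) (ZMod p)) :
      Matrix (Fin 3) (Fin 3) (ZMod p)) 1 2) h1
    simp [qdElt, affMat] at h2 h3
    exact ⟨by linear_combination h2, by linear_combination h3⟩
  obtain ⟨k1, k2⟩ := key 1 0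
  obtain ⟨k3, k4⟩ := key 0 1
  exact ⟨r, s, qdElt_congr _ _ (by linear_combination -k1) (by linear_combination -k3)
    (by linear_combination -k2) (by linear_combination -k4) rfl rfl⟩

/-- The abelian subgroup spanned by a translation and a transvection. -/
def qdAb : Subgroup (qd p) where
  carrier := {q | ∃ b r : ZMod p, q = qdElt 1 b 0 1 r 0 (by ring)}
  one_mem' := ⟨0, 0, qdElt_one.symm⟩
  mul_mem' := by
    rintro _ _ ⟨b, r, rfl⟩ ⟨b', r', rfl⟩
    exact ⟨b + b', r + r', by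
      rw [qdElt_mul]; exact qdElt_congr _ _ (by ring) (by ring) (by ring) (by ring) (by ring) (by ring)⟩
  inv_mem' := by
    rintro _ ⟨b, r, rfl⟩
    refine ⟨-b, -r, inv_eq_of_mul_eq_one_right ?_⟩
    rw [qdElt_mul]
    exact (qdElt_congr _ _ (by ring) (by ring) (by ring) (by ring) (by ring) (by ring)).trans qdElt_one

theorem qdAb_pow (b r : ZMod p) (n : ℕ) :
    qdElt 1 b 0 1 r 0 (by ring) ^ n = qdElt 1 ((n : ZMod p) * b) 0 1 ((n : ZMod p) * r) 0 (by ring) := by
  induction n with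
  | zero =>
    rw [pow_zero]
    exact qdElt_one.symm.trans (qdElt_congr _ _ rfl (by simp) rfl rfl (by simp) rfl)
  | succ n ih =>
    rw [pow_succ, ih, qdElt_mul]
    exact qdElt_congr _ _ (by ring) (by push_cast; ring) (by ring) (by ring) (by push_cast; ring) (by ring)

theorem card_qdAb : Nat.card (qdAb (p := p)) = p ^ 2 := by
  have e : ZMod p × ZMod p ≃ qdAb (p := p) :=
    Equiv.ofBijective (fun br => ⟨qdElt 1 br.1 0 1 br.2 0 (by ring), br.1, br.2, rfl⟩) ⟨fun a b h => by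
      have h' := congrArg Subtype.val h
      have h2 := congrArg (fun q : qd p => ((q : Matrix.SpecialLinearGroup (Fin 3) (ZMod p)) :
        Matrix (Fin 3) (Fin 3) (ZMod p)) 0 1) h'
      have h3 := congrArg (fun q : qd p => ((q : Matrix.SpecialLinearGroup (Fin 3) (ZMod p)) :
        Matrix (Fin 3) (Fin 3) (ZMod p)) 0 2) h'
      simp [qdElt, affMat] at h2 h3
      exact Prod.ext h2 h3, by
      rintro ⟨_, b, r, rfl⟩
      exact ⟨(b, r), rfl⟩⟩
  rw [← Nat.card_congr e, Nat.card_prod, Nat.card_zmod, sq]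

/-- In `Qd(p)` the centre of `J` does not control strong fusion. -/
theorem exists_sylow_not_controls :
    ∃ T : Sylow p (qd p), ¬ ControlsStrongFusion p (centerThompsonAOf (T : Subgroup (qd p))) := by
  classical
  set V := transGroup (p := p) with hV
  haveI hVn : V.Normal := transGroup_normal
  have hVp : IsPGroup p V := IsPGroup.iff_card.mpr ⟨2, card_transGroup⟩
  have hAp : IsPGroup p (qdAb (p := p)) := IsPGroup.iff_card.mpr ⟨2, card_qdAb⟩
  obtain ⟨T, hT⟩ := (hAp.to_sup_of_normal_right hVp).exists_le_sylow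
  refine ⟨T, fun hctl => ?_⟩
  rw [← ZJ.zj_zero] at hctl
  set Z := ZJ.zj 0 (T : Subgroup (qd p)) with hZ
  obtain ⟨T', -, hctl⟩ := hctl
  have hVT' : V ≤ (T' : Subgroup (qd p)) := (le_pCore (p := p) hVp).trans (pCore_le_sylow T')
  have hVN : V ≤ normalizer (Z : Set (qd p)) :=
    (le_sup_right.trans hT).trans (ZJ.le_normalizer_zj _)
  have htop : ∀ g : qd p, g ∈ normalizer (Z : Set (qd p)) := fun g => by
    obtain ⟨x, hx, he⟩ := (hctl (V : Set (qd p)) hVT').2 g (by
      rintro _ ⟨a, ha, rfl⟩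
      exact hVT' (hVn.conj_mem a ha g))
    have hm : x⁻¹ * g ∈ V := mem_transGroup_of_commute fun v hv => by
      have h := he v hv
      calc v * (x⁻¹ * g) = x⁻¹ * (x * v * x⁻¹) * g := by group
        _ = x⁻¹ * (g * v * g⁻¹) * g := by rw [h]
        _ = x⁻¹ * g * v := by group
    simpa using mul_mem hx (hVN hm)
  haveI hZn : Z.Normal := normalizer_eq_top_iff.mp (eq_top_iff.mpr fun g _ => htop g)
  have hZne : Z ≠ ⊥ := by
    refine ZJ.zj_ne_bot_aux (p := p) T.isPGroup' (dvd_zero p) fun h => ?_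
    have h1 : V ≤ ⊥ := (le_sup_right.trans hT).trans h.le
    have h2 := (h1 (x := Local.trans 1 0) ⟨1, 0, rfl⟩)
    rw [mem_bot] at h2
    have h3 := (trans_inj (h2.trans qdElt_one.symm)).1
    exact one_ne_zero h3
  -- `Z` contains every translation
  have hI : ∃ r s : ZMod p, Local.trans r s ∈ Z ∧ (r ≠ 0 ∨ s ≠ 0) := by
    by_contra hno
    push Not at hno
    have hdis : ∀ z ∈ Z, z ∈ V := fun z hz => mem_transGroup_of_commute fun v hv => by
      have h1 : v * z * v⁻¹ * z⁻¹ ∈ V := by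
        rw [mul_assoc v, mul_assoc v]
        exact V.mul_mem hv (hVn.conj_mem _ (V.inv_mem hv) z)
      have h2 : v * z * v⁻¹ * z⁻¹ ∈ Z := Z.mul_mem (hZn.conj_mem z hz v) (Z.inv_mem hz)
      obtain ⟨r, s, hrs⟩ := h1
      obtain ⟨h3, h4⟩ := hno r s (hrs ▸ h2)
      rw [h3, h4, show Local.trans (0 : ZMod p) 0 = 1 from qdElt_one] at hrs
      rw [mul_inv_eq_one, mul_inv_eq_iff_eq_mul] at hrs
      exact hrs
    refine hZne ((eq_bot_iff_forall _).mpr fun z hz => ?_)
    obtain ⟨r, s, rfl⟩ := hdis z hz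
    obtain ⟨h3, h4⟩ := hno r s hz
    rw [h3, h4]
    exact qdElt_one
  have hconj : ∀ (a b c e : ZMod p) (hd : a * e - b * c = 1) (r s : ZMod p), Local.trans r s ∈ Z →
      Local.trans (a * r + b * s) (c * r + e * s) ∈ Z := fun a b c e hd r s hz => by
    have h := hZn.conj_mem _ hz (qdElt a b c e 0 0 hd)
    convert h using 1
    rw [eq_mul_inv_iff_mul_eq, Local.trans, Local.trans, qdElt_mul, qdElt_mul]
    exact qdElt_congr _ _ (by ring) (by ring) (by ring) (by ring) (by ring) (by ring)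
  have hscal : ∀ (r s k : ZMod p), Local.trans r s ∈ Z → Local.trans (k * r) (k * s) ∈ Z := fun r s k hz => by
    have h := Z.pow_mem hz k.val
    rwa [trans_pow, ZMod.natCast_zmod_val] at h
  obtain ⟨r0, hr0, hr0Z⟩ : ∃ r0 : ZMod p, r0 ≠ 0 ∧ Local.trans r0 0 ∈ Z := by
    obtain ⟨r, s, hz, hne⟩ := hI
    by_cases hs : s = 0
    · subst hs
      exact ⟨r, hne.resolve_right (fun h => h rfl), hz⟩
    · refine ⟨s, hs, ?_⟩
      have h := Z.mul_mem (hconj 1 1 0 1 (by ring) r s hz) (hscal r s (-1) hz)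
      rw [trans_mul] at h
      convert h using 2 <;> ring
  have hVZ : V ≤ Z := by
    rintro _ ⟨r, s, rfl⟩
    have h1 := hscal r0 0 (r / r0) hr0Z
    have h2 := hconj 0 1 (-1) 0 (by ring) _ _ (hscal r0 0 (-(s / r0)) hr0Z)
    have h3 := Z.mul_mem h1 h2
    rw [trans_mul] at h3
    convert h3 using 2 <;> field_simp <;> ring
  -- but then `V` is the only member of the family
  obtain ⟨A, hA⟩ := ZJ.exists_fam 0 (T : Subgroup (qd p))
  have hsub : ∀ B : Subgroup (qd p), ZJ.Adm 0 B → V ≤ B → B ≤ V := fun B hB hVB b hb =>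
    mem_transGroup_of_commute fun v hv => hB.comm (hVB hv) hb
  have hab : ZJ.Adm 0 (qdAb (p := p)) := ⟨⟨⟨fun x y => Subtype.ext (by
    obtain ⟨b, r, hx⟩ := x.2
    obtain ⟨b', r', hy⟩ := y.2
    rw [Subgroup.coe_mul, Subgroup.coe_mul, hx, hy, qdElt_mul, qdElt_mul]
    exact qdElt_congr _ _ (by ring) (by ring) (by ring) (by ring) (by ring) (by ring))⟩⟩,
    fun a _ => pow_zero a⟩
  have hAV := hsub A hA.2.1 (hVZ.trans (ZJ.zj_le_mem hA))
  have habf : qdAb (p := p) ∈ ZJ.fam 0 (T : Subgroup (qd p)) := ⟨le_sup_left.trans hT, hab,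
    fun B hB hBa => (hA.2.2 B hB hBa).trans (by
      rw [card_qdAb, ← card_transGroup]
      exact Subgroup.card_le_of_le hAV)⟩
  obtain ⟨r, s, hrs⟩ := hsub _ hab (hVZ.trans (ZJ.zj_le_mem habf))
    (⟨1, 0, rfl⟩ : qdElt (1 : ZMod p) 1 0 1 0 0 (by ring) ∈ qdAb (p := p))
  have h2 := congrArg (fun q : qd p => ((q : Matrix.SpecialLinearGroup (Fin 3) (ZMod p)) :
    Matrix (Fin 3) (Fin 3) (ZMod p)) 0 1) hrs
  simp [Local.trans, qdElt, affMat] at h2

end Cfsg.Agent.Solv.Quad
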