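import Cfsg.Agent.Lib.Solv.ExtraspecialClass
import Cfsg.Prelude.Def_CaseTheorems

/-!
The two types of extraspecial `2`-groups: square roots of one and rank.
-/

set_option autoImplicit false
set_option linter.style.haveILetI false
set_option linter.unusedSectionVars false

namespace Cfsg.Agent.Solv.ESClass

open Subgroup
open scoped commutatorElement

variable {G : Type*} [Group G] [Finite G] {D : ES 2 G} {K : Subgroup G} {a b : G}

instance fact_two : Fact (Nat.Prime 2) := ⟨Nat.prime_two⟩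

/-- The number of square roots of one in a subgroup. -/
noncomputable def sqN (K : Subgroup G) : ℕ := Nat.card {x : G // x ∈ K ∧ x ^ 2 = 1}

theorem z_sq (D : ES 2 G) : D.z * D.z = 1 := by
  have h := pow_orderOf_eq_one D.z
  rwa [D.hz, pow_two] at h

theorem z_ne (D : ES 2 G) : D.z ≠ 1 := fun h => by
  have := D.hz
  rw [h, orderOf_one] at this
  omega

theorem sq_cases (D : ES 2 G) (x : G) : x ^ 2 = 1 ∨ x ^ 2 = D.z := by
  obtain ⟨i, hi, he⟩ := D.exists_lt _ (D.pw x)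
  interval_cases i
  · exact Or.inl (by rw [← he, pow_zero])
  · exact Or.inr (by rw [← he, pow_one])

theorem sq_mul_eq (D : ES 2 G) (x y : G) : (x * y) ^ 2 = ⁅y, x⁆ * (x ^ 2 * y ^ 2) := by
  have h : y * x = ⁅y, x⁆ * (x * y) := by rw [commutatorElement_def]; group
  calc (x * y) ^ 2 = x * (y * x) * y := by rw [pow_two]; group
    _ = (x * ⁅y, x⁆) * (x * y) * y := by rw [h]; group
    _ = ⁅y, x⁆ * (x ^ 2 * y ^ 2) := by rw [← D.comm_central y x x, pow_two, pow_two]; group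

theorem sqN_pos (K : Subgroup G) : 1 ≤ sqN K :=
  haveI : Nonempty {x : G // x ∈ K ∧ x ^ 2 = 1} := ⟨⟨1, K.one_mem, one_pow 2⟩⟩
  Nat.card_pos

theorem sqN_eq_two (hK : zpowers D.z ≤ K) (h : ∀ x ∈ K, x ^ 2 = 1 → x ∈ zpowers D.z) : sqN K = 2 := by
  have h2 : Nat.card (zpowers D.z) = 2 := by rw [Nat.card_zpowers, D.hz]
  refine (Nat.card_congr (Equiv.subtypeEquivRight fun x => ⟨fun hx => h x hx.1 hx.2, fun hx => ⟨hK hx, ?_⟩⟩)).trans h2
  exact D.zpow_p x hx

theorem ES.Pair.count_sum (h : D.Pair K a b) :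
    sqN K = ∑ i : Fin 2, ∑ j : Fin 2,
      Nat.card {k : D.perp K a b // (a ^ (i : ℕ) * b ^ (j : ℕ)) ^ 2 * (k : G) ^ 2 = 1} := by
  have e1 : sqN K = Nat.card {t : (Fin 2 × Fin 2) × D.perp K a b //
      (a ^ (t.1.1 : ℕ) * b ^ (t.1.2 : ℕ)) ^ 2 * (t.2 : G) ^ 2 = 1} := by
    refine (Nat.card_congr ((h.equiv.subtypeEquiv (q := fun x : K => (x : G) ^ 2 = 1) fun t => ?_).trans
      (Equiv.subtypeSubtypeEquivSubtypeInter (fun x => x ∈ K) (fun x => x ^ 2 = 1)))).symm
    show _ ↔ (a ^ (t.1.1 : ℕ) * b ^ (t.1.2 : ℕ) * (t.2 : G)) ^ 2 = 1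
    obtain ⟨-, h1, h2⟩ := D.mem_perp.mp t.2.2
    have hc : Commute (a ^ (t.1.1 : ℕ) * b ^ (t.1.2 : ℕ)) (t.2 : G) :=
      ((commutatorElement_eq_one_iff_commute.mp h1).pow_left _).mul_left
        ((commutatorElement_eq_one_iff_commute.mp h2).pow_left _)
    rw [hc.mul_pow]
  rw [e1, Nat.card_congr (Equiv.subtypeProdEquivSigmaSubtype fun (ij : Fin 2 × Fin 2) (k : D.perp K a b) =>
    (a ^ (ij.1 : ℕ) * b ^ (ij.2 : ℕ)) ^ 2 * (k : G) ^ 2 = 1), Nat.card_sigma, Fintype.sum_prod_type]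

theorem card_one_shift (P : Subgroup G) :
    Nat.card {k : P // (1 : G) * (k : G) ^ 2 = 1} = sqN P :=
  Nat.card_congr ((Equiv.subtypeEquivRight fun k : P => by rw [one_mul]).trans
    (Equiv.subtypeSubtypeEquivSubtypeInter (fun x => x ∈ P) (fun x => x ^ 2 = 1)))

theorem card_z_shift (D : ES 2 G) (P : Subgroup G) :
    Nat.card {k : P // D.z * (k : G) ^ 2 = 1} + sqN P = Nat.card P := by
  classical
  rw [← card_one_shift P, add_comm]
  have h : Nat.card {k : P // D.z * (k : G) ^ 2 = 1} = Nat.card {k : P // ¬ (1 : G) * (k : G) ^ 2 = 1} := by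
    refine Nat.card_congr (Equiv.subtypeEquivRight fun k => ?_)
    rw [one_mul]
    rcases sq_cases D (k : G) with e | e <;> rw [e]
    · simp [z_ne D]
    · simp [z_sq D, z_ne D]
  rw [h, ← Nat.card_sum]
  exact Nat.card_congr (Equiv.sumCompl _)

theorem ES.Pair.count_plus (h : D.Pair K a b) (ha : a ^ 2 = 1) (hb : b ^ 2 = 1) :
    sqN K = 2 * sqN (D.perp K a b) + Nat.card (D.perp K a b) := by
  have hab : (a * b) ^ 2 = D.z := by
    rw [sq_mul_eq D, ha, hb, h.hba, one_mul, mul_one, inv_eq_iff_mul_eq_one, z_sq]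
  rw [h.count_sum]
  simp only [Fin.sum_univ_two, Fin.val_zero, Fin.val_one, pow_zero, pow_one, one_mul, mul_one, ha, hb, hab, one_pow]
  rw [show (fun k : D.perp K a b => (k : G) ^ 2 = 1) = (fun k : D.perp K a b => (1 : G) * (k : G) ^ 2 = 1) by simp,
    card_one_shift]
  have := card_z_shift D (D.perp K a b)
  omega

theorem ES.Pair.count_minus (h : D.Pair K a b) (ha : a ^ 2 = D.z) (hb : b ^ 2 = D.z) :
    sqN K + 2 * sqN (D.perp K a b) = 3 * Nat.card (D.perp K a b) := by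
  have hab : (a * b) ^ 2 = D.z := by
    rw [sq_mul_eq D, ha, hb, h.hba, z_sq, mul_one, inv_eq_iff_mul_eq_one, z_sq]
  rw [h.count_sum]
  simp only [Fin.sum_univ_two, Fin.val_zero, Fin.val_one, pow_zero, pow_one, one_mul, mul_one, ha, hb, hab, one_pow]
  rw [show (fun k : D.perp K a b => (k : G) ^ 2 = 1) = (fun k : D.perp K a b => (1 : G) * (k : G) ^ 2 = 1) by simp,
    card_one_shift]
  have := card_z_shift D (D.perp K a b)
  omega

theorem plus_pair (hK : D.ND K) (ha : a ∈ K) (haz : a ∉ zpowers D.z) (hsq : a ^ 2 = 1) :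
    ∃ b, D.Pair K a b ∧ b ^ 2 = 1 := by
  obtain ⟨b, h⟩ := D.exists_partner hK ha haz
  rcases sq_cases D b with hb | hb
  · exact ⟨b, h, hb⟩
  · refine ⟨a * b, ⟨hK, ha, K.mul_mem ha h.hb, ?_⟩, ?_⟩
    · rw [D.c_mul, commutatorElement_self, one_mul, h.hab]
    · rw [sq_mul_eq D, hsq, hb, h.hba, one_mul, inv_mul_cancel]

/-- The three shapes of a nondegenerate subgroup. -/
theorem shape (hK : D.ND K) : K = zpowers D.z ∨
    (∃ a b, D.Pair K a b ∧ a ^ 2 = 1 ∧ b ^ 2 = 1) ∨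
    (sqN K = 2 ∧ ∃ a b, D.Pair K a b ∧ a ^ 2 = D.z ∧ b ^ 2 = D.z ∧ D.perp K a b = zpowers D.z) := by
  by_cases hg : ∃ x ∈ K, x ∉ zpowers D.z ∧ x ^ 2 = 1
  · obtain ⟨x, hx, hxz, hx2⟩ := hg
    obtain ⟨y, hy, hy2⟩ := plus_pair hK hx hxz hx2
    exact Or.inr (Or.inl ⟨x, y, hy, hx2, hy2⟩)
  push Not at hg
  rcases D.eq_or_pair hK with e | ⟨a, b, h⟩
  · exact Or.inl e
  refine Or.inr (Or.inr ⟨sqN_eq_two hK.1 fun x hx hx2 => by_contra fun hxz => hg x hx hxz hx2, a, b, h, ?_⟩)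
  have haz : ∀ u ∈ K, u ∉ zpowers D.z → u ^ 2 = D.z := fun u hu huz =>
    (sq_cases D u).resolve_left (hg u hu huz)
  have hnot : ∀ u v : G, ⁅u, v⁆ ≠ 1 → u ∉ zpowers D.z := fun u v hne hu => hne (by
    obtain ⟨k, rfl⟩ := mem_zpowers_iff.mp hu
    exact commutatorElement_eq_one_iff_commute.mpr (Commute.zpow_left (D.cent v) k))
  have hna : a ∉ zpowers D.z := hnot a b (by rw [h.hab]; exact z_ne D)
  have hnb : b ∉ zpowers D.z := hnot b a (by rw [h.hba, Ne, inv_eq_one]; exact z_ne D)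
  refine ⟨haz a h.ha hna, haz b h.hb hnb, le_antisymm (fun c hc => ?_) h.perp_nd.1⟩
  by_contra hcz
  obtain ⟨hcK, hca, hcb⟩ := D.mem_perp.mp hc
  refine hg (a * c) (K.mul_mem h.ha hcK) (hnot _ b ?_) ?_
  · rw [← commutatorElement_inv, D.c_mul, h.hba, hcb, mul_one, inv_inv]
    exact z_ne D
  · rw [sq_mul_eq D, haz a h.ha hna, haz c hcK hcz, z_sq, ← commutatorElement_inv, hca, inv_one, one_mul]

theorem plus_pos (h : D.Pair K a b) (ha : a ^ 2 = 1) (hb : b ^ 2 = 1) : 4 ≤ sqN K := by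
  have h1 := sqN_pos (D.perp K a b)
  have h2 := Subgroup.card_le_of_le h.perp_nd.1
  rw [Nat.card_zpowers, D.hz] at h2
  have := h.count_plus ha hb
  omega

variable {G' : Type*} [Group G'] [Finite G'] {D' : ES 2 G'}

theorem graph_two : ∀ (n : ℕ) (K : Subgroup G) (K' : Subgroup G'), Nat.card K ≤ n →
    Nat.card K = Nat.card K' → sqN K = sqN K' → D.ND K → D'.ND K' →
    ∃ R, Graph D D' K K' R := by
  intro n
  induction n with
  | zero => intro K K' hn; exact absurd hn (not_le.mpr Nat.card_pos)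
  | succ n ih =>
    intro K K' hn hc hN hK hK'
    rcases shape hK with e | ⟨a, b, h, ha, hb⟩ | ⟨hN2, a, b, h, ha, hb, hperp⟩
    · subst e
      rw [Nat.card_zpowers, D.hz] at hc
      rcases D'.eq_or_pair hK' with rfl | ⟨a', b', h'⟩
      · exact ⟨_, graph_base⟩
      · have := h'.card_eq
        have h1 := Subgroup.card_le_of_le h'.perp_nd.1
        rw [Nat.card_zpowers, D'.hz] at h1
        omega
    · have hlt := h.card_lt
      rcases shape hK' with e' | ⟨a', b', h', ha', hb'⟩ | ⟨hN2', -⟩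
      · subst e'
        have := h.card_eq
        have h1 := Subgroup.card_le_of_le h.perp_nd.1
        rw [Nat.card_zpowers, D.hz] at h1
        rw [Nat.card_zpowers, D'.hz] at hc
        omega
      · have e1 := h.count_plus ha hb
        have e2 := h'.count_plus ha' hb'
        have e3 := h.card_eq
        have e4 := h'.card_eq
        obtain ⟨R, hR⟩ := ih _ _ (by omega) (by omega) (by omega) h.perp_nd h'.perp_nd
        exact graph_step h h' (α := 0) (β := 0) (by rw [ha, pow_zero]) (by rw [ha', pow_zero])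
          (by rw [hb, pow_zero]) (by rw [hb', pow_zero]) hR
      · have := plus_pos h ha hb
        omega
    · rcases shape hK' with e' | ⟨a', b', h', ha', hb'⟩ | ⟨-, a', b', h', ha', hb', hperp'⟩
      · subst e'
        have := h.card_eq
        have h1 := Subgroup.card_le_of_le h.perp_nd.1
        rw [Nat.card_zpowers, D.hz] at h1
        rw [Nat.card_zpowers, D'.hz] at hc
        omega
      · have := plus_pos h' ha' hb'
        omega
      · refine graph_step h h' (α := 1) (β := 1) (by rw [ha, pow_one]) (by rw [ha', pow_one])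
          (by rw [hb, pow_one]) (by rw [hb', pow_one]) (R := zpowers (D.z, D'.z)) ?_
        rw [hperp, hperp']
        exact graph_base

theorem iso_of_sqN (hc : Nat.card G = Nat.card G')
    (hN : sqN (⊤ : Subgroup G) = sqN (⊤ : Subgroup G')) (D : ES 2 G) (D' : ES 2 G') :
    Nonempty (G ≃* G') := by
  obtain ⟨R, hR⟩ := graph_two (D := D) (D' := D') _ ⊤ ⊤ le_rfl (by simpa using hc) hN D.nd_top D'.nd_top
  exact iso_of_graph hR hc

/-- An elementary abelian subgroup of `K`. -/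
def Elem (K A : Subgroup G) : Prop :=
  A ≤ K ∧ (∀ x ∈ A, ∀ y ∈ A, x * y = y * x) ∧ ∀ x ∈ A, x ^ 2 = 1

theorem classify : ∀ (n : ℕ) (K : Subgroup G), Nat.card K ≤ n → D.ND K →
    ∃ m, Nat.card K = 2 ^ (2 * m + 1) ∧
      ((sqN K = 2 ^ (2 * m) + 2 ^ m ∧ ∃ A, Elem K A ∧ 2 ^ (m + 1) ≤ Nat.card A) ∨
        (1 ≤ m ∧ sqN K + 2 ^ m = 2 ^ (2 * m) ∧ ∃ A, Elem K A ∧ 2 ^ m ≤ Nat.card A)) := by
  intro n
  induction n with
  | zero => intro K hn; exact absurd hn (not_le.mpr Nat.card_pos)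
  | succ n ih =>
    intro K hn hK
    have hzE : ∀ L : Subgroup G, zpowers D.z ≤ L → Elem L (zpowers D.z) := fun L hL =>
      ⟨hL, fun x hx y hy => by
        obtain ⟨i, rfl⟩ := mem_zpowers_iff.mp hx
        exact (Commute.zpow_left (D.cent y) i).eq, fun x hx => D.zpow_p x hx⟩
    rcases shape hK with e | ⟨a, b, h, ha, hb⟩ | ⟨hN2, a, b, h, ha, hb, hperp⟩
    · subst e
      refine ⟨0, by rw [Nat.card_zpowers, D.hz]; norm_num, Or.inl ⟨?_, zpowers D.z, hzE _ le_rfl, ?_⟩⟩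
      · rw [sqN_eq_two le_rfl fun x hx _ => hx]; norm_num
      · rw [Nat.card_zpowers, D.hz]; norm_num
    · have hlt := h.card_lt
      obtain ⟨m, hm, hcase⟩ := ih _ (by omega) h.perp_nd
      have e1 := h.count_plus ha hb
      have e2 := h.card_eq
      have ext : ∀ A, Elem (D.perp K a b) A → ∀ c, c ≤ Nat.card A → ∃ B, Elem K B ∧ 2 * c ≤ Nat.card B := by
        rintro A ⟨hA, hAc, hA2⟩ c hcA
        have hcomm : ∀ k ∈ A, Commute a k := fun k hk =>
          commutatorElement_eq_one_iff_commute.mp (D.mem_perp.mp (hA hk)).2.1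
        have hn : zpowers a ≤ normalizer (A : Set G) := by
          rw [zpowers_le, mem_normalizer_iff]
          intro k
          refine ⟨fun hk => by rwa [(hcomm k hk).eq, mul_inv_cancel_right], fun hk => ?_⟩
          have h9 := (hcomm _ hk).eq
          rw [inv_mul_cancel_right, mul_right_inj] at h9
          rwa [h9] at hk
        have hel : ∀ x ∈ A ⊔ zpowers a, ∃ k ∈ A, ∃ i : ℤ, x = k * a ^ i := by
          intro x hx
          have hx' : x ∈ ((A ⊔ zpowers a : Subgroup G) : Set G) := hx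
          rw [coe_mul_of_right_le_normalizer_left A (zpowers a) hn] at hx'
          obtain ⟨k, hk, u, hu, rfl⟩ := hx'
          obtain ⟨i, rfl⟩ := mem_zpowers_iff.mp hu
          exact ⟨k, hk, i, rfl⟩
        refine ⟨A ⊔ zpowers a, ⟨sup_le (fun k hk => (D.mem_perp.mp (hA hk)).1) (zpowers_le.mpr h.ha), ?_, ?_⟩, ?_⟩
        · intro x hx y hy
          obtain ⟨k, hk, i, rfl⟩ := hel x hx
          obtain ⟨l, hl, j, rfl⟩ := hel y hy
          have c1 : Commute k l := hAc k hk l hl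
          exact ((c1.mul_right ((hcomm k hk).symm.zpow_right j)).mul_left
            (((hcomm l hl).zpow_left i).mul_right ((Commute.refl a).zpow_zpow i j))).eq
        · intro x hx
          obtain ⟨k, hk, i, rfl⟩ := hel x hx
          rw [((hcomm k hk).symm.zpow_right i).mul_pow, hA2 k hk, one_mul, ← zpow_natCast, ← zpow_mul,
            mul_comm, zpow_mul, zpow_natCast, ha, one_zpow]
        · have hne : A ≠ A ⊔ zpowers a := fun e => by
            have : a ∈ A := e.ge (mem_sup_right (mem_zpowers a))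
            have h3 := (D.mem_perp.mp (hA this)).2.2
            rw [h.hba, inv_eq_one] at h3
            exact z_ne D h3
          obtain ⟨t, ht⟩ := card_dvd_of_le (le_sup_left : A ≤ A ⊔ zpowers a)
          have h5 : Nat.card A < Nat.card (A ⊔ zpowers a : Subgroup G) :=
            lt_of_le_of_ne (Subgroup.card_le_of_le le_sup_left) fun e =>
              hne (eq_of_le_of_card_ge le_sup_left e.ge)
          rw [ht] at h5 ⊢
          have : 2 ≤ t := by
            by_contra hlt2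
            interval_cases t <;> omega
          calc 2 * c ≤ 2 * Nat.card A := by omega
            _ ≤ Nat.card A * t := by rw [mul_comm 2]; exact Nat.mul_le_mul_left _ this
      have hcard : Nat.card K = 2 ^ (2 * (m + 1) + 1) := by rw [e2, hm]; ring
      have p1 : 2 ^ (2 * (m + 1)) = 4 * 2 ^ (2 * m) := by ring
      have p2 : 2 ^ (2 * m + 1) = 2 * 2 ^ (2 * m) := by ring
      have p3 : 2 ^ (m + 1) = 2 * 2 ^ m := by ring
      have p4 : 2 ^ (m + 1 + 1) = 2 * 2 ^ (m + 1) := by ring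
      refine ⟨m + 1, hcard, ?_⟩
      rcases hcase with ⟨hN, A, hA, hAc⟩ | ⟨hm1, hN, A, hA, hAc⟩
      · obtain ⟨B, hB, hBc⟩ := ext A hA _ hAc
        exact Or.inl ⟨by omega, B, hB, by omega⟩
      · obtain ⟨B, hB, hBc⟩ := ext A hA _ hAc
        exact Or.inr ⟨by omega, by omega, B, hB, by omega⟩
    · refine ⟨1, ?_, Or.inr ⟨le_rfl, by rw [hN2]; norm_num, zpowers D.z, hzE _ hK.1, by
        rw [Nat.card_zpowers, D.hz]; norm_num⟩⟩
      rw [h.card_eq, hperp, Nat.card_zpowers, D.hz]; norm_num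

theorem plus_of_big : ∀ (m : ℕ) (K : Subgroup G), D.ND K → Nat.card K = 2 ^ (2 * m + 1) →
    ∀ A, Elem K A → 2 ^ (m + 1) ≤ Nat.card A → sqN K = 2 ^ (2 * m) + 2 ^ m := by
  intro m
  induction m with
  | zero =>
    intro K hK hcard A _ _
    have e : K = zpowers D.z := (Subgroup.eq_of_le_of_card_ge hK.1 (by
      rw [hcard, Nat.card_zpowers, D.hz]; norm_num)).symm
    rw [sqN_eq_two hK.1 fun x hx _ => e ▸ hx]; norm_num
  | succ m ih =>
    rintro K hK hcard A ⟨hA, hAc, hA2⟩ hbig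
    obtain ⟨a, ha, haz⟩ : ∃ a ∈ A, a ∉ zpowers D.z := by
      by_contra! hh
      have := Subgroup.card_le_of_le (show A ≤ zpowers D.z from hh)
      rw [Nat.card_zpowers, D.hz] at this
      have : 2 ^ 2 ≤ 2 ^ (m + 1 + 1) := Nat.pow_le_pow_right (by norm_num) (by omega)
      omega
    obtain ⟨b, hb, hb2⟩ := plus_pair hK (hA ha) haz (hA2 a ha)
    have hstep := hb.abelian_step hA ha hAc
    have hP : Nat.card (D.perp K a b) = 2 ^ (2 * m + 1) := by
      have := hb.card_eq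
      rw [hcard] at this
      have e : 2 ^ (2 * (m + 1) + 1) = 2 * 2 * 2 ^ (2 * m + 1) := by ring
      omega
    have p4 : 2 ^ (m + 1 + 1) = 2 * 2 ^ (m + 1) := by ring
    have hN := ih _ hb.perp_nd hP (A ⊓ D.perp K a b)
      ⟨inf_le_right, fun x hx y hy => hAc x hx.1 y hy.1, fun x hx => hA2 x hx.1⟩ (by omega)
    have p1 : 2 ^ (2 * (m + 1)) = 4 * 2 ^ (2 * m) := by ring
    have p2 : 2 ^ (2 * m + 1) = 2 * 2 ^ (2 * m) := by ring
    have p3 : 2 ^ (m + 1) = 2 * 2 ^ m := by ring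
    rw [hb.count_plus (hA2 a ha) hb2, hN, hP]
    omega

/-- Rank and square count of an extraspecial `2`-group of order `2^(2n+1)`. -/
theorem summary (D : ES 2 G) (n : ℕ) (hn : Nat.card G = 2 ^ (2 * n + 1)) :
    (sqN (⊤ : Subgroup G) = 2 ^ (2 * n) + 2 ^ n ∧ ∀ k, PRankLE 2 k G ↔ n + 1 ≤ k) ∨
      (1 ≤ n ∧ sqN (⊤ : Subgroup G) + 2 ^ n = 2 ^ (2 * n) ∧ ∀ k, PRankLE 2 k G ↔ n ≤ k) := by
  have htop : Nat.card (⊤ : Subgroup G) = 2 ^ (2 * n + 1) := by simpa using hn
  obtain ⟨m, hm, hcase⟩ := classify (D := D) _ ⊤ le_rfl D.nd_top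
  obtain rfl : m = n := by
    have := Nat.pow_right_injective (le_refl 2) (htop.symm.trans hm)
    omega
  have hbound : ∀ A : Subgroup G, IsMulCommutative A → Nat.card A ≤ 2 ^ (m + 1) := fun A hA =>
    ES.abelian_le (D := D) m ⊤ D.nd_top hm A le_top fun x hx y hy =>
      congrArg Subtype.val (hA.is_comm.comm ⟨x, hx⟩ ⟨y, hy⟩)
  have hmc : ∀ {A : Subgroup G}, Elem ⊤ A → IsMulCommutative A := fun hA =>
    ⟨⟨fun x y => Subtype.ext (hA.2.1 _ x.2 _ y.2)⟩⟩
  rcases hcase with ⟨hN, A, hA, hAc⟩ | ⟨hm1, hN, A, hA, hAc⟩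
  · refine Or.inl ⟨hN, fun k => ⟨fun h => ?_, fun h B hB _ => (hbound B hB).trans (Nat.pow_le_pow_right (by norm_num) h)⟩⟩
    exact (Nat.pow_le_pow_iff_right (le_refl 2)).mp (hAc.trans (h A (hmc hA) hA.2.2))
  · refine Or.inr ⟨hm1, hN, fun k => ⟨fun h => ?_, fun h B hB hB2 => ?_⟩⟩
    · exact (Nat.pow_le_pow_iff_right (le_refl 2)).mp (hAc.trans (h A (hmc hA) hA.2.2))
    · obtain ⟨j, -, hj⟩ := (Nat.dvd_prime_pow Nat.prime_two).mp
        (hn ▸ B.card_subgroup_dvd_card : Nat.card B ∣ 2 ^ (2 * m + 1))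
      rw [hj]
      refine Nat.pow_le_pow_right (by norm_num) (le_trans ?_ h)
      by_contra hlt
      have := plus_of_big (D := D) m ⊤ D.nd_top hm B ⟨le_top, fun x hx y hy =>
        congrArg Subtype.val (hB.is_comm.comm ⟨x, hx⟩ ⟨y, hy⟩), hB2⟩
        (hj ▸ Nat.pow_le_pow_right (by norm_num) (by omega))
      have := Nat.two_pow_pos m
      omega

theorem sqN_top : sqN (⊤ : Subgroup G) = Nat.card {x : G // x ^ 2 = 1} :=
  Nat.card_congr (Equiv.subtypeEquivRight fun x => by simp)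

theorem exists_n (hE : IsExtraspecial 2 G) : ∃ n, 1 ≤ n ∧ Nat.card G = 2 ^ (2 * n + 1) := by
  obtain ⟨D⟩ := ES.exists_of hE
  obtain ⟨m, hm, -⟩ := classify (D := D) _ ⊤ le_rfl D.nd_top
  rw [Subgroup.card_top] at hm
  refine ⟨m, Nat.one_le_iff_ne_zero.mpr ?_, hm⟩
  rintro rfl
  rw [mul_zero, zero_add, pow_one] at hm
  haveI := isCyclic_of_prime_card hm
  have h1 : commutator G = ⊥ := by
    rw [commutator_def, eq_bot_iff, Subgroup.commutator_le]
    intro a _ b _
    rw [Subgroup.mem_bot, commutatorElement_eq_one_iff_mul_comm]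
    exact (IsCyclic.commGroup (α := G)).mul_comm a b
  have h2 : Nat.card (center G) = 2 := hE.2
  rw [← hE.1.2.2, h1, Subgroup.card_bot] at h2
  omega

end Cfsg.Agent.Solv.ESClass
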