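import Cfsg.Prelude.Def_MonsterType
import Cfsg.Agent.Lib.Solv.ExtraspecialTwo
import Cfsg.Agent.Lib.Solv.Basic
import Mathlib.GroupTheory.FixedPointFree

/-!
Elementary criteria for large extraspecial subgroups.
-/

set_option autoImplicit false
set_option linter.style.haveILetI false

namespace Cfsg.Agent.Solv.LargeBasics

open Subgroup
open scoped commutatorElement

variable {G : Type*} [Group G] [Finite G]

/-- An odd order subgroup and a `2`-subgroup normalizing each other commute. -/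
theorem commute_of_odd {K Q : Subgroup G} (hK : Odd (Nat.card K)) (hQ : IsPGroup 2 Q) {k q : G}
    (hk : k ∈ K) (hq : q ∈ Q) (hqK : q ∈ normalizer (K : Set G)) (hkQ : k ∈ normalizer (Q : Set G)) :
    k * q = q * k := by
  have h : k * q * k⁻¹ * q⁻¹ ∈ K ⊓ Q := by
    refine ⟨?_, Q.mul_mem ((mem_normalizer_iff.mp hkQ q).mp hq) (Q.inv_mem hq)⟩
    rw [show k * q * k⁻¹ * q⁻¹ = k * (q * k⁻¹ * q⁻¹) by group]
    exact K.mul_mem hk ((mem_normalizer_iff.mp hqK _).mp (K.inv_mem hk))
  haveI : Fact (Nat.Prime 2) := ⟨Nat.prime_two⟩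
  obtain ⟨i, hi⟩ := IsPGroup.iff_card.mp hQ
  have hco : (Nat.card K).Coprime (Nat.card Q) := by rw [hi]; exact hK.coprime_two_right.pow_right i
  rw [inf_eq_bot_of_coprime_card K Q hco, mem_bot, mul_inv_eq_one, mul_inv_eq_iff_eq_mul] at h
  exact h

theorem odd_invariant_eq_bot {Q : Subgroup G} (hQ : IsPGroup 2 Q) {z : G} (hcen : centralizer (Q : Set G) ≤ Q)
    (hn : centralizer ({z} : Set G) ≤ normalizer (Q : Set G)) {K : Subgroup G} (hK : Odd (Nat.card K))
    (hQK : Q ≤ normalizer (K : Set G)) {k : G} (hk : k ∈ K) (hkz : k * z = z * k) : k = 1 := by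
  have h : k ∈ centralizer (Q : Set G) := mem_centralizer_iff.mpr fun q hq =>
    (commute_of_odd hK hQ hk hq (hQK hq) (hn (mem_centralizer_singleton_iff.mpr hkz))).symm
  have hd := inf_eq_bot_of_coprime_card K Q (by
    haveI : Fact (Nat.Prime 2) := ⟨Nat.prime_two⟩
    obtain ⟨i, hi⟩ := IsPGroup.iff_card.mp hQ
    rw [hi]; exact hK.coprime_two_right.pow_right i)
  exact mem_bot.mp (hd.le ⟨hk, hcen h⟩)

theorem exists_gen {Q : Subgroup G} (hQ : IsExtraspecial 2 Q) :
    ∃ z : G, orderOf z = 2 ∧ z ∈ Q ∧ (center Q).map Q.subtype = zpowers z := by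
  haveI : Fact (Nat.Prime 2) := ⟨Nat.prime_two⟩
  obtain ⟨w, hw⟩ := exists_prime_orderOf_dvd_card' (G := center Q) 2 (by rw [hQ.2])
  refine ⟨((w : Q) : G), by rw [Subgroup.orderOf_coe, Subgroup.orderOf_coe, hw], (w : Q).2, ?_⟩
  refine (Subgroup.eq_of_le_of_card_ge (zpowers_le.mpr (show ((w : Q) : G) ∈ (center Q).map Q.subtype from ⟨w, w.2, rfl⟩)) ?_).symm
  rw [card_map_subtype, hQ.2, Nat.card_zpowers, Subgroup.orderOf_coe, Subgroup.orderOf_coe, hw]

theorem centralizer_zpowers (z : G) : centralizer ((zpowers z : Subgroup G) : Set G) = centralizer ({z} : Set G) := by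
  rw [zpowers_eq_closure, centralizer_closure]

theorem large_of_center_le (Q : Subgroup G) (hL1 : IsExtraspecial 2 Q)
    (hL2 : centralizer (Q : Set G) = (center Q).map Q.subtype)
    (hL3 : centralizer (((center Q).map Q.subtype) : Set G) ≤ normalizer (Q : Set G))
    (hZ : (center Q).map Q.subtype ≤ pCore 2 G) : IsLargeExtraspecial Q := by
  haveI : Fact (Nat.Prime 2) := ⟨Nat.prime_two⟩
  obtain ⟨z, hz, hzQ, hzZ⟩ := exists_gen hL1
  refine ⟨hL1, hL2, hL3, fun K hK hQK => (eq_bot_iff_forall _).mpr fun k hk => ?_⟩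
  rw [hzZ, centralizer_zpowers] at hL3
  refine odd_invariant_eq_bot hL1.1.1 (hL2.le.trans (map_subtype_le _)) hL3 hK hQK hk ?_
  exact commute_of_odd hK (isPGroup_pCore 2 G) hk (hZ (hzZ.ge (mem_zpowers z))) (hQK hzQ)
    (normalizer_eq_top_iff.mpr (inferInstance : (pCore 2 G).Normal) ▸ mem_top k)

theorem large_of_involution (Q : Subgroup G) (hL1 : IsExtraspecial 2 Q)
    (hL2 : centralizer (Q : Set G) = (center Q).map Q.subtype)
    (hL3 : centralizer (((center Q).map Q.subtype) : Set G) ≤ normalizer (Q : Set G))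
    (b : G) (hbQ : b ∈ Q) (hbZ : b ∉ (center Q).map Q.subtype) (hb : orderOf b = 2)
    (hZ : (center Q).map Q.subtype ≤ (pCore 2 ↥(centralizer ({b} : Set G))).map (centralizer ({b} : Set G)).subtype) :
    IsLargeExtraspecial Q := by
  haveI : Fact (Nat.Prime 2) := ⟨Nat.prime_two⟩
  obtain ⟨z, hz, hzQ, hzZ⟩ := exists_gen hL1
  refine ⟨hL1, hL2, hL3, fun K hK hQK => (eq_bot_iff_forall _).mpr fun k hk => ?_⟩
  rw [hzZ, centralizer_zpowers] at hL3
  have hzero : ∀ k ∈ K, k * z = z * k → k = 1 := fun k hk h =>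
    odd_invariant_eq_bot hL1.1.1 (hL2.le.trans (map_subtype_le _)) hL3 hK hQK hk h
  set C := centralizer ({b} : Set G)
  have hzC : z ∈ (pCore 2 C).map C.subtype := hZ (hzZ.ge (mem_zpowers z))
  have hfix : ∀ k ∈ K, k * b = b * k → k = 1 := by
    intro k hk hkb
    refine hzero k hk ?_
    obtain ⟨w, hw, hwz⟩ := hzC
    have hkC : k ∈ C := mem_centralizer_singleton_iff.mpr hkb
    have hwK : w ∈ normalizer ((K.subgroupOf C : Subgroup C) : Set C) := by
      have hn : (w : G) ∈ normalizer (K : Set G) := by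
        have : (w : G) = z := hwz
        rw [this]; exact hQK hzQ
      rw [mem_normalizer_iff]
      exact fun x => mem_normalizer_iff.mp hn x
    have h := commute_of_odd (K := K.subgroupOf C) (Q := pCore 2 C) (by
        have hd : Nat.card (K.subgroupOf C) ∣ Nat.card K := card_comap_dvd_of_injective _ _ C.subtype_injective
        exact hK.of_dvd_nat hd) (isPGroup_pCore 2 C) (k := ⟨k, hkC⟩) hk hw hwK
      (normalizer_eq_top_iff.mpr (inferInstance : (pCore 2 C).Normal) ▸ mem_top _)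
    have h2 := congrArg Subtype.val h
    rw [show z = (w : G) from hwz.symm]
    exact h2
  obtain ⟨D⟩ := Cfsg.Agent.Solv.ESClass.ES.exists_of hL1
  have hDz : ((D.z : Q) : G) = z := by
    have h1 : ((D.z : Q) : G) ∈ (center Q).map Q.subtype :=
      ⟨D.z, mem_center_iff.mpr fun y => (D.cent y).symm, rfl⟩
    rw [hzZ] at h1
    obtain ⟨i, hi⟩ := mem_powers_iff_mem_zpowers.mpr h1
    have h2 : orderOf ((D.z : Q) : G) = 2 := by rw [Subgroup.orderOf_coe, D.hz]
    rcases Nat.even_or_odd i with ⟨j, rfl⟩ | ⟨j, rfl⟩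
    · have : z ^ (j + j) = 1 := by rw [← two_mul, pow_mul, ← hz, pow_orderOf_eq_one, one_pow]
      simp only at hi
      rw [← hi, this, orderOf_one] at h2
      omega
    · simp only at hi
      rw [← hi, pow_succ, pow_mul, ← hz, pow_orderOf_eq_one, one_pow, one_mul]
  obtain ⟨q, hq⟩ : ∃ q : Q, ⁅q, (⟨b, hbQ⟩ : Q)⁆ = D.z := by
    have hnb : (⟨b, hbQ⟩ : Q) ∉ zpowers D.z := fun h => hbZ ⟨⟨b, hbQ⟩, by
      obtain ⟨i, hi⟩ := mem_zpowers_iff.mp h
      rw [← hi]
      exact (center Q).zpow_mem (mem_center_iff.mpr fun y => (D.cent y).symm) i, rfl⟩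
    obtain ⟨q, hq⟩ := D.exists_partner D.nd_top (mem_top _) hnb
    refine ⟨q⁻¹, ?_⟩
    rw [← commutatorElement_inv, ← zpow_neg_one q, D.c_zpow, hq.hab, zpow_neg_one, inv_inv]
  have hqb : (q : G) * b * (q : G)⁻¹ = z * b := by
    have h := congrArg Subtype.val hq
    rw [hDz] at h
    rw [← h]
    simp [commutatorElement_def]
  have hfix' : ∀ k ∈ K, k * (z * b) = z * b * k → k = 1 := by
    intro k hk hkb
    have h1 : (q : G)⁻¹ * k * q ∈ K := by
      have := (mem_normalizer_iff.mp (inv_mem (hQK q.2)) k).mp hk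
      simpa using this
    have h2 := hfix _ h1 (by
      rw [← hqb] at hkb
      have := congrArg (fun t => (q : G)⁻¹ * t * q) hkb
      simpa [mul_assoc] using this)
    have h3 : k = (q : G) * ((q : G)⁻¹ * k * q) * (q : G)⁻¹ := by group
    rw [h3, h2, mul_one, mul_inv_cancel]
  have hinv : ∀ u ∈ Q, orderOf u ∣ 2 → (∀ k ∈ K, k * u = u * k → k = 1) → u * k * u⁻¹ = k⁻¹ := by
    intro u hu hu2 hfx
    let φ : K →* K := MonoidHom.mk' (fun x => ⟨u * x * u⁻¹, (mem_normalizer_iff.mp (hQK hu) x).mp x.2⟩)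
      fun x y => Subtype.ext (by simp [mul_assoc])
    have hff : MonoidHom.FixedPointFree φ := fun x hx => Subtype.ext (hfx x x.2 (by
      have := congrArg Subtype.val hx
      exact (mul_inv_eq_iff_eq_mul.mp this).symm))
    have hiv : Function.Involutive φ := fun x => Subtype.ext (by
      show u * (u * x * u⁻¹) * u⁻¹ = x
      have h2 : u * u = 1 := by rw [← pow_two]; exact orderOf_dvd_iff_pow_eq_one.mp hu2
      rw [inv_eq_of_mul_eq_one_right h2,
        show u * (u * (x : G) * u) * u = (u * u) * x * (u * u) by group, h2, one_mul, mul_one])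
    have := congrFun (hff.coe_eq_inv_of_involutive hiv) ⟨k, hk⟩
    exact congrArg Subtype.val this
  have e1 := hinv b hbQ hb.dvd hfix
  have e2 := hinv (z * b) (Q.mul_mem hzQ hbQ) (by
    rw [← hqb]
    have : orderOf ((q : G) * b * (q : G)⁻¹) = orderOf b :=
      orderOf_injective (MulAut.conj (q : G)).toMonoidHom (MulAut.conj (q : G)).injective b
    rw [this, hb]) hfix'
  refine hzero k hk ?_
  have e3 : z * k⁻¹ * z⁻¹ = k⁻¹ := by
    calc z * k⁻¹ * z⁻¹ = z * (b * k * b⁻¹) * z⁻¹ := by rw [e1]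
      _ = z * b * k * (z * b)⁻¹ := by group
      _ = k⁻¹ := e2
  have e4 : z * k⁻¹ = k⁻¹ * z := mul_inv_eq_iff_eq_mul.mp e3
  calc k * z = k * (z * k⁻¹) * k := by group
    _ = k * (k⁻¹ * z) * k := by rw [e4]
    _ = z * k := by group

/-- A Sylow subgroup over `Q` centralizes its involution. -/
theorem sylow_le_centralizer {Q : Subgroup G} {z : G} (hz : orderOf z = 2)
    (hC : ∀ x : G, (∀ q ∈ Q, q * x = x * q) → x ∈ zpowers z) (T : Sylow 2 G) (hQT : Q ≤ T) :
    (T : Subgroup G) ≤ centralizer ({z} : Set G) ∧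
      ∀ x ∈ (T : Subgroup G), x ≠ 1 → (∀ t ∈ (T : Subgroup G), t * x = x * t) → x = z := by
  haveI : Fact (Nat.Prime 2) := ⟨Nat.prime_two⟩
  have key : ∀ x ∈ (T : Subgroup G), x ≠ 1 → (∀ t ∈ (T : Subgroup G), t * x = x * t) → x = z := by
    intro x _ hx1 hx
    obtain ⟨i, hi⟩ := mem_powers_iff_mem_zpowers.mpr (hC x fun q hq => hx q (hQT hq))
    simp only at hi
    rw [← pow_mod_orderOf, hz] at hi
    rcases Nat.mod_two_eq_zero_or_one i with h | h <;> rw [h] at hi
    · exact absurd (by simpa using hi.symm) hx1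
    · simpa using hi.symm
  refine ⟨?_, key⟩
  haveI : Nontrivial (T : Subgroup G) := by
    rw [nontrivial_iff_ne_bot]
    intro e
    exact T.not_dvd_index (by rw [e, index_bot, ← hz]; exact orderOf_dvd_natCard z)
  haveI := T.isPGroup'.center_nontrivial
  obtain ⟨w, hw⟩ := exists_ne (1 : center (T : Subgroup G))
  have hwz := key ((w : (T : Subgroup G)) : G) (w : (T : Subgroup G)).2
    (fun e => hw (Subtype.ext (Subtype.ext e))) fun t ht =>
      congrArg Subtype.val (mem_center_iff.mp w.2 ⟨t, ht⟩)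
  intro t ht
  rw [mem_centralizer_singleton_iff, ← hwz]
  exact congrArg Subtype.val (mem_center_iff.mp w.2 ⟨t, ht⟩)

theorem frattini (Q : Subgroup G) (hQ : IsLargeExtraspecial Q) (L : Subgroup G) [L.Normal] (hQL : Q ≤ L) :
    L ⊔ normalizer (Q : Set G) = ⊤ := by
  haveI : Fact (Nat.Prime 2) := ⟨Nat.prime_two⟩
  obtain ⟨h1, h2, h3, -⟩ := hQ
  obtain ⟨z, hz, hzQ, hzZ⟩ := exists_gen h1
  rw [hzZ, centralizer_zpowers] at h3
  obtain ⟨T, hT⟩ := (IsPGroup.exists_le_sylow (P := Q.subgroupOf L) (h1.1.1.comap_subtype))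
  set T' := (T : Subgroup L).map L.subtype with hT'
  have hQT : Q ≤ T' := fun q hq => ⟨⟨q, hQL hq⟩, hT hq, rfl⟩
  refine top_le_iff.mp ((Sylow.normalizer_sup_eq_top T).ge.trans (sup_le ?_ le_sup_left))
  intro g hg
  refine mem_sup_right (h3 ?_)
  haveI : Nontrivial T' := (nontrivial_iff_ne_bot _).mpr fun e => by
    have := mem_bot.mp (e.le (hQT hzQ))
    rw [this, orderOf_one] at hz
    omega
  have hTp : IsPGroup 2 T' := T.isPGroup'.map _
  have key : ∀ x ∈ T', x ≠ 1 → (∀ t ∈ T', t * x = x * t) → x = z := by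
    intro x _ hx1 hx
    have hxc : x ∈ zpowers z := by
      rw [← hzZ, ← h2, mem_centralizer_iff]
      exact fun q hq => hx q (hQT hq)
    obtain ⟨i, hi⟩ := mem_powers_iff_mem_zpowers.mpr hxc
    simp only at hi
    rw [← pow_mod_orderOf, hz] at hi
    rcases Nat.mod_two_eq_zero_or_one i with h | h <;> rw [h] at hi
    · exact absurd (by simpa using hi.symm) hx1
    · simpa using hi.symm
  haveI := hTp.center_nontrivial
  obtain ⟨w, hw⟩ := exists_ne (1 : center T')
  have hwc : ∀ t ∈ T', t * ((w : T') : G) = ((w : T') : G) * t := fun t ht =>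
    congrArg Subtype.val (mem_center_iff.mp w.2 ⟨t, ht⟩)
  have hw1 : ((w : T') : G) ≠ 1 := fun e => hw (Subtype.ext (Subtype.ext e))
  have hwz := key _ (w : T').2 hw1 hwc
  have hzT : z ∈ T' := hwz ▸ (w : T').2
  have hzc : ∀ t ∈ T', t * z = z * t := hwz ▸ hwc
  have hgm := mem_normalizer_iff.mp hg
  have := key (g * z * g⁻¹) ((hgm z).mp hzT) (fun e => by
      rw [conj_eq_one_iff] at e
      rw [e, orderOf_one] at hz; omega) fun t ht => by
    have ht' : g⁻¹ * t * g ∈ T' := by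
      have h8 := (mem_normalizer_iff.mp (inv_mem hg) t).mp ht
      rwa [inv_inv] at h8
    have h9 := congrArg (fun s => g * s * g⁻¹) (hzc _ ht')
    simpa [mul_assoc] using h9
  rw [mem_centralizer_singleton_iff]
  exact mul_inv_eq_iff_eq_mul.mp this

end Cfsg.Agent.Solv.LargeBasics
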