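import Cfsg.Prelude.Def_MonsterType
import Cfsg.Agent.Lib.Solv.LargeBasics

/-!
A conjugate of the central involution inside an extraspecial subgroup: the configuration
`z, y ∈ Q ∩ Qy`, the automizer of `⟨z, y⟩` and the radical of `⟨Q, Qy⟩`.
-/

set_option autoImplicit false
set_option linter.style.haveILetI false
set_option linter.unusedSectionVars false

namespace Cfsg.Agent.Solv.LargePair

open Subgroup
open scoped commutatorElement Pointwise

variable {G : Type*} [Group G]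

/-- An extraspecial `2`-subgroup of width at least two, self-centralizing, normalized by the centralizer of `z`. -/
structure Big (Q : Subgroup G) (z : G) : Prop where
  hz : orderOf z = 2
  zQ : z ∈ Q
  zc : ∀ q ∈ Q, z * q = q * z
  cc : ∀ u ∈ Q, ∀ v ∈ Q, u * v * u⁻¹ * v⁻¹ = 1 ∨ u * v * u⁻¹ * v⁻¹ = z
  sq : ∀ u ∈ Q, u * u = 1 ∨ u * u = z
  cent : ∀ u : G, (∀ v ∈ Q, u * v = v * u) → u = 1 ∨ u = z
  na : ∀ u ∈ Q, ∃ a ∈ Q, ∃ b ∈ Q, a * u = u * a ∧ b * u = u * b ∧ a * b * a⁻¹ * b⁻¹ = z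
  norm : ∀ k : G, k * z = z * k → ∀ v ∈ Q, k * v * k⁻¹ ∈ Q
  inner : ∀ k : G, (∀ v ∈ Q, k * v * k⁻¹ * v⁻¹ = 1 ∨ k * v * k⁻¹ * v⁻¹ = z) → k ∈ Q

theorem exists_rep {H : Type*} [Group H] [Finite H] (D : ESClass.ES 2 H) :
    ∀ (n : ℕ) (K : Subgroup H), Nat.card K ≤ n → D.ND K → ∀ χ : H →  H,
      (∀ u ∈ K, ∀ v ∈ K, χ (u * v) = χ u * χ v) → (∀ u ∈ K, χ u ∈ zpowers D.z) → χ D.z = 1 →
        ∃ u ∈ K, ∀ k ∈ K, ⁅u, k⁆ = χ k := by
  haveI : Fact (Nat.Prime 2) := ⟨Nat.prime_two⟩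
  intro n
  induction n with
  | zero => exact fun K h => absurd h (by have : 0 < Nat.card K := Nat.card_pos; omega)
  | succ n ih =>
    intro K hcard hK χ hmul hval hz1
    have h1 : χ 1 = 1 := by
      have := hmul 1 K.one_mem 1 K.one_mem
      rw [one_mul] at this
      exact left_eq_mul.mp this
    have hpow : ∀ u ∈ K, ∀ i : ℕ, χ (u ^ i) = χ u ^ i := by
      intro u hu i
      induction i with
      | zero => rw [pow_zero, pow_zero, h1]
      | succ i hi => rw [pow_succ, pow_succ, hmul _ (K.pow_mem hu i) _ hu, hi]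
    rcases D.eq_or_pair hK with hK1 | ⟨a, b, hp⟩
    · refine ⟨1, K.one_mem, fun k hk => ?_⟩
      obtain ⟨i, -, rfl⟩ := D.exists_lt k (hK1.le hk)
      rw [commutatorElement_one_left, hpow _ (hK.1 (mem_zpowers _)) i, hz1, one_pow]
    · have hzinv : D.z⁻¹ = D.z := inv_eq_of_mul_eq_one_right (by
        have := pow_orderOf_eq_one D.z; rwa [D.hz, pow_two] at this)
      obtain ⟨u', hu', hrep⟩ := ih (D.perp K a b) (by have := hp.card_lt; omega) hp.perp_nd χ
        (fun u hu v hv => hmul u (D.mem_perp.mp hu).1 v (D.mem_perp.mp hv).1)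
        (fun u hu => hval u (D.mem_perp.mp hu).1) hz1
      obtain ⟨i, -, hi⟩ := D.exists_lt _ (hval a hp.ha)
      obtain ⟨j, -, hj⟩ := D.exists_lt _ (hval b hp.hb)
      refine ⟨a ^ j * b ^ i * u', K.mul_mem (K.mul_mem (K.pow_mem hp.ha j) (K.pow_mem hp.hb i))
        (D.mem_perp.mp hu').1, fun k hk => ?_⟩
      obtain ⟨hc1, hc2⟩ := hp.coords j i hu'
      obtain ⟨s, t, -, -, k', hk', rfl⟩ := hp.decomp hk
      have e1 : ⁅a ^ j * b ^ i * u', a⁆ = χ a := by
        rw [← commutatorElement_inv, hc1, ← hi, ← inv_pow, hzinv]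
      have e2 : ⁅a ^ j * b ^ i * u', b⁆ = χ b := by
        rw [← commutatorElement_inv, hc2, ← hj, ← inv_pow, inv_inv]
      have e3 : ⁅a ^ j * b ^ i * u', k'⁆ = χ k' := by
        have hk'' := D.mem_perp.mp hk'
        have ca : ⁅k', a⁆ = 1 := commutatorElement_eq_one_iff_mul_comm.mpr
          (commutatorElement_eq_one_iff_mul_comm.mp hk''.2.1).symm
        have cb : ⁅k', b⁆ = 1 := commutatorElement_eq_one_iff_mul_comm.mpr
          (commutatorElement_eq_one_iff_mul_comm.mp hk''.2.2).symm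
        rw [← commutatorElement_inv, D.c_mul, D.c_mul, D.c_pow, D.c_pow, ca, cb, one_pow, one_pow, one_mul,
          one_mul, commutatorElement_inv, hrep k' hk']
      rw [D.c_mul, D.c_mul, D.c_pow, D.c_pow, e1, e2, e3,
        hmul _ (K.mul_mem (K.pow_mem hp.ha s) (K.pow_mem hp.hb t)) _ (D.mem_perp.mp hk').1,
        hmul _ (K.pow_mem hp.ha s) _ (K.pow_mem hp.hb t), hpow _ hp.ha, hpow _ hp.hb]

theorem Big.of_hyp [Finite G] (Q : Subgroup G) (h1 : IsExtraspecial 2 Q)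
    (h2 : centralizer (Q : Set G) = (center Q).map Q.subtype)
    (h3 : centralizer (((center Q).map Q.subtype) : Set G) ≤ normalizer (Q : Set G))
    (hsize : 32 ≤ Nat.card Q) (z : G) (hzZ : (center Q).map Q.subtype = zpowers z) : Big Q z := by
  haveI : Fact (Nat.Prime 2) := ⟨Nat.prime_two⟩
  obtain ⟨D⟩ := ESClass.ES.exists_of h1
  have hz : orderOf z = 2 := by
    rw [← Nat.card_zpowers, ← hzZ, card_map_subtype, h1.2]
  have hzmem : z ∈ (center Q).map Q.subtype := hzZ.ge (mem_zpowers z)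
  obtain ⟨⟨w, hwQ⟩, hwc, rfl⟩ := hzmem
  simp only [Subgroup.coe_subtype] at *
  have hDz : D.z = ⟨w, hwQ⟩ := by
    have hm : (⟨w, hwQ⟩ : Q) ∈ zpowers D.z := D.nd _ fun y => (mem_center_iff.mp hwc y).symm
    obtain ⟨i, hi, hie⟩ := D.exists_lt _ hm
    interval_cases i
    · rw [pow_zero] at hie
      rw [show w = 1 from (congrArg Subtype.val hie).symm, orderOf_one] at hz
      omega
    · rwa [pow_one] at hie
  have hval : ∀ u : Q, u ∈ zpowers D.z → (u : G) = 1 ∨ (u : G) = w := by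
    intro u hu
    obtain ⟨i, hi, rfl⟩ := D.exists_lt _ hu
    interval_cases i
    · exact Or.inl (by simp)
    · exact Or.inr (by rw [pow_one, hDz])
  have hcom : ∀ u v : Q, ((⁅u, v⁆ : Q) : G) = (u : G) * v * (u : G)⁻¹ * (v : G)⁻¹ := fun u v => by
    simp [commutatorElement_def]
  have hpair : ∀ a b : Q, ⁅a, b⁆ = D.z → (a : G) * b * (a : G)⁻¹ * (b : G)⁻¹ = w := fun a b h => by
    rw [← hcom, h, hDz]
  refine ⟨hz, hwQ, fun q hq => ?_, fun u hu v hv => ?_, fun u hu => ?_, fun u hu => ?_, fun u hu => ?_,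
    fun k hk v hv => ?_, fun k hk => ?_⟩
  · exact congrArg Subtype.val (mem_center_iff.mp hwc ⟨q, hq⟩).symm
  · have := hval _ (D.comm ⟨u, hu⟩ ⟨v, hv⟩)
    rwa [hcom] at this
  · have := hval _ (D.pw ⟨u, hu⟩)
    rw [← pow_two]
    simpa using this
  · have hm : u ∈ zpowers w := hzZ.le (h2.le (mem_centralizer_iff.mpr fun v hv => (hu v hv).symm))
    obtain ⟨i, hi⟩ := mem_powers_iff_mem_zpowers.mpr hm
    simp only at hi
    rw [← pow_mod_orderOf, hz] at hi
    rcases Nat.mod_two_eq_zero_or_one i with h | h <;> rw [h] at hi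
    · exact Or.inl (by simpa using hi.symm)
    · exact Or.inr (by simpa using hi.symm)
  · by_cases hu1 : (⟨u, hu⟩ : Q) ∈ zpowers D.z
    · obtain ⟨a, b, hp⟩ : ∃ a b, D.Pair ⊤ a b := by
        refine (D.eq_or_pair D.nd_top).resolve_left fun e => ?_
        have := congrArg (fun K : Subgroup Q => Nat.card K) e
        rw [Nat.card_zpowers, D.hz, card_top] at this
        omega
      have hc : ∀ a : Q, (a : G) * u = u * a := fun a => by
        rcases hval _ hu1 with e | e <;> simp only at e <;> subst e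
        · rw [mul_one, one_mul]
        · exact congrArg Subtype.val (mem_center_iff.mp hwc a)
      exact ⟨a, a.2, b, b.2, hc a, hc b, hpair a b hp.hab⟩
    · obtain ⟨q, hp⟩ := D.exists_partner D.nd_top (mem_top _) hu1
      obtain ⟨a, b, hp'⟩ : ∃ a b, D.Pair (D.perp ⊤ ⟨u, hu⟩ q) a b := by
        refine (D.eq_or_pair hp.perp_nd).resolve_left fun e => ?_
        have := hp.card_eq
        rw [e, Nat.card_zpowers, D.hz, card_top] at this
        omega
      have hc : ∀ a ∈ D.perp ⊤ ⟨u, hu⟩ q, (a : G) * u = u * a := fun a ha =>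
        congrArg Subtype.val (commutatorElement_eq_one_iff_mul_comm.mp (D.mem_perp.mp ha).2.1).symm
      exact ⟨a, a.2, b, b.2, hc a hp'.ha, hc b hp'.hb, hpair a b hp'.hab⟩
  · have hk' : k ∈ centralizer (((center Q).map Q.subtype) : Set G) := by
      rw [hzZ, LargeBasics.centralizer_zpowers, mem_centralizer_singleton_iff]
      exact hk
    exact (mem_normalizer_iff.mp (h3 hk') v).mp hv
  · have hcv : ∀ v : Q, k * v * k⁻¹ * (v : G)⁻¹ ∈ Q := fun v => by
      rcases hk v v.2 with e | e <;> rw [e]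
      exacts [Q.one_mem, hwQ]
    let χ : Q → Q := fun v => ⟨_, hcv v⟩
    have hχ : ∀ u v : Q, χ (u * v) = χ u * χ v := by
      intro u v
      have hcu : ∀ t : G, t ∈ Q → (χ v : G) * t = t * (χ v : G) := fun t ht => by
        rcases hk v v.2 with e | e <;> simp only [χ, e]
        · rw [one_mul, mul_one]
        · exact congrArg Subtype.val (mem_center_iff.mp hwc ⟨t, ht⟩).symm
      refine Subtype.ext ?_
      show k * (u * v : G) * k⁻¹ * (u * v : G)⁻¹ = (χ u : G) * (χ v : G)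
      have := hcu (u : G)⁻¹ (Q.inv_mem u.2)
      calc k * (u * v : G) * k⁻¹ * (u * v : G)⁻¹
          = (k * u * k⁻¹) * ((χ v : G) * (u : G)⁻¹) := by show _ = _ * ((k * v * k⁻¹ * (v : G)⁻¹) * _); group
        _ = (χ u : G) * (χ v : G) := by rw [this]; show _ = (k * u * k⁻¹ * (u : G)⁻¹) * _; group
    have hrange : ∀ v : Q, χ v ∈ zpowers D.z := fun v => by
      rcases hk v v.2 with e | e
      · rw [show χ v = 1 from Subtype.ext e]; exact one_mem _
      · rw [show χ v = D.z from Subtype.ext (e.trans (congrArg Subtype.val hDz).symm)]; exact mem_zpowers _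
    have hχz : χ D.z = 1 := by
      rcases hk w hwQ with e | e
      · exact Subtype.ext (by show k * (D.z : Q) * k⁻¹ * ((D.z : Q) : G)⁻¹ = 1; rw [hDz]; exact e)
      · exfalso
        have e' : k * w * k⁻¹ = w * w := mul_inv_eq_iff_eq_mul.mp e
        rw [← pow_two, ← hz, pow_orderOf_eq_one] at e'
        rw [conj_eq_one_iff] at e'
        rw [e', orderOf_one] at hz
        omega
    obtain ⟨u, -, hu⟩ := exists_rep D _ ⊤ le_rfl D.nd_top χ (fun u _ v _ => hχ u v) (fun u _ => hrange u) hχz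
    have hm : (u : G)⁻¹ * k ∈ centralizer (Q : Set G) := mem_centralizer_iff.mpr fun v hv => by
      have e : (u : G) * v * (u : G)⁻¹ * v⁻¹ = k * v * k⁻¹ * v⁻¹ := by
        rw [← hcom u ⟨v, hv⟩, hu ⟨v, hv⟩ (mem_top _)]
      have e2 := mul_right_cancel e
      calc v * ((u : G)⁻¹ * k) = (u : G)⁻¹ * ((u : G) * v * (u : G)⁻¹) * k := by group
        _ = (u : G)⁻¹ * k * v := by rw [e2]; group
    have := Q.mul_mem u.2 (map_subtype_le _ (h2.le hm))
    rwa [mul_inv_cancel_left] at this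

theorem Big.map {H : Type*} [Group H] {Q : Subgroup G} {z : G} (h : Big Q z) (f : G ≃* H) :
    Big (Q.map f.toMonoidHom) (f z) := by
  have hm : ∀ u : H, u ∈ Q.map f.toMonoidHom ↔ f.symm u ∈ Q := fun u => by
    exact ⟨fun ⟨w, hw, e⟩ => by rw [← e]; simpa using hw, fun hu => ⟨_, hu, f.apply_symm_apply u⟩⟩
  refine ⟨by rw [f.orderOf_eq]; exact h.hz, (hm _).mpr (by simpa using h.zQ), fun q hq => ?_,
    fun u hu v hv => ?_, fun u hu => ?_, fun u hu => ?_, fun u hu => ?_, fun k hk v hv => ?_, fun k hk => ?_⟩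
  · apply f.symm.injective
    simpa using h.zc _ ((hm _).mp hq)
  · rcases h.cc _ ((hm _).mp hu) _ ((hm _).mp hv) with e | e
    · exact Or.inl (f.symm.injective (by simpa using e))
    · exact Or.inr (f.symm.injective (by simpa using e))
  · rcases h.sq _ ((hm _).mp hu) with e | e
    · exact Or.inl (f.symm.injective (by simpa using e))
    · exact Or.inr (f.symm.injective (by simpa using e))
  · rcases h.cent (f.symm u) fun v hv => by
      have := congrArg f.symm (hu (f v) ((hm _).mpr (by simpa using hv)))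
      simpa using this with e | e
    · exact Or.inl (f.symm.injective (by simpa using e))
    · exact Or.inr (f.symm.injective (by simpa using e))
  · obtain ⟨a, ha, b, hb, e1, e2, e3⟩ := h.na _ ((hm _).mp hu)
    refine ⟨f a, (hm _).mpr (by simpa using ha), f b, (hm _).mpr (by simpa using hb), ?_, ?_, ?_⟩
    · exact f.symm.injective (by simpa using e1)
    · exact f.symm.injective (by simpa using e2)
    · exact f.symm.injective (by simpa using e3)
  · have := congrArg f.symm hk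
    refine (hm _).mpr ?_
    simpa using h.norm (f.symm k) (by simpa using this) _ ((hm _).mp hv)
  · refine (hm _).mpr (h.inner _ fun v hv => ?_)
    rcases hk (f v) ((hm _).mpr (by simpa using hv)) with e | e
    · exact Or.inl (by simpa using congrArg f.symm e)
    · exact Or.inr (by simpa using congrArg f.symm e)

theorem cj (k u v : G) : k * (u * v) * k⁻¹ = (k * u * k⁻¹) * (k * v * k⁻¹) := by group

theorem comm_of_conj {u v : G} (h : u * v * u⁻¹ = v) : u * v = v * u := mul_inv_eq_iff_eq_mul.mp h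

theorem conj_of_comm {u v : G} (h : u * v = v * u) : u * v * u⁻¹ = v := mul_inv_eq_iff_eq_mul.mpr h

section

variable {Q Qy : Subgroup G} {z y : G}

theorem Big.zz (h : Big Q z) : z * z = 1 := by
  have := pow_orderOf_eq_one z; rwa [h.hz, pow_two] at this

theorem Big.z_ne (h : Big Q z) : z ≠ 1 := fun e => by
  have := h.hz; rw [e, orderOf_one] at this; omega

theorem Big.exists_move (h : Big Q z) {u : G} (hu : u ∈ Q) (h1 : u ≠ 1) (h2 : u ≠ z) :
    ∃ q ∈ Q, q * u * q⁻¹ = z * u := by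
  by_contra hn
  push_neg at hn
  refine (h.cent u fun v hv => ?_).elim h1 h2
  rcases h.cc v hv u hu with e | e
  · exact (comm_of_conj (mul_inv_eq_one.mp e)).symm
  · exact absurd (mul_inv_eq_iff_eq_mul.mp e) (hn v hv)

theorem Big.dichotomy (h : Big Q z) {u v : G} (hu : u ∈ Q) (hv : v ∈ Q) :
    v * u * v⁻¹ = u ∨ v * u * v⁻¹ = z * u :=
  (h.cc v hv u hu).imp mul_inv_eq_one.mp mul_inv_eq_iff_eq_mul.mp

/-- Two conjugate central involutions, one lying in the extraspecial subgroup of the other. -/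
structure Conf (Q Qy : Subgroup G) (z y : G) : Prop where
  hQ : Big Q z
  hQy : Big Qy y
  yQ : y ∈ Q
  ne : y ≠ z
  mv : ∀ k, k * y * k⁻¹ = z → ∀ v ∈ Qy, k * v * k⁻¹ ∈ Q
  mv' : ∀ k, k * z * k⁻¹ = y → ∀ v ∈ Q, k * v * k⁻¹ ∈ Qy

theorem Conf.zy (h : Conf Q Qy z y) : z * y = y * z := h.hQ.zc y h.yQ

theorem Conf.zy_z (h : Conf Q Qy z y) : z * y * z = y := by
  rw [h.zy, mul_assoc, h.hQ.zz, mul_one]

theorem Conf.cQ0 (h : Conf Q Qy z y) {e : G} (he : e ∈ Q)
    (hc : ∀ a ∈ Q, a * y = y * a → e * a = a * e) : e = 1 ∨ e = z ∨ e = y ∨ e = z * y := by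
  obtain ⟨q, hq, hqy⟩ := h.hQ.exists_move h.yQ h.hQy.z_ne h.ne
  have hd : ∀ e' ∈ Q, (∀ a ∈ Q, a * y = y * a → e' * a = a * e') → e' * q = q * e' → e' = 1 ∨ e' = z := by
    intro e' _ hc' hq'
    refine h.hQ.cent e' fun v hv => ?_
    rcases h.hQ.dichotomy h.yQ hv with e1 | e1
    · exact hc' v hv (comm_of_conj e1)
    · have h2 : q⁻¹ * v * y = y * (q⁻¹ * v) := comm_of_conj (by
        calc q⁻¹ * v * y * (q⁻¹ * v)⁻¹ = q⁻¹ * (v * y * v⁻¹) * q := by group
          _ = q⁻¹ * (q * y * q⁻¹) * q := by rw [e1, hqy]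
          _ = y := by group)
      have h3 := hc' _ (Q.mul_mem (Q.inv_mem hq) hv) h2
      have := (Commute.mul_right (show Commute e' q from hq') (show Commute e' (q⁻¹ * v) from h3)).eq
      rwa [mul_inv_cancel_left] at this
  rcases h.hQ.dichotomy hq he with e1 | e1
  · rcases hd e he hc (comm_of_conj e1) with rfl | rfl
    · exact Or.inl rfl
    · exact Or.inr (Or.inl rfl)
  · have hcy : ∀ a ∈ Q, a * y = y * a → e * y * a = a * (e * y) := fun a ha hay =>
      ((show Commute e a from hc a ha hay).mul_left (show Commute y a from hay.symm)).eq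
    have hq' : e * y * q = q * (e * y) := comm_of_conj (by
      have hyq : y * q * y⁻¹ = z * q := by
        rcases h.hQ.dichotomy hq h.yQ with e2 | e2
        · exfalso
          have := conj_of_comm (comm_of_conj e2).symm
          rw [hqy] at this
          exact h.hQ.z_ne (mul_eq_right.mp this)
        · exact e2
      calc e * y * q * (e * y)⁻¹ = e * (y * q * y⁻¹) * e⁻¹ := by group
        _ = e * (z * q) * e⁻¹ := by rw [hyq]
        _ = z * (z * q) := by rw [cj, conj_of_comm (h.hQ.zc e he).symm, e1]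
        _ = q := by rw [← mul_assoc, h.hQ.zz, one_mul])
    have hy2 : y * y = 1 := h.hQy.zz
    rcases hd _ (Q.mul_mem he h.yQ) hcy hq' with e2 | e2
    · exact Or.inr (Or.inr (Or.inl (by rw [mul_eq_one_iff_eq_inv.mp e2, inv_eq_of_mul_eq_one_right hy2])))
    · exact Or.inr (Or.inr (Or.inr (by rw [← e2, mul_assoc, hy2, mul_one])))

theorem Conf.pa (h : Conf Q Qy z y) {a p : G} (ha : a ∈ Q) (hay : a * y = y * a) (hp : p ∈ Qy)
    (hpz : p * z = z * p) : a * p * a⁻¹ * p⁻¹ ∈ Q ∧ a * p * a⁻¹ * p⁻¹ ∈ Qy := by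
  refine ⟨?_, Qy.mul_mem (h.hQy.norm a hay p hp) (Qy.inv_mem hp)⟩
  rw [show a * p * a⁻¹ * p⁻¹ = a * (p * a⁻¹ * p⁻¹) by group]
  exact Q.mul_mem ha (h.hQ.norm p hpz _ (Q.inv_mem ha))

theorem Conf.z_mem (h : Conf Q Qy z y) : z ∈ Qy := by
  by_contra hn
  have hE : ∀ e ∈ Q, e ∈ Qy → e = 1 ∨ e = y := by
    intro e he he'
    rcases h.cQ0 he fun a ha hay => by
      rcases h.hQ.cc a ha e he with e1 | e1
      · exact (comm_of_conj (mul_inv_eq_one.mp e1)).symm
      · exact absurd (e1 ▸ Qy.mul_mem (h.hQy.norm a hay e he') (Qy.inv_mem he')) hn with e1 | e1 | e1 | e1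
    · exact Or.inl e1
    · exact absurd (e1 ▸ he') hn
    · exact Or.inr e1
    · exact absurd (by
        have := Qy.mul_mem he' h.hQy.zQ
        rwa [e1, mul_assoc, h.hQy.zz, mul_one] at this) hn
  have hPQ : ∀ a ∈ Q, a * y = y * a → ∀ p ∈ Qy, p * z = z * p →
      a * p * a⁻¹ * p⁻¹ = 1 ∨ a * p * a⁻¹ * p⁻¹ = y :=
    fun a ha hay p hp hpz => hE _ (h.pa ha hay hp hpz).1 (h.pa ha hay hp hpz).2
  have hy : ∀ e : G, e = 1 ∨ e = y → ∀ v ∈ Qy, e * v = v * e := by
    rintro e (rfl | rfl) v hv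
    · rw [one_mul, mul_one]
    · exact h.hQy.zc v hv
  obtain ⟨a, ha, b, hb, hay, hby, hab⟩ := h.hQ.na y h.yQ
  have hzn : ∀ v ∈ Qy, z * v * z ∈ Qy := fun v hv => by
    have := h.hQy.norm z h.zy v hv
    rwa [inv_eq_of_mul_eq_one_right h.hQ.zz] at this
  obtain ⟨x, hx, hxz⟩ : ∃ x ∈ Qy, x * z * x⁻¹ = z * y := by
    by_contra hno
    push_neg at hno
    have hP1 : ∀ v ∈ Qy, (z * v * z * v⁻¹ = 1 ∨ z * v * z * v⁻¹ = y) → v * z = z * v := by
      rintro v hv (e | e)
      · have e2 := mul_inv_eq_one.mp e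
        calc v * z = z * v * z * z := by rw [e2]
          _ = z * v := by rw [mul_assoc (z * v), h.hQ.zz, mul_one]
      · refine absurd ?_ (hno v hv)
        calc v * z * v⁻¹ = z * (z * v * z * v⁻¹) := by simp [← mul_assoc, h.hQ.zz]
          _ = z * y := by rw [e]
    have hcP : ∀ v ∈ Qy, z * v * z * v⁻¹ ∈ Qy ∧ (z * v * z * v⁻¹) * z = z * (z * v * z * v⁻¹) := by
      intro v hv
      have hc := Qy.mul_mem (hzn v hv) (Qy.inv_mem hv)
      refine ⟨hc, hP1 _ hc ?_⟩
      have : z * (z * v * z * v⁻¹) * z = (z * v * z * v⁻¹)⁻¹ := by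
        simp only [mul_inv_rev, inv_inv, inv_eq_of_mul_eq_one_right h.hQ.zz, ← mul_assoc, h.hQ.zz, one_mul]
      rw [this]
      exact h.hQy.sq _ (Qy.inv_mem hc)
    have hd : ∀ a ∈ Q, a * y = y * a → ∀ v ∈ Qy,
        a * v * a⁻¹ * v⁻¹ ∈ Qy ∧ (a * v * a⁻¹ * v⁻¹) * z = z * (a * v * a⁻¹ * v⁻¹) := by
      intro a ha hay v hv
      have hdQ := Qy.mul_mem (h.hQy.norm a hay v hv) (Qy.inv_mem hv)
      refine ⟨hdQ, hP1 _ hdQ ?_⟩
      obtain ⟨hc, hcz⟩ := hcP v hv
      set c := z * v * z * v⁻¹ with hcdef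
      set d := a * v * a⁻¹ * v⁻¹ with hddef
      have hza : z * a = a * z := h.hQ.zc a ha
      have e0 : z * d * z = (a * c * a⁻¹ * c⁻¹) * (c * d * c⁻¹ * d⁻¹) * d := by
        calc z * d * z = z * a * (v * a⁻¹ * v⁻¹ * z) := by rw [hddef]; simp only [mul_assoc]
          _ = a * (z * v * a⁻¹ * v⁻¹ * z) := by rw [hza]; simp only [mul_assoc]
          _ = a * (z * v * (z * (z * a⁻¹)) * v⁻¹ * z) := by rw [← mul_assoc z z, h.hQ.zz, one_mul]
          _ = a * (z * v * (z * (a⁻¹ * z)) * v⁻¹ * z) := by rw [h.hQ.zc a⁻¹ (Q.inv_mem ha)]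
          _ = a * (c * v * a⁻¹ * (z * v⁻¹ * z)) := by rw [hcdef]; group
          _ = a * (c * v * a⁻¹ * (v⁻¹ * c⁻¹)) := by
            rw [hcdef]
            simp only [mul_inv_rev, inv_inv, inv_eq_of_mul_eq_one_right h.hQ.zz, ← mul_assoc, inv_mul_cancel, one_mul]
          _ = _ := by rw [hddef]; group
      rw [e0, mul_inv_cancel_right]
      rcases hPQ a ha hay c hc hcz with e1 | e1 <;> rcases h.hQy.cc c hc d hdQ with e2 | e2 <;>
        rw [e1, e2] <;> simp [h.hQy.zz]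
    have hall : ∀ w ∈ Qy, w * z = z * w := by
      intro w hw
      have hba : b * a * y = y * (b * a) := ((show Commute b y from hby).mul_left (show Commute a y from hay)).eq
      set v := (b * a)⁻¹ * w * (b * a)⁻¹⁻¹ with hvdef
      have hv : v ∈ Qy := h.hQy.norm _ ((show Commute (b * a) y from hba).inv_left).eq w hw
      obtain ⟨hda, hdaz⟩ := hd a ha hay v hv
      obtain ⟨hdb, hdbz⟩ := hd b hb hby v hv
      set da := a * v * a⁻¹ * v⁻¹ with hdadef
      set db := b * v * b⁻¹ * v⁻¹ with hdbdef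
      have e1 := hPQ a ha hay db hdb hdbz
      have e2 := hPQ b hb hby da hda hdaz
      have e3 := h.hQy.cc db hdb da hda
      refine hP1 w hw ?_
      have k1 : z * w * z * w⁻¹ = (a * db * a⁻¹ * db⁻¹) * (db * da) * ((b * da * b⁻¹ * da⁻¹) * (da * db))⁻¹ := by
        have hw' : w = (b * a) * v * (b * a)⁻¹ := by rw [hvdef]; group
        conv_lhs =>
          rw [show z * w * z = z * w * z⁻¹ by rw [inv_eq_of_mul_eq_one_right h.hQ.zz], hw', ← hab]
        rw [hdadef, hdbdef]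
        group
      rw [k1]
      rcases e1 with e1 | e1 <;> rcases e2 with e2 | e2 <;> rcases e3 with e3 | e3 <;> rw [e1, e2] <;>
        rw [show db * da = (db * da * db⁻¹ * da⁻¹) * (da * db) by group, e3] <;>
        simp [mul_assoc, h.hQy.zz, inv_eq_of_mul_eq_one_right h.hQy.zz]
    rcases h.hQy.cent z fun v hv => (hall v hv).symm with e | e
    exacts [h.hQ.z_ne e, h.ne e.symm]
  obtain ⟨q, hq, hqy⟩ := h.hQ.exists_move h.yQ h.hQy.z_ne h.ne
  have hxy : x * y * x⁻¹ = y := conj_of_comm (h.hQy.zc x hx).symm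
  have hxzy : x * (z * y) * x⁻¹ = z := by rw [cj, hxz, hxy, mul_assoc, h.hQy.zz, mul_one]
  have hqz : q * z * q⁻¹ = z := conj_of_comm (h.hQ.zc q hq).symm
  have hqzy : q * (z * y) * q⁻¹ = y := by rw [cj, hqz, hqy, ← mul_assoc, h.hQ.zz, one_mul]
  set m := x * q * x with hmdef
  have hmz : m * z * m⁻¹ = y := by
    rw [hmdef, show x * q * x * z * (x * q * x)⁻¹ = x * (q * (x * z * x⁻¹) * q⁻¹) * x⁻¹ by group, hxz, hqzy, hxy]
  have hmy : m * y * m⁻¹ = z := by
    rw [hmdef, show x * q * x * y * (x * q * x)⁻¹ = x * (q * (x * y * x⁻¹) * q⁻¹) * x⁻¹ by group, hxy, hqy, hxzy]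
  have hm2 : ∀ u v : G, u * v = v * u → (m * u * m⁻¹) * (m * v * m⁻¹) = (m * v * m⁻¹) * (m * u * m⁻¹) :=
    fun u v e => by rw [← cj, ← cj, e]
  have hcomm : ∀ a ∈ Q, a * y = y * a → ∀ p ∈ Qy, p * z = z * p → a * p = p * a := by
    intro a ha hay p hp hpz
    rcases hPQ a ha hay p hp hpz with e | e
    · exact comm_of_conj (mul_inv_eq_one.mp e)
    · exfalso
      have e' := hPQ (m * p * m⁻¹) (h.mv m hmy p hp) (by
          have := hm2 p z hpz
          rwa [hmz] at this)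
        (m * a * m⁻¹) (h.mv' m hmz a ha) (by
          have := hm2 a y hay
          rwa [hmy] at this)
      have e2 : (m * p * m⁻¹) * (m * a * m⁻¹) * (m * p * m⁻¹)⁻¹ * (m * a * m⁻¹)⁻¹ = z := by
        calc (m * p * m⁻¹) * (m * a * m⁻¹) * (m * p * m⁻¹)⁻¹ * (m * a * m⁻¹)⁻¹
            = m * (a * p * a⁻¹ * p⁻¹)⁻¹ * m⁻¹ := by group
          _ = z := by rw [e, inv_eq_of_mul_eq_one_right h.hQy.zz, hmy]
      rw [e2] at e'
      exact e'.elim h.hQ.z_ne fun e3 => h.ne e3.symm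
  have hind : ∀ v ∈ Qy, v * z * v⁻¹ = z ∨ v * z * v⁻¹ = z * y := by
    intro v hv
    have hmi : ∀ t : G, (m * v * m⁻¹) * y * (m * v * m⁻¹)⁻¹ = t → v * z * v⁻¹ = m⁻¹ * t * m := by
      intro t e
      rw [← e, ← hmz]; group
    rcases h.hQ.dichotomy h.yQ (h.mv m hmy v hv) with e | e
    · refine Or.inl ((hmi _ e).trans ?_)
      rw [← hmz]; group
    · refine Or.inr ((hmi _ e).trans ?_)
      have e3 : m * (z * y) * m⁻¹ = z * y := by rw [cj, hmz, hmy, h.zy]
      conv_lhs => rw [← e3]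
      group
  have hs : ∀ a ∈ Q, a * y = y * a → a * x * a⁻¹ * x⁻¹ ∈ Qy ∧
      (a * x * a⁻¹ * x⁻¹) * z = z * (a * x * a⁻¹ * x⁻¹) ∧
      ∀ p ∈ Qy, p * z = z * p → (a * x * a⁻¹ * x⁻¹) * p = p * (a * x * a⁻¹ * x⁻¹) := by
    intro a ha hay
    set s := a * x * a⁻¹ * x⁻¹ with hsdef
    have hsQ : s ∈ Qy := Qy.mul_mem (h.hQy.norm a hay x hx) (Qy.inv_mem hx)
    have hsP : ∀ p ∈ Qy, p * z = z * p → s * p = p * s := by
      intro p hp hpz
      have hp' : (x⁻¹ * p * x) * z = z * (x⁻¹ * p * x) := comm_of_conj (by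
        rw [show x⁻¹ * p * x * z * (x⁻¹ * p * x)⁻¹ = x⁻¹ * (p * (x * z * x⁻¹) * p⁻¹) * x by group, hxz,
          cj, conj_of_comm hpz, conj_of_comm (h.hQy.zc p hp).symm, ← hxz]
        group)
      have hc1 := hcomm a ha hay _ (Qy.mul_mem (Qy.mul_mem (Qy.inv_mem hx) hp) hx) hp'
      have hc2 := hcomm a ha hay p hp hpz
      refine comm_of_conj ?_
      calc s * p * s⁻¹ = a * x * (a⁻¹ * (x⁻¹ * p * x) * a) * x⁻¹ * a⁻¹ := by rw [hsdef]; group
        _ = a * x * (x⁻¹ * p * x) * x⁻¹ * a⁻¹ := by rw [mul_assoc a⁻¹, ← hc1, inv_mul_cancel_left]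
        _ = a * p * a⁻¹ := by group
        _ = p := conj_of_comm hc2
    refine ⟨hsQ, ?_, hsP⟩
    rcases hind s hsQ with e | e
    · exact comm_of_conj e
    · exfalso
      have : s = 1 ∨ s = y := h.hQy.cent s fun v hv => by
        rcases hind v hv with e2 | e2
        · exact hsP v hv (comm_of_conj e2)
        · have h4 : s⁻¹ * v * z = z * (s⁻¹ * v) := comm_of_conj (by
            calc s⁻¹ * v * z * (s⁻¹ * v)⁻¹ = s⁻¹ * (v * z * v⁻¹) * s := by group
              _ = s⁻¹ * (s * z * s⁻¹) * s := by rw [e2, e]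
              _ = z := by group)
          have h5 := hsP _ (Qy.mul_mem (Qy.inv_mem hsQ) hv) h4
          have := ((Commute.refl s).mul_right (show Commute s (s⁻¹ * v) from h5)).eq
          rwa [mul_inv_cancel_left] at this
      have hc : s * z = z * s := by
        rcases this with e2 | e2 <;> rw [e2]
        · rw [one_mul, mul_one]
        · exact h.zy.symm
      rw [conj_of_comm hc] at e
      exact h.hQy.z_ne (left_eq_mul.mp e)
  obtain ⟨hs1, hs1z, hs1P⟩ := hs a ha hay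
  obtain ⟨ht1, ht1z, -⟩ := hs b hb hby
  set s := a * x * a⁻¹ * x⁻¹ with hsdef
  set t := b * x * b⁻¹ * x⁻¹ with htdef
  have h1 : (a * b) * x * (a * b)⁻¹ = t * s * x := by
    calc (a * b) * x * (a * b)⁻¹ = (a * t * a⁻¹) * (s * x) := by rw [htdef, hsdef]; group
      _ = t * s * x := by rw [conj_of_comm (hcomm a ha hay t ht1 ht1z)]; group
  have h2 : (b * a) * x * (b * a)⁻¹ = t * s * x := by
    calc (b * a) * x * (b * a)⁻¹ = (b * s * b⁻¹) * (t * x) := by rw [htdef, hsdef]; group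
      _ = s * t * x := by rw [conj_of_comm (hcomm b hb hby s hs1 hs1z)]; group
      _ = t * s * x := by rw [hs1P t ht1 ht1z]
  have h3 : (b * a)⁻¹ * (a * b) * x * ((b * a)⁻¹ * (a * b))⁻¹ = x := by
    calc (b * a)⁻¹ * (a * b) * x * ((b * a)⁻¹ * (a * b))⁻¹
        = (b * a)⁻¹ * ((a * b) * x * (a * b)⁻¹) * (b * a) := by group
      _ = (b * a)⁻¹ * ((b * a) * x * (b * a)⁻¹) * (b * a) := by rw [h1, h2]
      _ = x := by group
  have h4 : (b * a)⁻¹ * (a * b) = z := by
    have e : a * b = z * (b * a) := by rw [← hab]; group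
    rw [e, h.hQ.zc _ (Q.mul_mem hb ha), inv_mul_cancel_left]
  rw [h4] at h3
  rw [conj_of_comm (comm_of_conj h3).symm] at hxz
  exact h.hQy.z_ne (left_eq_mul.mp hxz)

theorem Conf.symm (h : Conf Q Qy z y) : Conf Qy Q y z :=
  ⟨h.hQy, h.hQ, h.z_mem, h.ne.symm, h.mv', h.mv⟩

theorem Conf.of_conj (h : Big Q z) (g : G) (hgQ : g * z * g⁻¹ ∈ Q) (hne : g * z * g⁻¹ ≠ z) :
    Conf Q (Q.map (MulAut.conj g).toMonoidHom) z (g * z * g⁻¹) := by
  refine ⟨h, h.map (MulAut.conj g), hgQ, hne, fun k hk v hv => ?_, fun k hk v hv => ⟨g⁻¹ * (k * v * k⁻¹) * g, ?_, ?_⟩⟩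
  · obtain ⟨u, hu, rfl⟩ := hv
    show k * (g * u * g⁻¹) * k⁻¹ ∈ Q
    rw [show k * (g * u * g⁻¹) * k⁻¹ = (k * g) * u * (k * g)⁻¹ by group]
    exact h.norm _ (comm_of_conj (by
      rw [show k * g * z * (k * g)⁻¹ = k * (g * z * g⁻¹) * k⁻¹ by group]; exact hk)) u hu
  · rw [show g⁻¹ * (k * v * k⁻¹) * g = (g⁻¹ * k) * v * (g⁻¹ * k)⁻¹ by group]
    exact h.norm _ (comm_of_conj (by
      rw [show g⁻¹ * k * z * (g⁻¹ * k)⁻¹ = g⁻¹ * (k * z * k⁻¹) * g by group, hk]; group)) v hv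
  · show g * (g⁻¹ * (k * v * k⁻¹) * g) * g⁻¹ = k * v * k⁻¹
    group

/-- The four group. -/
def vier (z y : G) : Subgroup G := closure {z, y}

/-- The elements of the four group. -/
def fours (z y : G) : Fin 3 → G := ![z, y, z * y]

theorem Conf.mem_vier (h : Conf Q Qy z y) {v : G} (hv : v ∈ vier z y) : v = 1 ∨ ∃ i, fours z y i = v := by
  have hz := h.hQ.zz
  have hy := h.hQy.zz
  have hzy := h.zy
  induction hv using closure_induction with
  | mem v hv =>
    rcases hv with rfl | rfl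
    · exact Or.inr ⟨0, rfl⟩
    · exact Or.inr ⟨1, rfl⟩
  | one => exact Or.inl rfl
  | mul u v _ _ iu iv =>
    rcases iu with rfl | ⟨i, rfl⟩
    · rwa [one_mul]
    rcases iv with rfl | ⟨j, rfl⟩
    · exact Or.inr ⟨i, (mul_one _).symm⟩
    have e1 : z * (z * y) = y := by rw [← mul_assoc, hz, one_mul]
    have e2 : y * (z * y) = z := by rw [← mul_assoc, ← hzy, mul_assoc, hy, mul_one]
    have e3 : z * y * z = y := h.zy_z
    have e4 : z * y * y = z := by rw [mul_assoc, hy, mul_one]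
    have e5 : z * y * (z * y) = 1 := by rw [← mul_assoc, e3, hy]
    fin_cases i <;> fin_cases j <;> simp only [fours] <;>
      first
        | exact Or.inl hz | exact Or.inl hy | exact Or.inl e5
        | exact Or.inr ⟨2, rfl⟩ | exact Or.inr ⟨2, hzy⟩
        | exact Or.inr ⟨1, e1.symm⟩ | exact Or.inr ⟨0, e2.symm⟩
        | exact Or.inr ⟨1, e3.symm⟩ | exact Or.inr ⟨0, e4.symm⟩
  | inv u _ iu =>
    rcases iu with rfl | ⟨i, rfl⟩
    · exact Or.inl inv_one
    refine Or.inr ⟨i, (inv_eq_of_mul_eq_one_right ?_).symm⟩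
    fin_cases i
    · exact hz
    · exact hy
    · show z * y * (z * y) = 1
      rw [← mul_assoc, h.zy_z, hy]

theorem fours_mem (z y : G) (i : Fin 3) : fours z y i ∈ vier z y := by
  have hz : z ∈ vier z y := subset_closure (Or.inl rfl)
  have hy : y ∈ vier z y := subset_closure (Or.inr rfl)
  fin_cases i
  exacts [hz, hy, mul_mem hz hy]

theorem Conf.fours_ne (h : Conf Q Qy z y) (i : Fin 3) : fours z y i ≠ 1 := by
  fin_cases i
  · exact h.hQ.z_ne
  · exact h.hQy.z_ne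
  · intro e
    have e1 : z * y = 1 := e
    exact h.ne (by
      calc y = z * (z * y) := by rw [← mul_assoc, h.hQ.zz, one_mul]
        _ = z := by rw [e1, mul_one])

theorem Conf.fours_injective (h : Conf Q Qy z y) : Function.Injective (fours z y) := by
  intro i j e
  fin_cases i <;> fin_cases j <;> simp only [fours] at e <;>
    first
      | rfl
      | exact absurd e h.ne | exact absurd e.symm h.ne
      | exact absurd (left_eq_mul.mp e) h.hQy.z_ne | exact absurd (left_eq_mul.mp e.symm) h.hQy.z_ne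
      | exact absurd (right_eq_mul.mp e) h.hQ.z_ne | exact absurd (right_eq_mul.mp e.symm) h.hQ.z_ne

theorem Conf.exists_perm (h : Conf Q Qy z y) (n : normalizer (vier z y : Set G)) (i : Fin 3) :
    ∃ j, fours z y j = (n : G) * fours z y i * (n : G)⁻¹ :=
  (h.mem_vier ((mem_normalizer_iff.mp n.2 _).mp (fours_mem z y i))).resolve_left
    fun e => h.fours_ne i (conj_eq_one_iff.mp e)

/-- The action of the normalizer of the four group on its three involutions. -/
noncomputable def Conf.phi (h : Conf Q Qy z y) : normalizer (vier z y : Set G) →* Equiv.Perm (Fin 3) :=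
  MonoidHom.mk' (fun n => Equiv.ofBijective (fun i => (h.exists_perm n i).choose)
    (Finite.injective_iff_bijective.mp fun i j e => by
      apply h.fours_injective
      have e1 := congrArg (fours z y) e
      rw [(h.exists_perm n i).choose_spec, (h.exists_perm n j).choose_spec] at e1
      exact mul_left_cancel (mul_right_cancel e1)))
    fun m n => Equiv.ext fun i => by
      apply h.fours_injective
      show fours z y (h.exists_perm (m * n) i).choose =
        fours z y (h.exists_perm m (h.exists_perm n i).choose).choose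
      rw [(h.exists_perm (m * n) i).choose_spec, (h.exists_perm m _).choose_spec,
        (h.exists_perm n i).choose_spec, Subgroup.coe_mul]
      group

theorem Conf.phi_spec (h : Conf Q Qy z y) (n : normalizer (vier z y : Set G)) (i : Fin 3) :
    fours z y (h.phi n i) = (n : G) * fours z y i * (n : G)⁻¹ := (h.exists_perm n i).choose_spec

theorem mem_cent_vier {c : G} : c ∈ centralizer (vier z y : Set G) ↔ c * z = z * c ∧ c * y = y * c := by
  rw [vier, centralizer_closure, mem_centralizer_iff]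
  refine ⟨fun h => ⟨(h z (Or.inl rfl)).symm, (h y (Or.inr rfl)).symm⟩, fun h v hv => ?_⟩
  rcases hv with rfl | rfl
  exacts [h.1.symm, h.2.symm]

theorem Conf.phi_ker (h : Conf Q Qy z y) :
    h.phi.ker = (centralizer (vier z y : Set G)).subgroupOf (normalizer (vier z y : Set G)) := by
  ext n
  rw [MonoidHom.mem_ker, mem_subgroupOf, mem_cent_vier]
  constructor
  · intro e
    have e0 := h.phi_spec n 0
    have e1 := h.phi_spec n 1
    rw [e] at e0 e1
    exact ⟨comm_of_conj e0.symm, comm_of_conj e1.symm⟩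
  · rintro ⟨e0, e1⟩
    refine Equiv.ext fun i => h.fours_injective ?_
    rw [h.phi_spec]
    fin_cases i
    · exact conj_of_comm e0
    · exact conj_of_comm e1
    · show (n : G) * (z * y) * (n : G)⁻¹ = z * y
      rw [cj, conj_of_comm e0, conj_of_comm e1]

theorem cent_le_normalizer {V : Subgroup G} : centralizer (V : Set G) ≤ normalizer (V : Set G) :=
  centralizer_le_normalizer _

variable [Finite G]

theorem mem_norm_of_map_le {V : Subgroup G} {k : G} (h : ∀ v ∈ V, k * v * k⁻¹ ∈ V) : k ∈ normalizer (V : Set G) := by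
  have e : V.map (MulAut.conj k).toMonoidHom = V := Subgroup.eq_of_le_of_card_ge
    (fun _ ⟨v, hv, e⟩ => e ▸ h v hv) (le_of_eq (card_map_of_injective (MulAut.conj k).injective).symm)
  rw [mem_normalizer_iff]
  refine fun v => ⟨h v, fun hv => ?_⟩
  obtain ⟨w, hw, hwe⟩ := (e.ge hv : k * v * k⁻¹ ∈ V.map (MulAut.conj k).toMonoidHom)
  have hwe' : k * w * k⁻¹ = k * v * k⁻¹ := hwe
  rwa [← mul_left_cancel (mul_right_cancel hwe')]

theorem Conf.le_norm_vier (h : Conf Q Qy z y) : Q ≤ normalizer (vier z y : Set G) := fun q hq => by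
  refine mem_norm_of_map_le fun v hv => ?_
  have hz : z ∈ vier z y := subset_closure (Or.inl rfl)
  rcases h.mem_vier hv with rfl | ⟨i, rfl⟩
  · rw [mul_one, mul_inv_cancel]; exact one_mem _
  · have e1 : q * z * q⁻¹ = z := conj_of_comm (h.hQ.zc q hq).symm
    have hy : q * y * q⁻¹ ∈ vier z y := by
      rcases h.hQ.dichotomy h.yQ hq with e | e <;> rw [e]
      exacts [fours_mem z y 1, fours_mem z y 2]
    fin_cases i
    · show q * z * q⁻¹ ∈ _; rw [e1]; exact hz
    · exact hy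
    · show q * (z * y) * q⁻¹ ∈ _; rw [cj, e1]; exact mul_mem hz hy

theorem Conf.vier_symm (h : Conf Q Qy z y) : vier y z = vier z y := by
  rw [vier, vier, Set.pair_comm]

/-- The group generated by the two extraspecial subgroups. -/
def join (Q Qy : Subgroup G) : Subgroup G := Q ⊔ Qy

theorem Conf.join_le_norm (h : Conf Q Qy z y) : Q ⊔ Qy ≤ normalizer (vier z y : Set G) :=
  sup_le h.le_norm_vier (h.vier_symm ▸ h.symm.le_norm_vier)

theorem Conf.phi_surjective (h : Conf Q Qy z y) (σ : Equiv.Perm (Fin 3)) :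
    ∃ n : normalizer (vier z y : Set G), (n : G) ∈ Q ⊔ Qy ∧ h.phi n = σ := by
  obtain ⟨q, hq, hqy⟩ := h.hQ.exists_move h.yQ h.hQy.z_ne h.ne
  obtain ⟨x, hx, hxz⟩ := h.hQy.exists_move h.z_mem h.hQ.z_ne h.ne.symm
  set K := ((Q ⊔ Qy).subgroupOf (normalizer (vier z y : Set G))).map h.phi
  have ha : h.phi ⟨q, h.le_norm_vier hq⟩ = Equiv.swap 1 2 := by
    refine Equiv.ext fun i => h.fours_injective ?_
    rw [h.phi_spec]
    have e1 : q * z * q⁻¹ = z := conj_of_comm (h.hQ.zc q hq).symm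
    fin_cases i
    · exact e1
    · exact hqy
    · show q * (z * y) * q⁻¹ = y
      rw [cj, e1, hqy, ← mul_assoc, h.hQ.zz, one_mul]
  have hb : h.phi ⟨x, h.join_le_norm (mem_sup_right hx)⟩ = Equiv.swap 0 2 := by
    refine Equiv.ext fun i => h.fours_injective ?_
    rw [h.phi_spec]
    have e1 : x * y * x⁻¹ = y := conj_of_comm (h.hQy.zc x hx).symm
    fin_cases i
    · exact hxz.trans h.zy.symm
    · exact e1
    · show x * (z * y) * x⁻¹ = z
      rw [cj, e1, hxz, ← h.zy, mul_assoc, h.hQy.zz, mul_one]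
  have hA : Equiv.swap 1 2 ∈ K := ⟨_, mem_sup_left hq, ha⟩
  have hB : Equiv.swap 0 2 ∈ K := ⟨_, mem_sup_right hx, hb⟩
  have hall : ∀ σ : Equiv.Perm (Fin 3), σ = 1 ∨ σ = Equiv.swap 1 2 ∨ σ = Equiv.swap 0 2 ∨
      σ = Equiv.swap 1 2 * Equiv.swap 0 2 ∨ σ = Equiv.swap 0 2 * Equiv.swap 1 2 ∨
      σ = Equiv.swap 1 2 * Equiv.swap 0 2 * Equiv.swap 1 2 := by decide
  have : σ ∈ K := by
    rcases hall σ with e | e | e | e | e | e <;> rw [e]
    exacts [one_mem _, hA, hB, mul_mem hA hB, mul_mem hB hA, mul_mem (mul_mem hA hB) hA]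
  obtain ⟨n, hn, hne⟩ := this
  exact ⟨n, hn, hne⟩

theorem Conf.relIndex_eq (h : Conf Q Qy z y) :
    (centralizer (vier z y : Set G)).relIndex (normalizer (vier z y : Set G)) = 6 := by
  rw [relIndex, ← h.phi_ker, index_ker]
  have : h.phi.range = ⊤ := eq_top_iff.mpr fun σ _ => by
    obtain ⟨n, -, hn⟩ := h.phi_surjective σ
    exact ⟨n, hn⟩
  rw [this, card_top, Nat.card_perm, Nat.card_fin]
  rfl

/-- The radical. -/
def rad (Q Qy : Subgroup G) (z y : G) : Subgroup G :=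
  (Qy ⊓ centralizer ({z} : Set G)) ⊔ (Q ⊓ centralizer ({y} : Set G))

theorem rad_symm (Q Qy : Subgroup G) (z y : G) : rad Qy Q y z = rad Q Qy z y := sup_comm _ _

theorem mem_rad_right {q : G} (hq : q ∈ Q) (hqy : q * y = y * q) : q ∈ rad Q Qy z y :=
  mem_sup_right ⟨hq, mem_centralizer_singleton_iff.mpr hqy⟩

theorem mem_rad_left {p : G} (hp : p ∈ Qy) (hpz : p * z = z * p) : p ∈ rad Q Qy z y :=
  mem_sup_left ⟨hp, mem_centralizer_singleton_iff.mpr hpz⟩

theorem Conf.rad_le_cent (h : Conf Q Qy z y) : rad Q Qy z y ≤ centralizer (vier z y : Set G) :=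
  sup_le (fun p hp => mem_cent_vier.mpr ⟨mem_centralizer_singleton_iff.mp hp.2, (h.hQy.zc p hp.1).symm⟩)
    fun q hq => mem_cent_vier.mpr ⟨(h.hQ.zc q hq.1).symm, mem_centralizer_singleton_iff.mp hq.2⟩

theorem Conf.rad_le_join (Q Qy : Subgroup G) (z y : G) : rad Q Qy z y ≤ Q ⊔ Qy :=
  sup_le (inf_le_left.trans le_sup_right) (inf_le_left.trans le_sup_left)

theorem Conf.conj_left (h : Conf Q Qy z y) {q p : G} (hq : q ∈ Q) (hp : p ∈ Qy) (hpz : p * z = z * p) :
    q * p * q⁻¹ ∈ rad Q Qy z y := by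
  rcases h.hQ.dichotomy h.yQ hq with e | e
  · exact mul_mem (mul_mem (mem_rad_right hq (comm_of_conj e)) (mem_rad_left hp hpz))
      (inv_mem (mem_rad_right hq (comm_of_conj e)))
  obtain ⟨x, hx, hxz⟩ := h.hQy.exists_move h.z_mem h.hQ.z_ne h.ne.symm
  rw [← h.zy] at hxz
  have hxy : x * y * x⁻¹ = y := conj_of_comm (h.hQy.zc x hx).symm
  have hxzy : x * (z * y) * x⁻¹ = z := by rw [cj, hxz, hxy, mul_assoc, h.hQy.zz, mul_one]
  set k := x⁻¹ * q with hk
  have hky : k * y * k⁻¹ = z := by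
    rw [hk, show x⁻¹ * q * y * (x⁻¹ * q)⁻¹ = x⁻¹ * (q * y * q⁻¹) * x by group, e]
    conv_rhs => rw [show z = x⁻¹ * (x * z * x⁻¹) * x by group, hxz]
  have hkz : k * z * k⁻¹ = z * y := by
    rw [hk, show x⁻¹ * q * z * (x⁻¹ * q)⁻¹ = x⁻¹ * (q * z * q⁻¹) * x by group, conj_of_comm (h.hQ.zc q hq).symm]
    conv_rhs => rw [show z * y = x⁻¹ * (x * (z * y) * x⁻¹) * x by group, hxzy]
  set a := k * p * k⁻¹ with hadef
  have ha : a ∈ Q := h.mv k hky p hp
  have hazy : a * (z * y) = z * y * a := by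
    rw [hadef, ← hkz, ← cj, ← cj, hpz]
  have hay : a * y = y * a := by
    have := ((show Commute a z from (h.hQ.zc a ha).symm).mul_right (show Commute a (z * y) from hazy)).eq
    simpa [← mul_assoc, h.hQ.zz, mul_assoc a, mul_assoc z] using this
  have e2 : q * p * q⁻¹ = (x * a * x⁻¹ * a⁻¹) * a := by rw [hadef, hk]; group
  rw [e2]
  refine mul_mem (mem_rad_left ?_ ?_) (mem_rad_right ha hay)
  · rw [show x * a * x⁻¹ * a⁻¹ = x * (a * x⁻¹ * a⁻¹) by group]
    exact Qy.mul_mem hx (h.hQy.norm a hay _ (Qy.inv_mem hx))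
  · have haz : a * z = z * a := (h.hQ.zc a ha).symm
    have h1 : x * a * x⁻¹ * z = z * (x * a * x⁻¹) := comm_of_conj (by
      have e3 : x⁻¹ * z * x = z * y := by
        conv_rhs => rw [show z * y = x⁻¹ * (x * (z * y) * x⁻¹) * x by group, hxzy]
      calc x * a * x⁻¹ * z * (x * a * x⁻¹)⁻¹ = x * (a * (x⁻¹ * z * x) * a⁻¹) * x⁻¹ := by group
        _ = x * (z * y) * x⁻¹ := by rw [e3, conj_of_comm hazy]
        _ = z := hxzy)
    exact ((show Commute (x * a * x⁻¹) z from h1).mul_left (show Commute a z from haz).inv_left).eq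

theorem Conf.norm_rad_left (h : Conf Q Qy z y) : Q ≤ normalizer (rad Q Qy z y : Set G) := by
  refine fun q hq => mem_norm_of_map_le fun r hr => ?_
  have : rad Q Qy z y ≤ (rad Q Qy z y).comap (MulAut.conj q).toMonoidHom := by
    refine sup_le (fun p hp => ?_) fun a ha => ?_
    · exact h.conj_left hq hp.1 (mem_centralizer_singleton_iff.mp hp.2)
    · refine mem_rad_right (Q.mul_mem (Q.mul_mem hq ha.1) (Q.inv_mem hq)) ?_
      rcases h.hQ.cc q hq a ha.1 with e | e
      · show q * a * q⁻¹ * y = y * (q * a * q⁻¹)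
        rw [mul_inv_eq_one.mp e]; exact mem_centralizer_singleton_iff.mp ha.2
      · show q * a * q⁻¹ * y = y * (q * a * q⁻¹)
        rw [mul_inv_eq_iff_eq_mul.mp e]
        exact ((show Commute z y from h.zy).mul_left
          (show Commute a y from mem_centralizer_singleton_iff.mp ha.2)).eq
  exact this hr

theorem Conf.join_le_norm_rad (h : Conf Q Qy z y) : Q ⊔ Qy ≤ normalizer (rad Q Qy z y : Set G) :=
  sup_le h.norm_rad_left (rad_symm Q Qy z y ▸ h.symm.norm_rad_left)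

theorem Conf.inf_cent_le (h : Conf Q Qy z y) :
    (Q ⊔ Qy) ⊓ centralizer (vier z y : Set G) ≤ rad Q Qy z y := by
  set R := rad Q Qy z y
  obtain ⟨q, hq, hqy⟩ := h.hQ.exists_move h.yQ h.hQy.z_ne h.ne
  obtain ⟨x, hx, hxz⟩ := h.hQy.exists_move h.z_mem h.hQ.z_ne h.ne.symm
  rw [← h.zy] at hxz
  have hqz : q * z * q⁻¹ = z := conj_of_comm (h.hQ.zc q hq).symm
  have hqzy : q * (z * y) * q⁻¹ = y := by rw [cj, hqz, hqy, ← mul_assoc, h.hQ.zz, one_mul]
  have hxy : x * y * x⁻¹ = y := conj_of_comm (h.hQy.zc x hx).symm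
  have hxzy : x * (z * y) * x⁻¹ = z := by rw [cj, hxz, hxy, mul_assoc, h.hQy.zz, mul_one]
  have hq2 : q * q ∈ R := by
    refine mem_rad_right (Q.mul_mem hq hq) ?_
    rcases h.hQ.sq q hq with e | e <;> rw [e]
    exacts [by rw [one_mul, mul_one], h.zy]
  have hx2 : x * x ∈ R := by
    refine mem_rad_left (Qy.mul_mem hx hx) ?_
    rcases h.hQy.sq x hx with e | e <;> rw [e]
    exacts [by rw [one_mul, mul_one], h.zy.symm]
  have hRn : ∀ u ∈ Q ⊔ Qy, ∀ r ∈ R, u * r * u⁻¹ ∈ R := fun u hu r hr =>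
    (mem_normalizer_iff.mp (h.join_le_norm_rad hu) r).mp hr
  have hqJ : q ∈ Q ⊔ Qy := mem_sup_left hq
  have hxJ : x ∈ Q ⊔ Qy := mem_sup_right hx
  have hbraid : q * x * q * (x * q * x)⁻¹ ∈ R := by
    set k := x⁻¹ * q with hk
    have hky : k * y * k⁻¹ = z := by
      rw [hk, show x⁻¹ * q * y * (x⁻¹ * q)⁻¹ = x⁻¹ * (q * y * q⁻¹) * x by group, hqy]
      conv_rhs => rw [show z = x⁻¹ * (x * z * x⁻¹) * x by group, hxz]
    set t := k * x * k⁻¹ * q⁻¹ with ht
    have htQ : t ∈ Q := Q.mul_mem (h.mv k hky x hx) (Q.inv_mem hq)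
    have hty : t * y = y * t := comm_of_conj (by
      have e1 : q⁻¹ * y * q = z * y := by
        conv_rhs => rw [show z * y = q⁻¹ * (q * (z * y) * q⁻¹) * q by group, hqzy]
      calc t * y * t⁻¹ = x⁻¹ * (q * (x * (q⁻¹ * (x * (q⁻¹ * y * q) * x⁻¹) * q) * x⁻¹) * q⁻¹) * x := by
            rw [ht, hk]; group
        _ = y := by
          rw [e1, hxzy, show q⁻¹ * z * q = z by nth_rw 1 [← hqz]; group, hxz, hqzy]
          nth_rw 1 [← hxy]; group)
    have e : q * x * q * (x * q * x)⁻¹ =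
        (x * t * x⁻¹) * ((x * q * x⁻¹) * (q * q) * (x * q * x⁻¹)⁻¹) *
          ((x * q) * (x * x)⁻¹ * (x * q)⁻¹) := by
      rw [ht, hk]; group
    rw [e]
    refine mul_mem (mul_mem (hRn x hxJ _ (mem_rad_right htQ hty)) (hRn _ ?_ _ hq2)) (hRn _ ?_ _ (inv_mem hx2))
    · exact mul_mem (mul_mem hxJ hqJ) (inv_mem hxJ)
    · exact mul_mem hxJ hqJ
  let M : G → Prop := fun e => ∃ r ∈ R, e = r ∨ e = r * q ∨ e = r * x ∨ e = r * (q * x) ∨ e = r * (x * q) ∨
    e = r * (q * x * q)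
  have hMR : ∀ r ∈ R, ∀ e, M e → M (r * e) := by
    rintro r hr e ⟨s, hs, h1⟩
    refine ⟨r * s, mul_mem hr hs, ?_⟩
    rcases h1 with rfl | rfl | rfl | rfl | rfl | rfl <;> simp [mul_assoc]
  have hMq : ∀ e, M e → M (q * e) := by
    rintro e ⟨r, hr, h1⟩
    have h2 := hRn q hqJ r hr
    rcases h1 with rfl | rfl | rfl | rfl | rfl | rfl
    · exact ⟨_, h2, Or.inr (Or.inl (by group))⟩
    · exact ⟨_, mul_mem h2 hq2, Or.inl (by group)⟩
    · exact ⟨_, h2, Or.inr (Or.inr (Or.inr (Or.inl (by group))))⟩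
    · exact ⟨_, mul_mem h2 hq2, Or.inr (Or.inr (Or.inl (by group)))⟩
    · exact ⟨_, h2, Or.inr (Or.inr (Or.inr (Or.inr (Or.inr (by group)))))⟩
    · exact ⟨_, mul_mem h2 hq2, Or.inr (Or.inr (Or.inr (Or.inr (Or.inl (by group)))))⟩
  have hMx : ∀ e, M e → M (x * e) := by
    rintro e ⟨r, hr, h1⟩
    have h2 := hRn x hxJ r hr
    rcases h1 with rfl | rfl | rfl | rfl | rfl | rfl
    · exact ⟨_, h2, Or.inr (Or.inr (Or.inl (by group)))⟩
    · exact ⟨_, h2, Or.inr (Or.inr (Or.inr (Or.inr (Or.inl (by group)))))⟩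
    · exact ⟨_, mul_mem h2 hx2, Or.inl (by group)⟩
    · exact ⟨_, mul_mem h2 (inv_mem hbraid), Or.inr (Or.inr (Or.inr (Or.inr (Or.inr (by group)))))⟩
    · exact ⟨_, mul_mem h2 hx2, Or.inr (Or.inl (by group))⟩
    · exact ⟨_, mul_mem (mul_mem h2 (hRn x hxJ _ hbraid)) hx2, Or.inr (Or.inr (Or.inr (Or.inl (by group))))⟩
  have hMQ : ∀ v ∈ Q, ∀ e, M e → M (v * e) := by
    intro v hv e he
    rcases h.hQ.dichotomy h.yQ hv with e1 | e1
    · exact hMR v (mem_rad_right hv (comm_of_conj e1)) e he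
    · have h3 : v * q * y = y * (v * q) := comm_of_conj (by
        have hvz : v * z * v⁻¹ = z := conj_of_comm (h.hQ.zc v hv).symm
        rw [show v * q * y * (v * q)⁻¹ = v * (q * y * q⁻¹) * v⁻¹ by group, hqy, cj, hvz, e1, ← mul_assoc,
          h.hQ.zz, one_mul])
      have h4 := hMR _ (mul_mem (mem_rad_right (Q.mul_mem hv hq) h3) (inv_mem hq2)) _ (hMq e he)
      rwa [show v * q * (q * q)⁻¹ * (q * e) = v * e by group] at h4
  have hMQy : ∀ v ∈ Qy, ∀ e, M e → M (v * e) := by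
    intro v hv e he
    rcases h.symm.hQ.dichotomy h.z_mem hv with e1 | e1
    · exact hMR v (mem_rad_left hv (comm_of_conj e1)) e he
    · have h3 : v * x * z = z * (v * x) := comm_of_conj (by
        have hvy : v * y * v⁻¹ = y := conj_of_comm (h.hQy.zc v hv).symm
        rw [show v * x * z * (v * x)⁻¹ = v * (x * z * x⁻¹) * v⁻¹ by group, hxz, cj, hvy, e1, ← h.zy,
          mul_assoc, h.hQy.zz, mul_one])
      have h4 := hMR _ (mul_mem (mem_rad_left (Qy.mul_mem hv hx) h3) (inv_mem hx2)) _ (hMx e he)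
      rwa [show v * x * (x * x)⁻¹ * (x * e) = v * e by group] at h4
  rintro e ⟨heJ, hec⟩
  have key : ∀ w, M w → M (e * w) := by
    clear hec
    rw [sup_eq_closure] at heJ
    induction heJ using closure_induction'' with
    | mem u hu =>
      rcases hu with hu | hu
      exacts [hMQ u hu, hMQy u hu]
    | inv_mem u hu =>
      rcases hu with hu | hu
      exacts [hMQ _ (inv_mem hu), hMQy _ (inv_mem hu)]
    | one => exact fun w hw => by rwa [one_mul]
    | mul u v _ _ iu iv => exact fun w hw => by rw [mul_assoc]; exact iu _ (iv w hw)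
  obtain ⟨r, hr, h1⟩ := key 1 ⟨1, one_mem _, Or.inl rfl⟩
  rw [mul_one] at h1
  have bad : ∀ s, e = r * s → s * z * s⁻¹ = z ∧ s * y * s⁻¹ = y := by
    rintro s rfl
    have hs : s ∈ centralizer (vier z y : Set G) := by
      have := mul_mem (inv_mem (h.rad_le_cent hr)) hec
      rwa [inv_mul_cancel_left] at this
    obtain ⟨a, b⟩ := mem_cent_vier.mp hs
    exact ⟨conj_of_comm a, conj_of_comm b⟩
  have hz1 : z * y ≠ z := fun e => h.hQy.z_ne (mul_eq_left.mp e)
  have hz2 : z * y ≠ y := fun e => h.hQ.z_ne (mul_eq_right.mp e)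
  rcases h1 with h1 | h1 | h1 | h1 | h1 | h1
  · exact h1 ▸ hr
  · exact absurd (hqy.symm.trans (bad _ h1).2) hz2
  · exact absurd (hxz.symm.trans (bad _ h1).1) hz1
  · refine absurd ?_ h.ne
    have := (bad _ h1).1
    rwa [show q * x * z * (q * x)⁻¹ = q * (x * z * x⁻¹) * q⁻¹ by group, hxz, hqzy] at this
  · refine absurd ?_ hz1
    have := (bad _ h1).1
    rwa [show x * q * z * (x * q)⁻¹ = x * (q * z * q⁻¹) * x⁻¹ by group, hqz, hxz] at this
  · refine absurd ?_ h.ne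
    have := (bad _ h1).1
    rwa [show q * x * q * z * (q * x * q)⁻¹ = q * (x * (q * z * q⁻¹) * x⁻¹) * q⁻¹ by group, hqz, hxz, hqzy] at this

theorem Conf.rad_eq (h : Conf Q Qy z y) : rad Q Qy z y = (Q ⊔ Qy) ⊓ centralizer (vier z y : Set G) :=
  le_antisymm (le_inf (Conf.rad_le_join Q Qy z y) h.rad_le_cent) h.inf_cent_le

theorem Big.isPGroup (h : Big Q z) : IsPGroup 2 Q := fun u => ⟨2, Subtype.ext (by
  rcases h.sq u u.2 with e | e
  · show (u : G) ^ (2 ^ 2) = 1
    rw [show (u : G) ^ (2 ^ 2) = (u * u) * (u * u) by simp [pow_succ, mul_assoc], e, one_mul]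
  · show (u : G) ^ (2 ^ 2) = 1
    rw [show (u : G) ^ (2 ^ 2) = (u * u) * (u * u) by simp [pow_succ, mul_assoc], e, h.zz])⟩

theorem Conf.left_normalizes (h : Conf Q Qy z y) :
    Qy ⊓ centralizer ({z} : Set G) ≤ normalizer ((Q ⊓ centralizer ({y} : Set G) : Subgroup G) : Set G) := by
  refine fun p hp => mem_norm_of_map_le fun a ha => ?_
  refine ⟨h.hQ.norm p (mem_centralizer_singleton_iff.mp hp.2) a ha.1, ?_⟩
  refine Subgroup.mul_mem _ (Subgroup.mul_mem _ ?_ ha.2) (Subgroup.inv_mem _ ?_) <;>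
    exact mem_centralizer_singleton_iff.mpr (h.hQy.zc p hp.1).symm

theorem Conf.isPGroup_rad (h : Conf Q Qy z y) : IsPGroup 2 (rad Q Qy z y) :=
  IsPGroup.to_sup_of_normal_right' (h.hQy.isPGroup.to_le inf_le_left) (h.hQ.isPGroup.to_le inf_le_left)
    h.left_normalizes

theorem Conf.rad_normal (h : Conf Q Qy z y) : ((rad Q Qy z y).subgroupOf (Q ⊔ Qy)).Normal :=
  (normal_subgroupOf_iff_le_normalizer (Conf.rad_le_join Q Qy z y)).mpr h.join_le_norm_rad

/-- The induced action of the join. -/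
noncomputable def Conf.psi (h : Conf Q Qy z y) : ↥(Q ⊔ Qy) →* Equiv.Perm (Fin 3) :=
  h.phi.comp (inclusion h.join_le_norm)

theorem Conf.psi_surjective (h : Conf Q Qy z y) : Function.Surjective h.psi := fun σ => by
  obtain ⟨n, hn, e⟩ := h.phi_surjective σ
  exact ⟨⟨n, hn⟩, e⟩

theorem Conf.psi_ker (h : Conf Q Qy z y) : h.psi.ker = (rad Q Qy z y).subgroupOf (Q ⊔ Qy) := by
  ext n
  rw [MonoidHom.mem_ker, mem_subgroupOf, h.rad_eq, mem_inf]
  show h.phi _ = 1 ↔ _
  rw [← MonoidHom.mem_ker, h.phi_ker, mem_subgroupOf]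
  exact ⟨fun e => ⟨n.2, e⟩, fun e => e.2⟩

theorem Conf.pCore_eq (h : Conf Q Qy z y) :
    rad Q Qy z y = (pCore 2 ↥(Q ⊔ Qy)).map (Q ⊔ Qy).subtype := by
  haveI : Fact (Nat.Prime 2) := ⟨Nat.prime_two⟩
  haveI := h.rad_normal
  have e : (rad Q Qy z y).subgroupOf (Q ⊔ Qy) = pCore 2 ↥(Q ⊔ Qy) := by
    refine le_antisymm (le_pCore h.isPGroup_rad.comap_subtype) ?_
    rw [← h.psi_ker]
    intro n hn
    set M := (pCore 2 ↥(Q ⊔ Qy)).map h.psi
    haveI : M.Normal := Subgroup.Normal.map inferInstance _ h.psi_surjective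
    have hsq : ∀ s ∈ M, s ^ 2 = 1 := by
      intro s hs
      obtain ⟨k, hk⟩ := ((isPGroup_pCore 2 ↥(Q ⊔ Qy)).map h.psi) ⟨s, hs⟩
      have hk' : s ^ (2 ^ k) = 1 := congrArg Subtype.val hk
      have h6 : orderOf s ∣ 6 := by
        have := orderOf_dvd_natCard s
        rwa [Nat.card_perm, Nat.card_fin] at this
      refine orderOf_dvd_iff_pow_eq_one.mp ?_
      obtain ⟨i, -, hi⟩ := (Nat.dvd_prime_pow Nat.prime_two).mp (orderOf_dvd_of_pow_eq_one hk')
      rw [hi] at h6 ⊢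
      rcases i with _ | _ | i
      · exact one_dvd _
      · exact dvd_rfl
      · exact absurd (dvd_trans (pow_dvd_pow 2 (by omega : 2 ≤ i + 1 + 1)) h6) (by norm_num)
    have hdec : ∀ s : Equiv.Perm (Fin 3), s = 1 ∨ s ^ 2 ≠ 1 ∨ ∃ u, (s * u * s⁻¹ * u⁻¹) ^ 2 ≠ 1 := by
      intro s
      have hl : ∀ s : Equiv.Perm (Fin 3), s = 1 ∨ s * s ≠ 1 ∨
          (s * Equiv.swap 0 1 * s * Equiv.swap 0 1) * (s * Equiv.swap 0 1 * s * Equiv.swap 0 1) ≠ 1 ∨
          (s * Equiv.swap 1 2 * s * Equiv.swap 1 2) * (s * Equiv.swap 1 2 * s * Equiv.swap 1 2) ≠ 1 := by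
        set_option maxRecDepth 100000 in decide +kernel
      by_cases h2 : s ^ 2 = 1
      · have hs : s⁻¹ = s := inv_eq_of_mul_eq_one_right (by rwa [← pow_two])
        rcases hl s with e | e | e | e
        · exact Or.inl e
        · exact absurd (by rwa [← pow_two]) e
        · exact Or.inr (Or.inr ⟨Equiv.swap 0 1, by rwa [hs, Equiv.swap_inv, pow_two]⟩)
        · exact Or.inr (Or.inr ⟨Equiv.swap 1 2, by rwa [hs, Equiv.swap_inv, pow_two]⟩)
      · exact Or.inr (Or.inl h2)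
    rcases hdec (h.psi n) with e | e | ⟨u, e⟩
    · exact e
    · exact absurd (hsq _ ⟨n, hn, rfl⟩) e
    · refine absurd (hsq _ ?_) e
      have hm : h.psi n ∈ M := ⟨n, hn, rfl⟩
      rw [show h.psi n * u * (h.psi n)⁻¹ * u⁻¹ = h.psi n * (u * (h.psi n)⁻¹ * u⁻¹) by group]
      exact M.mul_mem hm (‹M.Normal›.conj_mem _ (M.inv_mem hm) u)
  rw [← e, subgroupOf_map_subtype, inf_eq_left.mpr (Conf.rad_le_join Q Qy z y)]

theorem Conf.quotient_perm (h : Conf Q Qy z y) :
    ∃ _ : ((rad Q Qy z y).subgroupOf (Q ⊔ Qy)).Normal,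
      Nonempty (↥(Q ⊔ Qy) ⧸ (rad Q Qy z y).subgroupOf (Q ⊔ Qy) ≃* Equiv.Perm (Fin 3)) := by
  haveI := h.rad_normal
  exact ⟨inferInstance, ⟨(QuotientGroup.quotientMulEquivOfEq h.psi_ker.symm).trans
    (QuotientGroup.quotientKerEquivOfSurjective h.psi h.psi_surjective)⟩⟩

theorem Conf.cent_conj (h : Conf Q Qy z y) {c : G} (hc : c ∈ centralizer (vier z y : Set G)) :
    ∀ e ∈ Q ⊔ Qy, c * e * c⁻¹ ∈ Q ⊔ Qy := by
  obtain ⟨h1, h2⟩ := mem_cent_vier.mp hc
  intro e he
  have : Q ⊔ Qy ≤ (Q ⊔ Qy).comap (MulAut.conj c).toMonoidHom :=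
    sup_le (fun v hv => mem_sup_left (h.hQ.norm c h1 v hv)) fun v hv => mem_sup_right (h.hQy.norm c h2 v hv)
  exact this he

theorem Conf.cent_eq (z y : G) :
    centralizer ({z} : Set G) ⊓ centralizer (vier z y : Set G) = centralizer (vier z y : Set G) :=
  inf_eq_right.mpr fun c hc => mem_centralizer_singleton_iff.mpr (mem_cent_vier.mp hc).1

theorem Conf.normalizer_eq (h : Conf Q Qy z y) :
    normalizer (vier z y : Set G) = (Q ⊔ Qy) ⊔ centralizer (vier z y : Set G) := by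
  refine le_antisymm (fun n hn => ?_) (sup_le h.join_le_norm cent_le_normalizer)
  obtain ⟨m, hm, e⟩ := h.phi_surjective (h.phi ⟨n, hn⟩)
  have hk : m⁻¹ * ⟨n, hn⟩ ∈ h.phi.ker := by
    rw [MonoidHom.mem_ker, map_mul, map_inv, e, inv_mul_cancel]
  rw [h.phi_ker, mem_subgroupOf] at hk
  have := mul_mem (mem_sup_left hm : (m : G) ∈ (Q ⊔ Qy) ⊔ centralizer (vier z y : Set G)) (mem_sup_right hk)
  rwa [Subgroup.coe_mul, Subgroup.coe_inv, mul_inv_cancel_left] at this

theorem Conf.join_invariant (h : Conf Q Qy z y) :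
    ∀ n ∈ normalizer (vier z y : Set G), ∀ e ∈ Q ⊔ Qy, n * e * n⁻¹ ∈ Q ⊔ Qy := by
  intro n hn e he
  have hle : normalizer (vier z y : Set G) ≤ normalizer ((Q ⊔ Qy : Subgroup G) : Set G) := by
    rw [h.normalizer_eq]
    exact sup_le le_normalizer fun c hc => mem_norm_of_map_le (h.cent_conj hc)
  exact (mem_normalizer_iff.mp (hle hn) e).mp he

theorem Conf.comm_mem_rad (h : Conf Q Qy z y) {e c : G} (he : e ∈ Q ⊔ Qy)
    (hc : c ∈ centralizer (vier z y : Set G)) : e * c * e⁻¹ * c⁻¹ ∈ rad Q Qy z y := by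
  rw [h.rad_eq]
  refine ⟨?_, Subgroup.mul_mem _ ?_ (Subgroup.inv_mem _ hc)⟩
  · rw [show e * c * e⁻¹ * c⁻¹ = e * (c * e⁻¹ * c⁻¹) by group]
    exact mul_mem he (h.cent_conj hc _ (inv_mem he))
  · have hn := h.join_le_norm he
    rw [mem_centralizer_iff]
    intro v hv
    have hv' : e⁻¹ * v * e ∈ vier z y := by
      have := (mem_normalizer_iff.mp (inv_mem hn) v).mp hv
      rwa [inv_inv] at this
    have h1 := mem_centralizer_iff.mp hc _ hv'
    calc v * (e * c * e⁻¹) = e * (e⁻¹ * v * e * c) * e⁻¹ := by group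
      _ = e * c * e⁻¹ * v := by rw [h1]; group

theorem Conf.inter_facts (h : Conf Q Qy z y) {e : G} (he : e ∈ Q) (he' : e ∈ Qy) :
    e * z = z * e ∧ e * y = y * e ∧ e * e = 1 ∧ ∀ f ∈ Q, f ∈ Qy → e * f = f * e := by
  refine ⟨(h.hQ.zc e he).symm, (h.hQy.zc e he').symm, ?_, fun f hf hf' => ?_⟩
  · rcases h.hQ.sq e he with a | a
    · exact a
    · rcases h.hQy.sq e he' with b | b
      · exact b
      · exact absurd (b.symm.trans a) h.ne
  · rcases h.hQ.cc e he f hf with a | a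
    · exact comm_of_conj (mul_inv_eq_one.mp a)
    · rcases h.hQy.cc e he' f hf' with b | b
      · exact comm_of_conj (mul_inv_eq_one.mp b)
      · exact absurd (b.symm.trans a) h.ne

theorem Conf.vier_le_inter (h : Conf Q Qy z y) : vier z y ≤ Q ⊓ Qy := by
  rw [vier, closure_le]
  rintro v (rfl | rfl)
  exacts [⟨h.hQ.zQ, h.z_mem⟩, ⟨h.yQ, h.hQy.zQ⟩]

theorem Conf.inner_of (h : Conf Q Qy z y) {p : G} (hpz : p * z = z * p) (hpy : p * y = y * p)
    (hc : ∀ a ∈ Q, a * y = y * a → p * a * p⁻¹ = a ∨ p * a * p⁻¹ = z * a) : p ∈ Q := by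
  refine h.hQ.inner p fun v hv => ?_
  rcases h.hQ.dichotomy h.yQ hv with e | e
  · rcases hc v hv (comm_of_conj e) with e1 | e1 <;> rw [e1]
    · exact Or.inl (mul_inv_cancel v)
    · exact Or.inr (mul_inv_cancel_right z v)
  set d := p * v * p⁻¹ * v⁻¹ with hd
  have hdQ : d ∈ Q := Q.mul_mem (h.hQ.norm p hpz v hv) (Q.inv_mem hv)
  have hdc : ∀ a ∈ Q, a * y = y * a → d * a = a * d := by
    intro a ha hay
    rcases h.hQ.cc a ha v hv with e0 | e0
    all_goals
      have e3 : (p * a * p⁻¹) * (p * v * p⁻¹) * (p * a * p⁻¹)⁻¹ * (p * v * p⁻¹)⁻¹ = a * v * a⁻¹ * v⁻¹ := by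
        rw [show (p * a * p⁻¹) * (p * v * p⁻¹) * (p * a * p⁻¹)⁻¹ * (p * v * p⁻¹)⁻¹ =
          p * (a * v * a⁻¹ * v⁻¹) * p⁻¹ by group, e0]
        first | exact conj_of_comm hpz | group
      have e4 : a * (d * v) * a⁻¹ * (d * v)⁻¹ = a * v * a⁻¹ * v⁻¹ := by
        rw [← e3, show p * v * p⁻¹ = d * v by rw [hd]; group]
        rcases hc a ha hay with e1 | e1 <;> rw [e1]
        have hzz : z⁻¹ = z := inv_eq_of_mul_eq_one_right h.hQ.zz
        calc a * (d * v) * a⁻¹ * (d * v)⁻¹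
            = z * z * (a * (d * v) * a⁻¹) * (d * v)⁻¹ := by rw [h.hQ.zz, one_mul]
          _ = z * (a * (d * v) * a⁻¹ * z) * (d * v)⁻¹ := by
            rw [mul_assoc z z, h.hQ.zc (a * (d * v) * a⁻¹) (Q.mul_mem (Q.mul_mem ha (Q.mul_mem hdQ hv)) (Q.inv_mem ha))]
          _ = z * a * (d * v) * (z * a)⁻¹ * (d * v)⁻¹ := by
            rw [mul_inv_rev z a, hzz]; group
      rw [e0] at e4
      rw [show a * (d * v) * a⁻¹ * (d * v)⁻¹ = (a * d * a⁻¹) * (a * v * a⁻¹ * v⁻¹) * d⁻¹ by group, e0] at e4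
    · exact (comm_of_conj (mul_inv_eq_one.mp (by rwa [mul_one] at e4))).symm
    · refine (comm_of_conj (mul_inv_eq_one.mp ?_)).symm
      have e5 : a * d * a⁻¹ * z * d⁻¹ = (a * d * a⁻¹ * d⁻¹) * z := by
        rw [mul_assoc (a * d * a⁻¹) z, h.hQ.zc d⁻¹ (Q.inv_mem hdQ)]; group
      rw [e5] at e4
      exact mul_eq_right.mp e4
  have hsq : d * v * (d * v) = v * v := by
    rw [show d * v = p * v * p⁻¹ by rw [hd]; group, ← cj]
    refine conj_of_comm ?_
    rcases h.hQ.sq v hv with e0 | e0 <;> rw [e0]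
    exacts [by rw [one_mul, mul_one], hpz]
  rcases h.cQ0 hdQ hdc with e1 | e1 | e1 | e1
  · exact Or.inl e1
  · exact Or.inr e1
  all_goals
    exfalso
    have e2 : d * v * d = v := mul_right_cancel (b := v) (by rw [← hsq]; group)
    have hd2 : d * d = 1 := by
      rw [e1]
      first
        | exact h.hQy.zz
        | rw [← mul_assoc, h.zy_z, h.hQy.zz]
    have e3 : d * v = v * d := by
      calc d * v = d * v * (d * d) := by rw [hd2, mul_one]
        _ = v * d := by rw [← mul_assoc, e2]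
    have e4 : v * y * v⁻¹ = y := by
      refine conj_of_comm ?_
      rw [e1] at e3
      first
        | exact e3.symm
        | (have := ((show Commute v z from (h.hQ.zc v hv).symm).mul_right (show Commute v (z * y) from e3.symm)).eq
           rwa [← mul_assoc z, h.hQ.zz, one_mul] at this)
    rw [e] at e4
    exact h.hQ.z_ne (mul_eq_right.mp e4)

theorem Conf.center_rad (h : Conf Q Qy z y) {r : G} (hr : r ∈ rad Q Qy z y)
    (hc : ∀ s ∈ rad Q Qy z y, r * s = s * r) : r ∈ vier z y := by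
  have hr' : r ∈ ((Qy ⊓ centralizer ({z} : Set G) : Subgroup G) : Set G) *
      ((Q ⊓ centralizer ({y} : Set G) : Subgroup G) : Set G) := by
    rw [← coe_mul_of_left_le_normalizer_right _ _ h.left_normalizes]; exact hr
  obtain ⟨p, hp, a, ha, rfl⟩ := hr'
  dsimp only at hc ⊢
  have hpz := mem_centralizer_singleton_iff.mp hp.2
  have hpy : p * y = y * p := (h.hQy.zc p hp.1).symm
  have hpQ : p ∈ Q := by
    refine h.inner_of hpz hpy fun b hb hby => ?_
    have e : a * b * a⁻¹ = p⁻¹ * b * p := by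
      have := hc b (mem_rad_right hb hby)
      calc a * b * a⁻¹ = p⁻¹ * (p * a * b) * a⁻¹ := by group
        _ = p⁻¹ * b * p := by rw [this]; group
    rcases h.hQ.dichotomy hb ha.1 with e1 | e1 <;> rw [e1] at e
    · left; nth_rw 1 [e]; group
    · right
      have : p * (z * b) * p⁻¹ = b := by rw [e]; group
      rw [cj, conj_of_comm hpz] at this
      calc p * b * p⁻¹ = z * (z * (p * b * p⁻¹)) := by rw [← mul_assoc, h.hQ.zz, one_mul]
        _ = z * b := by rw [this]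
  rcases h.cQ0 (Q.mul_mem hpQ ha.1) fun b hb hby => hc b (mem_rad_right hb hby) with e | e | e | e <;> rw [e]
  exacts [one_mem _, fours_mem z y 0, fours_mem z y 1, fours_mem z y 2]

theorem Conf.center_map (h : Conf Q Qy z y) :
    (center ↥(rad Q Qy z y)).map (rad Q Qy z y).subtype = vier z y := by
  refine le_antisymm ?_ fun v hv => ?_
  · rintro r ⟨w, hw, rfl⟩
    exact h.center_rad w.2 fun s hs => (congrArg Subtype.val (mem_center_iff.mp hw ⟨s, hs⟩)).symm
  · have hvR : v ∈ rad Q Qy z y := mem_rad_right (h.vier_le_inter hv).1 (h.hQy.zc v (h.vier_le_inter hv).2).symm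
    exact ⟨⟨v, hvR⟩, mem_center_iff.mpr fun s => Subtype.ext
      ((mem_centralizer_iff.mp (h.rad_le_cent s.2) v hv).symm), rfl⟩

theorem Conf.inter_le_rad (h : Conf Q Qy z y) : Q ⊓ Qy ≤ rad Q Qy z y :=
  fun e he => mem_rad_right he.1 (h.inter_facts he.1 he.2).2.1

theorem Conf.conj_inter (h : Conf Q Qy z y) {q e : G} (hq : q ∈ Q) (he : e ∈ Q ⊓ Qy) :
    q * e * q⁻¹ * e⁻¹ ∈ vier z y ∧ q * e * q⁻¹ ∈ Q ⊓ Qy := by
  rcases h.hQ.dichotomy he.1 hq with e1 | e1 <;> rw [e1]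
  · exact ⟨by rw [mul_inv_cancel]; exact one_mem _, he⟩
  · exact ⟨by rw [mul_inv_cancel_right]; exact fours_mem z y 0, mul_mem ⟨h.hQ.zQ, h.z_mem⟩ he⟩

theorem Conf.commutator_join (h : Conf Q Qy z y) : ⁅Q ⊔ Qy, Q ⊓ Qy⁆ ≤ vier z y := by
  refine commutator_le.mpr fun t ht e he => ?_
  rw [commutatorElement_def]
  revert e
  rw [sup_eq_closure] at ht
  have hn : ∀ q ∈ Q ⊔ Qy, ∀ v ∈ vier z y, q * v * q⁻¹ ∈ vier z y := fun q hq v hv =>
    (mem_normalizer_iff.mp (h.join_le_norm hq) v).mp hv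
  suffices ∀ e ∈ Q ⊓ Qy, t * e * t⁻¹ * e⁻¹ ∈ vier z y ∧ t * e * t⁻¹ ∈ Q ⊓ Qy from fun e he => (this e he).1
  have hgen : ∀ u ∈ (Q : Set G) ∪ Qy, ∀ e ∈ Q ⊓ Qy, u * e * u⁻¹ * e⁻¹ ∈ vier z y ∧ u * e * u⁻¹ ∈ Q ⊓ Qy := by
    rintro u (hu | hu) e he
    · exact h.conj_inter hu he
    · obtain ⟨a, b⟩ := h.symm.conj_inter hu ⟨he.2, he.1⟩
      exact ⟨h.vier_symm ▸ a, b.2, b.1⟩
  induction ht using closure_induction'' with
  | mem u hu => exact hgen u hu
  | inv_mem u hu => exact hgen _ (hu.imp Q.inv_mem Qy.inv_mem)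
  | one => exact fun e he => ⟨by rw [one_mul, inv_one, mul_one, mul_inv_cancel]; exact one_mem _,
      by rwa [one_mul, inv_one, mul_one]⟩
  | mul u v _ _ iu iv =>
    intro e he
    obtain ⟨h1, h2⟩ := iv e he
    obtain ⟨h3, h4⟩ := iu _ h2
    rw [show u * v * e * (u * v)⁻¹ = u * (v * e * v⁻¹) * u⁻¹ by group]
    refine ⟨?_, h4⟩
    rw [show u * (v * e * v⁻¹) * u⁻¹ * e⁻¹ = (u * (v * e * v⁻¹) * u⁻¹ * (v * e * v⁻¹)⁻¹) * (v * e * v⁻¹ * e⁻¹) by group]
    exact mul_mem h3 h1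

theorem Conf.join_le_norm_inter (h : Conf Q Qy z y) :
    Q ⊔ Qy ≤ normalizer ((Q ⊓ Qy : Subgroup G) : Set G) := by
  refine fun t ht => mem_norm_of_map_le fun e he => ?_
  have h1 : t * e * t⁻¹ * e⁻¹ ∈ Q ⊓ Qy :=
    h.vier_le_inter (h.commutator_join (commutator_mem_commutator ht he))
  have := mul_mem h1 he
  rwa [inv_mul_cancel_right] at this

theorem Conf.gen_comm (h : Conf Q Qy z y) : ∀ r ∈ rad Q Qy z y, ∀ s ∈ rad Q Qy z y,
    r * s * r⁻¹ * s⁻¹ ∈ Q ⊓ Qy ∧ r * r ∈ Q ⊓ Qy := by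
  set E := Q ⊓ Qy
  set S : Set G := ((Qy ⊓ centralizer ({z} : Set G) : Subgroup G) : Set G) ∪ (Q ⊓ centralizer ({y} : Set G) : Subgroup G)
  have hS : ∀ r, r ∈ rad Q Qy z y → r ∈ closure S := fun r hr => by rwa [← sup_eq_closure]
  have hn : ∀ t ∈ rad Q Qy z y, ∀ e ∈ E, t * e * t⁻¹ ∈ E := fun t ht e he =>
    (mem_normalizer_iff.mp (h.join_le_norm_inter (Conf.rad_le_join Q Qy z y ht)) e).mp he
  have hSR : ∀ u ∈ S, u ∈ rad Q Qy z y := fun u hu => hu.elim (fun a => mem_sup_left a) (fun a => mem_sup_right a)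
  have hsqS : ∀ u ∈ S, u * u ∈ E := by
    rintro u (hu | hu)
    · rcases h.hQy.sq u hu.1 with e | e <;> rw [e]
      exacts [one_mem _, ⟨h.yQ, h.hQy.zQ⟩]
    · rcases h.hQ.sq u hu.1 with e | e <;> rw [e]
      exacts [one_mem _, ⟨h.hQ.zQ, h.z_mem⟩]
  have hcS : ∀ u ∈ S, ∀ v ∈ S, u * v * u⁻¹ * v⁻¹ ∈ E := by
    rintro u (hu | hu) v (hv | hv)
    · rcases h.hQy.cc u hu.1 v hv.1 with e | e <;> rw [e]
      exacts [one_mem _, ⟨h.yQ, h.hQy.zQ⟩]
    · have := h.pa hv.1 (mem_centralizer_singleton_iff.mp hv.2) hu.1 (mem_centralizer_singleton_iff.mp hu.2)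
      have h2 := inv_mem (show v * u * v⁻¹ * u⁻¹ ∈ E from this)
      rwa [show (v * u * v⁻¹ * u⁻¹)⁻¹ = u * v * u⁻¹ * v⁻¹ by group] at h2
    · exact h.pa hu.1 (mem_centralizer_singleton_iff.mp hu.2) hv.1 (mem_centralizer_singleton_iff.mp hv.2)
    · rcases h.hQ.cc u hu.1 v hv.1 with e | e <;> rw [e]
      exacts [one_mem _, ⟨h.hQ.zQ, h.z_mem⟩]
  have step1 : ∀ r ∈ closure S, r ∈ rad Q Qy z y := fun r hr => (closure_le _).mpr hSR hr
  have stepc : ∀ v ∈ S, ∀ r ∈ closure S, r * v * r⁻¹ * v⁻¹ ∈ E := by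
    intro v hv r hr
    induction hr using closure_induction with
    | mem u hu => exact hcS u hu v hv
    | one => rw [one_mul, inv_one, mul_one, mul_inv_cancel]; exact one_mem _
    | mul a b ha _ ia ib =>
      rw [show a * b * v * (a * b)⁻¹ * v⁻¹ = a * (b * v * b⁻¹ * v⁻¹) * a⁻¹ * (a * v * a⁻¹ * v⁻¹) by group]
      exact mul_mem (hn a (step1 a ha) _ ib) ia
    | inv a ha ia =>
      have := hn a⁻¹ (inv_mem (step1 a ha)) _ (inv_mem ia)
      rwa [show a⁻¹ * (a * v * a⁻¹ * v⁻¹)⁻¹ * a⁻¹⁻¹ = a⁻¹ * v * a⁻¹⁻¹ * v⁻¹ by group] at this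
  have stepc2 : ∀ r ∈ closure S, ∀ s ∈ closure S, r * s * r⁻¹ * s⁻¹ ∈ E := by
    intro r hr s hs
    induction hs using closure_induction with
    | mem u hu => exact stepc u hu r hr
    | one => rw [mul_one, mul_inv_cancel, inv_one, one_mul]; exact one_mem _
    | mul a b ha _ ia ib =>
      rw [show r * (a * b) * r⁻¹ * (a * b)⁻¹ = (r * a * r⁻¹ * a⁻¹) * (a * (r * b * r⁻¹ * b⁻¹) * a⁻¹) by group]
      exact mul_mem ia (hn a (step1 a ha) _ ib)
    | inv a ha ia =>
      have := hn a⁻¹ (inv_mem (step1 a ha)) _ (inv_mem ia)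
      rwa [show a⁻¹ * (r * a * r⁻¹ * a⁻¹)⁻¹ * a⁻¹⁻¹ = r * a⁻¹ * r⁻¹ * a⁻¹⁻¹ by group] at this
  have stepq : ∀ r ∈ closure S, r * r ∈ E := by
    intro r hr
    induction hr using closure_induction with
    | mem u hu => exact hsqS u hu
    | one => rw [one_mul]; exact one_mem _
    | mul a b ha hb ia ib =>
      rw [show a * b * (a * b) = (a * (b * a * b⁻¹ * a⁻¹) * a⁻¹) * (a * a) * (b * b) by group]
      exact mul_mem (mul_mem (hn a (step1 a ha) _ (stepc2 b hb a ha)) ia) ib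
    | inv a _ ia => rw [← mul_inv_rev]; exact inv_mem ia
  exact fun r hr s hs => ⟨stepc2 r (hS r hr) s (hS s hs), stepq r (hS r hr)⟩

theorem Conf.upper (h : Conf Q Qy z y) :
    Q ⊓ Qy ≤ (Subgroup.upperCentralSeries ↥(rad Q Qy z y) 2).map (rad Q Qy z y).subtype ∧
      Subgroup.upperCentralSeries ↥(rad Q Qy z y) 3 = ⊤ := by
  set R := rad Q Qy z y
  have h2 : ∀ e : R, (e : G) ∈ Q ⊓ Qy → e ∈ Subgroup.upperCentralSeries ↥R 2 := by
    intro e he
    refine Subgroup.mem_upperCentralSeries_succ_iff.mpr fun s => ?_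
    rw [Subgroup.upperCentralSeries_one]
    refine (mem_map_iff_mem R.subtype_injective).mp ?_
    rw [h.center_map]
    have := h.commutator_join (commutator_mem_commutator (Conf.rad_le_join Q Qy z y s.2) he)
    have h3 := inv_mem this
    rwa [commutatorElement_inv] at h3
  refine ⟨fun e he => ⟨⟨e, h.inter_le_rad he⟩, h2 _ he, rfl⟩, eq_top_iff.mpr fun r _ => ?_⟩
  exact Subgroup.mem_upperCentralSeries_succ_iff.mpr fun s => h2 _ (h.gen_comm r r.2 s s.2).1

theorem Conf.large (h : Conf Q Qy z y) (hL1 : IsExtraspecial 2 Q)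
    (hL2 : centralizer (Q : Set G) = (center Q).map Q.subtype)
    (hL3 : centralizer (((center Q).map Q.subtype) : Set G) ≤ normalizer (Q : Set G))
    (hzZ : (center Q).map Q.subtype = zpowers z) : IsLargeExtraspecial Q := by
  refine LargeBasics.large_of_involution Q hL1 hL2 hL3 y h.yQ (fun hy => ?_) h.hQy.hz ?_
  · rw [hzZ] at hy
    obtain ⟨i, hi⟩ := mem_powers_iff_mem_zpowers.mpr hy
    simp only at hi
    rw [← pow_mod_orderOf, h.hQ.hz] at hi
    rcases Nat.mod_two_eq_zero_or_one i with e | e <;> rw [e] at hi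
    · exact h.hQy.z_ne (by simpa using hi.symm)
    · exact h.ne (by simpa using hi.symm)
  · rw [hzZ, zpowers_le]
    have hle : Qy ≤ centralizer ({y} : Set G) := fun v hv =>
      mem_centralizer_singleton_iff.mpr (h.hQy.zc v hv).symm
    haveI : (Qy.subgroupOf (centralizer ({y} : Set G))).Normal := ⟨fun v hv c =>
      h.hQy.norm c (mem_centralizer_singleton_iff.mp c.2) v hv⟩
    exact ⟨⟨z, hle h.z_mem⟩, le_pCore (p := 2) (N := Qy.subgroupOf (centralizer ({y} : Set G))) h.hQy.isPGroup.comap_subtype h.z_mem, rfl⟩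

theorem conf_of_large {Q : Subgroup G} (hQ : IsLargeExtraspecial Q) {z : G}
    (hz : (center Q).map Q.subtype = zpowers z) (w : ℕ) (hw : 2 ≤ w) (hcard : Nat.card Q = 2 ^ (2 * w + 1))
    (g : G) (hgH : g ∉ centralizer ({z} : Set G)) (hgQ : g * z * g⁻¹ ∈ Q) :
    Conf Q (Q.map (MulAut.conj g).toMonoidHom) z (g * z * g⁻¹) :=
  Conf.of_conj (Big.of_hyp Q hQ.1 hQ.2.1 hQ.2.2.1 (by
      rw [hcard]; exact le_trans (by norm_num : 32 ≤ 2 ^ 5) (Nat.pow_le_pow_right (by norm_num) (by omega))) z hz)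
    g hgQ fun e => hgH (mem_centralizer_singleton_iff.mpr (comm_of_conj e))

end

end Cfsg.Agent.Solv.LargePair
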