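import Cfsg.Agent.Lib.Solv.Misc
import Cfsg.Agent.Lib.Solv.Thompson
import Mathlib.GroupTheory.IsSubnormal

/-!
Subnormal subgroups of finite groups: Wielandt's join theorem, zipper lemmas.
-/

set_option autoImplicit false
set_option linter.style.haveILetI false

namespace Cfsg.Agent.Solv

open Subgroup
open scoped Pointwise

universe u

variable {G : Type u} [Group G]

/-- If every element of a subgroup maps `A` into itself, the subgroup normalizes `A`. -/
theorem mem_normalizer_of_conj_le [Finite G] {A : Subgroup G} {g : G}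
    (h : MulAut.conj g • A ≤ A) : g ∈ normalizer (A : Set G) := by
  have heq : MulAut.conj g • A = A := eq_of_le_of_card_ge h (by rw [card_conj_smul])
  refine mem_normalizer_iff.mpr fun x => ?_
  conv_rhs => rw [← heq, mem_conj_smul]
  simp [mul_assoc]

/-- Wielandt: a minimal normal subgroup normalizes every subnormal subgroup. -/
theorem minimal_normal_le_normalizer_aux : ∀ (n : ℕ) (G : Type u) [Group G] [Finite G],
    Nat.card G ≤ n → ∀ (M A : Subgroup G), M.Normal → M ≠ ⊥ →
    (∀ K : Subgroup G, K.Normal → K ≤ M → K = ⊥ ∨ K = M) → A.IsSubnormal →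
    M ≤ normalizer (A : Set G) := by
  intro n
  induction n with
  | zero => intro G _ _ hn; exact absurd hn (not_le.mpr Nat.card_pos)
  | succ n ih =>
    intro G _ _ hn M A hMn hM hmin hA
    haveI := hMn
    rcases hA.lt_normal with rfl | ⟨N, hNn, hAN, hNtop⟩
    · exact le_normalizer_of_normal
    haveI := hNn
    rcases hmin (M ⊓ N) inferInstance inf_le_left with h | h
    · refine le_trans ?_ (centralizer_le_normalizer _)
      rw [← commutator_eq_bot_iff_le_centralizer]
      exact le_bot_iff.mp ((commutator_mono le_rfl hAN).trans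
        ((commutator_le_inf M N).trans h.le))
    have hMN : M ≤ N := inf_eq_left.mp h
    have hcard : Nat.card N < Nat.card G := by
      refine lt_of_le_of_ne (card_le_card_group N) fun h' => hNtop.ne ?_
      exact eq_top_of_card_eq N h'
    have hM' : M.subgroupOf N ≠ ⊥ := by
      rw [ne_eq, subgroupOf_eq_bot, disjoint_iff, inf_eq_left.mpr hMN]
      exact hM
    obtain ⟨M0, hM0n, hM0le, hM0ne, hM0min⟩ := exists_minimal_normal_le (N := M.subgroupOf N) hM'
    haveI := hM0n
    have hconj : ∀ g : G, M0.map (MulAut.conjNormal (H := N) g).toMonoidHom ≤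
        normalizer ((A.subgroupOf N : Subgroup N) : Set N) := by
      intro g
      set c := MulAut.conjNormal (H := N) g
      refine ih N (by omega) _ _ (Normal.map hM0n _ c.surjective)
        (fun h0 => hM0ne ((map_eq_bot_iff_of_injective M0 c.injective).mp h0)) ?_ hA.subgroupOf
      intro K hK hKle
      have h1 : K.comap c.toMonoidHom ≤ M0 := fun x hx => by
        obtain ⟨y, hy, hyx⟩ := hKle hx
        rwa [← c.injective hyx]
      have h2 : (K.comap c.toMonoidHom).map c.toMonoidHom = K :=
        map_comap_eq_self_of_surjective c.surjective K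
      rcases hM0min _ (Normal.comap hK _) h1 with h0 | h0
      · left; rw [← h2, h0, Subgroup.map_bot]
      · right; rw [← h2, h0]
    have hX : M0.map N.subtype ≤ M := fun x ⟨y, hy, hyx⟩ => hyx ▸ hM0le hy
    have hncl : normalClosure ((M0.map N.subtype : Subgroup G) : Set G) = M := by
      refine (hmin _ normalClosure_normal (normalClosure_le_normal hX)).resolve_left fun h0 => hM0ne ?_
      have h1 : M0.map N.subtype ≤ ⊥ := fun x hx => h0 ▸ subset_normalClosure hx
      exact (map_eq_bot_iff_of_injective M0 N.subtype_injective).mp (le_bot_iff.mp h1)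
    rw [← hncl, normalClosure, closure_le]
    intro x hx
    obtain ⟨a, ⟨m, hm, rfl⟩, hax⟩ := Group.mem_conjugatesOfSet_iff.mp hx
    obtain ⟨g, rfl⟩ := isConj_iff.mp hax
    have h1 := hconj g (mem_map_of_mem _ hm)
    have hv : g * (m : G) * g⁻¹ ∈ N := hNn.conj_mem _ m.2 g
    have h2 : ((MulAut.conjNormal (H := N) g).toMonoidHom m : N) = ⟨g * (m : G) * g⁻¹, hv⟩ :=
      Subtype.ext (MulAut.conjNormal_apply g m)
    rw [h2] at h1
    rw [SetLike.mem_coe, mem_normalizer_iff]
    intro z
    constructor
    · intro hz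
      exact (mem_normalizer_iff.mp h1 ⟨z, hAN hz⟩).mp hz
    · intro hz
      have hzN : z ∈ N := by
        have h3 := hNn.conj_mem _ (hAN hz) (g * (m : G) * g⁻¹)⁻¹
        simpa [mul_assoc] using h3
      exact (mem_normalizer_iff.mp h1 ⟨z, hzN⟩).mpr hz

theorem minimal_normal_le_normalizer [Finite G] (M A : Subgroup G) [M.Normal] (hM : M ≠ ⊥)
    (hmin : ∀ K : Subgroup G, K.Normal → K ≤ M → K = ⊥ ∨ K = M) (hA : A.IsSubnormal) :
    M ≤ normalizer (A : Set G) :=
  minimal_normal_le_normalizer_aux _ G le_rfl M A inferInstance hM hmin hA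

theorem isSubnormal_sup_aux : ∀ (n : ℕ) (G : Type u) [Group G] [Finite G],
    Nat.card G ≤ n → ∀ (A B : Subgroup G), A.IsSubnormal → B.IsSubnormal →
    (A ⊔ B).IsSubnormal := by
  intro n
  induction n with
  | zero => intro G _ _ hn; exact absurd hn (not_le.mpr Nat.card_pos)
  | succ n ih =>
    intro G _ _ hn A B hA hB
    by_cases hJ : A ⊔ B = ⊤
    · rw [hJ]; exact IsSubnormal.top
    haveI : Nontrivial G := not_subsingleton_iff_nontrivial.mp fun hs => hJ (Subsingleton.elim _ _)
    haveI : (⊤ : Subgroup G).Normal := inferInstance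
    obtain ⟨M, hMn, -, hM, hmin⟩ :=
      exists_minimal_normal_le (N := (⊤ : Subgroup G)) top_ne_bot
    haveI := hMn
    set f := QuotientGroup.mk' M with hf
    have hq : Nat.card (G ⧸ M) < Nat.card G := by
      rw [card_eq_card_quotient_mul_card_subgroup M]
      exact lt_mul_of_one_lt_right Nat.card_pos ((one_lt_card_iff_ne_bot M).mpr hM)
    have h1 : ((A ⊔ B) ⊔ M).IsSubnormal := by
      have h2 := (ih (G ⧸ M) (by omega) _ _ (hA.map (QuotientGroup.mk'_surjective M))
        (hB.map (QuotientGroup.mk'_surjective M))).comap f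
      rwa [← Subgroup.map_sup, comap_map_eq, QuotientGroup.ker_mk'] at h2
    by_cases htop : (A ⊔ B) ⊔ M = ⊤
    · refine IsSubnormal.step _ ⊤ le_top IsSubnormal.top
        ((normal_subgroupOf_iff_le_normalizer le_top).mpr ?_)
      rw [← htop]
      exact sup_le le_normalizer
        ((le_inf (minimal_normal_le_normalizer M A hM hmin hA)
          (minimal_normal_le_normalizer M B hM hmin hB)).trans
            (normalizer_inf_le_normalizer_sup A B))
    · have hcard : Nat.card ↥(A ⊔ B ⊔ M) < Nat.card G :=
        lt_of_le_of_ne (card_le_card_group _) fun h' => htop (eq_top_of_card_eq _ h')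
      refine IsSubnormal.trans le_sup_left ?_ h1
      rw [subgroupOf_sup (le_sup_left.trans le_sup_left) (le_sup_right.trans le_sup_left)]
      exact ih _ (by omega) _ _ hA.subgroupOf hB.subgroupOf

/-- Wielandt's join theorem. -/
theorem isSubnormal_sup [Finite G] {A B : Subgroup G} (hA : A.IsSubnormal) (hB : B.IsSubnormal) :
    (A ⊔ B).IsSubnormal :=
  isSubnormal_sup_aux _ G le_rfl A B hA hB

theorem isSubnormal_sSup [Finite G] {S : Set (Subgroup G)} (hS : ∀ U ∈ S, U.IsSubnormal) :
    (sSup S).IsSubnormal := by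
  have h : ∀ T : Set (Subgroup G), T.Finite → T ⊆ S → (sSup T).IsSubnormal := by
    intro T hT
    induction T, hT using Set.Finite.induction_on with
    | empty => intro _; rw [sSup_empty]; exact IsSubnormal.bot
    | insert _ _ ih =>
      intro hsub
      rw [sSup_insert]
      exact isSubnormal_sup (hS _ (hsub (Set.mem_insert _ _)))
        (ih ((Set.subset_insert _ _).trans hsub))
  exact h S (Set.toFinite S) subset_rfl

/-! ### Relative subnormality -/

theorem subnormal_subgroupOf_mono {A K T : Subgroup G} (h : (A.subgroupOf K).IsSubnormal)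
    (hTK : T ≤ K) : (A.subgroupOf T).IsSubnormal := by
  have : A.subgroupOf T = (A.subgroupOf K).comap (inclusion hTK) := rfl
  rw [this]
  exact h.comap _

theorem subnormal_subgroupOf_conj {A K : Subgroup G} (h : (A.subgroupOf K).IsSubnormal) (g : G) :
    ((MulAut.conj g • A).subgroupOf (MulAut.conj g • K)).IsSubnormal := by
  let f : ↥(MulAut.conj g • K) →* ↥K :=
    ((MulAut.conj g⁻¹).toMonoidHom.comp (MulAut.conj g • K).subtype).codRestrict K (fun x => by
      have := mem_conj_smul.mp x.2
      simpa using this)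
  have : (MulAut.conj g • A).subgroupOf (MulAut.conj g • K) = (A.subgroupOf K).comap f := by
    ext x
    rw [mem_subgroupOf, mem_comap, mem_subgroupOf, mem_conj_smul]
    simp [f]
  rw [this]
  exact h.comap _

theorem subnormal_subgroupOf_sup [Finite G] {A B K : Subgroup G} (hA : A ≤ K) (hB : B ≤ K)
    (hAs : (A.subgroupOf K).IsSubnormal) (hBs : (B.subgroupOf K).IsSubnormal) :
    ((A ⊔ B).subgroupOf K).IsSubnormal := by
  rw [subgroupOf_sup hA hB]
  exact isSubnormal_sup hAs hBs

/-- A subnormal, non-normal subgroup has a distinct conjugate normalizing it. -/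
theorem exists_conj_le_normalizer [Finite G] {A : Subgroup G} (hA : A.IsSubnormal)
    (hn : ¬ A.Normal) :
    ∃ g : G, MulAut.conj g • A ≠ A ∧ MulAut.conj g • A ≤ normalizer (A : Set G) := by
  have key : ∀ X : Subgroup G, X.IsSubnormal → A ≤ X → X ≤ normalizer (A : Set G) →
      ∃ g : G, MulAut.conj g • A ≠ A ∧ MulAut.conj g • A ≤ normalizer (A : Set G) := by
    intro X hX
    induction hX with
    | top => exact fun _ h => absurd (normalizer_eq_top_iff.mp (top_le_iff.mp h)) hn
    | step X Y hle _ hN ih =>
      intro hAX hXn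
      by_cases hY : Y ≤ normalizer (A : Set G)
      · exact ih (hAX.trans hle) hY
      obtain ⟨y, hy, hyn⟩ := SetLike.not_le_iff_exists.mp hY
      refine ⟨y, fun h => hyn (mem_normalizer_of_conj_le h.le), le_trans (fun x hx => ?_) hXn⟩
      rw [mem_conj_smul] at hx
      have h1 := (mem_normalizer_iff.mp
        ((normal_subgroupOf_iff_le_normalizer hle).mp hN hy) _).mp (hAX hx)
      simpa [mul_assoc] using h1
  exact key A hA le_rfl le_normalizer

/-- Relative version of `exists_conj_le_normalizer`. -/
theorem exists_conj_le_normalizer_of_subgroupOf [Finite G] {A K : Subgroup G} (hAK : A ≤ K)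
    (hA : (A.subgroupOf K).IsSubnormal) (hn : ¬ K ≤ normalizer (A : Set G)) :
    ∃ g ∈ K, MulAut.conj g • A ≠ A ∧ MulAut.conj g • A ≤ normalizer (A : Set G) := by
  have key : ∀ X : Subgroup K, X.IsSubnormal → A.subgroupOf K ≤ X →
      X.map K.subtype ≤ normalizer (A : Set G) →
      ∃ g ∈ K, MulAut.conj g • A ≠ A ∧ MulAut.conj g • A ≤ normalizer (A : Set G) := by
    intro X hX
    induction hX with
    | top =>
      intro _ h
      rw [← MonoidHom.range_eq_map, range_subtype] at h
      exact absurd h hn
    | step X Y hle _ hN ih =>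
      intro hAX hXn
      by_cases hY : Y.map K.subtype ≤ normalizer (A : Set G)
      · exact ih (hAX.trans hle) hY
      obtain ⟨_, ⟨y, hy, rfl⟩, hyn⟩ := SetLike.not_le_iff_exists.mp hY
      refine ⟨y, y.2, fun h => hyn (mem_normalizer_of_conj_le h.le),
        le_trans (fun x hx => ?_) hXn⟩
      rw [mem_conj_smul] at hx
      have h1 := (mem_normalizer_iff.mp
        ((normal_subgroupOf_iff_le_normalizer hle).mp hN hy) _).mp
        (hAX (show (⟨_, hAK hx⟩ : K) ∈ A.subgroupOf K from hx))
      refine ⟨_, h1, ?_⟩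
      simp [mul_assoc]
  refine key _ hA le_rfl ?_
  rw [map_subgroupOf_eq_of_le hAK]
  exact le_normalizer

/-- A member of a conjugation-closed family of subnormal subgroups of `K` outside a proper
subfamily `S₀` normalizes `⟨S₀⟩`. -/
theorem exists_mem_le_normalizer_sSup [Finite G] {K : Subgroup G} {S S₀ : Set (Subgroup G)}
    (hle : ∀ U ∈ S, U ≤ K) (hS : ∀ U ∈ S, (U.subgroupOf K).IsSubnormal)
    (hconj : ∀ U ∈ S, ∀ g ∈ K, MulAut.conj g • U ∈ S) (h₀ : S₀ ⊂ S) :
    ∃ X ∈ S, X ∉ S₀ ∧ X ≤ normalizer ((sSup S₀ : Subgroup G) : Set G) := by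
  obtain ⟨Z, hZ, hZ0⟩ := Set.exists_of_ssubset h₀
  set J := sSup S₀
  have hJK : J ≤ K := sSup_le fun U hU => hle U (h₀.1 hU)
  have hJs : (J.subgroupOf K).IsSubnormal := by
    have h : ∀ T : Set (Subgroup G), T.Finite → T ⊆ S → ((sSup T).subgroupOf K).IsSubnormal := by
      intro T hT
      induction T, hT using Set.Finite.induction_on with
      | empty => intro _; rw [sSup_empty, bot_subgroupOf]; exact IsSubnormal.bot
      | insert _ _ ih =>
        intro hsub
        rw [sSup_insert]
        exact subnormal_subgroupOf_sup (hle _ (hsub (Set.mem_insert _ _)))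
          (sSup_le fun U hU => hle U (hsub (Set.mem_insert_of_mem _ hU)))
          (hS _ (hsub (Set.mem_insert _ _))) (ih ((Set.subset_insert _ _).trans hsub))
    exact h S₀ (Set.toFinite _) h₀.1
  by_cases hn : K ≤ normalizer (J : Set G)
  · exact ⟨Z, hZ, hZ0, (hle Z hZ).trans hn⟩
  obtain ⟨k, hk, hne, hkn⟩ := exists_conj_le_normalizer_of_subgroupOf hJK hJs hn
  obtain ⟨U, hU, hUn⟩ : ∃ U ∈ S₀, ¬ MulAut.conj k • U ≤ J := by
    by_contra! hall
    refine hne (eq_of_le_of_card_ge ?_ (by rw [card_conj_smul]))
    rw [pointwise_smul_subset_iff]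
    exact sSup_le fun U hU => pointwise_smul_subset_iff.mp (hall U hU)
  exact ⟨_, hconj U (h₀.1 hU) k hk, fun h' => hUn (le_sSup h'),
    le_trans (smul_mono_right _ (le_sSup hU : U ≤ J)) hkn⟩

/-- Wielandt's zipper lemma. -/
theorem zipper_aux [Finite G] : ∀ A : Subgroup G, ¬ A.IsSubnormal →
    (∀ H : Subgroup G, A ≤ H → H ≠ ⊤ → (A.subgroupOf H).IsSubnormal) →
    ∀ M K : Subgroup G, IsCoatom M → IsCoatom K → A ≤ M → A ≤ K → M = K := by
  intro A
  induction A using WellFoundedGT.induction with
  | _ A ih =>
    intro hns hprop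
    have hNne : normalizer (A : Set G) ≠ ⊤ := fun h =>
      hns (normalizer_eq_top_iff.mp h).isSubnormal
    obtain ⟨M0, hM0, hNM0⟩ := exists_coatom_ge hNne
    suffices h : ∀ K : Subgroup G, IsCoatom K → A ≤ K → K = M0 from
      fun M K hM hK hAM hAK => (h M hM hAM).trans (h K hK hAK).symm
    intro K hK hAK
    by_contra hne
    by_cases hKn : K ≤ normalizer (A : Set G)
    · exact hne ((hK.2 M0).mt hM0.1 |> fun h => (hKn.trans hNM0).eq_or_lt.resolve_right h)
    obtain ⟨k, hk, hkne, hkn⟩ :=
      exists_conj_le_normalizer_of_subgroupOf hAK (hprop K hAK hK.1) hKn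
    set B := MulAut.conj k • A with hB
    have hBK : B ≤ K := fun x hx => by
      rw [mem_conj_smul] at hx
      have h1 := K.mul_mem (K.mul_mem hk (hAK hx)) (K.inv_mem hk)
      simpa [mul_assoc] using h1
    have hlt : A < A ⊔ B := lt_of_le_of_ne le_sup_left fun h =>
      hkne (eq_of_le_of_card_ge (h ▸ le_sup_right : B ≤ A) (by rw [card_conj_smul]))
    have hle : A ⊔ B ≤ normalizer (A : Set G) := sup_le le_normalizer hkn
    refine hne (ih (A ⊔ B) hlt ?_ ?_ K M0 hK hM0 (sup_le hAK hBK) (hle.trans hNM0))
    · intro hs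
      exact hns (IsSubnormal.trans le_sup_left
        ((normal_subgroupOf_iff_le_normalizer le_sup_left).mpr hle).isSubnormal hs)
    · intro H hH hHtop
      refine subnormal_subgroupOf_sup (le_sup_left.trans hH) (le_sup_right.trans hH)
        (hprop H (le_sup_left.trans hH) hHtop) ?_
      have h1 : A ≤ MulAut.conj k⁻¹ • H := by
        intro x hx
        rw [mem_conj_smul, inv_inv]
        refine hH (mem_sup_right ?_)
        rw [mem_conj_smul]
        simpa [mul_assoc] using hx
      have h2 : MulAut.conj k⁻¹ • H ≠ ⊤ := fun h => hHtop (eq_top_of_card_eq _ (by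
        rw [← card_conj_smul k⁻¹ H, h, card_top]))
      have h3 := subnormal_subgroupOf_conj (hprop _ h1 h2) k
      rwa [conj_smul_conj_smul, mul_inv_cancel, map_one, one_smul] at h3

/-- Wielandt's subnormality criterion. -/
theorem isSubnormal_of_forall_conj_aux : ∀ (n : ℕ) (G : Type u) [Group G] [Finite G],
    Nat.card G ≤ n → ∀ A : Subgroup G,
    (∀ g : G, (A.subgroupOf (A ⊔ MulAut.conj g • A)).IsSubnormal) → A.IsSubnormal := by
  intro n
  induction n with
  | zero => intro G _ _ hn; exact absurd hn (not_le.mpr Nat.card_pos)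
  | succ n ih =>
    intro G _ _ hn A h
    by_contra hns
    have hprop : ∀ H : Subgroup G, A ≤ H → H ≠ ⊤ → (A.subgroupOf H).IsSubnormal := by
      intro H hAH hH
      have hcard : Nat.card H < Nat.card G :=
        lt_of_le_of_ne (card_le_card_group _) fun h' => hH (eq_top_of_card_eq _ h')
      refine ih H (by omega) _ fun g => ?_
      set T := A.subgroupOf H ⊔ MulAut.conj g • A.subgroupOf H
      have hT : ∀ x ∈ T, (x : G) ∈ A ⊔ MulAut.conj (g : G) • A := fun x hx => by
        have : T ≤ (A ⊔ MulAut.conj (g : G) • A).comap H.subtype := by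
          refine sup_le (fun y hy => mem_sup_left hy) fun y hy => mem_sup_right ?_
          rw [mem_conj_smul] at hy
          rw [Subgroup.coe_subtype, mem_conj_smul]
          exact hy
        exact this hx
      let f : ↥T →* ↥(A ⊔ MulAut.conj (g : G) • A : Subgroup G) :=
        (H.subtype.comp T.subtype).codRestrict _ (fun x => hT x x.2)
      have e : (A.subgroupOf H).subgroupOf T =
          (A.subgroupOf (A ⊔ MulAut.conj (g : G) • A)).comap f := rfl
      rw [e]
      exact (h g).comap f
    have hA : A ≠ ⊤ := fun h0 => hns (h0 ▸ IsSubnormal.top)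
    obtain ⟨M, hM, hAM⟩ := exists_coatom_ge hA
    have hall : ∀ g : G, MulAut.conj g • A ≤ M := fun g => by
      have hT : A ⊔ MulAut.conj g • A ≠ ⊤ := fun h0 => hns (by
        have h1 := (h g).trans' (h0 ▸ IsSubnormal.top)
        rwa [map_subgroupOf_eq_of_le le_sup_left] at h1)
      obtain ⟨M', hM', hTM'⟩ := exists_coatom_ge hT
      rw [zipper_aux A hns hprop M M' hM hM' hAM (le_sup_left.trans hTM')]
      exact le_sup_right.trans hTM'
    have hN : normalClosure (A : Set G) ≤ M := by
      rw [normalClosure, closure_le]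
      intro x hx
      obtain ⟨a, ha, hax⟩ := Group.mem_conjugatesOfSet_iff.mp hx
      obtain ⟨g, rfl⟩ := isConj_iff.mp hax
      exact hall g ⟨a, ha, rfl⟩
    exact hns (IsSubnormal.trans le_normalClosure
      (hprop _ le_normalClosure fun h0 => hM.1 (top_le_iff.mp (h0 ▸ hN)))
      (normalClosure_normal (s := (A : Set G))).isSubnormal)

theorem isSubnormal_of_forall_conj [Finite G] (A : Subgroup G)
    (h : ∀ g : G, (A.subgroupOf (A ⊔ MulAut.conj g • A)).IsSubnormal) : A.IsSubnormal :=
  isSubnormal_of_forall_conj_aux _ G le_rfl A h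

theorem isSubnormal_of_isNilpotent [Finite G] [Group.IsNilpotent G] (H : Subgroup G) :
    H.IsSubnormal := by
  induction H using WellFoundedGT.induction with
  | _ H ih =>
    by_cases hH : H = ⊤
    · subst hH; exact IsSubnormal.top
    · exact IsSubnormal.step H (normalizer (H : Set G)) le_normalizer
        (ih _ (Group.normalizerCondition_of_isNilpotent H (lt_top_iff_ne_top.mpr hH)))
        normal_in_normalizer

theorem le_fittingSubgroup_of_isSubnormal [Finite G] {H : Subgroup G} (hH : H.IsSubnormal)
    (hn : Group.IsNilpotent H) : H ≤ fittingSubgroup G := by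
  have key : ∀ K : Subgroup G, K.IsSubnormal →
      (fittingSubgroup K).map K.subtype ≤ fittingSubgroup G := by
    intro K hK
    induction hK with
    | top =>
      haveI : ((fittingSubgroup (⊤ : Subgroup G)).map (⊤ : Subgroup G).subtype).Normal :=
        inferInstance
      exact le_fittingSubgroup ((Group.isNilpotent_congr
        ((fittingSubgroup (⊤ : Subgroup G)).equivMapOfInjective _ (subtype_injective _))).mp
          (fittingSubgroup_isNilpotent _))
    | step A B hle _ hN ih =>
      haveI := hN
      refine le_trans ?_ ih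
      rintro _ ⟨x, hx, rfl⟩
      have hn : ((fittingSubgroup ↥(A.subgroupOf B)).map (A.subgroupOf B).subtype).Normal :=
        inferInstance
      have h1 := le_fittingSubgroup (hN := hn) ((Group.isNilpotent_congr
        ((fittingSubgroup ↥(A.subgroupOf B)).equivMapOfInjective _ (subtype_injective _))).mp
          (fittingSubgroup_isNilpotent _))
      refine ⟨⟨x, hle x.2⟩, h1 ⟨(subgroupOfEquivOfLe hle).symm x, ?_, rfl⟩, rfl⟩
      rw [SetLike.mem_coe, ← fittingSubgroup_map_equiv (subgroupOfEquivOfLe hle).symm]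
      exact mem_map_of_mem _ hx
  intro x hx
  refine key H hH ⟨⟨x, hx⟩, ?_, rfl⟩
  exact le_fittingSubgroup (N := (⊤ : Subgroup H)) (Group.isNilpotent_top.mpr hn) (mem_top _)

end Cfsg.Agent.Solv
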