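import Cfsg.Agent.Lib.Solv.LargeStructure
import Cfsg.Agent.Lib.Solv.LargePair
import Cfsg.Agent.Lib.Local.FStar

/-!
Simplicity from an extraspecial generalized Fitting subgroup of an involution centralizer.
-/

set_option autoImplicit false
set_option linter.style.haveILetI false
set_option linter.unusedSectionVars false

namespace Cfsg.Agent.Solv.LargeSimple

open Subgroup LargeStructure

variable {G : Type*} [Group G] [Finite G] {z : G} {Q : Subgroup G}

theorem facts (hz : orderOf z = 2) (hQC : Q ≤ centralizer ({z} : Set G))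
    (hF : (generalizedFittingSubgroup ↥(centralizer ({z} : Set G))).map (centralizer ({z} : Set G)).subtype = Q)
    (hQ : IsExtraspecial 2 Q) :
    (center Q).map Q.subtype = zpowers z ∧ centralizer (Q : Set G) = (center Q).map Q.subtype ∧
      centralizer (((center Q).map Q.subtype) : Set G) ≤ normalizer (Q : Set G) := by
  set C := centralizer ({z} : Set G)
  haveI : (generalizedFittingSubgroup C).Normal := by
    haveI := Local.layer_normal (G := C)
    haveI := fittingSubgroup_normal C
    exact Subgroup.sup_normal _ _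
  have hzC : z ∈ C := mem_centralizer_singleton_iff.mpr rfl
  have hzQ : z ∈ Q := by
    rw [← hF]
    refine ⟨⟨z, hzC⟩, mem_sup_right (?_ : (⟨z, hzC⟩ : C) ∈ fittingSubgroup C), rfl⟩
    have hle : center C ≤ fittingSubgroup C := le_sSup ⟨inferInstance, @CommGroup.isNilpotent (center C) { (inferInstance : Group (center C)) with mul_comm := IsMulCommutative.is_comm.comm }⟩
    exact hle (mem_center_iff.mpr fun c => Subtype.ext (mem_centralizer_singleton_iff.mp c.2))
  have hZ : (center Q).map Q.subtype = zpowers z := by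
    refine (eq_of_le_of_card_ge (zpowers_le.mpr (show z ∈ (center Q).map Q.subtype from ⟨⟨z, hzQ⟩,
      mem_center_iff.mpr fun q => Subtype.ext (mem_centralizer_singleton_iff.mp (hQC q.2)), rfl⟩)) ?_).symm
    rw [card_map_subtype, hQ.2, Nat.card_zpowers, hz]
  refine ⟨hZ, le_antisymm (fun u hu => ?_) ?_, ?_⟩
  · have huC : u ∈ C := mem_centralizer_singleton_iff.mpr (mem_centralizer_iff.mp hu z hzQ).symm
    have huF := Local.centralizer_generalizedFitting_le (G := C)
      (mem_centralizer_iff.mpr fun f hf => Subtype.ext (mem_centralizer_iff.mp hu _ (hF.le ⟨f, hf, rfl⟩)) :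
        (⟨u, huC⟩ : C) ∈ centralizer (generalizedFittingSubgroup C : Set C))
    exact ⟨⟨u, hF.le ⟨_, huF, rfl⟩⟩, mem_center_iff.mpr fun q => Subtype.ext (mem_centralizer_iff.mp hu q q.2), rfl⟩
  · rintro _ ⟨u, hu, rfl⟩
    exact mem_centralizer_iff.mpr fun v hv => congrArg Subtype.val (mem_center_iff.mp hu ⟨v, hv⟩)
  · rw [hZ, LargeBasics.centralizer_zpowers]
    intro c hc
    refine mem_normalizer_iff.mpr fun x => ?_
    rw [← hF]
    constructor
    · rintro ⟨f, hf, rfl⟩
      exact ⟨⟨c, hc⟩ * f * ⟨c, hc⟩⁻¹, Subgroup.Normal.conj_mem inferInstance f hf _, rfl⟩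
    · rintro ⟨f, hf, e⟩
      refine ⟨⟨c, hc⟩⁻¹ * f * ⟨c, hc⟩, by simpa using Subgroup.Normal.conj_mem inferInstance f hf (⟨c, hc⟩ : C)⁻¹, ?_⟩
      have e' : (f : G) = c * x * c⁻¹ := e
      show c⁻¹ * (f : G) * c = x
      rw [e']; group

theorem isExtraspecial_congr {A B : Type*} [Group A] [Group B] (e : A ≃* B) {p : ℕ} (hA : IsExtraspecial p A) :
    IsExtraspecial p B := by
  obtain ⟨⟨hp, hf, hc⟩, hcard⟩ := hA
  have hC : (center A).map e.toMonoidHom = center B := Subgroup.ext fun b => by
    constructor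
    · rintro ⟨a, ha, rfl⟩
      refine mem_center_iff.mpr fun c => ?_
      obtain ⟨d, rfl⟩ := e.surjective c
      show e d * e a = e a * e d
      rw [← map_mul, ← map_mul, mem_center_iff.mp ha d]
    · intro hb
      refine ⟨e.symm b, mem_center_iff.mpr fun c => e.injective ?_, e.apply_symm_apply b⟩
      rw [map_mul, map_mul, e.apply_symm_apply]
      exact mem_center_iff.mp hb _
  have hD : (commutator A).map e.toMonoidHom = commutator B := by
    rw [commutator_def, commutator_def, map_commutator, ← MonoidHom.range_eq_map, MonoidHom.range_eq_top.mpr e.surjective]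
  have hF : (_root_.frattini A).map e.toMonoidHom = _root_.frattini B := by
    refine le_antisymm ?_ ?_
    · exact Subgroup.map_le_iff_le_comap.mpr (frattini_le_comap_frattini_of_surjective e.surjective)
    · intro b hb
      exact ⟨e.symm b, frattini_le_comap_frattini_of_surjective (φ := e.symm.toMonoidHom) e.symm.surjective hb,
        e.apply_symm_apply b⟩
  refine ⟨⟨hp.of_surjective e.toMonoidHom e.surjective, ?_, ?_⟩, ?_⟩
  · rw [← hF, hf, hC]
  · rw [← hD, hc, hC]
  · rw [← hC, card_map_of_injective e.injective, hcard]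

theorem not_abelian (hQ : IsExtraspecial 2 Q) (w : ℕ) (hw : 2 ≤ w) (hcard : Nat.card Q = 2 ^ (2 * w + 1)) :
    ∃ a ∈ Q, ∃ b ∈ Q, a * b ≠ b * a := by
  by_contra hn
  push Not at hn
  have hall : center Q = ⊤ := eq_top_iff.mpr fun x _ => mem_center_iff.mpr fun y => Subtype.ext (hn y y.2 x x.2)
  have h2 := hQ.2
  rw [hall, card_top, hcard] at h2
  have : 2 ^ 5 ≤ 2 ^ (2 * w + 1) := Nat.pow_le_pow_right (by norm_num) (by omega)
  omega

/-- A large extraspecial subgroup whose centre has its centralizer inside the normal closure. -/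
theorem simple_of_cent_le (hQ : IsLargeExtraspecial Q) (hzZ : (center Q).map Q.subtype = zpowers z)
    (hna : ∃ a ∈ Q, ∃ b ∈ Q, a * b ≠ b * a)
    (hC : centralizer ({z} : Set G) ≤ normalClosure ({z} : Set G)) : IsSimpleGroup G := by
  have h := Core.of_large hQ hzZ
  have hQM : Q ≤ normalClosure ({z} : Set G) := fun q hq =>
    hC (mem_centralizer_singleton_iff.mpr (h.zc q hq).symm)
  have htop : normalClosure ({z} : Set G) = ⊤ := by
    refine eq_top_iff.mpr ((LargeBasics.frattini Q hQ _ hQM).ge.trans (sup_le le_rfl fun n hn => hC ?_))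
    rw [mem_centralizer_singleton_iff]
    have hm : n * z * n⁻¹ ∈ Q := (mem_normalizer_iff.mp hn z).mp h.zQ
    have hcn : ∀ v ∈ Q, (n * z * n⁻¹) * v = v * (n * z * n⁻¹) := fun v hv => by
      obtain ⟨w, hw, rfl⟩ : ∃ w ∈ Q, n * w * n⁻¹ = v :=
        ⟨n⁻¹ * v * n, (mem_normalizer_iff.mp hn _).mpr (by rw [show n * (n⁻¹ * v * n) * n⁻¹ = v by group]; exact hv),
          by group⟩
      calc (n * z * n⁻¹) * (n * w * n⁻¹) = n * (z * w) * n⁻¹ := by group
        _ = (n * w * n⁻¹) * (n * z * n⁻¹) := by rw [h.zc w hw]; group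
    rcases h.cent _ hcn with e | e
    · exact absurd (mul_eq_left.mp (mul_inv_eq_one.mp e)) h.z_ne
    · exact mul_inv_eq_iff_eq_mul.mp e
  have h2 : pCore 2 G = ⊥ := by
    by_contra h2
    obtain ⟨hab, -⟩ := h.pCore_case h2
    obtain ⟨a, ha, b, hb, hne⟩ := hna
    exact hne (congrArg Subtype.val (hab.is_comm.comm (⟨a, hQM ha⟩ : normalClosure ({z} : Set G)) ⟨b, hQM hb⟩))
  rcases main_case h h2 with ⟨hs, -⟩ | ⟨L, u, hu, hs, -, hdis, hcm, hsup, -⟩
  · rw [htop] at hs
    exact Subgroup.topEquiv.symm.isSimpleGroup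
  · exfalso
    have hM : normalClosure ({z} : Set G) ≤ normalizer (L : Set G) := by
      rw [← hsup]
      refine sup_le le_normalizer fun y hy => mem_normalizer_iff.mpr fun x => ⟨fun hx => ?_, fun hx => ?_⟩
      · rwa [← hcm x hx y hy, mul_inv_cancel_right]
      · have e := hcm _ hx y hy
        rw [show y * x * y⁻¹ * y = y * x by group, mul_left_cancel_iff] at e
        rwa [← e] at hx
    have hLu : L.map (MulAut.conj u).toMonoidHom ≤ L := by
      rintro _ ⟨x, hx, rfl⟩
      exact (mem_normalizer_iff.mp (hM (hQM hu)) x).mp hx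
    haveI := hs
    exact (nontrivial_iff_ne_bot L).mp inferInstance ((map_eq_bot_iff_of_injective _ (MulAut.conj u).injective).mp
      (eq_bot_iff.mpr (le_trans (le_inf hLu le_rfl) hdis.le)))

end Cfsg.Agent.Solv.LargeSimple
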