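import Cfsg.Agent.Lib.Solv.ExtraspecialTwo
import Mathlib.Data.Matrix.Mul
import Mathlib.Data.ZMod.Basic
import Cfsg.Agent.Lib.Solv.Misc
import Mathlib.Algebra.CharP.Two

/-!
Subgroups and models of extraspecial groups.
-/

set_option autoImplicit false
set_option linter.style.haveILetI false
set_option linter.unusedSectionVars false

namespace Cfsg.Agent.Solv.ESClass

open Subgroup
open scoped commutatorElement Matrix

variable {p : ℕ} [Fact p.Prime] {G : Type*} [Group G] [Finite G]

/-- The data on a nondegenerate subgroup. -/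
def ES.restrict (D : ES p G) {K : Subgroup G} (hK : D.ND K) : ES p K where
  z := ⟨D.z, hK.1 (mem_zpowers _)⟩
  hz := by rw [Subgroup.orderOf_mk]; exact D.hz
  cent g := Subtype.ext (D.cent g)
  comm x y := by
    obtain ⟨i, hi⟩ := mem_zpowers_iff.mp (D.comm (x : G) y)
    exact ⟨i, Subtype.ext (by simpa [commutatorElement_def] using hi)⟩
  pw x := by
    obtain ⟨i, hi⟩ := mem_zpowers_iff.mp (D.pw (x : G))
    exact ⟨i, Subtype.ext (by simpa using hi)⟩
  nd x h := by
    obtain ⟨i, hi⟩ := mem_zpowers_iff.mp (hK.2 x x.2 fun y hy => congrArg Subtype.val (h ⟨y, hy⟩))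
    exact ⟨i, Subtype.ext (by simpa using hi)⟩

theorem ES.isPGroup (D : ES p G) : IsPGroup p G := fun x =>
  ⟨2, by rw [pow_two, pow_mul]; exact D.zpow_p _ (D.pw x)⟩

theorem ES.center_eq (D : ES p G) : center G = zpowers D.z :=
  le_antisymm (fun x hx => D.nd x fun y => (mem_center_iff.mp hx y).symm)
    (zpowers_le.mpr (mem_center_iff.mpr fun y => (D.cent y).symm))

theorem ES.isExtraspecial (D : ES p G) {a b : G} (hab : a * b ≠ b * a) : IsExtraspecial p G := by
  have hp := (Fact.out : p.Prime)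
  have hc : Nat.card (center G) = p := by rw [D.center_eq, Nat.card_zpowers, D.hz]
  have hcomm : commutator G = center G := by
    refine eq_of_le_of_card_ge ?_ ?_
    · rw [commutator_def, commutator_le, D.center_eq]
      exact fun x _ y _ => D.comm x y
    · rw [hc]
      obtain ⟨i, hi⟩ := IsPGroup.iff_card.mp (D.isPGroup.to_subgroup (commutator G))
      rcases i with _ | i
      · exfalso
        rw [pow_zero, card_eq_one] at hi
        exact hab (commutatorElement_eq_one_iff_mul_comm.mp (mem_bot.mp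
          (hi.le (commutator_mem_commutator (mem_top a) (mem_top b)))))
      · rw [hi]
        exact Nat.le_self_pow (by omega) p
  refine ⟨⟨D.isPGroup, le_antisymm ?_ ?_, hcomm⟩, hc⟩
  · -- the frattini subgroup lies in the centre
    intro f hf
    rw [D.center_eq]
    by_contra hfz
    obtain ⟨y, hy⟩ : ∃ y, ⁅y, f⁆ ≠ 1 := by
      by_contra! h
      exact hfz (D.nd f fun y => (commutatorElement_eq_one_iff_mul_comm.mp (h y)).symm)
    have hker : (D.c y).ker.index = p := by
      rw [index_ker]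
      refine le_antisymm ?_ ?_
      · refine (Subgroup.card_le_of_le (K := zpowers D.z) ?_).trans (by rw [Nat.card_zpowers, D.hz])
        rintro _ ⟨x, rfl⟩
        exact D.comm y x
      · obtain ⟨i, hi⟩ := IsPGroup.iff_card.mp (D.isPGroup.to_subgroup (D.c y).range)
        rcases i with _ | i
        · exfalso
          rw [pow_zero, card_eq_one] at hi
          exact hy (mem_bot.mp (hi.le ⟨f, rfl⟩))
        · rw [hi]
          exact Nat.le_self_pow (by omega) p
    have hco : IsCoatom (D.c y).ker := by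
      refine ⟨fun e => by rw [e, index_top] at hker; exact hp.one_lt.ne hker, fun B hB => ?_⟩
      have h1 := Subgroup.relIndex_mul_index hB.le
      rw [hker] at h1
      rcases (Nat.dvd_prime hp).mp (Dvd.intro_left _ h1) with h2 | h2
      · exact index_eq_one.mp h2
      · rw [h2] at h1
        exact absurd (relIndex_eq_one.mp (Nat.eq_of_mul_eq_mul_right hp.pos (h1.trans (one_mul p).symm))) hB.not_ge
    exact hy (frattini_le_coatom hco hf)
  · rw [← hcomm, frattini, Order.radical]
    refine le_iInf₂ fun M hM => ?_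
    haveI := D.isPGroup.isNilpotent
    haveI := coatom_normal_of_isNilpotent (inferInstance : Group.IsNilpotent G) M hM
    have hq := prime_index_of_coatom_normal M hM
    haveI : Fact (M.index).Prime := ⟨hq⟩
    haveI : IsCyclic (G ⧸ M) := isCyclic_of_prime_card (M.index_eq_card.symm)
    letI := IsCyclic.commGroup (α := G ⧸ M)
    have := Abelianization.commutator_subset_ker (QuotientGroup.mk' M)
    rwa [QuotientGroup.ker_mk'] at this

/-- The plus type group of order `2^(2n+1)`. -/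
@[ext]
structure Plus (n : ℕ) where
  x : Fin n → ZMod 2
  y : Fin n → ZMod 2
  c : ZMod 2

namespace Plus

variable {n : ℕ}

instance : Mul (Plus n) := ⟨fun u v => ⟨u.x + v.x, u.y + v.y, u.c + v.c + u.x ⬝ᵥ v.y⟩⟩
instance : One (Plus n) := ⟨⟨0, 0, 0⟩⟩
instance : Inv (Plus n) := ⟨fun u => ⟨-u.x, -u.y, -u.c + u.x ⬝ᵥ u.y⟩⟩

@[simp] theorem mul_x (u v : Plus n) : (u * v).x = u.x + v.x := rfl
@[simp] theorem mul_y (u v : Plus n) : (u * v).y = u.y + v.y := rfl
@[simp] theorem mul_c (u v : Plus n) : (u * v).c = u.c + v.c + u.x ⬝ᵥ v.y := rfl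
@[simp] theorem one_x : (1 : Plus n).x = 0 := rfl
@[simp] theorem one_y : (1 : Plus n).y = 0 := rfl
@[simp] theorem one_c : (1 : Plus n).c = 0 := rfl
@[simp] theorem inv_x (u : Plus n) : u⁻¹.x = -u.x := rfl
@[simp] theorem inv_y (u : Plus n) : u⁻¹.y = -u.y := rfl
@[simp] theorem inv_c (u : Plus n) : u⁻¹.c = -u.c + u.x ⬝ᵥ u.y := rfl

instance : Group (Plus n) :=
  Group.ofLeftAxioms
    (fun u v w => by
      ext1
      · simp [add_assoc]
      · simp [add_assoc]
      · simp only [mul_c, mul_x, mul_y, add_dotProduct, dotProduct_add]; ring)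
    (fun u => by ext1 <;> simp)
    (fun u => by
      ext1
      · simp
      · simp
      · simp only [mul_c, inv_c, inv_x, one_c, neg_dotProduct]; ring)

/-- Coordinates. -/
def equiv (n : ℕ) : Plus n ≃ ((Fin n → ZMod 2) × (Fin n → ZMod 2)) × ZMod 2 where
  toFun u := ((u.x, u.y), u.c)
  invFun t := ⟨t.1.1, t.1.2, t.2⟩
  left_inv _ := rfl
  right_inv _ := rfl

instance : Finite (Plus n) := Finite.of_equiv _ (equiv n).symm

theorem card : Nat.card (Plus n) = 2 ^ (2 * n + 1) := by
  rw [Nat.card_congr (equiv n), Nat.card_prod, Nat.card_prod, Nat.card_fun, Nat.card_zmod, Nat.card_fin]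
  ring

theorem mem_z {v : Plus n} (hx : v.x = 0) (hy : v.y = 0) :
    v ∈ zpowers (⟨0, 0, 1⟩ : Plus n) := by
  rcases (show v.c = 0 ∨ v.c = 1 from (by decide : ∀ a : ZMod 2, a = 0 ∨ a = 1) v.c) with h | h
  · exact ⟨0, by ext1 <;> simp [hx, hy, h]⟩
  · exact ⟨1, by ext1 <;> simp [hx, hy, h]⟩

/-- The extraspecial data. -/
noncomputable def data (n : ℕ) : ES 2 (Plus n) where
  z := ⟨0, 0, 1⟩
  hz := by
    haveI : Fact (Nat.Prime 2) := ⟨Nat.prime_two⟩
    refine orderOf_eq_prime ?_ fun h => by simpa using congrArg Plus.c h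
    rw [pow_two]
    ext1 <;> simp [CharTwo.add_self_eq_zero]
  cent g := by ext1 <;> simp [add_comm]
  comm u v := mem_z (by simp [commutatorElement_def]) (by simp [commutatorElement_def])
  pw u := mem_z
    (by rw [pow_two]; funext i; simp [CharTwo.add_self_eq_zero])
    (by rw [pow_two]; funext i; simp [CharTwo.add_self_eq_zero])
  nd u h := by
    refine mem_z (funext fun i => ?_) (funext fun i => ?_)
    · have := congrArg Plus.c (h ⟨0, Pi.single i 1, 0⟩)
      simpa using this
    · have := congrArg Plus.c (h ⟨Pi.single i 1, 0, 0⟩)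
      simpa using this.symm

theorem sqN_top (hn : 1 ≤ n) : sqN (⊤ : Subgroup (Plus n)) = 2 ^ (2 * n) + 2 ^ n := by
  let A : Subgroup (Plus n) :=
    { carrier := {u | u.y = 0}
      mul_mem' := fun {a b} ha hb => by simp_all
      one_mem' := rfl
      inv_mem' := fun {a} ha => by simp_all }
  have e : A ≃ (Fin n → ZMod 2) × ZMod 2 :=
    { toFun := fun u => (u.1.x, u.1.c)
      invFun := fun t => ⟨⟨t.1, 0, t.2⟩, rfl⟩
      left_inv := fun u => Subtype.ext (Plus.ext rfl u.2.symm rfl)
      right_inv := fun _ => rfl }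
  refine plus_of_big (D := data n) n ⊤ (data n).nd_top (by rw [Subgroup.card_top, card]) A
    ⟨le_top, fun a (ha : a.y = 0) b (hb : b.y = 0) => by ext1 <;> simp [ha, hb, add_comm], fun a (ha : a.y = 0) => by
      rw [pow_two]
      ext1
      · funext i; simp [CharTwo.add_self_eq_zero]
      · simp [ha]
      · simp [ha, CharTwo.add_self_eq_zero]⟩ ?_
  rw [Nat.card_congr e, Nat.card_prod, Nat.card_fun, Nat.card_zmod, Nat.card_fin, pow_succ]

end Plus

/-- Both types occur. -/
theorem exists_types (n : ℕ) (hn : 1 ≤ n) :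
    (∃ (E : Type) (_ : Group E) (_ : Finite E), IsExtraspecial 2 E ∧ Nat.card E = 2 ^ (2 * n + 1) ∧
      ∀ k, PRankLE 2 k E ↔ n + 1 ≤ k) ∧
    (∃ (E : Type) (_ : Group E) (_ : Finite E), IsExtraspecial 2 E ∧ Nat.card E = 2 ^ (2 * n + 1) ∧
      ∀ k, PRankLE 2 k E ↔ n ≤ k) := by
  haveI : Fact (Nat.Prime 2) := ⟨Nat.prime_two⟩
  have hab : ∀ (m : ℕ) (hm : 1 ≤ m),
      (⟨Pi.single ⟨0, hm⟩ 1, 0, 0⟩ : Plus m) * ⟨0, Pi.single ⟨0, hm⟩ 1, 0⟩ ≠
        ⟨0, Pi.single ⟨0, hm⟩ 1, 0⟩ * ⟨Pi.single ⟨0, hm⟩ 1, 0, 0⟩ := fun m hm h => by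
    simpa using congrArg Plus.c h
  refine ⟨⟨Plus n, inferInstance, inferInstance, (Plus.data n).isExtraspecial (hab n hn), Plus.card, ?_⟩, ?_⟩
  · rcases summary (Plus.data n) n Plus.card with ⟨-, h⟩ | ⟨-, h', -⟩
    · exact h
    · have := Plus.sqN_top hn
      have := Nat.two_pow_pos n
      omega
  let D := Plus.data (n + 1)
  let i0 : Fin (n + 1) := ⟨0, by omega⟩
  let i1 : Fin (n + 1) := ⟨1, by omega⟩
  let a : Plus (n + 1) := ⟨Pi.single i0 1, Pi.single i0 1, 0⟩
  let b : Plus (n + 1) := ⟨Pi.single i1 1, Pi.single i0 1 + Pi.single i1 1, 0⟩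
  have h01 : i0 ≠ i1 := by simp [i0, i1]
  have hz : D.z = ⟨0, 0, 1⟩ := rfl
  have ha : a ^ 2 = D.z := by
    rw [pow_two, hz]
    ext1
    · funext i; simp [a, CharTwo.add_self_eq_zero]
    · funext i; simp [a, CharTwo.add_self_eq_zero]
    · simp [a]
  have hb : b ^ 2 = D.z := by
    rw [pow_two, hz]
    ext1
    · funext i; simp [b, CharTwo.add_self_eq_zero]
    · funext i; simp [b, CharTwo.add_self_eq_zero]
    · simp [b, h01, h01.symm]
  have hpair : D.Pair ⊤ a b := by
    refine ⟨D.nd_top, mem_top _, mem_top _, ?_⟩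
    rw [hz, commutatorElement_def, mul_inv_eq_iff_eq_mul, mul_inv_eq_iff_eq_mul]
    ext1
    · funext i; simp [a, b, add_comm]
    · funext i; simp [a, b, add_comm]
    · simp [a, b, h01, h01.symm, dotProduct_add, CharTwo.add_self_eq_zero]
  have hP : Nat.card (D.perp ⊤ a b) = 2 ^ (2 * n + 1) := by
    have h := hpair.card_eq
    rw [Subgroup.card_top, Plus.card] at h
    have e : 2 ^ (2 * (n + 1) + 1) = 2 * 2 * 2 ^ (2 * n + 1) := by ring
    omega
  have hN : sqN (D.perp ⊤ a b) + 2 ^ n = 2 ^ (2 * n) := by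
    have h := hpair.count_minus ha hb
    rw [Plus.sqN_top (by omega), hP] at h
    have e1 : 2 ^ (2 * (n + 1)) = 4 * 2 ^ (2 * n) := by ring
    have e2 : 2 ^ (n + 1) = 2 * 2 ^ n := by ring
    have e3 : 2 ^ (2 * n + 1) = 2 * 2 ^ (2 * n) := by ring
    omega
  let D' := D.restrict hpair.perp_nd
  refine ⟨D.perp ⊤ a b, inferInstance, inferInstance, ?_, hP, ?_⟩
  · rcases D.eq_or_pair hpair.perp_nd with e | ⟨u, v, huv⟩
    · exfalso
      rw [e, Nat.card_zpowers, D.hz] at hP
      have : 2 ^ 3 ≤ 2 ^ (2 * n + 1) := Nat.pow_le_pow_right (by norm_num) (by omega)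
      omega
    · refine D'.isExtraspecial (a := ⟨u, huv.ha⟩) (b := ⟨v, huv.hb⟩) fun h => ?_
      have h2 := commutatorElement_eq_one_iff_mul_comm.mpr (congrArg Subtype.val h : u * v = v * u)
      rw [huv.hab] at h2
      exact z_ne D h2
  · rcases summary D' n hP with ⟨h', -⟩ | ⟨-, -, h⟩
    · exfalso
      have e : sqN (⊤ : Subgroup (D.perp ⊤ a b)) = sqN (D.perp ⊤ a b) :=
        Nat.card_congr ((Equiv.subtypeEquivRight
          (q := fun x : D.perp ⊤ a b => (x : Plus (n + 1)) ^ 2 = 1) fun x => by simp [Subtype.ext_iff]).trans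
            (Equiv.subtypeSubtypeEquivSubtypeInter (fun x => x ∈ D.perp ⊤ a b) (fun x => x ^ 2 = 1)))
      have := Nat.two_pow_pos n
      omega
    · exact h

end Cfsg.Agent.Solv.ESClass
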