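import Cfsg.Prelude.Def_MonsterType
import Cfsg.Agent.Lib.Solv.LargeBasics
import Cfsg.Agent.Lib.Solv.ExtraspecialModels
import Cfsg.Agent.Lib.Solv.Basic

/-!
The centralizer of a transvection in `SL(n+2, 2)`.
-/

set_option autoImplicit false
set_option linter.style.haveILetI false
set_option linter.unusedSectionVars false

namespace Cfsg.Agent.Solv.TransvectionLarge

open Subgroup Matrix

abbrev F := ZMod 2

abbrev SL (m : ℕ) := Matrix.SpecialLinearGroup (Fin m) F

theorem F_cases (a : F) : a = 0 ∨ a = 1 := by revert a; decide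

theorem F_add_self (a : F) : a + a = 0 := CharTwo.add_self_eq_zero a

theorem det_eq_one_of {m : ℕ} (A B : Matrix (Fin m) (Fin m) F) (h : A * B = 1) : A.det = 1 := by
  rcases F_cases A.det with e | e
  · have := congrArg Matrix.det h
    rw [det_mul, e, zero_mul, det_one] at this
    exact absurd this (by decide)
  · exact e

variable {n : ℕ}

/-- The matrix of the parameters. -/
def blockMat (r s : Fin n → F) (c : F) (A : Matrix (Fin n) (Fin n) F) : Matrix (Fin (n + 2)) (Fin (n + 2)) F :=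
  Matrix.of (Fin.cases (Fin.cases 1 (Fin.cases c r))
    (Fin.cases (Fin.cases 0 (Fin.cases 1 fun _ => 0)) fun i => Fin.cases 0 (Fin.cases (s i) (A i))))

theorem fin_two_cases {P : Fin (n + 2) → Prop} (h0 : P 0) (h1 : P 1) (h2 : ∀ j : Fin n, P j.succ.succ) : ∀ i, P i := by
  intro i
  refine Fin.cases h0 (fun k => ?_) i
  exact Fin.cases h1 h2 k

theorem blockMat_00 (r s : Fin n → F) c A : blockMat r s c A 0 0 = 1 := rfl
theorem blockMat_01 (r s : Fin n → F) c A : blockMat r s c A 0 1 = c := rfl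
theorem blockMat_0j (r s : Fin n → F) c A (j : Fin n) : blockMat r s c A 0 j.succ.succ = r j := rfl
theorem blockMat_10 (r s : Fin n → F) c A : blockMat r s c A 1 0 = 0 := rfl
theorem blockMat_11 (r s : Fin n → F) c A : blockMat r s c A 1 1 = 1 := rfl
theorem blockMat_1j (r s : Fin n → F) c A (j : Fin n) : blockMat r s c A 1 j.succ.succ = 0 := rfl
theorem blockMat_i0 (r s : Fin n → F) c A (i : Fin n) : blockMat r s c A i.succ.succ 0 = 0 := rfl
theorem blockMat_i1 (r s : Fin n → F) c A (i : Fin n) : blockMat r s c A i.succ.succ 1 = s i := rfl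
theorem blockMat_ij (r s : Fin n → F) c A (i j : Fin n) : blockMat r s c A i.succ.succ j.succ.succ = A i j := rfl

theorem sum_two (f : Fin (n + 2) → F) : ∑ k, f k = f 0 + (f 1 + ∑ j : Fin n, f j.succ.succ) := by
  rw [Fin.sum_univ_succ, Fin.sum_univ_succ]
  rfl

theorem blockMat_mul (r s r' s' : Fin n → F) (c c' : F) (A A' : Matrix (Fin n) (Fin n) F) :
    blockMat r s c A * blockMat r' s' c' A' =
      blockMat (r' + r ᵥ* A') (s + A *ᵥ s') (c + c' + r ⬝ᵥ s') (A * A') := by
  ext i k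
  revert i k
  refine fin_two_cases ?_ ?_ fun i => ?_ <;> refine fin_two_cases ?_ ?_ fun j => ?_ <;>
    simp [Matrix.mul_apply, sum_two, blockMat_00, blockMat_01, blockMat_0j, blockMat_10, blockMat_11, blockMat_1j,
      blockMat_i0, blockMat_i1, blockMat_ij, Matrix.vecMul, Matrix.mulVec, dotProduct]
  ring

theorem blockMat_one : blockMat (0 : Fin n → F) 0 0 1 = 1 := by
  ext i k
  revert i k
  refine fin_two_cases ?_ ?_ fun i => ?_ <;> refine fin_two_cases ?_ ?_ fun j => ?_ <;>
    simp [Matrix.one_apply, blockMat_00, blockMat_01, blockMat_0j, blockMat_10, blockMat_11, blockMat_1j,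
      blockMat_i0, blockMat_i1, blockMat_ij, Fin.succ_ne_zero, (Fin.succ_ne_zero _).symm, Fin.ext_iff]

theorem blockMat_inv (r s : Fin n → F) (c : F) (A B : Matrix (Fin n) (Fin n) F) (h : A * B = 1) :
    blockMat r s c A * blockMat (r ᵥ* B) (B *ᵥ s) (c + r ⬝ᵥ (B *ᵥ s)) B = 1 := by
  rw [blockMat_mul, h, ← blockMat_one]
  congr 1
  · exact funext fun i => F_add_self _
  · rw [mulVec_mulVec, h, one_mulVec]; exact funext fun i => F_add_self _
  · rw [← add_assoc c c, F_add_self c, zero_add, F_add_self]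

/-- The element of `SL(n+2, 2)` of the parameters. -/
def el (r s : Fin n → F) (c : F) (A : SL n) : SL (n + 2) :=
  ⟨blockMat r s c (A : Matrix (Fin n) (Fin n) F), det_eq_one_of _ _ (blockMat_inv r s c _ ((A⁻¹ : SL n) : Matrix _ _ F) (by
    rw [← Matrix.SpecialLinearGroup.coe_mul, mul_inv_cancel]; rfl))⟩

theorem el_mul (r s r' s' : Fin n → F) (c c' : F) (A A' : SL n) :
    el r s c A * el r' s' c' A' = el (r' + r ᵥ* (A' : Matrix (Fin n) (Fin n) F)) (s + (A : Matrix (Fin n) (Fin n) F) *ᵥ s')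
      (c + c' + r ⬝ᵥ s') (A * A') :=
  Subtype.ext (blockMat_mul r s r' s' c c' _ _)

theorem el_one : el (0 : Fin n → F) 0 0 1 = 1 := Subtype.ext blockMat_one

theorem el_injective {r s r' s' : Fin n → F} {c c' : F} {A A' : SL n} (h : el r s c A = el r' s' c' A') :
    r = r' ∧ s = s' ∧ c = c' ∧ A = A' := by
  have h' : ∀ i k, blockMat r s c (A : Matrix (Fin n) (Fin n) F) i k = blockMat r' s' c' (A' : Matrix (Fin n) (Fin n) F) i k :=
    fun i k => congrFun (congrFun (congrArg Subtype.val h) i) k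
  exact ⟨funext fun j => h' 0 j.succ.succ, funext fun i => h' i.succ.succ 1, h' 0 1,
    Subtype.ext (Matrix.ext fun i j => h' i.succ.succ j.succ.succ)⟩

/-- The transvection. -/
def tz (n : ℕ) : SL (n + 2) := el 0 0 1 1

theorem tz_coe : ((tz n : SL (n + 2)) : Matrix (Fin (n + 2)) (Fin (n + 2)) F) = Matrix.transvection 0 1 1 := by
  show blockMat 0 0 1 1 = _
  ext i k
  revert i k
  refine fin_two_cases ?_ ?_ fun i => ?_ <;> refine fin_two_cases ?_ ?_ fun j => ?_ <;>
    simp [Matrix.transvection, Matrix.one_apply, Matrix.single_apply, blockMat_00, blockMat_01, blockMat_0j,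
      blockMat_10, blockMat_11, blockMat_1j, blockMat_i0, blockMat_i1, blockMat_ij, Fin.ext_iff]

theorem el_comm_tz (r s : Fin n → F) (c : F) (A : SL n) : el r s c A * tz n = tz n * el r s c A := by
  rw [tz, el_mul, el_mul, mul_one, one_mul]
  simp [add_comm]

theorem exists_el {g : SL (n + 2)} (hg : g * tz n = tz n * g) : ∃ r s c A, g = el r s c A := by
  have key : ∀ {g : SL (n + 2)}, g * tz n = tz n * g →
      ∃ r s c, ∃ A : Matrix (Fin n) (Fin n) F, (g : Matrix (Fin (n + 2)) (Fin (n + 2)) F) = blockMat r s c A := by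
    intro g hg
    set M := (g : Matrix (Fin (n + 2)) (Fin (n + 2)) F)
    have e : M * Matrix.transvection 0 1 1 = Matrix.transvection 0 1 1 * M := by
      rw [← tz_coe]; exact congrArg Subtype.val hg
    have e' : ∀ i k : Fin (n + 2), ((M : Matrix (Fin (n + 2)) (Fin (n + 2)) F) * Matrix.single (0 : Fin (n + 2)) 1 (1 : F) : Matrix (Fin (n + 2)) (Fin (n + 2)) F) i k
        = ((Matrix.single (0 : Fin (n + 2)) 1 (1 : F) * M : Matrix (Fin (n + 2)) (Fin (n + 2)) F)) i k := by
      intro i k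
      simp only [Matrix.transvection, mul_add, add_mul, mul_one, one_mul] at e
      exact congrFun (congrFun (add_left_cancel (G := Matrix (Fin (n + 2)) (Fin (n + 2)) F) e) i) k
    have hcol : ∀ i, i ≠ 0 → M i 0 = 0 := fun i hi => by
      have := e' i 1
      rwa [Matrix.mul_single_apply_same, mul_one, Matrix.single_mul_apply_of_ne (h := hi)] at this
    have hrow : ∀ k, k ≠ 1 → M 1 k = 0 := fun k hk => by
      have := e' 0 k
      rw [Matrix.single_mul_apply_same, one_mul, Matrix.mul_single_apply_of_ne (hbj := hk)] at this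
      exact this.symm
    have h11 : M 1 1 = M 0 0 := by
      have := e' 0 1
      rw [Matrix.mul_single_apply_same, mul_one, Matrix.single_mul_apply_same, one_mul] at this
      exact this.symm
    have h00 : M 0 0 = 1 := by
      rcases F_cases (M 0 0) with h | h
      · exfalso
        have : M.det = 0 := Matrix.det_eq_zero_of_column_eq_zero 0 fun i => by
          rcases eq_or_ne i 0 with rfl | hi
          exacts [h, hcol i hi]
        rw [g.2] at this
        exact one_ne_zero this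
      · exact h
    refine ⟨fun j => M 0 j.succ.succ, fun i => M i.succ.succ 1, M 0 1, Matrix.of fun i j => M i.succ.succ j.succ.succ, ?_⟩
    ext i k
    revert i k
    refine fin_two_cases ?_ ?_ fun i => ?_ <;> refine fin_two_cases ?_ ?_ fun j => ?_
    · exact h00
    · rfl
    · rfl
    · exact hcol 1 (by simp [Fin.ext_iff])
    · exact h11.trans h00
    · exact hrow _ (by simp [Fin.ext_iff])
    · exact hcol _ (Fin.succ_ne_zero _)
    · rfl
    · rfl
  obtain ⟨r, s, c, A, hA⟩ := key hg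
  have hg' : g⁻¹ * tz n = tz n * g⁻¹ := (Commute.inv_left (show Commute g (tz n) from hg)).eq
  obtain ⟨r', s', c', A', hA'⟩ := key hg'
  have hmul : blockMat r s c A * blockMat r' s' c' A' = blockMat (0 : Fin n → F) 0 0 1 := by
    rw [← hA, ← hA', ← Matrix.SpecialLinearGroup.coe_mul, mul_inv_cancel, blockMat_one]; rfl
  rw [blockMat_mul] at hmul
  have hAA : A * A' = 1 := Matrix.ext fun i j => congrFun (congrFun hmul i.succ.succ) j.succ.succ
  exact ⟨r, s, c, ⟨A, det_eq_one_of A A' hAA⟩, Subtype.ext hA⟩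

variable (n)

/-- The normal subgroup of the elements with trivial middle block. -/
def heis : Subgroup (SL (n + 2)) where
  carrier := {g | ∃ r s c, g = el r s c 1}
  one_mem' := ⟨0, 0, 0, el_one.symm⟩
  mul_mem' := by
    rintro _ _ ⟨r, s, c, rfl⟩ ⟨r', s', c', rfl⟩
    exact ⟨_, _, _, by rw [el_mul, mul_one]⟩
  inv_mem' := by
    rintro _ ⟨r, s, c, rfl⟩
    refine ⟨r, s, c + r ⬝ᵥ s, inv_eq_of_mul_eq_one_right ?_⟩
    rw [el_mul, mul_one, ← el_one]
    congr 1
    · rw [Matrix.SpecialLinearGroup.coe_one, vecMul_one]; exact funext fun i => F_add_self _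
    · rw [Matrix.SpecialLinearGroup.coe_one, one_mulVec]; exact funext fun i => F_add_self _
    · rw [← add_assoc c c, F_add_self c, zero_add, F_add_self]

/-- The middle block as a section. -/
def sec : SL n →* SL (n + 2) where
  toFun A := el 0 0 0 A
  map_one' := el_one
  map_mul' A B := by rw [el_mul]; simp

variable {n}

theorem el_decomp (r s : Fin n → F) (c : F) (A : SL n) :
    el r s c A = el (r ᵥ* ((A⁻¹ : SL n) : Matrix (Fin n) (Fin n) F)) s c 1 * el 0 0 0 A := by
  rw [el_mul, one_mul, zero_add, vecMul_vecMul, ← Matrix.SpecialLinearGroup.coe_mul, inv_mul_cancel,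
    Matrix.SpecialLinearGroup.coe_one, vecMul_one, mulVec_zero, add_zero, dotProduct_zero, add_zero, add_zero]

theorem el_sq (r s : Fin n → F) (c : F) : el r s c 1 * el r s c 1 = el 0 0 (r ⬝ᵥ s) 1 := by
  rw [el_mul, mul_one, Matrix.SpecialLinearGroup.coe_one, vecMul_one, one_mulVec, F_add_self c, zero_add]
  congr 1 <;> exact funext fun i => F_add_self _

theorem el_commutator (r s r' s' : Fin n → F) (c c' : F) :
    el r s c 1 * el r' s' c' 1 = el 0 0 (r ⬝ᵥ s' + r' ⬝ᵥ s) 1 * (el r' s' c' 1 * el r s c 1) := by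
  rw [el_mul, el_mul, el_mul]
  simp only [mul_one, Matrix.SpecialLinearGroup.coe_one, vecMul_one, one_mulVec, zero_vecMul, add_zero, zero_dotProduct,
    zero_add, add_comm r' r, add_comm s' s]
  congr 1
  linear_combination -F_add_self (r' ⬝ᵥ s)

theorem el_central_mem (c : F) : el (0 : Fin n → F) 0 c 1 ∈ zpowers (tz n) := by
  rcases F_cases c with rfl | rfl
  · rw [el_one]; exact one_mem _
  · exact mem_zpowers _

theorem tz_order : orderOf (tz n) = 2 := by
  haveI : Fact (Nat.Prime 2) := ⟨Nat.prime_two⟩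
  refine orderOf_eq_prime ?_ fun e => ?_
  · rw [pow_two, tz, el_sq, dotProduct_zero, el_one]
  · rw [tz, ← el_one] at e
    exact one_ne_zero (el_injective e).2.2.1

theorem tz_mem : tz n ∈ heis n := ⟨_, _, _, rfl⟩

theorem central_zero {r s : Fin n → F} {c : F} (h : ∀ q ∈ heis n, el r s c 1 * q = q * el r s c 1) :
    r = 0 ∧ s = 0 := by
  have hk : ∀ r' s' : Fin n → F, r ⬝ᵥ s' + r' ⬝ᵥ s = 0 := fun r' s' => by
    have h1 := el_commutator r s r' s' c 0
    rw [h _ ⟨r', s', 0, rfl⟩] at h1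
    exact (el_injective ((right_eq_mul.mp h1).trans el_one.symm)).2.2.1
  refine ⟨funext fun i => ?_, funext fun i => ?_⟩
  · simpa using hk 0 (Pi.single i 1)
  · simpa using hk (Pi.single i 1) 0

/-- The extraspecial structure. -/
noncomputable def es (n : ℕ) : ESClass.ES 2 (heis n) where
  z := ⟨tz n, tz_mem⟩
  hz := by rw [orderOf_mk, tz_order]
  cent := by
    rintro ⟨_, r, s, c, rfl⟩
    exact Subtype.ext (el_comm_tz r s c 1).symm
  comm := by
    rintro ⟨_, r, s, c, rfl⟩ ⟨_, r', s', c', rfl⟩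
    obtain ⟨i, hi⟩ := mem_zpowers_iff.mp (el_central_mem (r ⬝ᵥ s' + r' ⬝ᵥ s) : _ ∈ zpowers (tz n))
    refine mem_zpowers_iff.mpr ⟨i, Subtype.ext ?_⟩
    simp only [commutatorElement_def, SubgroupClass.coe_zpow, Subgroup.coe_mul, Subgroup.coe_inv]
    rw [hi, el_commutator r s r' s' c c']
    group
  pw := by
    rintro ⟨_, r, s, c, rfl⟩
    obtain ⟨i, hi⟩ := mem_zpowers_iff.mp (el_central_mem (r ⬝ᵥ s) : _ ∈ zpowers (tz n))
    refine mem_zpowers_iff.mpr ⟨i, Subtype.ext ?_⟩
    simp only [SubgroupClass.coe_zpow, SubgroupClass.coe_pow]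
    rw [hi, pow_two, el_sq]
  nd := by
    rintro ⟨_, r, s, c, rfl⟩ h
    obtain ⟨rfl, rfl⟩ := central_zero fun q hq => congrArg Subtype.val (h ⟨q, hq⟩)
    obtain ⟨i, hi⟩ := mem_zpowers_iff.mp (el_central_mem c : _ ∈ zpowers (tz n))
    exact mem_zpowers_iff.mpr ⟨i, Subtype.ext (by simpa using hi)⟩

theorem heis_extraspecial (hn : 1 ≤ n) : IsExtraspecial 2 (heis n) := by
  haveI : Fact (Nat.Prime 2) := ⟨Nat.prime_two⟩
  let i : Fin n := ⟨0, hn⟩
  refine (es n).isExtraspecial (a := ⟨el (Pi.single i 1) 0 0 1, _, _, _, rfl⟩)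
    (b := ⟨el 0 (Pi.single i 1) 0 1, _, _, _, rfl⟩) fun e => ?_
  have e' : el (Pi.single i (1 : F)) 0 0 1 * el 0 (Pi.single i 1) 0 1 =
      el 0 (Pi.single i 1) 0 1 * el (Pi.single i 1) 0 0 1 := congrArg Subtype.val e
  rw [el_mul, el_mul] at e'
  have := (el_injective e').2.2.1
  simp at this

theorem heis_card : Nat.card (heis n) = 2 ^ (2 * n + 1) := by
  rw [← Nat.card_congr (Equiv.ofBijective
    (fun t : ((Fin n → F) × (Fin n → F)) × F => (⟨el t.1.1 t.1.2 t.2 1, _, _, _, rfl⟩ : heis n)) ⟨?_, ?_⟩)]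
  · simp [Nat.card_eq_fintype_card, pow_succ, two_mul, pow_add]
  · rintro ⟨⟨r, s⟩, c⟩ ⟨⟨r', s'⟩, c'⟩ e
    obtain ⟨h1, h2, h3, -⟩ := el_injective (congrArg Subtype.val e)
    exact Prod.ext (Prod.ext h1 h2) h3
  · rintro ⟨_, r, s, c, rfl⟩
    exact ⟨((r, s), c), rfl⟩

/-- The elementary abelian subgroup of the vanishing first vector. -/
def elem (n : ℕ) : Subgroup (SL (n + 2)) where
  carrier := {g | ∃ s c, g = el 0 s c 1}
  one_mem' := ⟨0, 0, el_one.symm⟩
  mul_mem' := by
    rintro _ _ ⟨s, c, rfl⟩ ⟨s', c', rfl⟩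
    exact ⟨_, _, by rw [el_mul, mul_one, zero_vecMul, add_zero]⟩
  inv_mem' := by
    rintro _ ⟨s, c, rfl⟩
    exact ⟨s, c, inv_eq_of_mul_eq_one_right (by rw [el_sq, zero_dotProduct, el_one])⟩

theorem elem_le : elem n ≤ heis n := by
  rintro _ ⟨s, c, rfl⟩
  exact ⟨_, _, _, rfl⟩

theorem elem_elementary : IsElementaryAbelian 2 (elem n) := by
  refine ⟨⟨⟨?_⟩⟩, ?_⟩
  · rintro ⟨_, s, c, rfl⟩ ⟨_, s', c', rfl⟩
    refine Subtype.ext ?_
    show el 0 s c 1 * el 0 s' c' 1 = el 0 s' c' 1 * el 0 s c 1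
    rw [el_commutator, zero_dotProduct, zero_dotProduct, add_zero, el_one, one_mul]
  · rintro _ ⟨s, c, rfl⟩
    rw [pow_two, el_sq, zero_dotProduct, el_one]

theorem elem_card : Nat.card (elem n) = 2 ^ (n + 1) := by
  rw [← Nat.card_congr (Equiv.ofBijective
    (fun t : (Fin n → F) × F => (⟨el 0 t.1 t.2 1, _, _, rfl⟩ : elem n)) ⟨?_, ?_⟩)]
  · simp [Nat.card_eq_fintype_card, pow_succ]
  · rintro ⟨s, c⟩ ⟨s', c'⟩ e
    obtain ⟨-, h2, h3, -⟩ := el_injective (congrArg Subtype.val e)
    exact Prod.ext h2 h3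
  · rintro ⟨_, s, c, rfl⟩
    exact ⟨(s, c), rfl⟩

theorem conj_heis (r s r' s' : Fin n → F) (c c' : F) (A : SL n) :
    ∃ r'' s'' c'', el r s c A * el r' s' c' 1 = el r'' s'' c'' 1 * el r s c A := by
  refine ⟨r' ᵥ* ((A⁻¹ : SL n) : Matrix (Fin n) (Fin n) F), (A : Matrix (Fin n) (Fin n) F) *ᵥ s',
    c' + r ⬝ᵥ s' + (r' ᵥ* ((A⁻¹ : SL n) : Matrix (Fin n) (Fin n) F)) ⬝ᵥ s, ?_⟩
  rw [el_mul, el_mul, mul_one, one_mul, vecMul_vecMul, ← Matrix.SpecialLinearGroup.coe_mul, inv_mul_cancel,
    Matrix.SpecialLinearGroup.coe_one, vecMul_one, vecMul_one, one_mulVec]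
  congr 1
  · exact add_comm _ _
  · exact add_comm _ _
  · linear_combination -F_add_self ((r' ᵥ* ((A⁻¹ : SL n) : Matrix (Fin n) (Fin n) F)) ⬝ᵥ s)

theorem cent_le_normalizer : centralizer ({tz n} : Set (SL (n + 2))) ≤ normalizer (heis n : Set (SL (n + 2))) := by
  have key : ∀ g : SL (n + 2), g * tz n = tz n * g → ∀ q ∈ heis n, g * q * g⁻¹ ∈ heis n := by
    intro g hg q hq
    obtain ⟨r, s, c, A, rfl⟩ := exists_el hg
    obtain ⟨r', s', c', rfl⟩ := hq
    obtain ⟨r'', s'', c'', e⟩ := conj_heis r s r' s' c c' A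
    exact ⟨r'', s'', c'', mul_inv_eq_iff_eq_mul.mpr e⟩
  intro g hg
  have hg' : Commute g (tz n) := mem_centralizer_singleton_iff.mp hg
  refine mem_normalizer_iff.mpr fun q => ⟨key g hg'.eq q, fun h => ?_⟩
  simpa [mul_assoc] using key g⁻¹ hg'.inv_left.eq _ h

theorem heis_le_cent : heis n ≤ centralizer ({tz n} : Set (SL (n + 2))) := by
  rintro _ ⟨r, s, c, rfl⟩
  exact mem_centralizer_singleton_iff.mpr (el_comm_tz r s c 1)

theorem heis_cent : centralizer (heis n : Set (SL (n + 2))) = zpowers (tz n) := by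
  refine le_antisymm (fun g hg => ?_) (zpowers_le.mpr (mem_centralizer_iff.mpr fun q hq =>
    mem_centralizer_singleton_iff.mp (heis_le_cent hq)))
  obtain ⟨r, s, c, A, rfl⟩ := exists_el (mem_centralizer_iff.mp hg _ tz_mem).symm
  have hA : A = 1 := by
    refine Subtype.ext (Matrix.ext fun i j => ?_)
    have e := mem_centralizer_iff.mp hg _ (show el (Pi.single i (1 : F)) 0 0 1 ∈ heis n from ⟨_, _, _, rfl⟩)
    rw [el_mul, el_mul, Matrix.SpecialLinearGroup.coe_one, vecMul_one] at e
    have e1 := congrFun (el_injective e).1 j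
    simp only [Pi.add_apply, Matrix.single_one_vecMul] at e1
    have e2 : (A : Matrix (Fin n) (Fin n) F) i j = (Pi.single i 1 : Fin n → F) j := by
      have e3 : r j + (A : Matrix (Fin n) (Fin n) F) i j = (Pi.single i 1 : Fin n → F) j + r j := e1
      linear_combination e3
    rw [e2, Matrix.SpecialLinearGroup.coe_one, Matrix.one_apply, Pi.single_apply]
    simp only [eq_comm]
  subst hA
  obtain ⟨rfl, rfl⟩ := central_zero fun q hq => (mem_centralizer_iff.mp hg q hq).symm
  exact el_central_mem c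

theorem center_map : (center (heis n)).map (heis n).subtype = zpowers (tz n) := by
  rw [(es n).center_eq, MonoidHom.map_zpowers]
  rfl

/-- The middle block. -/
theorem block_trivial (N : Subgroup (SL n)) [hN : N.Normal] (h2 : IsPGroup 2 N) : N = ⊥ := by
  haveI : Fact (Nat.Prime 2) := ⟨Nat.prime_two⟩
  rcases Nat.lt_or_ge n 2 with hn | hn
  · haveI : Subsingleton (Fin n) := ⟨fun a b => Fin.ext (by omega)⟩
    haveI : Subsingleton (SL n) := ⟨fun a b => Subtype.ext (Matrix.ext fun i j => by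
      rw [Subsingleton.elim j i]
      have ha := Matrix.det_eq_elem_of_subsingleton (a : Matrix (Fin n) (Fin n) F) i
      have hb := Matrix.det_eq_elem_of_subsingleton (b : Matrix (Fin n) (Fin n) F) i
      rw [← ha, ← hb, a.2, b.2])⟩
    exact Subgroup.eq_bot_of_subsingleton N
  letI : MulAction N (Fin n → F) :=
    { smul := fun g v => ((g : SL n) : Matrix (Fin n) (Fin n) F) *ᵥ v
      one_smul := fun v => one_mulVec v
      mul_smul := fun g h v => by
        show ((g * h : SL n) : Matrix (Fin n) (Fin n) F) *ᵥ v = _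
        rw [Matrix.SpecialLinearGroup.coe_mul, ← mulVec_mulVec]
        rfl }
  have hdvd : 2 ∣ Nat.card (Fin n → F) := by
    rw [Nat.card_eq_fintype_card, Fintype.card_fun]
    simp [show n ≠ 0 by omega]
  obtain ⟨v, hv, hv0⟩ := h2.exists_fixed_point_of_prime_dvd_card_of_fixed_point (Fin n → F) hdvd
    (a := 0) (fun g => mulVec_zero _)
  let W : Set (Fin n → F) := {w | ∀ g ∈ N, (g : Matrix (Fin n) (Fin n) F) *ᵥ w = w}
  have hW : ∀ (k : SL n) (w : Fin n → F), w ∈ W → (k : Matrix (Fin n) (Fin n) F) *ᵥ w ∈ W := by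
    intro k w hw g hg
    have e := hw _ (hN.conj_mem g hg k⁻¹)
    rw [inv_inv] at e
    calc (g : Matrix (Fin n) (Fin n) F) *ᵥ ((k : Matrix (Fin n) (Fin n) F) *ᵥ w)
        = ((g * k : SL n) : Matrix (Fin n) (Fin n) F) *ᵥ w := by rw [mulVec_mulVec, Matrix.SpecialLinearGroup.coe_mul]
      _ = ((k * (k⁻¹ * g * k) : SL n) : Matrix (Fin n) (Fin n) F) *ᵥ w := by
        rw [show k * (k⁻¹ * g * k) = g * k by group]
      _ = _ := by rw [Matrix.SpecialLinearGroup.coe_mul, ← mulVec_mulVec, e]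
  have hvW : v ∈ W := fun g hg => hv ⟨g, hg⟩
  have hWadd : ∀ a b, a ∈ W → b ∈ W → a + b ∈ W := fun a b ha hb g hg => by
    rw [mulVec_add, ha g hg, hb g hg]
  have htv : ∀ (i j : Fin n), i ≠ j → ∀ w ∈ W, w + Pi.single i (w j) ∈ W := fun i j hij w hw => by
    convert hW ⟨Matrix.transvection i j (1 : F), Matrix.det_transvection_of_ne i j hij 1⟩ w hw using 1
    simp [Matrix.transvection, add_mulVec, Matrix.single_mulVec, Pi.single]
  have hsingle : ∀ (i j : Fin n), i ≠ j → ∀ w ∈ W, w j = 1 → Pi.single i (1 : F) ∈ W := fun i j hij w hw hj => by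
    have h1 := hWadd _ _ hw (htv i j hij w hw)
    rw [hj, ← add_assoc, show w + w = 0 from funext fun k => F_add_self _, zero_add] at h1
    exact h1
  obtain ⟨j, hj⟩ : ∃ j, v j = 1 := by
    by_contra hn'
    push Not at hn'
    exact hv0 (funext fun i => ((F_cases (v i)).resolve_right (hn' i)).symm)
  obtain ⟨i, hij⟩ : ∃ i : Fin n, i ≠ j := by
    haveI : Nontrivial (Fin n) := Fin.nontrivial_iff_two_le.mpr hn
    exact exists_ne j
  have hall : ∀ k, Pi.single k (1 : F) ∈ W := fun k => by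
    by_cases hk : k = j
    · subst hk
      exact hsingle k i hij.symm _ (hsingle i k hij v hvW hj) (Pi.single_eq_same i 1)
    · exact hsingle k j hk v hvW hj
  refine (eq_bot_iff_forall _).mpr fun g hg => Subtype.ext (Matrix.ext fun a b => ?_)
  have e := congrFun (hall b g hg) a
  simp [Matrix.mulVec_single] at e
  rw [Matrix.SpecialLinearGroup.coe_one, Matrix.one_apply, e, Pi.single_apply]

theorem pCore_cent :
    (pCore 2 ↥(centralizer ({tz n} : Set (SL (n + 2))))).map (centralizer ({tz n} : Set (SL (n + 2)))).subtype = heis n := by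
  haveI : Fact (Nat.Prime 2) := ⟨Nat.prime_two⟩
  set C := centralizer ({tz n} : Set (SL (n + 2)))
  have h2 : IsPGroup 2 (heis n) := (es n).isPGroup
  haveI hn' : ((heis n).subgroupOf C).Normal :=
    ⟨fun q hq g => (mem_normalizer_iff.mp (cent_le_normalizer g.2) q).mp hq⟩
  refine le_antisymm ?_ fun q hq => ⟨⟨q, heis_le_cent hq⟩,
    le_pCore (N := (heis n).subgroupOf C) (h2.comap_of_injective C.subtype Subtype.coe_injective) hq, rfl⟩
  haveI := pCore_characteristic 2 ↥C
  have hP : IsPGroup 2 (pCore 2 ↥C) := by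
    obtain ⟨P⟩ := (inferInstance : Nonempty (Sylow 2 ↥C))
    exact P.isPGroup'.to_le (pCore_le_sylow P)
  let N : Subgroup (SL n) := (pCore 2 ↥C).comap ((sec n).codRestrict C fun A => mem_centralizer_singleton_iff.mpr (el_comm_tz 0 0 0 A))
  have hN2 : IsPGroup 2 N := hP.comap_of_injective _ fun A B e => (el_injective (congrArg Subtype.val e)).2.2.2
  have hN : N = ⊥ := block_trivial N hN2
  rintro _ ⟨⟨g, hg⟩, hgm, rfl⟩
  obtain ⟨r, s, c, A, rfl⟩ := exists_el (mem_centralizer_singleton_iff.mp hg)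
  have hA : A ∈ N := by
    show (⟨el 0 0 0 A, _⟩ : C) ∈ pCore 2 ↥C
    have hq : el (r ᵥ* ((A⁻¹ : SL n) : Matrix (Fin n) (Fin n) F)) s c 1 ∈ heis n := ⟨_, _, _, rfl⟩
    have := (pCore 2 ↥C).mul_mem ((pCore 2 ↥C).inv_mem (le_pCore (N := (heis n).subgroupOf C)
      (h2.comap_of_injective C.subtype Subtype.coe_injective) (show (⟨_, heis_le_cent hq⟩ : C) ∈ (heis n).subgroupOf C from hq))) hgm
    convert this using 1
    refine Subtype.ext ?_
    show el 0 0 0 A = (el (r ᵥ* ((A⁻¹ : SL n) : Matrix (Fin n) (Fin n) F)) s c 1)⁻¹ * el r s c A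
    rw [el_decomp r s c A, inv_mul_cancel_left]
  rw [hN, mem_bot] at hA
  subst hA
  exact ⟨r, s, c, rfl⟩

/-- The permutation matrix exchanging the indices `1` and `2`. -/
theorem exists_swap (hn : 1 ≤ n) : ∃ w : SL (n + 2), w * w = 1 ∧
    w * tz n * w = el (Pi.single ⟨0, hn⟩ 1) 0 0 1 := by
  set k : Fin (n + 2) := (⟨0, hn⟩ : Fin n).succ.succ
  have hsq : Equiv.Perm.permMatrix F (Equiv.swap (1 : Fin (n + 2)) k) * Equiv.Perm.permMatrix F (Equiv.swap (1 : Fin (n + 2)) k) = 1 := by
    rw [← Matrix.permMatrix_mul, Equiv.swap_mul_self, Matrix.permMatrix_one]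
  refine ⟨⟨_, det_eq_one_of _ _ hsq⟩, Subtype.ext hsq, Subtype.ext ?_⟩
  show Equiv.Perm.permMatrix F (Equiv.swap 1 k) * ((tz n : SL (n + 2)) : Matrix (Fin (n + 2)) (Fin (n + 2)) F) * Equiv.Perm.permMatrix F (Equiv.swap 1 k) = blockMat _ 0 0 1
  rw [tz_coe, Equiv.Perm.permMatrix, PEquiv.toMatrix_toPEquiv_mul, PEquiv.mul_toMatrix_toPEquiv]
  have hb : blockMat (Pi.single (⟨0, hn⟩ : Fin n) (1 : F)) 0 0 1 = Matrix.transvection 0 k 1 := by
    ext i j
    revert i j
    refine fin_two_cases ?_ ?_ fun i => ?_ <;> refine fin_two_cases ?_ ?_ fun j => ?_ <;>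
      simp [k, Matrix.transvection, Matrix.one_apply, Matrix.single_apply, blockMat_00, blockMat_01, blockMat_0j,
        blockMat_10, blockMat_11, blockMat_1j, blockMat_i0, blockMat_i1, blockMat_ij, Fin.ext_iff, Pi.single_apply,
        eq_comm]
  rw [hb, Equiv.symm_swap]
  ext i j
  have h0 : (Equiv.swap 1 k) 0 = 0 := Equiv.swap_apply_of_ne_of_ne (by simp [Fin.ext_iff]) (Fin.succ_ne_zero _).symm
  have e0 : 0 = (Equiv.swap 1 k) i ↔ 0 = i := by rw [← h0, (Equiv.swap 1 k).injective.eq_iff, h0]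
  have e1 : 1 = (Equiv.swap 1 k) j ↔ k = j := by
    constructor
    · intro h
      exact (Equiv.swap 1 k).injective (by rw [Equiv.swap_apply_right]; exact h)
    · rintro rfl
      rw [Equiv.swap_apply_right]
  simp only [Matrix.submatrix_apply, Matrix.transvection, Matrix.add_apply, Matrix.one_apply, Matrix.single_apply,
    id_eq, (Equiv.swap 1 k).injective.eq_iff, e0, e1]

theorem heis_large (hn : 1 ≤ n) : IsLargeExtraspecial (heis n) := by
  haveI : Fact (Nat.Prime 2) := ⟨Nat.prime_two⟩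
  have hL1 := heis_extraspecial hn
  have hL3 : centralizer (((center (heis n)).map (heis n).subtype) : Set (SL (n + 2))) ≤ normalizer (heis n : Set (SL (n + 2))) := by
    rw [center_map, LargeBasics.centralizer_zpowers]; exact cent_le_normalizer
  obtain ⟨w, hww, hw⟩ := exists_swap hn
  set b := el (Pi.single (⟨0, hn⟩ : Fin n) (1 : F)) 0 0 1
  have hwi : w⁻¹ = w := inv_eq_of_mul_eq_one_right hww
  refine LargeBasics.large_of_involution (heis n) hL1 (by rw [center_map]; exact heis_cent) hL3 b ⟨_, _, _, rfl⟩ ?_ ?_ ?_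
  · rw [center_map]
    intro hb
    have hb' : b ∈ centralizer (heis n : Set (SL (n + 2))) := heis_cent.ge hb
    obtain ⟨e, -⟩ := central_zero fun q hq => (mem_centralizer_iff.mp hb' q hq).symm
    simpa using congrFun e ⟨0, hn⟩
  · refine orderOf_eq_prime (by rw [pow_two, el_sq, dotProduct_zero, el_one]) fun e => ?_
    simpa using congrFun (el_injective (e.trans el_one.symm)).1 ⟨0, hn⟩
  · rw [center_map, zpowers_le]
    have hb : ∀ g, g * b = b * g → (w * g * w) * tz n = tz n * (w * g * w) := fun g hg => by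
      have e : tz n = w * b * w := by
        rw [← hw, ← mul_assoc, ← mul_assoc, hww, one_mul, mul_assoc, hww, mul_one]
      rw [e]
      calc w * g * w * (w * b * w) = w * g * (w * w) * b * w := by group
        _ = w * (g * b) * w := by rw [hww]; group
        _ = w * b * (w * w) * g * w := by rw [hg, hww]; group
        _ = w * b * w * (w * g * w) := by group
    set C := centralizer ({b} : Set (SL (n + 2)))
    set R := (heis n).comap (MulAut.conj w).toMonoidHom
    have hRle : ∀ x ∈ R, x * b = b * x := fun x hx => by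
      have hx' : w * x * w⁻¹ ∈ heis n := hx
      have hc := mem_centralizer_singleton_iff.mp (heis_le_cent hx')
      rw [hwi] at hc
      have e2 := congrArg (fun u => w * u * w) hc
      rw [show w * (w * x * w * tz n) * w = (w * w) * x * (w * tz n * w) by group,
        show w * (tz n * (w * x * w)) * w = (w * tz n * w) * x * (w * w) by group, hww, hw, one_mul, mul_one] at e2
      exact e2
    haveI : (R.subgroupOf C).Normal := ⟨fun x hx g => by
      show w * ((g : SL (n + 2)) * x * (g : SL (n + 2))⁻¹) * w⁻¹ ∈ heis n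
      have h1 : w * g * w ∈ centralizer ({tz n} : Set (SL (n + 2))) :=
        mem_centralizer_singleton_iff.mpr (hb g (mem_centralizer_singleton_iff.mp g.2))
      have hx' : w * (x : SL (n + 2)) * w⁻¹ ∈ heis n := hx
      have := (mem_normalizer_iff.mp (cent_le_normalizer h1) _).mp hx'
      rw [hwi] at this ⊢
      convert this using 1
      rw [_root_.mul_inv_rev, _root_.mul_inv_rev, hwi]
      calc w * ((g : SL (n + 2)) * x * (g : SL (n + 2))⁻¹) * w
          = w * g * (w * w) * x * (w * w) * (g : SL (n + 2))⁻¹ * w := by rw [hww]; group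
        _ = _ := by group⟩
    have hR2 : IsPGroup 2 (R.subgroupOf C) :=
      ((es n).isPGroup.comap_of_injective _ (MulAut.conj w).injective).comap_of_injective C.subtype Subtype.coe_injective
    have hz : tz n ∈ R := by
      show w * tz n * w⁻¹ ∈ heis n
      rw [hwi, hw]
      exact ⟨_, _, _, rfl⟩
    exact ⟨⟨tz n, mem_centralizer_singleton_iff.mpr (hRle _ hz)⟩, le_pCore (N := R.subgroupOf C) hR2 hz, rfl⟩

theorem exists_complement : ∃ K : Subgroup (SL (n + 2)), K ≤ centralizer ({tz n} : Set (SL (n + 2))) ∧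
    heis n ⊓ K = ⊥ ∧ heis n ⊔ K = centralizer ({tz n} : Set (SL (n + 2))) ∧ Nonempty (K ≃* SL n) := by
  have hK : (sec n).range ≤ centralizer ({tz n} : Set (SL (n + 2))) := by
    rintro _ ⟨A, rfl⟩
    exact mem_centralizer_singleton_iff.mpr (el_comm_tz 0 0 0 A)
  refine ⟨(sec n).range, hK, ?_, le_antisymm (sup_le heis_le_cent hK) fun g hg => ?_,
    ⟨((sec n).ofInjective fun A B e => (el_injective e).2.2.2).symm⟩⟩
  · rw [eq_bot_iff]
    rintro _ ⟨⟨r, s, c, e⟩, A, rfl⟩
    obtain ⟨rfl, rfl, rfl, rfl⟩ := el_injective (show el 0 0 0 A = el r s c 1 from e)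
    exact mem_bot.mpr el_one
  · obtain ⟨r, s, c, A, rfl⟩ := exists_el (mem_centralizer_singleton_iff.mp hg)
    rw [el_decomp]
    exact mul_mem (mem_sup_left ⟨_, _, _, rfl⟩) (mem_sup_right ⟨A, rfl⟩)

end Cfsg.Agent.Solv.TransvectionLarge
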