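import Cfsg.Agent.Lib.Solv.SchurZassenhaus
import Mathlib.GroupTheory.SchurZassenhaus

/-!
Hall's theorems for finite solvable groups.
-/

set_option autoImplicit false
set_option linter.style.haveILetI false

namespace Cfsg.Agent.Solv

open Subgroup
open scoped Pointwise

universe u

theorem hall_aux : ∀ (c : ℕ) (G : Type u) [Group G] [Finite G] [Group.IsSolvable G],
    Nat.card G = c → ∀ m n : ℕ, Nat.card G = m * n → m.Coprime n →
      (∃ H : Subgroup G, Nat.card H = m) ∧
      (∀ K H : Subgroup G, (Nat.card K).Coprime n → Nat.card H = m →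
        ∃ g : G, MulAut.conj g • K ≤ H) := by
  intro c
  induction c using Nat.strong_induction_on with
  | _ c ih =>
    intro G _ _ _ hc m n hG hmn
    rcases subsingleton_or_nontrivial G with hs | hs
    · have h1 : Nat.card G = 1 := Nat.card_eq_one_iff_unique.mpr ⟨hs, inferInstance⟩
      rw [h1, eq_comm, mul_eq_one] at hG
      refine ⟨⟨⊥, by rw [card_bot, hG.1]⟩, fun K H _ _ => ⟨1, ?_⟩⟩
      intro x _
      rw [Subsingleton.elim x 1]
      exact H.one_mem
    obtain ⟨M, hMn, -, hM0, hMmin⟩ := exists_minimal_normal_le (N := (⊤ : Subgroup G)) top_ne_bot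
    haveI := hMn
    obtain ⟨-, p, hp, hexp⟩ := minimal_normal_elementary M hM0 hMmin
    haveI : Fact p.Prime := ⟨hp⟩
    obtain ⟨a, ha⟩ := IsPGroup.iff_card.mp
      (fun x => ⟨1, by rw [pow_one]; exact Subtype.ext (hexp _ x.2)⟩ : IsPGroup p M)
    have hMG : Nat.card M * Nat.card (G ⧸ M) = Nat.card G := by
      rw [← index_eq_card, card_mul_index]
    have hlt : Nat.card (G ⧸ M) < c := by
      rw [← hc, ← hMG]
      exact lt_mul_of_one_lt_left Nat.card_pos ((one_lt_card_iff_ne_bot M).mpr hM0)
    set f := QuotientGroup.mk' M with hf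
    have hdiv : Nat.card M ∣ m ∨ Nat.card M ∣ n := by
      have h1 : p ^ a ∣ m * n := by rw [← ha, ← hG, ← hMG]; exact Dvd.intro _ rfl
      rw [ha]
      exact (Nat.Coprime.isPrimePow_dvd_mul hmn (n := p ^ a) (by
          refine hp.isPrimePow.pow ?_
          rintro rfl
          rw [pow_zero] at ha
          exact ((one_lt_card_iff_ne_bot M).mpr hM0).ne' ha)).mp h1
    rcases hdiv with ⟨m', hm'⟩ | ⟨n', hn'⟩
    · have hq : Nat.card (G ⧸ M) = m' * n := by
        refine Nat.eq_of_mul_eq_mul_left (Nat.card_pos (α := M)) ?_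
        rw [hMG, hG, hm', mul_assoc]
      obtain ⟨⟨Hb, hHb⟩, hcont⟩ := ih _ hlt (G ⧸ M) rfl m' n hq
        (hmn.coprime_dvd_left (Dvd.intro_left _ hm'.symm))
      refine ⟨⟨Hb.comap f, by rw [hf, card_comap_mk', hHb, hm']⟩, fun K H hK hH => ?_⟩
      have hMH : M ≤ H := by
        have h1 := card_sup_dvd_of_normal M H
        have h2 := card_subgroup_dvd_card (M ⊔ H)
        rw [hG] at h2
        have h3 : (Nat.card ↥(M ⊔ H)).Coprime n :=
          Nat.Coprime.coprime_dvd_left h1 (Nat.Coprime.mul_left
            (hmn.coprime_dvd_left (Dvd.intro _ hm'.symm)) (by rwa [hH]))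
        exact le_sup_left.trans (eq_of_le_of_card_ge (le_sup_right : H ≤ M ⊔ H)
          (hH ▸ Nat.le_of_dvd (Nat.pos_of_ne_zero (by intro h0; rw [h0, zero_mul] at hG; exact Nat.card_pos.ne' hG))
            (h3.dvd_of_dvd_mul_right h2))).ge
      have hHq : Nat.card ↥(H.map f) = m' := by
        refine Nat.eq_of_mul_eq_mul_left (Nat.card_pos (α := M)) ?_
        rw [hf, card_map_mk'_mul M H hMH, hH, hm']
      obtain ⟨gb, hgb⟩ := hcont (K.map f) (H.map f) (hK.coprime_dvd_left (card_map_dvd _ f)) hHq
      obtain ⟨g, rfl⟩ := QuotientGroup.mk'_surjective M gb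
      refine ⟨g, fun x hx => ?_⟩
      rw [← map_conj_smul, map_le_iff_le_comap, comap_map_eq_self (by rwa [QuotientGroup.ker_mk'])]
        at hgb
      exact hgb hx
    · have hcopM : (Nat.card M).Coprime m := (hmn.coprime_dvd_right (Dvd.intro _ hn'.symm)).symm
      have hq : Nat.card (G ⧸ M) = m * n' := by
        refine Nat.eq_of_mul_eq_mul_left (Nat.card_pos (α := M)) ?_
        rw [hMG, hG, hn']; ring
      obtain ⟨⟨Hb, hHb⟩, hcont⟩ := ih _ hlt (G ⧸ M) rfl m n' hq
        (hmn.coprime_dvd_right (Dvd.intro_left _ hn'.symm))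
      refine ⟨?_, fun K H hK hH => ?_⟩
      · have hML : M ≤ Hb.comap f := fun x hx => by
          rw [mem_comap, hf, QuotientGroup.mk'_apply, (QuotientGroup.eq_one_iff x).mpr hx]
          exact Hb.one_mem
        have hcL : Nat.card ↥(Hb.comap f) = Nat.card M * m := by rw [hf, card_comap_mk', hHb]
        have hidx : (M.subgroupOf (Hb.comap f)).index = m := by
          have e := (M.subgroupOf (Hb.comap f)).card_mul_index
          rw [card_subgroupOf hML, hcL] at e
          exact Nat.eq_of_mul_eq_mul_left Nat.card_pos e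
        obtain ⟨H, hH⟩ := exists_right_complement'_of_coprime (N := M.subgroupOf (Hb.comap f))
          (by rw [hidx, card_subgroupOf hML]; exact hcopM)
        exact ⟨H.map (Hb.comap f).subtype,
          by rw [card_map_subtype, ← hH.symm.index_eq_card, hidx]⟩
      · have hHq : Nat.card ↥(H.map f) = m := by
          rw [card_map_of_inf_ker, hH]
          rw [hf, QuotientGroup.ker_mk']
          exact inf_eq_bot_of_coprime_card H M (by rw [hH]; exact hcopM.symm)
        obtain ⟨gb, hgb⟩ := hcont (K.map f) (H.map f)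
          ((hK.coprime_dvd_left (card_map_dvd _ f)).coprime_dvd_right
            (Dvd.intro_left _ hn'.symm)) hHq
        obtain ⟨g, rfl⟩ := QuotientGroup.mk'_surjective M gb
        rw [← map_conj_smul, map_le_iff_le_comap, comap_map_eq, QuotientGroup.ker_mk'] at hgb
        set K' := MulAut.conj g • K with hK'
        have hK'c : (Nat.card K').Coprime n := by rwa [hK', card_conj_smul]
        have hMK : (Nat.card M).Coprime (Nat.card K') :=
          (hK'c.coprime_dvd_right (Dvd.intro _ hn'.symm)).symm
        set X := H ⊓ (M ⊔ K') with hX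
        have hsup : M ⊔ X = M ⊔ K' := by
          refine le_antisymm (sup_le le_sup_left inf_le_right) fun x hx => ?_
          have hx2 : x ∈ M ⊔ H := sup_le le_sup_left (hgb.trans (sup_comm H M).le) hx
          obtain ⟨u, hu, h, hh, rfl⟩ := mem_sup_of_normal_left.mp hx2
          refine mul_mem_sup hu ⟨hh, ?_⟩
          simpa using mul_mem (inv_mem (mem_sup_left hu : u ∈ M ⊔ K')) hx
        have hMX : (Nat.card M).Coprime (Nat.card X) :=
          hcopM.coprime_dvd_right (hH ▸ card_dvd_of_le inf_le_left)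
        have hXc : Nat.card X = Nat.card K' := by
          have e1 := card_sup_of_coprime (N := M) (H := X) le_normalizer_of_normal hMX
          rw [hsup, card_sup_of_coprime le_normalizer_of_normal hMK] at e1
          exact (Nat.eq_of_mul_eq_mul_left Nat.card_pos e1).symm
        obtain ⟨u, -, hu⟩ := conj_of_card_eq M X K' (Or.inl inferInstance) le_normalizer_of_normal
          (hsup.symm ▸ le_sup_right) hXc.symm hMX
        refine ⟨u⁻¹ * g, ?_⟩
        rw [← conj_smul_conj_smul, ← hK', ← hu, conj_smul_conj_smul, inv_mul_cancel, map_one,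
          one_smul]
        exact inf_le_left

variable {G : Type u} [Group G] [Finite G]

theorem hall_exists [Group.IsSolvable G] {m n : ℕ} (hG : Nat.card G = m * n) (hmn : m.Coprime n) :
    ∃ H : Subgroup G, Nat.card H = m :=
  (hall_aux _ G rfl m n hG hmn).1

theorem hall_conj_le [Group.IsSolvable G] {m n : ℕ} (hG : Nat.card G = m * n) (hmn : m.Coprime n)
    (K H : Subgroup G) (hK : (Nat.card K).Coprime n) (hH : Nat.card H = m) :
    ∃ g : G, MulAut.conj g • K ≤ H :=
  (hall_aux _ G rfl m n hG hmn).2 K H hK hH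

theorem hall_conj [Group.IsSolvable G] {m n : ℕ} (hG : Nat.card G = m * n) (hmn : m.Coprime n)
    (H K : Subgroup G) (hH : Nat.card H = m) (hK : Nat.card K = m) :
    ∃ g : G, MulAut.conj g • H = K := by
  obtain ⟨g, hg⟩ := hall_conj_le hG hmn H K (by rwa [hH]) hK
  exact ⟨g, eq_of_le_of_card_ge hg (by rw [card_conj_smul, hH, hK])⟩

theorem hall_contained [Group.IsSolvable G] {m n : ℕ} (hG : Nat.card G = m * n) (hmn : m.Coprime n)
    (K : Subgroup G) (hK : (Nat.card K).Coprime n) :
    ∃ H : Subgroup G, Nat.card H = m ∧ K ≤ H := by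
  obtain ⟨H, hH⟩ := hall_exists hG hmn
  obtain ⟨g, hg⟩ := hall_conj_le hG hmn K H hK hH
  refine ⟨MulAut.conj g⁻¹ • H, by rw [card_conj_smul, hH], fun x hx => ?_⟩
  rw [mem_conj_smul, inv_inv]
  exact hg (mem_conj_smul.mpr (by simpa [mul_assoc] using hx))

/-- Hall subgroups of a solvable normal subgroup: generalised Frattini argument. -/
theorem sup_normalizer_hall_eq_top (L : Subgroup G) [L.Normal] (hL : Group.IsSolvable L)
    (H : Subgroup G) (hHL : H ≤ L) (hHall : (Nat.card H).Coprime (H.relIndex L)) :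
    L ⊔ normalizer (H : Set G) = ⊤ := by
  haveI := hL
  rw [eq_top_iff]
  intro g _
  have hle : MulAut.conj g • H ≤ L := fun x hx => by
    rw [mem_conj_smul] at hx
    have := Subgroup.Normal.conj_mem inferInstance _ (hHL hx) g
    simpa [mul_assoc] using this
  obtain ⟨l, hl⟩ := hall_conj (G := L)
    ((H.subgroupOf L).card_mul_index.symm.trans (by rw [card_subgroupOf hHL]; rfl)) hHall
    ((MulAut.conj g • H).subgroupOf L) (H.subgroupOf L)
    (by rw [card_subgroupOf hle, card_conj_smul]) (card_subgroupOf hHL)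
  have h1 := congrArg (Subgroup.map L.subtype) hl
  rw [map_conj_smul, map_subgroupOf_eq_of_le hle, map_subgroupOf_eq_of_le hHL, coe_subtype,
    conj_smul_conj_smul] at h1
  have h2 : (l : G) * g ∈ normalizer (H : Set G) := by
    rw [mem_normalizer_iff]
    intro x
    conv_rhs => rw [← h1, mem_conj_smul]
    simp [mul_assoc]
  simpa using mul_mem (inv_mem (mem_sup_left l.2 : (l : G) ∈ L ⊔ normalizer (H : Set G)))
    (mem_sup_right h2)

end Cfsg.Agent.Solv
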