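import Mathlib
import Cfsg.Agent.Lib.Perm.Kazarin
import Cfsg.Agent.Lib.Solv.Hall

/-!
Groups in which a Sylow 2-subgroup has an abelian complement.
-/

set_option autoImplicit false

universe u

namespace Cfsg.Agent.Solv.AbelianComplement

open Subgroup

variable {H : Type u} [Group H] [Finite H]

theorem sup_solvable (N M : Subgroup H) [N.Normal] (hN : Group.IsSolvable ↥N) (hM : Group.IsSolvable ↥M) :
    Group.IsSolvable ↥(N ⊔ M) := by
  haveI := hN
  haveI := hM
  have hmap : (N ⊔ M).map (QuotientGroup.mk' N) = M.map (QuotientGroup.mk' N) := by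
    rw [Subgroup.map_sup, (Subgroup.map_eq_bot_iff N).mpr (by rw [QuotientGroup.ker_mk']), bot_sup_eq]
  haveI : Group.IsSolvable ↥((N ⊔ M).map (QuotientGroup.mk' N)) := by
    rw [hmap]
    exact Group.isSolvable_of_surjective ((QuotientGroup.mk' N).subgroupMap_surjective M)
  refine Group.isSolvable_of_ker_le_range (inclusion (le_sup_left : N ≤ N ⊔ M))
    ((QuotientGroup.mk' N).subgroupMap (N ⊔ M)) fun x hx => ?_
  have h1 : (x : H) ∈ N := (QuotientGroup.eq_one_iff (x : H)).mp (congrArg Subtype.val hx)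
  exact ⟨⟨x, h1⟩, Subtype.ext rfl⟩

theorem isSolvable (S : Sylow 2 H) (C : Subgroup H) (hC : IsMulCommutative ↥C)
    (hSC : IsComplement' (S : Subgroup H) C) : Group.IsSolvable H := by
  classical
  haveI : Fintype H := Fintype.ofFinite H
  have hcl : ∀ c ∈ C, Group.IsSolvable ↥(normalClosure ({c} : Set H)) := by
    intro c hc
    have hle : C ≤ centralizer ({c} : Set H) := fun x hx =>
      mem_centralizer_singleton_iff.mpr (congrArg Subtype.val (hC.is_comm.comm ⟨x, hx⟩ ⟨c, hc⟩))
    obtain ⟨k, hk⟩ := S.2.exists_card_eq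
    have h1 : (centralizer ({c} : Set H)).index ∣ 2 ^ k := by
      have := index_dvd_of_le hle
      rw [hSC.index_eq_card] at this
      exact this.trans (dvd_of_eq hk)
    obtain ⟨j, -, hj⟩ := (Nat.dvd_prime_pow Nat.prime_two).mp h1
    exact Perm.Kazarin.solvable_normalClosure Nat.prime_two c hj
  have key : ∀ s : Finset H, (∀ c ∈ s, c ∈ C) →
      ∃ R : Subgroup H, R.Normal ∧ Group.IsSolvable ↥R ∧ ∀ c ∈ s, c ∈ R := by
    intro s
    induction s using Finset.induction with
    | empty => exact fun _ => ⟨⊥, inferInstance, inferInstance, by simp⟩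
    | insert c s _ ih =>
      intro hs
      obtain ⟨R, hR, hRs, hRc⟩ := ih fun x hx => hs x (Finset.mem_insert_of_mem hx)
      refine ⟨normalClosure ({c} : Set H) ⊔ R, sup_normal _ _,
        sup_solvable _ _ (hcl c (hs c (Finset.mem_insert_self c s))) hRs, fun x hx => ?_⟩
      rcases Finset.mem_insert.mp hx with rfl | hx
      · exact mem_sup_left (subset_normalClosure rfl)
      · exact mem_sup_right (hRc x hx)
  obtain ⟨R, hR, hRs, hRC⟩ := key (Finset.univ.filter (· ∈ C)) fun c hc => (Finset.mem_filter.mp hc).2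
  haveI := hRs
  have hq : IsPGroup 2 (H ⧸ R) := by
    intro y
    induction y using QuotientGroup.induction_on with
    | _ h =>
      obtain ⟨⟨s, c⟩, rfl⟩ := hSC.2 h
      obtain ⟨k, hk⟩ := S.2 s
      refine ⟨k, ?_⟩
      have hc : ((c : H) : H ⧸ R) = 1 :=
        (QuotientGroup.eq_one_iff _).mpr (hRC c (Finset.mem_filter.mpr ⟨Finset.mem_univ _, c.2⟩))
      have hk' : (s : H) ^ 2 ^ k = 1 := congrArg Subtype.val hk
      show (((s : H) * (c : H) : H) : H ⧸ R) ^ 2 ^ k = 1
      rw [QuotientGroup.mk_mul, hc, mul_one, ← QuotientGroup.mk_pow, hk']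
      rfl
  haveI : Fact (Nat.Prime 2) := ⟨Nat.prime_two⟩
  haveI := hq.isNilpotent
  exact Group.isSolvable_of_ker_le_range R.subtype (QuotientGroup.mk' R)
    (by rw [QuotientGroup.ker_mk', range_subtype])

theorem complement_of (P : Sylow 2 H) (D : Subgroup H) (hDo : Odd (Nat.card ↥D))
    (hcard : D.index ∣ Nat.card ↥(P : Subgroup H)) : IsComplement' (P : Subgroup H) D := by
  haveI : Fact (Nat.Prime 2) := ⟨Nat.prime_two⟩
  obtain ⟨k, hk⟩ := P.2.exists_card_eq
  have hcop : (Nat.card ↥(P : Subgroup H)).Coprime (Nat.card ↥D) := by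
    rw [hk]; exact (Nat.coprime_two_left.mpr hDo).pow_left k
  refine isComplement'_of_coprime ?_ hcop
  refine le_antisymm ?_ ?_
  · exact Nat.le_of_dvd Nat.card_pos (hcop.mul_dvd_of_dvd_of_dvd (card_subgroup_dvd_card _) (card_subgroup_dvd_card _))
  · rw [← card_mul_index D, mul_comm (Nat.card ↥(P : Subgroup H))]
    exact Nat.mul_le_mul_left _ (Nat.le_of_dvd Nat.card_pos hcard)

theorem odd_card (S : Sylow 2 H) (C : Subgroup H) (hSC : IsComplement' (S : Subgroup H) C) :
    Odd (Nat.card ↥C) := by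
  haveI : Fact (Nat.Prime 2) := ⟨Nat.prime_two⟩
  have h2 := S.not_dvd_index
  rw [hSC.symm.index_eq_card] at h2
  exact Nat.not_even_iff_odd.mp (even_iff_two_dvd.not.mpr h2)

end Cfsg.Agent.Solv.AbelianComplement
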