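import Cfsg.Agent.Lib.Solv.ActionInvariant
import Mathlib.GroupTheory.FiniteAbelian.Basic
import Mathlib.Data.ZMod.Basic

/-!
Coprime actions on abelian `p`-groups: indecomposable actions.
-/

set_option autoImplicit false
set_option linter.style.haveILetI false

namespace Cfsg.Agent.Solv.AbInd

open Subgroup

variable {A : Type*} [CommGroup A] [Finite A] {p : ℕ} [hp : Fact p.Prime] (X : Subgroup (MulAut A))

/-- Invariance. -/
def Inv (B : Subgroup A) : Prop := ∀ x ∈ X, B.map x.toMonoidHom = B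

variable {X}

theorem Inv.mem {B : Subgroup A} (h : Inv X B) {x : MulAut A} (hx : x ∈ X) {b : A} (hb : b ∈ B) :
    x b ∈ B := (h x hx).le ⟨b, hb, rfl⟩

theorem inv_of_mem {B : Subgroup A} (h : ∀ x ∈ X, ∀ b ∈ B, x b ∈ B) : Inv X B := fun x hx =>
  le_antisymm (by rintro _ ⟨b, hb, rfl⟩; exact h x hx b hb) fun b hb =>
    ⟨x.symm b, h _ (X.inv_mem hx) b hb, x.apply_symm_apply b⟩

theorem Inv.inf {B C : Subgroup A} (hB : Inv X B) (hC : Inv X C) : Inv X (B ⊓ C) :=
  inv_of_mem fun _ hx _ hb => ⟨hB.mem hx hb.1, hC.mem hx hb.2⟩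

omit [Finite A] in
theorem ker_pow_inv (n : ℕ) : ∀ x ∈ X, ∀ b ∈ (powMonoidHom n : A →* A).ker, x b ∈ (powMonoidHom n : A →* A).ker := by
  intro x _ b hb
  rw [MonoidHom.mem_ker, powMonoidHom_apply] at hb ⊢
  rw [← map_pow, hb, map_one]

theorem range_pow_inv (n : ℕ) : Inv X (powMonoidHom n : A →* A).range :=
  inv_of_mem fun x _ b ⟨a, ha⟩ => ⟨x a, by rw [powMonoidHom_apply] at ha ⊢; rw [← map_pow, ha]⟩

theorem exists_order_p {B : Subgroup A} (hA : IsPGroup p A) (hB : B ≠ ⊥) : ∃ b ∈ B, b ^ p = 1 ∧ b ≠ 1 := by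
  haveI : Nontrivial B := (nontrivial_iff_ne_bot _).mpr hB
  obtain ⟨k, hk0, hk⟩ := (hA.to_subgroup B).nontrivial_iff_card.mp inferInstance
  obtain ⟨b, hb⟩ := exists_prime_orderOf_dvd_card' (G := B) p (hk ▸ dvd_pow_self p hk0.ne')
  refine ⟨b, b.2, ?_, fun h => ?_⟩
  · rw [← hb, ← SubmonoidClass.coe_pow, pow_orderOf_eq_one]; rfl
  · rw [show b = 1 from Subtype.ext h, orderOf_one] at hb
    exact hp.out.one_lt.ne hb

/-- Irreducibility of `Ω₁` gives uniseriality. -/
theorem uniserial (hA : IsPGroup p A)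
    (h : ∀ B : Subgroup A, Inv X B → (∀ b ∈ B, b ^ p = 1) → B = ⊥ ∨ ∀ a : A, a ∈ B ↔ a ^ p = 1) :
    ∀ (n : ℕ) (B : Subgroup A), Nat.card B ≤ n → Inv X B → ∃ i : ℕ, ∀ a : A, a ∈ B ↔ a ^ p ^ i = 1 := by
  intro n
  induction n with
  | zero => intro B hB; exact absurd hB (not_le.mpr Nat.card_pos)
  | succ n ih =>
    intro B hn hB
    rcases eq_or_ne B ⊥ with rfl | hB0
    · exact ⟨0, fun a => by simp⟩
    have hom : ∀ a : A, a ^ p = 1 → a ∈ B := by
      obtain ⟨b, hb, hbp, hb1⟩ := exists_order_p hA hB0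
      rcases h (B ⊓ (powMonoidHom p : A →* A).ker) (hB.inf (inv_of_mem (ker_pow_inv p)))
        (fun c hc => hc.2) with e | e
      · exact absurd (mem_bot.mp (e.le ⟨hb, hbp⟩)) hb1
      · exact fun a ha => ((e a).mpr ha).1
    have hlt : Nat.card (B.map (powMonoidHom p : A →* A)) < Nat.card B := by
      obtain ⟨b, hb, hbp, hb1⟩ := exists_order_p hA hB0
      refine lt_of_le_of_ne (Nat.card_le_card_of_surjective _ ((powMonoidHom p : A →* A).subgroupMap_surjective B)) fun e => hb1 ?_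
      have hinj := (((Nat.bijective_iff_surjective_and_card _).mpr
        ⟨(powMonoidHom p : A →* A).subgroupMap_surjective B, e.symm⟩).1 :
        Function.Injective ((powMonoidHom p : A →* A).subgroupMap B))
      have := @hinj ⟨b, hb⟩ 1 (Subtype.ext (by simpa using hbp))
      exact congrArg Subtype.val this
    obtain ⟨i, hi⟩ := ih _ (by omega) (inv_of_mem (X := X) (B := B.map (powMonoidHom p : A →* A)) fun x hx c ⟨b, hb, e⟩ =>
      ⟨x b, hB.mem hx hb, by rw [powMonoidHom_apply] at e ⊢; rw [← map_pow, e]⟩)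
    refine ⟨i + 1, fun a => ⟨fun ha => ?_, fun ha => ?_⟩⟩
    · rw [pow_succ', pow_mul]
      exact (hi _).mp ⟨a, ha, rfl⟩
    · obtain ⟨b, hb, e⟩ := (hi (a ^ p)).mpr (by rwa [← pow_mul, ← pow_succ'])
      rw [powMonoidHom_apply] at e
      have := B.mul_mem (hom (a / b) (by rw [div_pow, e, div_self'])) hb
      rwa [div_mul_cancel] at this

/-- A section of a quotient whose socle consists of top powers. -/
theorem exists_lift {e : ℕ} (hA : IsPGroup p A) (hexp : ∀ a : A, a ^ p ^ e = 1) (B : Subgroup A)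
    (hsoc : ∀ x : A ⧸ B, x ^ p = 1 → ∃ y : A ⧸ B, y ^ p ^ (e - 1) = x) :
    ∃ P : A →* A, (∀ b ∈ B, P b = 1) ∧ ∀ a, P a / a ∈ B := by
  classical
  obtain ⟨ι, hι, n, hn, ⟨E⟩⟩ := CommGroup.equiv_prod_multiplicative_zmod_of_finite (A ⧸ B)
  have hQ : IsPGroup p (A ⧸ B) := hA.to_quotient B
  have hexpQ : ∀ x : A ⧸ B, x ^ p ^ e = 1 := fun x => by
    obtain ⟨a, rfl⟩ := QuotientGroup.mk_surjective x
    rw [← QuotientGroup.mk_pow, hexp]; rfl
  have hn' : ∀ i, n i = p ^ e := by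
    intro i
    let u : ∀ _ : ZMod (n i), A ⧸ B := fun z => E.symm (Pi.mulSingle i (Multiplicative.ofAdd z))
    have hu : ∀ (z : ZMod (n i)) (m : ℕ), u z ^ m = u (m • z) := fun z m => by
      simp only [u, ← map_pow, ← Pi.mulSingle_pow, ← ofAdd_nsmul]
    have hu0 : ∀ z : ZMod (n i), u z = 1 ↔ z = 0 := fun z => by simp [u]
    obtain ⟨j, hj⟩ : ∃ j, n i = p ^ j := by
      obtain ⟨k, hk⟩ := hQ (u 1)
      rw [hu, hu0, nsmul_one, ZMod.natCast_eq_zero_iff] at hk
      obtain ⟨j, -, hj⟩ := (Nat.dvd_prime_pow hp.out).mp hk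
      exact ⟨j, hj⟩
    have hje : j ≤ e := by
      have := hexpQ (u 1)
      rw [hu, hu0, nsmul_one, ZMod.natCast_eq_zero_iff, hj] at this
      exact Nat.pow_dvd_pow_iff_le_right hp.out.one_lt |>.mp this
    rcases hje.eq_or_lt with h | hlt
    · rw [hj, h]
    · exfalso
      have hj0 : j ≠ 0 := fun h0 => by have := hn i; rw [hj, h0] at this; simp at this
      have hx : u ((p ^ (j - 1) : ℕ) : ZMod (n i)) ^ p = 1 := by
        rw [hu, hu0, nsmul_eq_mul, ← Nat.cast_mul, ZMod.natCast_eq_zero_iff, hj, mul_comm,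
          ← pow_succ, Nat.sub_one_add_one hj0]
      obtain ⟨y, hy⟩ := hsoc _ hx
      have h2 := congrArg (fun f => f i) (congrArg E hy)
      simp only [u, map_pow, MulEquiv.apply_symm_apply, Pi.pow_apply, Pi.mulSingle_eq_same] at h2
      have h4 := congrArg Multiplicative.toAdd h2
      simp only [toAdd_pow, toAdd_ofAdd, nsmul_eq_mul] at h4
      have h5 : ((p ^ (e - 1) : ℕ) : ZMod (n i)) = 0 := by
        rw [ZMod.natCast_eq_zero_iff, hj]
        exact pow_dvd_pow p (by omega)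
      rw [h5, zero_mul, eq_comm, ZMod.natCast_eq_zero_iff, hj] at h4
      have := (Nat.pow_dvd_pow_iff_le_right hp.out.one_lt).mp h4
      omega
  choose t ht using fun i => QuotientGroup.mk_surjective (E.symm (Pi.mulSingle i (Multiplicative.ofAdd (1 : ZMod (n i)))))
  let φ : ∀ i, Multiplicative (ZMod (n i)) →* A := fun i => AddMonoidHom.toMultiplicativeLeft
    (ZMod.lift (n i) ⟨zmultiplesHom (Additive A) (Additive.ofMul (t i)), by
      rw [zmultiplesHom_apply, natCast_zsmul, ← ofMul_pow, hn' i, hexp, ofMul_one]⟩)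
  let s : (∀ i, Multiplicative (ZMod (n i))) →* A := ∏ i, (φ i).comp (Pi.evalMonoidHom _ i)
  have hs : (QuotientGroup.mk' B).comp s = E.symm.toMonoidHom := by
    refine MonoidHom.functions_ext _ _ _ fun i z => ?_
    obtain ⟨k, hk⟩ := ZMod.intCast_surjective (Multiplicative.toAdd z)
    obtain rfl : z = Multiplicative.ofAdd ((k : ℤ) : ZMod (n i)) := hk ▸ rfl
    have h1 : s (Pi.mulSingle i (Multiplicative.ofAdd ((k : ℤ) : ZMod (n i)))) = t i ^ k := by
      simp only [s, MonoidHom.finsetProd_apply, MonoidHom.comp_apply, Pi.evalMonoidHom_apply]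
      rw [Finset.prod_eq_single i]
      · rw [Pi.mulSingle_eq_same]
        change Additive.toMul (ZMod.lift (n i) _ ((k : ℤ) : ZMod (n i))) = _
        rw [ZMod.lift_coe]
        rfl
      · intro j _ hj
        rw [Pi.mulSingle_eq_of_ne hj, map_one]
      · exact fun h => absurd (Finset.mem_univ _) h
    show QuotientGroup.mk (s _) = E.symm (Pi.mulSingle i (Multiplicative.ofAdd ((k : ℤ) : ZMod (n i))))
    rw [h1, QuotientGroup.mk_zpow, ht, ← map_zpow, ← Pi.mulSingle_zpow, ← ofAdd_zsmul, zsmul_one]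
  refine ⟨s.comp (E.toMonoidHom.comp (QuotientGroup.mk' B)), fun b hb => ?_, fun a => ?_⟩
  · simp [(QuotientGroup.eq_one_iff b).2 hb]
  · rw [← QuotientGroup.eq_one_iff, QuotientGroup.mk_div, div_eq_one]
    have := DFunLike.congr_fun hs (E (QuotientGroup.mk a))
    exact this.trans (E.symm_apply_apply _)

open Classical in
theorem irreducible_of_indecomposable (hA : IsPGroup p A) (hX : (Nat.card X).Coprime p)
    (h : ∀ B C : Subgroup A, B ≠ ⊥ → C ≠ ⊥ → Inv X B → Inv X C → B ⊓ C = ⊥ → B ⊔ C ≠ ⊤) :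
    ∀ W : Subgroup A, Inv X W → (∀ b ∈ W, b ^ p = 1) → W = ⊥ ∨ ∀ a : A, a ∈ W ↔ a ^ p = 1 := by
  intro W hW hWp
  refine or_iff_not_imp_left.mpr fun hW0 => ?_
  haveI := Fintype.ofFinite X
  have hcard : ∃ k, Nat.card A = p ^ k := IsPGroup.iff_card.mp hA
  obtain ⟨k, hk⟩ := hcard
  have hex : ∃ e, ∀ a : A, a ^ p ^ e = 1 := ⟨k, fun a => hk ▸ pow_card_eq_one'⟩
  set e := Nat.find hex with he
  have hexp : ∀ a : A, a ^ p ^ e = 1 := Nat.find_spec hex
  have he0 : e ≠ 0 := fun h0 => hW0 ((eq_bot_iff_forall _).mpr fun a _ => by simpa [h0] using hexp a)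
  set R := (powMonoidHom (p ^ (e - 1)) : A →* A).range
  have hR0 : R ≠ ⊥ := fun h0 => Nat.find_min hex (show e - 1 < e by omega) fun a =>
    mem_bot.mp (h0.le ⟨a, rfl⟩)
  obtain ⟨W1, -, ⟨hW1, hW10, hW1R⟩, hmin⟩ : ∃ W1, W1 ≤ R ∧ (Inv X W1 ∧ W1 ≠ ⊥ ∧ W1 ≤ R) ∧
      ∀ W2, (Inv X W2 ∧ W2 ≠ ⊥ ∧ W2 ≤ R) → W2 ≤ W1 → W1 ≤ W2 := by
    obtain ⟨W1, hle, hm⟩ := Finite.exists_le_minimal (p := fun V : Subgroup A => Inv X V ∧ V ≠ ⊥ ∧ V ≤ R)
      ⟨range_pow_inv _, hR0, le_rfl⟩
    exact ⟨W1, hle, hm.1, fun W2 h2 h3 => hm.2 h2 h3⟩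
  have hW1p : ∀ a ∈ W1, a ^ p = 1 := by
    intro a ha
    obtain ⟨b, rfl⟩ := hW1R ha
    rw [powMonoidHom_apply, ← pow_mul, ← pow_succ, Nat.sub_one_add_one he0, hexp]
  obtain ⟨B, -, hBm⟩ := Finite.exists_le_maximal (p := fun V : Subgroup A => Inv X V ∧ V ⊓ W1 = ⊥)
    (a := ⊥) ⟨inv_of_mem fun x _ b hb => by rw [mem_bot.mp hb, map_one]; exact one_mem _, bot_inf_eq _⟩
  obtain ⟨hB, hBW⟩ := hBm.1
  -- the socle of the quotient
  have hsoc : ∀ a : A, a ^ p ∈ B → ∃ w ∈ W1, a / w ∈ B := by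
    let π := QuotientGroup.mk' B
    let V : Subgroup (A ⧸ B) := (powMonoidHom p : A ⧸ B →* A ⧸ B).ker
    have hVp : ∀ v : V, v ^ p = 1 := fun v => Subtype.ext v.2
    let act : X → (V →* V) := fun x => MonoidHom.mk'
      (fun v => ⟨QuotientGroup.map B B (x : MulAut A).toMonoidHom
        (fun b hb => hB.mem x.2 hb) v.1, by
          show (QuotientGroup.map B B _ _ v.1) ^ p = 1
          rw [← map_pow, show (v.1 : A ⧸ B) ^ p = 1 from v.2, map_one]⟩)
      fun a b => Subtype.ext (map_mul _ _ _)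
    have hact : ∀ (x : X) (v : V) (a : A), (v : A ⧸ B) = QuotientGroup.mk a →
        (act x v : A ⧸ B) = QuotientGroup.mk ((x : MulAut A) a) := by
      intro x v a ha
      show QuotientGroup.map B B _ _ v.1 = _
      rw [ha]; rfl
    have hone : ∀ v : V, act 1 v = v := fun v => by
      obtain ⟨a, ha⟩ := QuotientGroup.mk_surjective (v : A ⧸ B)
      exact Subtype.ext (by rw [hact 1 v a ha.symm]; exact ha)
    have hmul : ∀ (x y : X) (v : V), act (x * y) v = act x (act y v) := fun x y v => by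
      obtain ⟨a, ha⟩ := QuotientGroup.mk_surjective (v : A ⧸ B)
      exact Subtype.ext (by rw [hact _ v a ha.symm, hact x _ _ (hact y v a ha.symm)]; rfl)
    let φ : X →* MulAut V := MonoidHom.mk'
      (fun x => { toFun := act x, invFun := act x⁻¹,
                  left_inv := fun v => by rw [← hmul, inv_mul_cancel, hone],
                  right_inv := fun v => by rw [← hmul, mul_inv_cancel, hone],
                  map_mul' := map_mul _ })
      fun x y => MulEquiv.ext fun v => hmul x y v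
    let M : Subgroup V := (W1.map π).subgroupOf V
    obtain ⟨K, hKi, hKM, hKtop⟩ := exists_invariant_complement (p := p) hVp φ (by
        obtain ⟨j, hj⟩ := IsPGroup.iff_card.mp ((hA.to_quotient B).to_subgroup V)
        rw [hj]; exact hX.pow_right j) M (by
      intro x v hv
      obtain ⟨w, hw, hwe⟩ := hv
      exact ⟨(x : MulAut A) w, hW1.mem x.2 hw, (hact x v w hwe.symm).symm⟩)
    set B' := (K.map V.subtype).comap π
    have hBB' : B ≤ B' := fun b hb => ⟨1, K.one_mem, ((QuotientGroup.eq_one_iff b).2 hb).symm⟩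
    have hB'W : B' ⊓ W1 = ⊥ := by
      rw [eq_bot_iff_forall]
      rintro a ⟨⟨v, hv, hva⟩, haW⟩
      have : v ∈ M ⊓ K := ⟨⟨a, haW, hva.symm⟩, hv⟩
      rw [hKM, mem_bot] at this
      subst this
      exact mem_bot.mp (hBW.le ⟨(QuotientGroup.eq_one_iff a).1 hva.symm, haW⟩)
    have hB'i : Inv X B' := inv_of_mem fun x hx a ⟨v, hv, hva⟩ =>
      ⟨φ ⟨x, hx⟩ v, hKi _ v hv, hact ⟨x, hx⟩ v a hva⟩
    have hle : B' ≤ B := hBm.2 ⟨hB'i, hB'W⟩ hBB'
    intro a ha
    have hv : (QuotientGroup.mk a : A ⧸ B) ∈ V := by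
      show (QuotientGroup.mk a : A ⧸ B) ^ p = 1
      rw [← QuotientGroup.mk_pow, QuotientGroup.eq_one_iff]; exact ha
    obtain ⟨m, hm, k', hk', hmk⟩ := mem_sup.mp (hKtop ▸ mem_top (⟨_, hv⟩ : V))
    have hk1 : k' = 1 := by
      obtain ⟨c, hc⟩ := QuotientGroup.mk_surjective (k' : A ⧸ B)
      exact Subtype.ext (hc.symm.trans ((QuotientGroup.eq_one_iff c).2 (hle ⟨k', hk', hc.symm⟩)))
    subst hk1
    obtain ⟨w, hw, hwe⟩ := hm
    refine ⟨w, hw, ?_⟩
    rw [← QuotientGroup.eq_one_iff, QuotientGroup.mk_div, div_eq_one]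
    rw [mul_one] at hmk
    exact ((congrArg Subtype.val hmk).symm).trans hwe.symm
  obtain ⟨P, hPB, hPa⟩ := exists_lift hA hexp B fun x hx => by
    obtain ⟨a, rfl⟩ := QuotientGroup.mk_surjective x
    obtain ⟨w, hw, haw⟩ := hsoc a (by rwa [← QuotientGroup.eq_one_iff])
    obtain ⟨b, rfl⟩ := hW1R hw
    refine ⟨QuotientGroup.mk b, ?_⟩
    rw [← QuotientGroup.mk_pow]
    rw [← QuotientGroup.eq_one_iff, QuotientGroup.mk_div, div_eq_one] at haw
    exact haw.symm
  let S : A →* A := ∏ x : X, (x : MulAut A).toMonoidHom.comp (P.comp (x : MulAut A).symm.toMonoidHom)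
  have hS : ∀ a, S a = ∏ x : X, (x : MulAut A) (P ((x : MulAut A).symm a)) := fun a => by
    simp [S, MonoidHom.finsetProd_apply]
  have hbij : Function.Bijective (powMonoidHom (Nat.card X) : A →* A) :=
    (powCoprime (G := A) (n := Nat.card X) (hk ▸ (hX.symm.pow_left k))).bijective
  let r := MulEquiv.ofBijective _ hbij
  let T : A →* A := r.symm.toMonoidHom.comp S
  have hTB : ∀ b ∈ B, T b = 1 := fun b hb => by
    simp only [T, MonoidHom.comp_apply, hS]
    rw [Finset.prod_eq_one fun x _ => by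
      rw [show (x : MulAut A).symm b = (x : MulAut A)⁻¹ b from rfl, hPB _ (hB.mem (X.inv_mem x.2) hb), map_one], map_one]
  have hTa : ∀ a, T a / a ∈ B := by
    intro a
    have h1 : S a / a ^ Nat.card X ∈ B := by
      rw [hS, Nat.card_eq_fintype_card, ← Finset.card_univ, ← Finset.prod_const, ← Finset.prod_div_distrib]
      refine B.prod_mem fun x _ => ?_
      have := hB.mem x.2 (hPa ((x : MulAut A).symm a))
      rwa [map_div, MulEquiv.apply_symm_apply] at this
    have h2 : (T a / a) ^ Nat.card X ∈ B := by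
      rw [div_pow]
      have : (T a) ^ Nat.card X = S a := r.apply_symm_apply (S a)
      rwa [this]
    obtain ⟨m, hm⟩ := exists_pow_eq_self_of_coprime (n := Nat.card X) (x := T a / a)
      (by obtain ⟨j, hj⟩ := IsPGroup.iff_orderOf.mp hA (T a / a); rw [hj]; exact hX.pow_right j)
    rw [← hm]
    exact B.pow_mem h2 m
  have hTx : ∀ x ∈ X, ∀ a, x (T a) = T (x a) := by
    intro x hx a
    apply hbij.1
    simp only [powMonoidHom_apply]
    rw [← map_pow]
    have e1 : ∀ a, (T a) ^ Nat.card X = S a := fun a => r.apply_symm_apply (S a)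
    rw [e1, e1, hS, hS, map_prod]
    refine Fintype.prod_equiv (Equiv.mulLeft (⟨x, hx⟩ : X)) _ _ fun y => ?_
    have hb : (x * (y : MulAut A)).symm (x a) = (y : MulAut A).symm a := by
      apply (x * (y : MulAut A)).injective
      simp [MulAut.mul_apply]
    show x ((y : MulAut A) (P ((y : MulAut A).symm a))) = (x * (y : MulAut A)) (P ((x * (y : MulAut A)).symm (x a)))
    rw [hb]; rfl
  rcases eq_or_ne B ⊥ with hB0 | hB0
  · have hmeet : ∀ V : Subgroup A, Inv X V → V ≠ ⊥ → W1 ≤ V := by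
      intro V hV hV0
      by_contra hne
      refine hV0 (eq_bot_iff.mpr ((hBm.2 ⟨hV, ?_⟩ (hB0.le.trans bot_le)).trans hB0.le))
      by_contra h0
      exact hne ((hmin _ ⟨hV.inf hW1, h0, inf_le_right.trans hW1R⟩ inf_le_right).trans inf_le_left)
    refine fun a => ⟨hWp a, fun ha => ?_⟩
    obtain ⟨w, hw, haw⟩ := hsoc a (by rw [ha]; exact B.one_mem)
    rw [hB0, mem_bot, div_eq_one] at haw
    exact haw ▸ hmeet W hW hW0 hw
  · exfalso
    refine h B T.range hB0 ?_ hB (inv_of_mem fun x hx c ⟨a, ha⟩ => ⟨x a, by rw [← hTx x hx, ha]⟩) ?_ ?_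
    · intro h0
      refine hW10 ((eq_bot_iff_forall _).mpr fun w hw => ?_)
      have h3 := hTa w
      rw [show T w = 1 from mem_bot.mp (h0.le ⟨w, rfl⟩), one_div] at h3
      exact mem_bot.mp (hBW.le ⟨(inv_mem_iff (H := B)).mp h3, hw⟩)
    · rw [eq_bot_iff_forall]
      rintro c ⟨hc, a, rfl⟩
      refine hTB a ?_
      have := B.div_mem hc (hTa a)
      rwa [div_div_cancel] at this
    · refine eq_top_iff.mpr fun a _ => mem_sup.mpr ⟨(T a / a)⁻¹, B.inv_mem (hTa a), T a, ⟨a, rfl⟩, ?_⟩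
      rw [inv_div, div_mul_cancel]

end Cfsg.Agent.Solv.AbInd
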