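import Cfsg.Agent.Lib.Solv.Coprime
import Mathlib.GroupTheory.SemidirectProduct

/-!
Invariant Sylow subgroups and invariant complements for an action by automorphisms.
-/

set_option autoImplicit false
open scoped Pointwise
open Subgroup

namespace Cfsg.Agent.Solv

variable {A G : Type*} [Group A] [Finite A] [Group G] [Finite G] [MulDistribMulAction A G]

/-- An invariant Sylow subgroup exists for every coprime action. -/
theorem exists_smul_invariant_sylow (hcop : (Nat.card A).Coprime (Nat.card G))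
    (hsol : Group.IsSolvable A ∨ Group.IsSolvable G) (p : ℕ) [Fact p.Prime] :
    ∃ P : Sylow p G, ∀ a : A, ∀ x ∈ (P : Subgroup G), a • x ∈ (P : Subgroup G) := by
  let φ : A →* MulAut G := MulDistribMulAction.toMulAut A G
  haveI : Finite (G ⋊[φ] A) := Finite.of_equiv (G × A) SemidirectProduct.equivProd.symm
  let il : G →* G ⋊[φ] A := SemidirectProduct.inl
  let ir : A →* G ⋊[φ] A := SemidirectProduct.inr
  have hconj : ∀ (a : A) (x : G), ir a * il x * (ir a)⁻¹ = il (a • x) :=
    fun a x => (by rw [← map_inv]; exact (SemidirectProduct.inl_aut a x).symm)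
  let eG : G ≃* il.range := MonoidHom.ofInjective SemidirectProduct.inl_injective
  have hcG : Nat.card il.range = Nat.card G := (Nat.card_congr eG.toEquiv).symm
  have hcA : Nat.card ir.range = Nat.card A :=
    (Nat.card_congr (MonoidHom.ofInjective (f := ir) SemidirectProduct.inr_injective).toEquiv).symm
  haveI : il.range.Normal := by
    rw [show il.range = (SemidirectProduct.rightHom : G ⋊[φ] A →* A).ker from
      SemidirectProduct.range_inl_eq_ker_rightHom]
    infer_instance
  have hAK : ir.range ≤ normalizer (il.range : Set (G ⋊[φ] A)) := by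
    rw [normalizer_eq_top]; exact le_top
  have hsol' : Group.IsSolvable ir.range ∨ Group.IsSolvable il.range := by
    rcases hsol with h | h
    · haveI := h
      exact Or.inl (Group.isSolvable_of_surjective (MonoidHom.rangeRestrict_surjective ir))
    · haveI := h
      exact Or.inr (Group.isSolvable_of_surjective (MonoidHom.rangeRestrict_surjective il))
  obtain ⟨P, hP⟩ := exists_invariant_sylow ir.range il.range hAK (by rw [hcA, hcG]; exact hcop) hsol' p
  refine ⟨P.mapSurjective (f := (eG.symm : il.range →* G)) eG.symm.surjective, fun a x hx => ?_⟩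
  obtain ⟨y, hy, rfl⟩ := hx
  have hyG : ((y : il.range) : G ⋊[φ] A) = il (eG.symm y) :=
    (congrArg Subtype.val (eG.apply_symm_apply y)).symm
  have h1 := (mem_normalizer_iff.1 (hP ⟨a, rfl⟩) (il (eG.symm y))).1 ⟨y, hy, hyG⟩
  rw [hconj] at h1
  obtain ⟨z, hz, hze⟩ := h1
  refine ⟨z, hz, ?_⟩
  show eG.symm z = a • eG.symm y
  apply SemidirectProduct.inl_injective (φ := φ)
  rw [← hze]
  exact congrArg Subtype.val (eG.apply_symm_apply z)

/-- **Maschke for elementary abelian groups.** -/
theorem exists_invariant_complement {V : Type*} [CommGroup V] [Finite V] {p : ℕ} [Fact p.Prime]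
    (hp : ∀ v : V, v ^ p = 1) {B : Type*} [Group B] [Finite B] (φ : B →* MulAut V)
    (hcop : (Nat.card B).Coprime (Nat.card V))
    (M : Subgroup V) (hM : ∀ (b : B), ∀ v ∈ M, φ b v ∈ M) :
    ∃ K : Subgroup V, (∀ (b : B), ∀ v ∈ K, φ b v ∈ K) ∧ M ⊓ K = ⊥ ∧ M ⊔ K = ⊤ := by
  classical
  have hp' : ∀ v : V, v ≠ 1 → orderOf v = p := fun v hv =>
    orderOf_eq_prime (hp v) hv
  obtain ⟨L, -, hL⟩ := Finite.exists_le_maximal (p := fun L : Subgroup V => M ⊓ L = ⊥) (a := ⊥) (inf_bot_eq _)
  have hLd : M ⊓ L = ⊥ := hL.1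
  have hML : M ⊔ L = ⊤ := by
    rw [eq_top_iff']
    intro x
    by_contra hx
    have hxL : x ∉ L := fun h => hx (mem_sup_right h)
    have h2 : M ⊓ (L ⊔ zpowers x) = ⊥ := by
      rw [eq_bot_iff]
      rintro m ⟨hm, hmL⟩
      obtain ⟨l, hl, y, hy, rfl⟩ := mem_sup.1 hmL
      obtain ⟨i, rfl⟩ := mem_zpowers_iff.1 hy
      by_cases hi : (p : ℤ) ∣ i
      · obtain ⟨j, rfl⟩ := hi
        rw [zpow_mul, zpow_natCast, hp, one_zpow, mul_one] at hm ⊢
        exact hLd.le ⟨hm, hl⟩
      · exfalso
        apply hx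
        have h3 : x ^ i ∈ M ⊔ L := by
          rw [show x ^ i = (l * x ^ i) * l⁻¹ by rw [mul_comm l, mul_inv_cancel_right]]
          exact mul_mem (mem_sup_left hm) (mem_sup_right (inv_mem hl))
        obtain ⟨c, hc⟩ := ((Nat.prime_iff_prime_int.1 (Fact.out : p.Prime)).coprime_iff_not_dvd.2 hi)
        obtain ⟨d, hd⟩ := hc
        rw [show x = x ^ (c * (p : ℤ) + d * i) by rw [hd, zpow_one]]
        rw [zpow_add, mul_comm c, zpow_mul, zpow_natCast, hp, one_zpow, one_mul, mul_comm d, zpow_mul]
        exact zpow_mem h3 d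
    exact hxL ((hL.2 h2 le_sup_left) (mem_sup_right (mem_zpowers x)))
  have hc : IsComplement' M L := isComplement'_of_disjoint_and_mul_eq_univ (disjoint_iff.2 hLd)
    (by rw [← mul_normal, hML, coe_top])
  let π : V →* V :=
    { toFun := fun v => ((hc.equiv v).1 : V)
      map_one' := by
        have h := hc.equiv_fst_eq_one_of_mem_of_one_mem (one_mem M) (one_mem L)
        exact congrArg Subtype.val h
      map_mul' := fun u v => by
        have e1 := hc.equiv_fst_mul_equiv_snd u
        have e2 := hc.equiv_fst_mul_equiv_snd v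
        have e : hc.equiv (u * v) = ((hc.equiv u).1 * (hc.equiv v).1, (hc.equiv u).2 * (hc.equiv v).2) := by
          apply hc.equiv.symm.injective
          rw [Equiv.symm_apply_apply]
          show u * v = (((hc.equiv u).1 : V) * (hc.equiv v).1) * ((hc.equiv u).2 * (hc.equiv v).2)
          conv_lhs => rw [← e1, ← e2]
          exact mul_mul_mul_comm _ _ _ _
        exact congrArg (fun t => ((t.1 : M) : V)) e }
  have hπM : ∀ v, π v ∈ M := fun v => (hc.equiv v).1.2
  have hπfix : ∀ m ∈ M, π m = m := fun m hm => by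
    have h := hc.equiv_fst_eq_self_of_mem_of_one_mem (one_mem L) hm
    exact congrArg Subtype.val h
  haveI := Fintype.ofFinite B
  let ψ : V →* V :=
    { toFun := fun v => ∏ b : B, φ b (π (φ b⁻¹ v))
      map_one' := by simp
      map_mul' := fun u v => by simp [Finset.prod_mul_distrib] }
  have hψM : ∀ v, ψ v ∈ M := fun v => prod_mem fun b _ => hM b _ (hπM _)
  have hψfix : ∀ m ∈ M, ψ m = m ^ Nat.card B := fun m hm => by
    show ∏ b : B, φ b (π (φ b⁻¹ m)) = m ^ Nat.card B
    rw [Finset.prod_congr rfl (fun b _ => ?_), Finset.prod_const, Finset.card_univ, Nat.card_eq_fintype_card]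
    rw [hπfix _ (hM b⁻¹ m hm), ← MulAut.mul_apply, ← map_mul, mul_inv_cancel, map_one, MulAut.one_apply]
  have hinj : ∀ m ∈ M, m ∈ ψ.ker → m = 1 := fun m hm hk => by
    rw [MonoidHom.mem_ker, hψfix m hm] at hk
    rw [← orderOf_eq_one_iff]
    exact Nat.dvd_one.1 (hcop ▸ Nat.dvd_gcd (orderOf_dvd_of_pow_eq_one hk) (orderOf_dvd_natCard m))
  refine ⟨ψ.ker, fun c v hv => ?_, le_bot_iff.1 fun m hm => hinj m hm.1 hm.2, ?_⟩
  · rw [MonoidHom.mem_ker] at hv ⊢
    have : ψ (φ c v) = φ c (ψ v) := by
      show ∏ b : B, φ b (π (φ b⁻¹ (φ c v))) = φ c (∏ b : B, φ b (π (φ b⁻¹ v)))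
      rw [map_prod]
      refine Fintype.prod_equiv (Equiv.mulLeft c⁻¹) _ _ fun b => ?_
      simp only [Equiv.coe_mulLeft]
      rw [← MulAut.mul_apply, ← map_mul, ← MulAut.mul_apply, ← map_mul, mul_inv_cancel_left]
      simp [mul_inv_rev]
    rw [this, hv, map_one]
  · rw [eq_top_iff']
    intro v
    have hsur : Function.Surjective (fun m : M => (⟨ψ m, hψM m⟩ : M)) :=
      Finite.surjective_of_injective fun a b h => by
        have h' : ψ (a : V) = ψ (b : V) := congrArg Subtype.val h
        have := hinj ((a : V) * (b : V)⁻¹) (M.mul_mem a.2 (M.inv_mem b.2))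
          (by rw [MonoidHom.mem_ker, map_mul, map_inv, h', mul_inv_cancel])
        exact Subtype.ext (mul_inv_eq_one.1 this)
    obtain ⟨m, hm⟩ := hsur ⟨ψ v, hψM v⟩
    rw [show v = (m : V) * ((m : V)⁻¹ * v) by rw [mul_inv_cancel_left]]
    refine mul_mem (mem_sup_left m.2) (mem_sup_right ?_)
    rw [MonoidHom.mem_ker, map_mul, map_inv]
    exact inv_mul_eq_one.2 (congrArg Subtype.val hm)

end Cfsg.Agent.Solv
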