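import Cfsg.Agent.Lib.Solv.CyclicIndexP
import Cfsg.Agent.S0015

/-!
Centralizers of maximal abelian normal subgroups of bounded exponent.
-/

set_option autoImplicit false
set_option linter.style.haveILetI false

namespace Cfsg.Agent.Solv.AlperinC

open Subgroup
open scoped commutatorElement

variable {G : Type*} [Group G]

theorem conj_pow_formula {x b c d : G} (hb : x * b * x⁻¹ = c * b) (hc : x * c * x⁻¹ = d * c)
    (hd : x * d * x⁻¹ = d) (hcd : Commute c d) (k : ℕ) :
    x ^ k * b * (x ^ k)⁻¹ = c ^ k * d ^ (k.choose 2) * b := by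
  induction k with
  | zero => simp
  | succ k ih =>
    have hch : (k + 1).choose 2 = k + k.choose 2 := by
      rw [Nat.choose_succ_succ, Nat.choose_one_right]
    calc x ^ (k + 1) * b * (x ^ (k + 1))⁻¹ = x * (x ^ k * b * (x ^ k)⁻¹) * x⁻¹ := by
          rw [pow_succ']; group
      _ = (x * c ^ k * x⁻¹) * (x * d ^ k.choose 2 * x⁻¹) * (x * b * x⁻¹) := by rw [ih]; group
      _ = (d * c) ^ k * d ^ k.choose 2 * (c * b) := by rw [← conj_pow, ← conj_pow, hc, hd, hb]
      _ = c ^ (k + 1) * d ^ (k + 1).choose 2 * b := by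
        rw [hcd.symm.mul_pow, hch, pow_add d, pow_succ c k]
        have h1 : Commute (c ^ k * c) (d ^ k) := (hcd.pow_pow k k).mul_left (hcd.pow_right k)
        calc d ^ k * c ^ k * d ^ k.choose 2 * (c * b)
            = c ^ k * d ^ k * (d ^ k.choose 2 * c) * b := by rw [(hcd.pow_pow k k).symm.eq]; group
          _ = c ^ k * (d ^ k * c) * d ^ k.choose 2 * b := by
              rw [(hcd.pow_right _).symm.eq]; group
          _ = c ^ k * (c * d ^ k) * d ^ k.choose 2 * b := by rw [(hcd.pow_right k).symm.eq]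
          _ = c ^ k * c * (d ^ k * d ^ k.choose 2) * b := by group

theorem two_mul_choose_two (q : ℕ) : q.choose 2 * 2 = q * (q - 1) := by
  rw [Nat.choose_two_right]
  exact Nat.div_mul_cancel (Nat.two_dvd_mul_sub_one q)

variable [Finite G] {p : ℕ} [hp : Fact p.Prime]

theorem comm_hom {A : Subgroup G} {x c : G} (hx : x ∈ centralizer (A : Set G)) {b : G}
    (hc : x * b * x⁻¹ = c * b) (hcb : Commute c b) (hcA : c ∈ A) (k : ℕ) :
    x * b ^ k * x⁻¹ = c ^ k * b ^ k := by
  rw [← conj_pow, hc, hcb.mul_pow]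

/-- The final step: if `b ^ q * c ^ C(q,2) = 1` with `c = [x, b] ∈ A`, then `b ^ q = 1`. -/
theorem kill (hG : IsPGroup p G) (n : ℕ) (hn : p ^ n ≠ 2) (A B : Subgroup G)
    (hBcomm : ∀ a ∈ B, ∀ b ∈ B, Commute a b)
    (hAB : A ≤ B) (hAe : ∀ a ∈ A, a ^ p ^ n = 1) (hΩ : ∀ b ∈ B, b ^ p ^ n = 1 → b ∈ A)
    {x b c : G} (hx : x ∈ centralizer (A : Set G)) (hb : b ∈ B) (hcA : c ∈ A)
    (hc : x * b * x⁻¹ = c * b) (h : b ^ p ^ n * c ^ (p ^ n).choose 2 = 1) : b ^ p ^ n = 1 := by
  set q := p ^ n with hq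
  have h1 : b ^ (q * 2) = 1 := by
    have h0 : c ^ ((q.choose 2) * 2) = 1 := by
      rw [two_mul_choose_two, pow_mul, hAe c hcA, one_pow]
    rw [pow_mul, eq_inv_of_mul_eq_one_left h, inv_pow, ← pow_mul, h0, inv_one]
  rcases eq_or_ne p 2 with hp2 | hp2
  · have h2 : 2 ∣ q.choose 2 := by
      rcases n with _ | _ | m
      · rw [hq, pow_zero]; exact dvd_zero 2
      · exact absurd (by rw [hq, hp2]; norm_num) hn
      · have h4 : 4 ∣ q := ⟨2 ^ m, by rw [hq, hp2]; ring⟩
        obtain ⟨t, ht⟩ := h4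
        exact ⟨t * (q - 1), Nat.eq_of_mul_eq_mul_right two_pos
          ((two_mul_choose_two q).trans (by rw [ht]; ring))⟩
    have h3 : b ^ 2 ∈ A := hΩ _ (B.pow_mem hb 2) (by rw [← pow_mul, mul_comm]; exact h1)
    have h4 : c ^ 2 = 1 := by
      have e := comm_hom hx hc (hBcomm c (hAB hcA) b hb) hcA 2
      rw [← mem_centralizer_iff.mp hx _ h3, mul_inv_cancel_right, eq_comm, mul_eq_right] at e
      exact e
    obtain ⟨t, ht⟩ := h2
    rwa [ht, pow_mul, h4, one_pow, mul_one] at h
  · obtain ⟨i, hi⟩ := IsPGroup.iff_orderOf.mp hG b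
    rw [← orderOf_dvd_iff_pow_eq_one, hi] at h1 ⊢
    exact (Nat.Coprime.pow_left i ((Nat.coprime_primes hp.out Nat.prime_two).mpr hp2)).dvd_of_dvd_mul_right h1

theorem centralizer_omega_le (hG : IsPGroup p G) (n : ℕ) (hn : p ^ n ≠ 2) (A : Subgroup G)
    [A.Normal] (hA : IsMulCommutative A) (hAe : ∀ a ∈ A, a ^ p ^ n = 1)
    (hmax : ∀ B : Subgroup G, B.Normal → IsMulCommutative B → (∀ b ∈ B, b ^ p ^ n = 1) → A ≤ B → B = A)
    (x₀ : G) (hx₀ : x₀ ∈ centralizer (A : Set G)) (hx₀n : x₀ ^ p ^ n = 1) : x₀ ∈ A := by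
  haveI := hG.isNilpotent
  set q := p ^ n with hq
  obtain ⟨B, hB⟩ := (Set.toFinite {B : Subgroup G | B.Normal ∧ IsMulCommutative B ∧ A ≤ B}).exists_maximal
    ⟨A, inferInstance, hA, le_rfl⟩
  obtain ⟨hBn, hBab, hAB⟩ := hB.1
  haveI := hBn
  haveI := hBab
  have hCB : centralizer (B : Set G) = B := S0015.result B
    (fun M hM hMab hle => le_antisymm (hB.2 ⟨hM, hMab, hAB.trans hle⟩ hle) hle)
  have hBcomm : ∀ a ∈ B, ∀ b ∈ B, Commute a b := fun a ha b hb =>
    congrArg Subtype.val (mul_comm' (⟨a, ha⟩ : B) ⟨b, hb⟩)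
  have hΩ : ∀ b ∈ B, b ^ q = 1 → b ∈ A := by
    let W : Subgroup G :=
      { carrier := {b | b ∈ B ∧ b ^ q = 1}
        one_mem' := ⟨B.one_mem, one_pow q⟩
        mul_mem' := fun ha hb => ⟨B.mul_mem ha.1 hb.1, by
          rw [(hBcomm _ ha.1 _ hb.1).mul_pow, ha.2, hb.2, one_mul]⟩
        inv_mem' := fun ha => ⟨B.inv_mem ha.1, by rw [inv_pow, ha.2, inv_one]⟩ }
    have hW := hmax W ⟨fun a ha g => ⟨hBn.conj_mem a ha.1 g, by rw [conj_pow, ha.2]; group⟩⟩
      ⟨⟨fun a b => Subtype.ext (hBcomm _ a.2.1 _ b.2.1).eq⟩⟩ (fun b hb => hb.2)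
      (fun a ha => ⟨hAB ha, hAe a ha⟩)
    exact fun b hb hbq => hW ▸ (show b ∈ W from ⟨hb, hbq⟩)
  -- a root of unity centralizing `A` moves `B` only by elements of `A`
  have hfix : ∀ x ∈ centralizer (A : Set G), x ^ q = 1 → ∀ b ∈ B, ⁅x, b⁆ ∈ A := by
    intro x hx hxq
    rcases Nat.eq_zero_or_pos n with rfl | hn0
    · intro b _
      rw [hq, pow_zero, pow_one] at hxq
      rw [hxq, commutatorElement_one_left]; exact A.one_mem
    suffices main : ∀ (j : ℕ) (b : G), b ∈ B → b ^ p ^ j = 1 → ⁅x, b⁆ ∈ A by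
      intro b hb
      obtain ⟨j, hj⟩ := hG b
      exact main j b hb hj
    intro j
    induction j using Nat.strong_induction_on with
    | _ j ih =>
      intro b hb hbj
      set c := ⁅x, b⁆ with hcdef
      have hcB : c ∈ B := by
        rw [hcdef, commutatorElement_def]
        exact B.mul_mem (hBn.conj_mem b hb x) (B.inv_mem hb)
      rcases le_or_gt j n with hjn | hjn
      · have hbA : b ∈ A := hΩ b hb (orderOf_dvd_iff_pow_eq_one.mp
          ((orderOf_dvd_of_pow_eq_one hbj).trans (pow_dvd_pow p hjn)))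
        rw [hcdef, commutatorElement_eq_one_iff_mul_comm.mpr (mem_centralizer_iff.mp hx b hbA).symm]
        exact A.one_mem
      have hcb : x * b * x⁻¹ = c * b := by rw [hcdef, commutatorElement_def]; group
      have hbA : b ^ p ^ (j - n) ∈ A := hΩ _ (B.pow_mem hb _) (by
        rw [← pow_mul, hq, ← pow_add, Nat.sub_add_cancel hjn.le, hbj])
      have hcj : c ^ p ^ (j - n) = 1 := by
        have h1 : x * b ^ p ^ (j - n) * x⁻¹ = c ^ p ^ (j - n) * b ^ p ^ (j - n) := by
          rw [← conj_pow, hcb, (hBcomm c hcB b hb).mul_pow]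
        rw [← mem_centralizer_iff.mp hx _ hbA, mul_inv_cancel_right, eq_comm, mul_eq_right] at h1
        exact h1
      have hdA : ⁅x, c⁆ ∈ A := ih (j - n) (by omega) c hcB hcj
      have hxc : x * c * x⁻¹ = ⁅x, c⁆ * c := by rw [commutatorElement_def]; group
      have hxd : x * ⁅x, c⁆ * x⁻¹ = ⁅x, c⁆ := by
        rw [← mem_centralizer_iff.mp hx _ hdA, mul_inv_cancel_right]
      have h1 := conj_pow_formula hcb hxc hxd (hBcomm c hcB _ (hAB hdA)) q
      rw [hxq, one_mul, inv_one, mul_one, eq_comm, mul_eq_right] at h1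
      exact hΩ c hcB (kill hG n hn A B hBcomm hAB hAe hΩ hx hcB hdA hxc h1)
  have hcomm : ∀ x ∈ centralizer (A : Set G), x ^ q = 1 → ∀ y ∈ centralizer (A : Set G),
      y ^ q = 1 → ⁅y, x⁆ ∈ A := by
    intro x hx hxq y hy hyq
    set b := ⁅y, x⁆ with hbdef
    have hbB : b ∈ B := by
      rw [← hCB, mem_centralizer_iff]
      intro t ht
      have hxt : x * t * x⁻¹ = ⁅x, t⁆ * t := by rw [commutatorElement_def]; group
      have hyt : y * t * y⁻¹ = ⁅y, t⁆ * t := by rw [commutatorElement_def]; group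
      have hcA := hfix x hx hxq t ht
      have heA := hfix y hy hyq t ht
      have h1 : y * x * t * (y * x)⁻¹ = x * y * t * (x * y)⁻¹ := by
        calc y * x * t * (y * x)⁻¹ = y * (x * t * x⁻¹) * y⁻¹ := by group
          _ = (y * ⁅x, t⁆ * y⁻¹) * (y * t * y⁻¹) := by rw [hxt]; group
          _ = ⁅x, t⁆ * (⁅y, t⁆ * t) := by
            rw [← mem_centralizer_iff.mp hy _ hcA, mul_inv_cancel_right, hyt]
          _ = ⁅y, t⁆ * (⁅x, t⁆ * t) := by
            rw [← mul_assoc, (hBcomm _ (hAB hcA) _ (hAB heA)).eq, mul_assoc]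
          _ = (x * ⁅y, t⁆ * x⁻¹) * (x * t * x⁻¹) := by
            rw [← mem_centralizer_iff.mp hx _ heA, mul_inv_cancel_right, hxt]
          _ = x * (y * t * y⁻¹) * x⁻¹ := by rw [hyt]; group
          _ = x * y * t * (x * y)⁻¹ := by group
      symm
      rw [hbdef, commutatorElement_def]
      calc y * x * y⁻¹ * x⁻¹ * t = (y * x) * ((x * y)⁻¹ * t * (x * y)) * (x * y)⁻¹ := by group
        _ = (y * x) * ((x * y)⁻¹ * t * (x * y)) * (y * x)⁻¹ * ((y * x) * (x * y)⁻¹) := by group
        _ = t * (y * x * y⁻¹ * x⁻¹) := by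
          have h2 : (x * y)⁻¹ * t * (x * y) ∈ B := by simpa using hBn.conj_mem t ht (x * y)⁻¹
          have h3 : y * x * ((x * y)⁻¹ * t * (x * y)) * (y * x)⁻¹ =
              x * y * ((x * y)⁻¹ * t * (x * y)) * (x * y)⁻¹ := by
            have hxt' : ∀ t' ∈ B, y * x * t' * (y * x)⁻¹ = x * y * t' * (x * y)⁻¹ := by
              intro t' ht'
              have hxt : x * t' * x⁻¹ = ⁅x, t'⁆ * t' := by rw [commutatorElement_def]; group
              have hyt : y * t' * y⁻¹ = ⁅y, t'⁆ * t' := by rw [commutatorElement_def]; group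
              have hcA := hfix x hx hxq t' ht'
              have heA := hfix y hy hyq t' ht'
              calc y * x * t' * (y * x)⁻¹ = y * (x * t' * x⁻¹) * y⁻¹ := by group
                _ = (y * ⁅x, t'⁆ * y⁻¹) * (y * t' * y⁻¹) := by rw [hxt]; group
                _ = ⁅x, t'⁆ * (⁅y, t'⁆ * t') := by
                  rw [← mem_centralizer_iff.mp hy _ hcA, mul_inv_cancel_right, hyt]
                _ = ⁅y, t'⁆ * (⁅x, t'⁆ * t') := by
                  rw [← mul_assoc, (hBcomm _ (hAB hcA) _ (hAB heA)).eq, mul_assoc]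
                _ = (x * ⁅y, t'⁆ * x⁻¹) * (x * t' * x⁻¹) := by
                  rw [← mem_centralizer_iff.mp hx _ heA, mul_inv_cancel_right, hxt]
                _ = x * (y * t' * y⁻¹) * x⁻¹ := by rw [hyt]; group
                _ = x * y * t' * (x * y)⁻¹ := by group
            exact hxt' _ h2
          rw [h3]; group
    have hcA : ⁅x, b⁆ ∈ A := hfix x hx hxq b hbB
    have hcb : x * b * x⁻¹ = ⁅x, b⁆ * b := by rw [commutatorElement_def]; group
    refine hΩ b hbB (kill hG n hn A B hBcomm hAB hAe hΩ hx hbB hcA hcb ?_)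
    have h1 : (b * x) ^ q = 1 := by
      rw [show b * x = y * x * y⁻¹ by rw [hbdef, commutatorElement_def]; group, conj_pow, hxq]
      group
    rw [Repl.mul_pow_of_central (x := b) (y := x) (c := ⁅x, b⁆)
      (by rw [commutatorElement_def]; group) (hBcomm _ (hAB hcA) b hbB)
      (mem_centralizer_iff.mp hx _ hcA), hxq, mul_one] at h1
    exact h1
  have hpc : p ∣ q.choose 2 ∨ n = 0 := by
    rcases n with _ | m
    · exact Or.inr rfl
    refine Or.inl ?_
    have h := two_mul_choose_two q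
    rcases eq_or_ne p 2 with hp2 | hp2
    · subst hp2
      rcases m with _ | m
      · exact absurd (by norm_num) hn
      · exact ⟨2 ^ m * (q - 1), Nat.eq_of_mul_eq_mul_right two_pos (h.trans (by rw [hq]; ring))⟩
    · refine ((Nat.coprime_primes hp.out Nat.prime_two).mpr hp2).dvd_of_dvd_mul_right ?_
      rw [h, hq, pow_succ', mul_assoc]
      exact dvd_mul_right p _
  rcases hpc with hpc | rfl
  swap
  · rw [hq, pow_zero, pow_one] at hx₀n
    exact hx₀n ▸ A.one_mem
  let V : Subgroup G :=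
    { carrier := {x | x ∈ centralizer (A : Set G) ∧ x ^ q = 1 ∧ x ^ p ∈ A}
      one_mem' := ⟨one_mem _, one_pow q, by rw [one_pow]; exact A.one_mem⟩
      mul_mem' := by
        rintro x y ⟨hx, hxq, hxp⟩ ⟨hy, hyq, hyp⟩
        set c := ⁅y, x⁆ with hcdef
        have hcA : c ∈ A := hcomm x hx hxq y hy hyq
        have hcx : Commute c x := mem_centralizer_iff.mp hx c hcA
        have hcy : Commute c y := mem_centralizer_iff.mp hy c hcA
        have hyx : y * x = c * (x * y) := by rw [hcdef, commutatorElement_def]; group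
        have hcp : c ^ p = 1 := by
          have h1 : y * x ^ p * y⁻¹ = c ^ p * x ^ p := by
            rw [← conj_pow, show y * x * y⁻¹ = c * x by rw [hcdef, commutatorElement_def]; group,
              hcx.mul_pow]
          rw [← mem_centralizer_iff.mp hy _ hxp, mul_inv_cancel_right, eq_comm, mul_eq_right] at h1
          exact h1
        refine ⟨mul_mem hx hy, ?_, ?_⟩
        · obtain ⟨t, ht⟩ := hpc
          rw [Repl.mul_pow_of_central hyx hcx hcy, hxq, hyq, ht, pow_mul, hcp, one_pow]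
          group
        · rw [Repl.mul_pow_of_central hyx hcx hcy]
          exact A.mul_mem (A.mul_mem hxp hyp) (A.pow_mem hcA _)
      inv_mem' := by
        rintro x ⟨hx, hxq, hxp⟩
        exact ⟨inv_mem hx, by rw [inv_pow, hxq, inv_one], by rw [inv_pow]; exact A.inv_mem hxp⟩ }
  haveI : V.Normal := ⟨fun x hx g => by
    refine ⟨?_, by rw [conj_pow, hx.2.1]; group, by rw [conj_pow]; exact Normal.conj_mem inferInstance _ hx.2.2 g⟩
    haveI : (centralizer (A : Set G)).Normal := inferInstance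
    exact Normal.conj_mem inferInstance x hx.1 g⟩
  by_contra hxA
  classical
  have hex : ∃ i : ℕ, x₀ ^ p ^ (i + 1) ∈ A := ⟨n, by
    rw [pow_succ, pow_mul, hx₀n, one_pow]; exact A.one_mem⟩
  obtain ⟨x, hxV, hxnA⟩ : ∃ x ∈ V, x ∉ A := by
    refine ⟨x₀ ^ p ^ Nat.find hex, ⟨pow_mem hx₀ _, ?_, ?_⟩, ?_⟩
    · rw [← pow_mul, mul_comm, pow_mul, hx₀n, one_pow]
    · rw [← pow_mul, ← pow_succ]; exact Nat.find_spec hex
    · intro h
      rcases Nat.eq_zero_or_pos (Nat.find hex) with h0 | h0
      · rw [h0, pow_zero, pow_one] at h; exact hxA h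
      · refine Nat.find_min hex (show Nat.find hex - 1 < Nat.find hex by omega) ?_
        rwa [Nat.sub_add_cancel h0]
  set f := QuotientGroup.mk' A
  haveI : (V.map f).Normal := Normal.map inferInstance f (QuotientGroup.mk'_surjective A)
  have hVb : V.map f ≠ ⊥ := fun h => hxnA (by
    rw [Subgroup.map_eq_bot_iff, QuotientGroup.ker_mk'] at h
    exact h hxV)
  haveI : Group.IsNilpotent (G ⧸ A) := (hG.to_quotient A).isNilpotent
  obtain ⟨z, hz, hz1⟩ := Subgroup.ne_bot_iff_exists_ne_one.mp (inf_center_ne_bot (V.map f) hVb) |>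
    fun ⟨⟨z, hz⟩, h⟩ => (⟨z, hz, fun e => h (Subtype.ext e)⟩ : ∃ z, z ∈ V.map f ⊓ center (G ⧸ A) ∧ z ≠ 1)
  obtain ⟨⟨y, hy, rfl⟩, hzc⟩ := hz
  set Y := A ⊔ zpowers y
  have hYn : Y.Normal := by
    refine normalizer_eq_top_iff.mp (eq_top_iff.mpr ?_)
    refine le_normalizer_of_conj_mem fun g _ u hu => ?_
    have h1 : Y = (zpowers (f y)).comap f := by
      rw [← MonoidHom.map_zpowers, comap_map_eq, QuotientGroup.ker_mk', sup_comm]
    rw [h1, mem_comap] at hu ⊢
    obtain ⟨k, hk⟩ := mem_zpowers_iff.mp hu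
    refine mem_zpowers_iff.mpr ⟨k, ?_⟩
    rw [map_mul, map_mul, map_inv, ← hk,
      mem_center_iff.mp (Subgroup.zpow_mem _ hzc k) (f g), mul_inv_cancel_right]
  have hYle : Y ≤ centralizer (Y : Set G) := by
    refine sup_le (le_centralizer_iff.mp (sup_le
      (le_centralizer_iff_isMulCommutative.mpr hA) (zpowers_le.mpr hy.1))) ?_
    rw [zpowers_le, mem_centralizer_iff]
    intro u hu
    have : Y ≤ centralizer ({y} : Set G) := sup_le
      (fun a ha => mem_centralizer_singleton_iff.mpr (mem_centralizer_iff.mp hy.1 a ha))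
      (zpowers_le.mpr (mem_centralizer_singleton_iff.mpr rfl))
    exact mem_centralizer_singleton_iff.mp (this hu)
  have hYV : Y ≤ V := sup_le (fun a ha => ⟨le_centralizer_iff_isMulCommutative.mpr hA ha, hAe a ha,
    A.pow_mem ha p⟩) (zpowers_le.mpr hy)
  have hYA := hmax Y hYn (le_centralizer_iff_isMulCommutative.mp hYle) (fun u hu => (hYV hu).2.1) le_sup_left
  exact hz1 ((QuotientGroup.eq_one_iff y).mpr (hYA ▸ mem_sup_right (mem_zpowers y)))

theorem exists_normal_index (hG : IsPGroup p G) (N : Subgroup G) [hN : N.Normal] (hN1 : N ≠ ⊥) :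
    ∃ M : Subgroup G, M.Normal ∧ M ≤ N ∧ Nat.card M * p = Nat.card N := by
  haveI := hG.isNilpotent
  have hlt : ⁅N, (⊤ : Subgroup G)⁆ < N := commutator_lt_of_nilpotent inferInstance le_top
    (by rw [normalizer_eq_top_iff.mpr hN]) hN1
  obtain ⟨M, hM, hle⟩ := Solv.exists_coatom_ge (G := N) (H := (⁅N, (⊤ : Subgroup G)⁆).subgroupOf N)
    (fun e => hlt.not_ge (subgroupOf_eq_top.mp e))
  have hMi := CycP.index_eq_of_coatom (hG.to_subgroup N) M hM
  have hleM : ⁅N, (⊤ : Subgroup G)⁆ ≤ M.map N.subtype := by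
    rw [← map_subgroupOf_eq_of_le hlt.le]; exact map_mono hle
  refine ⟨M.map N.subtype, ⟨fun m hm x => ?_⟩, map_subtype_le M, ?_⟩
  · have h1 := hleM (commutator_mem_commutator (map_subtype_le M hm) (mem_top x))
    have h2 := Subgroup.mul_mem _ (Subgroup.inv_mem _ h1) hm
    rwa [show ⁅m, x⁆⁻¹ * m = x * m * x⁻¹ by simp only [commutatorElement_def]; group] at h2
  · rw [card_map_of_injective N.subtype_injective, ← hMi, card_mul_index]

theorem exists_normal_card (hG : IsPGroup p G) : ∀ (d k : ℕ) (N : Subgroup G), N.Normal →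
    Nat.card N = p ^ (k + d) → ∃ M : Subgroup G, M.Normal ∧ M ≤ N ∧ Nat.card M = p ^ k := by
  intro d
  induction d with
  | zero => intro k N hN h; exact ⟨N, hN, le_rfl, h⟩
  | succ d ih =>
    intro k N hN h
    haveI := hN
    obtain ⟨M, hMn, hMN, hM⟩ := exists_normal_index hG N fun e => by
      rw [e, card_bot] at h
      exact (Nat.one_lt_pow (by omega) hp.out.one_lt).ne h
    rw [h, ← add_assoc, pow_succ] at hM
    obtain ⟨M', h1, h2, h3⟩ := ih k M hMn (Nat.eq_of_mul_eq_mul_right hp.out.pos hM)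
    exact ⟨M', h1, h2.trans hMN, h3⟩

theorem index_centralizer_le (hG : IsPGroup p G) : ∀ (b : ℕ) (B : Subgroup G), B.Normal →
    Nat.card B = p ^ b → (centralizer (B : Set G)).index ≤ p ^ (b * (b - 1) / 2) := by
  haveI := hG.isNilpotent
  intro b
  induction b with
  | zero =>
    intro B _ hB
    rw [Subgroup.eq_bot_of_card_eq B (hB.trans (pow_zero p)), Subgroup.coe_bot,
      show Subgroup.centralizer ({1} : Set G) = ⊤ from eq_top_iff.mpr fun x _ =>
        Subgroup.mem_centralizer_singleton_iff.mpr (by rw [one_mul, mul_one])]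
    simp
  | succ b ih =>
    intro B hBn hB
    haveI := hBn
    have hB1 : B ≠ ⊥ := fun e => by
      rw [e, Subgroup.card_bot] at hB
      exact (Nat.one_lt_pow (Nat.succ_ne_zero b) hp.out.one_lt).ne hB
    have hlt : ⁅B, (⊤ : Subgroup G)⁆ < B := Solv.commutator_lt_of_nilpotent inferInstance le_top
      (by rw [Subgroup.normalizer_eq_top_iff.mpr hBn]) hB1
    obtain ⟨M, hM, hle⟩ := Solv.exists_coatom_ge (G := B) (H := (⁅B, (⊤ : Subgroup G)⁆).subgroupOf B)
      (fun e => hlt.not_ge (Subgroup.subgroupOf_eq_top.mp e))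
    have hMi := Solv.CycP.index_eq_of_coatom (hG.to_subgroup B) M hM
    set B0 := M.map B.subtype with hB0
    have hB0B : B0 ≤ B := Subgroup.map_subtype_le M
    have hleM : ⁅B, (⊤ : Subgroup G)⁆ ≤ B0 := by
      rw [← Subgroup.map_subgroupOf_eq_of_le hlt.le]
      exact Subgroup.map_mono hle
    haveI : B0.Normal := ⟨fun m hm x => by
      have h1 : ⁅m, x⁆ ∈ B0 := hleM (Subgroup.commutator_mem_commutator (hB0B hm) (Subgroup.mem_top x))
      have h2 := B0.mul_mem (B0.inv_mem h1) hm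
      rwa [show ⁅m, x⁆⁻¹ * m = x * m * x⁻¹ by simp only [commutatorElement_def]; group] at h2⟩
    have hB0c : Nat.card B0 = p ^ b := by
      have h1 := M.card_mul_index
      rw [hMi, hB, pow_succ] at h1
      rw [hB0, Subgroup.card_map_of_injective B.subtype_injective]
      exact Nat.eq_of_mul_eq_mul_right hp.out.pos h1
    obtain ⟨⟨x, hx⟩, hxM⟩ : ∃ x : B, x ∉ M := by
      by_contra hno
      simp only [not_exists, not_not] at hno
      exact hM.1 ((Subgroup.eq_top_iff' M).mpr hno)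
    set C0 := Subgroup.centralizer (B0 : Set G)
    set C1 := Subgroup.centralizer (B : Set G)
    have h10 : C1 ≤ C0 := Subgroup.centralizer_le (SetLike.coe_subset_coe.mpr hB0B)
    have hgen : B0 ⊔ Subgroup.zpowers x = B := by
      refine le_antisymm (sup_le hB0B (Subgroup.zpowers_le.mpr hx)) ?_
      have h1 : M ⊔ Subgroup.zpowers ⟨x, hx⟩ = ⊤ := hM.2 _ (lt_of_le_of_ne le_sup_left fun e =>
        hxM (e.ge (Subgroup.mem_sup_right (Subgroup.mem_zpowers _))))
      have h2 := congrArg (Subgroup.map B.subtype) h1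
      rw [Subgroup.map_sup, ← hB0, MonoidHom.map_zpowers, ← MonoidHom.range_eq_map,
        Subgroup.range_subtype] at h2
      exact h2.ge
    have hrel : C1.relIndex C0 ≤ p ^ b := by
      rw [← hB0c]
      let φ : C0 ⧸ C1.subgroupOf C0 → B0 := fun q =>
        ⟨⁅((Quotient.out q : C0) : G), x⁆, by
          have h1 := B0.inv_mem (hleM (Subgroup.commutator_mem_commutator hx
            (Subgroup.mem_top ((Quotient.out q : C0) : G))))
          rwa [commutatorElement_inv] at h1⟩
      refine Nat.card_le_card_of_injective φ fun q q' hq => ?_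
      rw [← QuotientGroup.out_eq' q, ← QuotientGroup.out_eq' q', QuotientGroup.eq]
      have h1 := congrArg Subtype.val hq
      simp only [φ, commutatorElement_def, mul_left_inj] at h1
      have hle2 : B ≤ Subgroup.centralizer
          ({((Quotient.out q : C0) : G)⁻¹ * ((Quotient.out q' : C0) : G)} : Set G) := by
        rw [← hgen]
        refine sup_le (fun y hy => Subgroup.mem_centralizer_singleton_iff.mpr ?_) (Subgroup.zpowers_le.mpr ?_)
        · exact (C0.mul_mem (C0.inv_mem (Quotient.out q).2) (Quotient.out q').2) y hy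
        · rw [Subgroup.mem_centralizer_singleton_iff]
          generalize ((Quotient.out q : C0) : G) = u at h1 ⊢
          generalize ((Quotient.out q' : C0) : G) = v at h1 ⊢
          calc x * (u⁻¹ * v) = u⁻¹ * (u * x * u⁻¹) * v := by group
            _ = u⁻¹ * (v * x * v⁻¹) * v := by rw [h1]
            _ = u⁻¹ * v * x := by group
      exact fun y hy => Subgroup.mem_centralizer_singleton_iff.mp (hle2 hy)
    rw [← Subgroup.relIndex_mul_index h10]
    refine (Nat.mul_le_mul hrel (ih B0 inferInstance hB0c)).trans ?_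
    rw [← pow_add]
    refine Nat.pow_le_pow_right hp.out.pos (le_of_eq ?_)
    rcases b with _ | c
    · rfl
    · rw [show (c + 1 + 1) * (c + 1 + 1 - 1) = (c + 1) * (c + 1 - 1) + (c + 1) * 2 by
        simp only [Nat.add_sub_cancel]; ring, Nat.add_mul_div_right _ _ two_pos, add_comm]

end Cfsg.Agent.Solv.AlperinC
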