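import Mathlib

/-!
# Alperin fusion by tame Sylow intersections
-/

set_option autoImplicit false
open scoped Pointwise

universe u

namespace Cfsg.Agent.Solv.AlperinTame
open Subgroup

variable {G : Type u} [Group G] {p : ℕ}

/-- `P ⊓ Q` is a tame intersection. -/
def Tame (P Q : Sylow p G) : Prop :=
  ¬ p ∣ ((P : Subgroup G) ⊓ normalizer ((((P : Subgroup G) ⊓ (Q : Subgroup G)) : Subgroup G) : Set G)).relIndex
      (normalizer ((((P : Subgroup G) ⊓ (Q : Subgroup G)) : Subgroup G) : Set G)) ∧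
  ¬ p ∣ ((Q : Subgroup G) ⊓ normalizer ((((P : Subgroup G) ⊓ (Q : Subgroup G)) : Subgroup G) : Set G)).relIndex
      (normalizer ((((P : Subgroup G) ⊓ (Q : Subgroup G)) : Subgroup G) : Set G))

/-- The image of a set under conjugation `a ↦ x⁻¹ a x`. -/
def cimg (x : G) (A : Set G) : Set G := (fun a => x⁻¹ * a * x) '' A

theorem cimg_mul (x y : G) (A : Set G) : cimg (x * y) A = cimg y (cimg x A) := by
  rw [cimg, cimg, cimg, Set.image_image]
  exact Set.image_congr' fun a => by group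

theorem cimg_one (A : Set G) : cimg 1 A = A := by simp [cimg]

theorem cimg_mono (x : G) {A B : Set G} (h : A ⊆ B) : cimg x A ⊆ cimg x B := Set.image_mono h

theorem cimg_subset_self {H : Subgroup G} {x : G} (hx : x ∈ normalizer (H : Set G)) :
    cimg x (H : Set G) ⊆ H := by
  rintro _ ⟨a, ha, rfl⟩
  have := (mem_normalizer_iff.1 (inv_mem hx) a).1 ha
  rwa [inv_inv] at this

/-- A composite of conjugations by `p`-elements in normalizers of tame intersections. -/
inductive Chain (P : Sylow p G) : Set G → G → Prop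
  | nil (A : Set G) : Chain P A 1
  | step {A : Set G} (Q : Sylow p G) (x g : G) :
      Tame P Q → x ∈ normalizer ((((P : Subgroup G) ⊓ (Q : Subgroup G)) : Subgroup G) : Set G) →
      (∃ k : ℕ, orderOf x = p ^ k) →
      A ⊆ ((((P : Subgroup G) ⊓ (Q : Subgroup G)) : Subgroup G) : Set G) →
      Chain P (cimg x A) g → Chain P A (x * g)

theorem Chain.mono {P : Sylow p G} {B : Set G} {g : G} (h : Chain P B g) :
    ∀ {A : Set G}, A ⊆ B → Chain P A g := by
  induction h with
  | nil A => exact fun _ => Chain.nil _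
  | step Q x g hT hx hp hsub _ ih =>
    exact fun hAB => Chain.step Q x g hT hx hp (hAB.trans hsub) (ih (cimg_mono x hAB))

theorem Chain.append {P : Sylow p G} {A : Set G} {x : G} (h : Chain P A x) :
    ∀ {y : G}, Chain P (cimg x A) y → Chain P A (x * y) := by
  induction h with
  | nil A =>
    intro y hy
    rw [cimg_one] at hy
    rwa [one_mul]
  | step Q z g hT hz hp hsub _ ih =>
    intro y hy
    rw [cimg_mul] at hy
    rw [mul_assoc]
    exact Chain.step Q z (g * y) hT hz hp hsub (ih hy)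

theorem mem_smul {R : Sylow p G} {g r : G} :
    r ∈ ((g • R : Sylow p G) : Subgroup G) ↔ g⁻¹ * r * g ∈ (R : Subgroup G) := by
  rw [Sylow.coe_subgroup_smul, mem_pointwise_smul_iff_inv_smul_mem]
  simp [MulAut.smul_def]

variable [Finite G] [hp : Fact p.Prime]

theorem inf_normalizer_gt {H : Subgroup G} {P : Subgroup G} (hP : IsPGroup p P) (h : H < P) :
    H < P ⊓ normalizer (H : Set G) := by
  haveI := hP.isNilpotent
  refine lt_of_le_of_ne (le_inf h.le le_normalizer) fun e => ?_
  have h1 : H.subgroupOf P < ⊤ := lt_top_iff_ne_top.2 fun t => not_le_of_gt h (subgroupOf_eq_top.1 t)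
  obtain ⟨x, hx, hxH⟩ := SetLike.exists_of_lt (normalizerCondition_of_isNilpotent _ h1)
  refine hxH (mem_subgroupOf.2 ?_)
  rw [e]
  refine ⟨x.2, ?_⟩
  have h2 : x ∈ (normalizer (H : Set G)).subgroupOf P := subgroupOf_normalizer_eq h.le ▸ hx
  exact mem_subgroupOf.1 h2

omit hp in
theorem exists_sylow_over {M U : Subgroup G} (hU : U ≤ M) (hUp : IsPGroup p U) [Fact p.Prime] :
    ∃ S : Sylow p G, U ≤ (S : Subgroup G) ∧ ¬ p ∣ ((S : Subgroup G) ⊓ M).relIndex M := by
  have h1 : IsPGroup p (U.subgroupOf M) := hUp.comap_subtype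
  obtain ⟨T, hT⟩ := h1.exists_le_sylow
  have hT2 : IsPGroup p ((T : Subgroup M).map M.subtype) := T.isPGroup'.map _
  obtain ⟨S, hS⟩ := hT2.exists_le_sylow
  refine ⟨S, fun u hu => hS ⟨⟨u, hU hu⟩, hT (mem_subgroupOf.2 hu), rfl⟩, ?_⟩
  have h3 : (S : Subgroup G).subgroupOf M = (T : Subgroup M) := by
    refine T.is_maximal' S.isPGroup'.comap_subtype fun t ht => mem_subgroupOf.2 (hS ?_)
    exact mem_map_of_mem _ ht
  rw [inf_relIndex_right, relIndex, h3]
  exact T.not_dvd_index

/-- Two Sylow subgroups of `M` are conjugate by a product of `p`-elements of `M`. -/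
theorem exists_conj_pElements {M A B : Subgroup G} (hA : IsPGroup p ↥(A ⊓ M : Subgroup G))
    (hB : IsPGroup p ↥(B ⊓ M : Subgroup G)) (hBi : ¬ p ∣ (B ⊓ M).relIndex M) :
    ∃ z ∈ closure {x : G | x ∈ M ∧ ∃ k : ℕ, orderOf x = p ^ k},
      ∀ a ∈ A ⊓ M, z⁻¹ * a * z ∈ B := by
  let K := closure {x : M | ∃ k : ℕ, orderOf x = p ^ k}
  have hle : ∀ S : Sylow p M, (S : Subgroup M) ≤ K := fun S s hs => by
    obtain ⟨k, hk⟩ := S.isPGroup'.exists_orderOf_eq_pow ⟨s, hs⟩
    exact subset_closure ⟨k, by rw [← hk]; exact orderOf_coe ⟨s, hs⟩⟩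
  have hA' : IsPGroup p ((A ⊓ M).subgroupOf M) := hA.comap_subtype
  obtain ⟨T1, hT1⟩ := hA'.exists_le_sylow
  have hB' : IsPGroup p ((B ⊓ M).subgroupOf M) := hB.comap_subtype
  let T2 : Sylow p M := hB'.toSylow hBi
  obtain ⟨k, hk⟩ := MulAction.exists_smul_eq (↥K) (T1.subtype (hle T1)) (T2.subtype (hle T2))
  refine ⟨(((k : M)⁻¹ : M) : G), ?_, fun a ha => ?_⟩
  · have h1 : ((k : M)⁻¹ : M) ∈ K := inv_mem k.2
    have h2 := mem_map_of_mem M.subtype h1
    rw [MonoidHom.map_closure] at h2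
    refine closure_mono ?_ h2
    rintro _ ⟨x, ⟨j, hj⟩, rfl⟩
    exact ⟨x.2, j, by rw [← hj]; exact orderOf_coe x⟩
  · have haM : a ∈ M := ha.2
    have haT : (⟨a, haM⟩ : M) ∈ (T1 : Subgroup M) := hT1 (mem_subgroupOf.2 ha)
    let aK : K := ⟨⟨a, haM⟩, hle T1 haT⟩
    have h1 : k * aK * k⁻¹ ∈ ((k • T1.subtype (hle T1) : Sylow p K) : Subgroup K) := by
      rw [mem_smul, show k⁻¹ * (k * aK * k⁻¹) * k = aK by group]
      exact haT
    rw [hk] at h1
    have h2 : ((k : M) * ⟨a, haM⟩ * (k : M)⁻¹) ∈ (B ⊓ M).subgroupOf M := h1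
    have h3 : ((k : M) : G) * a * ((k : M) : G)⁻¹ ∈ B := (mem_subgroupOf.1 h2).1
    simpa using h3

/-- `R` is connected to `P`. -/
def Conn (P R : Sylow p G) : Prop :=
  ∃ g : G, Chain P ((((P : Subgroup G) ⊓ (R : Subgroup G)) : Subgroup G) : Set G) g ∧
    ∀ r ∈ (R : Subgroup G), g⁻¹ * r * g ∈ (P : Subgroup G)

omit [Finite G] hp in
theorem conn_of_chain {P R : Sylow p G} {x : G}
    (hc : Chain P ((((P : Subgroup G) ⊓ (R : Subgroup G)) : Subgroup G) : Set G) x)
    (hxP : ∀ a ∈ (P : Subgroup G) ⊓ (R : Subgroup G), x⁻¹ * a * x ∈ (P : Subgroup G))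
    (hR : Conn P (x⁻¹ • R)) : Conn P R := by
  obtain ⟨y, hy, hy2⟩ := hR
  refine ⟨x * y, hc.append (hy.mono ?_), fun r hr => ?_⟩
  · rintro _ ⟨a, ha, rfl⟩
    refine ⟨hxP a ha, mem_smul.2 ?_⟩
    rw [show x⁻¹⁻¹ * (x⁻¹ * a * x) * x⁻¹ = a by group]
    exact ha.2
  · have := hy2 (x⁻¹ * r * x) (mem_smul.2 (by
      rw [show x⁻¹⁻¹ * (x⁻¹ * r * x) * x⁻¹ = r by group]; exact hr))
    rwa [show (x * y)⁻¹ * r * (x * y) = y⁻¹ * (x⁻¹ * r * x) * y by group]

omit [Finite G] hp in
theorem chain_of_closure {P Q : Sylow p G} (hT : Tame P Q) {z : G}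
    (hz : z ∈ closure {x : G | x ∈ normalizer ((((P : Subgroup G) ⊓ (Q : Subgroup G)) : Subgroup G) : Set G) ∧
      ∃ k : ℕ, orderOf x = p ^ k}) :
    Chain P ((((P : Subgroup G) ⊓ (Q : Subgroup G)) : Subgroup G) : Set G) z := by
  induction hz using closure_induction_left with
  | one => exact Chain.nil _
  | mul_left x hx y _ ih =>
    exact Chain.step Q x y hT hx.1 hx.2 subset_rfl (ih.mono (cimg_subset_self hx.1))
  | inv_mul_cancel x hx y _ ih =>
    exact Chain.step Q x⁻¹ y hT (inv_mem hx.1) (by rw [orderOf_inv]; exact hx.2) subset_rfl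
      (ih.mono (cimg_subset_self (inv_mem hx.1)))

theorem card_lt_card {H K : Subgroup G} (h : H < K) : Nat.card H < Nat.card K :=
  lt_of_le_of_ne (card_le_of_le h.le) fun e => h.ne (eq_of_le_of_card_ge h.le e.ge)

/-- Alperin: every Sylow subgroup is connected to `P`. -/
theorem conn (P : Sylow p G) : ∀ (m : ℕ) (R : Sylow p G),
    Nat.card G - Nat.card ↥((P : Subgroup G) ⊓ (R : Subgroup G) : Subgroup G) = m → Conn P R := by
  intro m
  induction m using Nat.strong_induction_on with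
  | _ m ih =>
    intro R hm
    set H : Subgroup G := (P : Subgroup G) ⊓ (R : Subgroup G) with hH
    have hstep : ∀ R' : Sylow p G,
        Nat.card H < Nat.card ↥((P : Subgroup G) ⊓ (R' : Subgroup G) : Subgroup G) → Conn P R' := by
      intro R' h
      have := card_le_card_group ((P : Subgroup G) ⊓ (R' : Subgroup G))
      exact ih _ (by omega) R' rfl
    by_cases hHP : H = (P : Subgroup G)
    · have he : (P : Subgroup G) = (R : Subgroup G) := by
        refine eq_of_le_of_card_ge (hHP ▸ (inf_le_right : H ≤ _)) ?_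
        rw [P.card_eq_multiplicity, R.card_eq_multiplicity]
      exact ⟨1, Chain.nil _, fun r hr => by rw [he]; simpa using hr⟩
    have hlt : H < (P : Subgroup G) := lt_of_le_of_ne inf_le_left hHP
    have hltR : H < (R : Subgroup G) := by
      refine lt_of_le_of_ne inf_le_right fun e => hHP ?_
      refine eq_of_le_of_card_ge inf_le_left ?_
      change Nat.card (P : Subgroup G) ≤ Nat.card H
      rw [e, P.card_eq_multiplicity, R.card_eq_multiplicity]
    -- the case in which `N_P(H)` is a Sylow subgroup of `N(H)`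
    have main : ∀ R₀ : Sylow p G,
        Nat.card H ≤ Nat.card ↥((P : Subgroup G) ⊓ (R₀ : Subgroup G) : Subgroup G) →
        (P : Subgroup G) ⊓ (R₀ : Subgroup G) < (R₀ : Subgroup G) →
        ¬ p ∣ ((P : Subgroup G) ⊓ normalizer ((((P : Subgroup G) ⊓ (R₀ : Subgroup G)) : Subgroup G) : Set G)).relIndex
          (normalizer ((((P : Subgroup G) ⊓ (R₀ : Subgroup G)) : Subgroup G) : Set G)) →
        Conn P R₀ := by
      intro R₀ hle hltR₀ hPi
      set H₀ : Subgroup G := (P : Subgroup G) ⊓ (R₀ : Subgroup G) with hH₀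
      set M := normalizer (H₀ : Set G) with hM
      obtain ⟨T, hTN, hTi⟩ := exists_sylow_over (M := M) inf_le_right
        (R₀.isPGroup'.to_le (inf_le_left : (R₀ : Subgroup G) ⊓ M ≤ _))
      have hgt : H₀ < (R₀ : Subgroup G) ⊓ M := inf_normalizer_gt R₀.isPGroup' hltR₀
      have hH0T : H₀ ≤ (P : Subgroup G) ⊓ (T : Subgroup G) :=
        le_inf inf_le_left (hgt.le.trans hTN)
      -- any conjugation moving `N_R(H)` into `P` makes the intersection larger
      have grow : ∀ x : G, (∀ a ∈ (R₀ : Subgroup G) ⊓ M, x⁻¹ * a * x ∈ (P : Subgroup G)) →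
          Conn P (x⁻¹ • R₀) := by
        intro x hx
        refine hstep _ (lt_of_le_of_lt hle (lt_of_lt_of_le (card_lt_card hgt) ?_))
        rw [← card_map_of_injective (K := (R₀ : Subgroup G) ⊓ M)
          (f := (MulAut.conj x⁻¹).toMonoidHom) (MulAut.conj x⁻¹).injective]
        refine card_le_of_le ?_
        rintro _ ⟨a, ha, rfl⟩
        simp only [MulEquiv.coe_toMonoidHom, MulAut.conj_apply, inv_inv]
        refine ⟨hx a ha, mem_smul.2 ?_⟩
        rw [show x⁻¹⁻¹ * (x⁻¹ * a * x) * x⁻¹ = a by group]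
        exact ha.1
      by_cases hT : H₀ = (P : Subgroup G) ⊓ (T : Subgroup G)
      · have htame : Tame P T := by
          unfold Tame
          rw [← hT]
          exact ⟨hPi, hTi⟩
        obtain ⟨z, hz, hzP⟩ := exists_conj_pElements (M := M) (A := (T : Subgroup G))
          (B := (P : Subgroup G)) (T.isPGroup'.to_le inf_le_left) (P.isPGroup'.to_le inf_le_left) hPi
        have hzc := chain_of_closure htame (z := z) (by rw [← hT]; exact hz)
        rw [← hT] at hzc
        exact conn_of_chain hzc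
          (fun a ha => hzP a ⟨(hH0T ha).2, le_normalizer ha⟩)
          (grow z fun a ha => hzP a ⟨hTN ha, ha.2⟩)
      · obtain ⟨x, hx, hx2⟩ := hstep T
          (lt_of_le_of_lt hle (card_lt_card (lt_of_le_of_ne hH0T hT)))
        exact conn_of_chain (hx.mono hH0T) (fun a ha => hx2 a (hH0T ha).2)
          (grow x fun a ha => hx2 a (hTN ha))
    obtain ⟨S, hSU, hSi⟩ := exists_sylow_over (M := normalizer (H : Set G)) inf_le_right
      (P.isPGroup'.to_le (inf_le_left : (P : Subgroup G) ⊓ normalizer (H : Set G) ≤ _))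
    have hgtP := inf_normalizer_gt P.isPGroup' hlt
    obtain ⟨x, hx, hx2⟩ := hstep S (lt_of_lt_of_le (card_lt_card hgtP)
      (card_le_of_le (le_inf inf_le_left hSU)))
    have hHS : H ≤ (P : Subgroup G) ⊓ (S : Subgroup G) := le_inf inf_le_left (hgtP.le.trans hSU)
    refine conn_of_chain (hx.mono hHS) (fun a ha => hx2 a (hHS ha).2) ?_
    set f := (MulAut.conj x⁻¹).toMonoidHom with hf
    have hfx : ∀ a : G, f a = x⁻¹ * a * x := fun a => by simp [hf]
    have hle : H.map f ≤ (P : Subgroup G) ⊓ ((x⁻¹ • R : Sylow p G) : Subgroup G) := by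
      rintro _ ⟨a, ha, rfl⟩
      rw [hfx]
      refine ⟨hx2 a (hHS ha).2, mem_smul.2 ?_⟩
      rw [show x⁻¹⁻¹ * (x⁻¹ * a * x) * x⁻¹ = a by group]
      exact ha.2
    have hcard : Nat.card ↥(H.map f) = Nat.card H :=
      card_map_of_injective (MulAut.conj x⁻¹).injective
    by_cases heq : H.map f = (P : Subgroup G) ⊓ ((x⁻¹ • R : Sylow p G) : Subgroup G)
    swap
    · exact hstep _ (hcard ▸ card_lt_card (lt_of_le_of_ne hle heq))
    refine main _ (by rw [← heq, hcard]) (lt_of_le_of_ne inf_le_right fun e => ?_) ?_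
    · have h1 := card_lt_card hltR
      rw [← hcard, heq, e, R.card_eq_multiplicity, Sylow.card_eq_multiplicity] at h1
      exact lt_irrefl _ h1
    · rw [← heq, show normalizer ((H.map f : Subgroup G) : Set G) = (normalizer (H : Set G)).map f from
        (map_equiv_normalizer_eq H (MulAut.conj x⁻¹)).symm]
      intro hd
      apply hSi
      rw [← relIndex_map_map_of_injective _ _ (f := f) (MulAut.conj x⁻¹).injective]
      refine hd.trans (relIndex_dvd_of_le_left _ ?_)
      rintro _ ⟨a, ha, rfl⟩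
      refine ⟨?_, mem_map_of_mem f ha.2⟩
      rw [hfx]
      exact hx2 a ha.1

/-- Alperin's fusion theorem with tame intersections and `p`-elements. -/
theorem fusion (P : Sylow p G) {A : Set G} {g : G} (hA : A ⊆ ((P : Subgroup G) : Set G))
    (hAg : cimg g A ⊆ ((P : Subgroup G) : Set G)) :
    ∃ x n : G, g = x * n ∧ n ∈ normalizer ((P : Subgroup G) : Set G) ∧ Chain P A x ∧
      cimg x A ⊆ ((P : Subgroup G) : Set G) := by
  have hAR : A ⊆ ((((P : Subgroup G) ⊓ ((g • P : Sylow p G) : Subgroup G)) : Subgroup G) : Set G) :=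
    fun a ha => ⟨hA ha, mem_smul.2 (hAg ⟨a, ha, rfl⟩)⟩
  obtain ⟨x, hx, hx2⟩ := conn P _ (g • P) rfl
  refine ⟨x, x⁻¹ * g, by group, ?_, hx.mono hAR, ?_⟩
  · have h1 : (P : Subgroup G).map (MulAut.conj (x⁻¹ * g)).toMonoidHom = (P : Subgroup G) := by
      refine eq_of_le_of_card_ge ?_ (le_of_eq ?_)
      · rintro _ ⟨a, ha, rfl⟩
        simp only [MulEquiv.coe_toMonoidHom, MulAut.conj_apply]
        have := hx2 (g * a * g⁻¹) (mem_smul.2 (by
          rwa [show g⁻¹ * (g * a * g⁻¹) * g = a by group]))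
        rwa [show x⁻¹ * g * a * (x⁻¹ * g)⁻¹ = x⁻¹ * (g * a * g⁻¹) * x by group]
      · exact (card_map_of_injective (MulAut.conj (x⁻¹ * g)).injective).symm
    rw [mem_normalizer_iff]
    intro a
    constructor
    · intro ha
      rw [← h1]
      exact ⟨a, ha, rfl⟩
    · intro ha
      rw [← h1] at ha
      obtain ⟨b, hb, e⟩ := ha
      simp only [MulEquiv.coe_toMonoidHom, MulAut.conj_apply, mul_right_cancel_iff, mul_left_cancel_iff] at e
      rwa [← e]
  · rintro _ ⟨a, ha, rfl⟩
    exact hx2 a (hAR ha).2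

omit [Finite G] hp in
theorem tame_self_aux (P : Sylow p G) :
    (P : Subgroup G) ⊓ (P : Subgroup G) = (P : Subgroup G) := inf_idem _

theorem tame_self (P : Sylow p G) : Tame P P := by
  unfold Tame
  rw [inf_idem]
  have h : ¬ p ∣ ((P : Subgroup G) ⊓ normalizer ((P : Subgroup G) : Set G)).relIndex
      (normalizer ((P : Subgroup G) : Set G)) := by
    rw [inf_relIndex_right]
    exact fun hd => P.not_dvd_index (hd.trans (relIndex_dvd_index_of_le le_normalizer))
  exact ⟨h, h⟩

theorem exists_list (P : Sylow p G) {A : Set G} {g : G} (h : Chain P A g) :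
    ∀ n₀ ∈ normalizer ((P : Subgroup G) : Set G),
    cimg g A ⊆ ((P : Subgroup G) : Set G) →
    ∃ (m : ℕ) (Q : Fin (m + 1) → Sylow p G) (x : Fin (m + 1) → G),
      (List.ofFn x).prod = g * n₀ ∧
      (∀ i, x i ∈ normalizer ((((P : Subgroup G) ⊓ (Q i : Subgroup G)) : Subgroup G) : Set G) ∧
        Tame P (Q i)) ∧
      A ⊆ ((((P : Subgroup G) ⊓ (Q 0 : Subgroup G)) : Subgroup G) : Set G) ∧
      ∀ i : Fin (m + 1), ∀ hi : i.val + 1 < m + 1,
        cimg (((List.ofFn x).take (i.val + 1)).prod) A ⊆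
          ((((P : Subgroup G) ⊓ (Q ⟨i.val + 1, hi⟩ : Subgroup G)) : Subgroup G) : Set G) := by
  induction h with
  | nil A =>
    intro n₀ hn hAP
    rw [cimg_one] at hAP
    refine ⟨0, fun _ => P, fun _ => n₀, by simp, fun i => ⟨by rwa [inf_idem], tame_self P⟩,
      fun a ha => ⟨hAP ha, hAP ha⟩, fun i hi => absurd hi (by omega)⟩
  | step Q x g hT hx hp' hsub _ ih =>
    intro n₀ hn hAP
    rw [cimg_mul] at hAP
    obtain ⟨m, Q', x', hprod, hmem, hfirst, hnext⟩ := ih n₀ hn hAP
    refine ⟨m + 1, Fin.cons Q Q', Fin.cons x x', ?_, fun i => ?_, ?_, fun i hi => ?_⟩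
    · rw [List.ofFn_succ, List.prod_cons]
      simp only [Fin.cons_zero, Fin.cons_succ]
      rw [hprod, mul_assoc]
    · refine Fin.cases ?_ (fun j => ?_) i
      · simp only [Fin.cons_zero]
        exact ⟨hx, hT⟩
      · simp only [Fin.cons_succ]
        exact hmem j
    · simp only [Fin.cons_zero]
      exact hsub
    · rw [List.ofFn_succ]
      simp only [Fin.cons_zero, Fin.cons_succ, List.take_succ_cons, List.prod_cons]
      obtain ⟨i, hlt⟩ := i
      cases i with
      | zero =>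
        simp only [List.take_zero, List.prod_nil, mul_one]
        exact hfirst
      | succ j =>
        rw [cimg_mul]
        exact hnext ⟨j, by omega⟩ (by simpa using hi)

end Cfsg.Agent.Solv.AlperinTame
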