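import Cfsg.Agent.Lib.Solv.StructMisc
import Cfsg.Agent.Lib.Solv.PSolvable
import Cfsg.Agent.Lib.Struct.CoprimeMinimal

/-!
Burnside's basis theorem.
-/

set_option autoImplicit false
set_option linter.style.haveILetI false

namespace Cfsg.Agent.Solv.Basis

open Subgroup
open scoped commutatorElement

variable {G : Type*} [Group G] [Finite G] {p : ℕ} [hp : Fact p.Prime]

theorem step (hP : IsPGroup p G) (H : Subgroup G) (hH : frattini G ≤ H) (x : G) :
    H.index ≤ (H ⊔ zpowers x).index * p ∧ (x ∉ H → H.index = (H ⊔ zpowers x).index * p) := by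
  haveI := hP.isNilpotent
  haveI : H.Normal := ⟨fun h hh y => by
    have h1 : ⁅y, h⁆ ∈ H := hH (Solv.commutator_le_frattini
      (by rw [_root_.commutator_def]; exact commutator_mem_commutator (mem_top y) (mem_top h)))
    have h2 := H.mul_mem h1 hh
    rwa [commutatorElement_def, inv_mul_cancel_right] at h2⟩
  set f := QuotientGroup.mk' H
  have he : H ⊔ zpowers x = (zpowers (f x)).comap f := by
    rw [← MonoidHom.map_zpowers, comap_map_eq, QuotientGroup.ker_mk', sup_comm]
  have hrel : H.relIndex (H ⊔ zpowers x) = orderOf (f x) := by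
    rw [he, Solv.relIndex_comap_mk', Nat.card_zpowers]
  have hdvd : orderOf (f x) ∣ p := orderOf_dvd_of_pow_eq_one
    (by rw [← map_pow]; exact (QuotientGroup.eq_one_iff _).mpr (hH (Struct.CoprimeMinimal.pow_mem_frattini hP x)))
  have hmul := relIndex_mul_index (le_sup_left : H ≤ H ⊔ zpowers x)
  rw [hrel, mul_comm] at hmul
  refine ⟨?_, fun hx => ?_⟩
  · rw [← hmul]
    exact Nat.mul_le_mul le_rfl (Nat.le_of_dvd hp.out.pos hdvd)
  · rw [← hmul, (hp.out.eq_one_or_self_of_dvd _ hdvd).resolve_left fun h => hx
      ((QuotientGroup.eq_one_iff x).mp (orderOf_eq_one_iff.mp h))]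

theorem closure_insert_sup [DecidableEq G] (x : G) (T : Finset G) (K : Subgroup G) :
    closure ((insert x T : Finset G) : Set G) ⊔ K = closure (T : Set G) ⊔ K ⊔ zpowers x := by
  rw [Finset.coe_insert, Set.insert_eq, Subgroup.closure_union, ← zpowers_eq_closure]
  ac_rfl

theorem index_le (hP : IsPGroup p G) (T : Finset G) :
    (frattini G).index ≤ (closure (T : Set G) ⊔ frattini G).index * p ^ T.card := by
  classical
  induction T using Finset.induction with
  | empty => simp
  | @insert x T hx ih =>
    rw [closure_insert_sup, Finset.card_insert_of_notMem hx, pow_succ, mul_comm (p ^ T.card), ← mul_assoc]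
    exact ih.trans (Nat.mul_le_mul (step hP _ le_sup_right x).1 le_rfl)

theorem index_eq (hP : IsPGroup p G) (T : Finset G)
    (hT : ∀ x ∈ T, x ∉ closure ((T : Set G) \ {x}) ⊔ frattini G) :
    (frattini G).index = (closure (T : Set G) ⊔ frattini G).index * p ^ T.card := by
  classical
  induction T using Finset.induction with
  | empty => simp
  | @insert x T hx ih =>
    have h1 : x ∉ closure (T : Set G) ⊔ frattini G := fun h => hT x (Finset.mem_insert_self x T)
      (sup_le_sup_right (closure_mono fun y hy => show y ∈ ((insert x T : Finset G) : Set G) \ {x} from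
        ⟨Finset.mem_insert_of_mem hy, fun e => hx ((Set.mem_singleton_iff.mp e) ▸ hy)⟩) _ h)
    rw [closure_insert_sup, Finset.card_insert_of_notMem hx, pow_succ, mul_comm (p ^ T.card),
      ← mul_assoc, ← (step hP _ le_sup_right x).2 h1]
    exact ih fun y hy h => hT y (Finset.mem_insert_of_mem hy)
      (sup_le_sup_right (closure_mono fun z hz =>
        show z ∈ ((insert x T : Finset G) : Set G) \ {y} from
          ⟨Finset.mem_insert_of_mem hz.1, hz.2⟩) _ h)

theorem basis (hP : IsPGroup p G) {n : ℕ} (hn : (frattini G).index = p ^ n) (S : Finset G)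
    (hS : closure (S : Set G) = ⊤) :
    ∃ T : Finset G, T ⊆ S ∧ T.card = n ∧ closure (T : Set G) = ⊤ := by
  classical
  obtain ⟨T, hTmem, hmin⟩ := Finset.exists_min_image
    (S.powerset.filter fun T : Finset G => closure (T : Set G) = ⊤) Finset.card
    ⟨S, Finset.mem_filter.mpr ⟨Finset.mem_powerset.mpr le_rfl, hS⟩⟩
  obtain ⟨hTS, hT⟩ := Finset.mem_filter.mp hTmem
  refine ⟨T, Finset.mem_powerset.mp hTS, ?_, hT⟩
  have hind : ∀ x ∈ T, x ∉ closure ((T : Set G) \ {x}) ⊔ frattini G := by
    intro x hx h
    have h1 : closure ((T.erase x : Finset G) : Set G) = ⊤ := by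
      rw [Finset.coe_erase]
      refine frattini_nongenerating (eq_top_iff.mpr ?_)
      rw [← hT, closure_le]
      intro y hy
      by_cases hyx : y = x
      · exact hyx ▸ h
      · exact mem_sup_left (subset_closure ⟨hy, hyx⟩)
    have h2 := hmin (T.erase x) (Finset.mem_filter.mpr ⟨Finset.mem_powerset.mpr
      ((Finset.erase_subset x T).trans (Finset.mem_powerset.mp hTS)), h1⟩)
    exact (Finset.card_erase_lt_of_mem hx).not_ge h2
  have h := index_eq hP T hind
  rw [hT, top_sup_eq, index_top, one_mul, hn] at h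
  exact (Nat.pow_right_injective hp.out.two_le h).symm

theorem card_ge (hP : IsPGroup p G) {n : ℕ} (hn : (frattini G).index = p ^ n) (T : Finset G)
    (hT : closure (T : Set G) = ⊤) : n ≤ T.card := by
  have h := index_le hP T
  rw [hT, top_sup_eq, index_top, one_mul, hn] at h
  exact (Nat.pow_le_pow_iff_right hp.out.one_lt).mp h

theorem exists_generators (hP : IsPGroup p G) {n : ℕ} (hn : (frattini G).index = p ^ n) :
    ∃ T : Finset G, T.card = n ∧ closure (T : Set G) = ⊤ := by
  classical
  haveI := Fintype.ofFinite G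
  obtain ⟨T, -, h⟩ := basis hP hn Finset.univ (by rw [Finset.coe_univ, Subgroup.closure_univ])
  exact ⟨T, h⟩

end Cfsg.Agent.Solv.Basis
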