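import Mathlib
import Cfsg.Agent.Lib.Solv.Basic
import Cfsg.Agent.Lib.Solv.Misc
import Cfsg.Agent.Lib.Solv.FpfNilpotent
import Cfsg.Agent.Lib.Struct.FpfCenter
import Cfsg.Agent.Lib.Struct.FpfComplement
import Cfsg.Prelude.Def_OddOrderLocal
import Cfsg.Prelude.Def_LieExceptional

/-!
Groups with nilpotent centralizers having a normal Sylow subgroup.
-/

set_option autoImplicit false
set_option linter.style.haveILetI false

namespace Cfsg.Agent.Solv.CNFrobenius

open Subgroup Cfsg

universe u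

variable {G : Type u} [Group G] [Finite G]

theorem fittingHall_le : fittingHall G ≤ fittingSubgroup G :=
  sSup_le fun _ hN => haveI := hN.1; le_fittingSubgroup hN.2.1

theorem isNilpotent_fittingHall : Group.IsNilpotent (fittingHall G) := by
  haveI := fittingSubgroup_isNilpotent G
  exact Group.nilpotent_of_mulEquiv (subgroupOfEquivOfLe (fittingHall_le (G := G)))

theorem le_fittingHall {N : Subgroup G} (hn : N.Normal) (hN : Group.IsNilpotent N)
    (hc : (Nat.card N).Coprime N.index) : N ≤ fittingHall G := le_sSup ⟨hn, hN, hc⟩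

theorem coprime_fittingHall : (Nat.card (fittingHall G)).Coprime (fittingHall G).index := by
  refine Nat.coprime_of_dvd fun q hq h1 h2 => ?_
  haveI := Fact.mk hq
  have hle : fittingHall G ≤ pPrimeCore q G := sSup_le fun N hN => by
    haveI := hN.1
    refine le_pPrimeCore ((hq.coprime_iff_not_dvd.2 fun hd => ?_).symm)
    have hN' : N ≤ fittingHall G := le_sSup hN
    have h3 : q ∣ Nat.gcd (Nat.card N) N.index := Nat.dvd_gcd hd (h2.trans (index_dvd_of_le hN'))
    rw [hN.2.2] at h3
    exact hq.not_dvd_one h3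
  exact (hq.coprime_iff_not_dvd.1 (card_pPrimeCore_coprime q G).symm) (h1.trans (card_dvd_of_le hle))

theorem sylow_le_fittingHall {q : ℕ} [Fact q.Prime] (Q : Sylow q G) (hQ : (Q : Subgroup G).Normal) :
    (Q : Subgroup G) ≤ fittingHall G :=
  le_fittingHall hQ Q.2.isNilpotent Q.card_coprime_index

variable (hCN : IsCNGroup G)
include hCN

theorem commute_in_centralizer {z a b : G} (hz : z ≠ 1) (ha : a * z = z * a) (hb : b * z = z * b)
    (hcop : (orderOf a).Coprime (orderOf b)) : a * b = b * a := by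
  have h := commute_of_coprime_orderOf_of_isNilpotent (hCN z hz)
    (x := ⟨a, mem_centralizer_singleton_iff.2 ha⟩) (g := ⟨b, mem_centralizer_singleton_iff.2 hb⟩)
    (by rwa [Subgroup.orderOf_mk, Subgroup.orderOf_mk])
  exact congrArg Subtype.val h.eq

variable {p : ℕ} [Fact p.Prime] (P : Sylow p G) (hP1 : (P : Subgroup G) ≠ ⊥) (hPn : (P : Subgroup G).Normal)
include hP1 hPn

omit hCN in
theorem exists_center : ∃ z ∈ (P : Subgroup G), z ≠ 1 ∧ ∀ x ∈ (P : Subgroup G), x * z = z * x := by
  haveI : Nontrivial (P : Subgroup G) := (nontrivial_iff_ne_bot _).2 hP1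
  obtain ⟨⟨z, hz⟩, hzc, hz1⟩ := (center (P : Subgroup G)).ne_bot_iff_exists_ne_one.1 (nontrivial_iff_ne_bot _ |>.1 P.2.center_nontrivial) |>
    fun ⟨⟨a, ha⟩, h⟩ => (⟨a, ha, fun e => h (Subtype.ext e)⟩ : ∃ a, a ∈ center (P : Subgroup G) ∧ a ≠ 1)
  exact ⟨z, hz, fun h => hz1 (Subtype.ext h), fun x hx => congrArg Subtype.val (mem_center_iff.1 hzc ⟨x, hx⟩)⟩

theorem centralizer_le : centralizer ((P : Subgroup G) : Set G) ≤ fittingHall G := by
  classical
  haveI := hPn
  obtain ⟨z₀, hz₀P, hz₀, -⟩ := exists_center P hP1 hPn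
  set C := centralizer ((P : Subgroup G) : Set G) with hC
  haveI : Group.IsNilpotent C := by
    haveI := hCN z₀ hz₀
    exact Group.nilpotent_of_mulEquiv (subgroupOfEquivOfLe (show C ≤ centralizer {z₀} from fun c hc =>
      mem_centralizer_singleton_iff.2 (mem_centralizer_iff.1 hc z₀ hz₀P).symm))
  suffices h : ((fittingHall G).comap C.subtype).index = 1 by
    intro c hc
    exact (index_eq_one.1 h ▸ mem_top (⟨c, hc⟩ : C) : (⟨c, hc⟩ : C) ∈ (fittingHall G).comap C.subtype)
  by_contra hne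
  obtain ⟨q, hq, hd⟩ := Nat.exists_prime_and_dvd hne
  haveI := Fact.mk hq
  obtain ⟨Q₀⟩ := Sylow.nonempty (p := q) (G := C)
  refine Q₀.not_dvd_index (hd.trans (index_dvd_of_le (map_le_iff_le_comap.1 ?_)))
  haveI hQ₀n : (Q₀ : Subgroup C).Normal :=
    ((Group.isNilpotent_of_finite_tfae (G := C)).out 0 3 rfl rfl).mp inferInstance q ⟨hq⟩ Q₀
  haveI : (Q₀ : Subgroup C).Characteristic := Sylow.characteristic_of_normal Q₀ hQ₀n
  set R := (Q₀ : Subgroup C).map C.subtype with hR
  have hRq : IsPGroup q R := Q₀.2.map _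
  by_cases hqp : q = p
  · subst hqp
    exact (hRq.le_sylow_of_normal P).trans (sylow_le_fittingHall P hPn)
  rcases eq_or_ne R ⊥ with h | hR0
  · rw [h]; exact bot_le
  haveI : R.Normal := by rw [hR]; infer_instance
  obtain ⟨Q, hRQ⟩ := hRq.exists_le_sylow
  haveI := Q.2.isNilpotent
  haveI : (R.subgroupOf Q).Normal := Normal.comap inferInstance _
  have hne' : R.subgroupOf Q ≠ ⊥ := by
    rw [Ne, subgroupOf_eq_bot, disjoint_iff, inf_eq_left.2 hRQ]; exact hR0
  obtain ⟨⟨z, hzR, hzc⟩, hz1⟩ := ne_bot_iff_exists_ne_one.1 (inf_center_ne_bot (R.subgroupOf Q) hne')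
  have hzC : (z : G) ∈ C := map_subtype_le _ hzR
  have hz1' : (z : G) ≠ 1 := fun h => hz1 (Subtype.ext (Subtype.ext h))
  have hQC : (Q : Subgroup G) ≤ C := by
    intro y hy
    rw [hC, mem_centralizer_iff]
    intro x hx
    refine commute_in_centralizer hCN hz1' (mem_centralizer_iff.1 hzC x hx) (congrArg Subtype.val (mem_center_iff.1 hzc ⟨y, hy⟩)) ?_
    obtain ⟨i, hi⟩ := IsPGroup.iff_orderOf.1 P.2 ⟨x, hx⟩
    obtain ⟨j, hj⟩ := IsPGroup.iff_orderOf.1 Q.2 ⟨y, hy⟩
    rw [Subgroup.orderOf_mk] at hi hj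
    rw [hi, hj]
    exact ((Nat.coprime_primes (Fact.out : p.Prime) hq).2 (Ne.symm hqp)).pow i j
  have hQ0le : (Q₀ : Subgroup C) ≤ (Q : Subgroup G).subgroupOf C := fun c hc => hRQ ⟨c, hc, rfl⟩
  have heq : (Q : Subgroup G).subgroupOf C = (Q₀ : Subgroup C) :=
    Q₀.3 ((Q.2).comap_of_injective C.subtype C.subtype_injective) hQ0le
  have hQR : (Q : Subgroup G) = R := by
    rw [hR, ← heq, map_subgroupOf_eq_of_le hQC]
  rw [← hQR]
  exact sylow_le_fittingHall Q (by rw [hQR]; infer_instance)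

theorem fpf_coprime :
    ∀ e : G, (orderOf e).Coprime (Nat.card (fittingHall G)) → e ≠ 1 → fittingHall G ⊓ centralizer ({e} : Set G) = ⊥ := by
  intro e he he1
  rw [eq_bot_iff_forall]
  intro h hh
  by_contra hh1
  obtain ⟨hhH, hhe⟩ := mem_inf.1 hh
  set q := (orderOf e).minFac
  set r := (orderOf h).minFac
  have hq : q.Prime := Nat.minFac_prime fun c => he1 (orderOf_eq_one_iff.1 c)
  have hr : r.Prime := Nat.minFac_prime fun c => hh1 (orderOf_eq_one_iff.1 c)
  set e' := e ^ (orderOf e / q)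
  set h' := h ^ (orderOf h / r)
  have hoe : orderOf e' = q := orderOf_pow_orderOf_div (orderOf_pos e).ne' (Nat.minFac_dvd _)
  have hoh : orderOf h' = r := orderOf_pow_orderOf_div (orderOf_pos h).ne' (Nat.minFac_dvd _)
  have heC : (orderOf e').Coprime (Nat.card (fittingHall G)) := he.coprime_dvd_left (orderOf_pow_dvd _)
  have hhH' : h' ∈ fittingHall G := (fittingHall G).pow_mem hhH _
  have hcom : e' * h' = h' * e' :=
    ((show Commute e h from (mem_centralizer_singleton_iff.1 hhe).symm).pow_pow _ _).eq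
  have hh1' : h' ≠ 1 := fun c => hr.ne_one (by rw [← hoh, c, orderOf_one])
  have hPH := sylow_le_fittingHall P hPn
  have hqH : ¬ q ∣ Nat.card (fittingHall G) := hq.coprime_iff_not_dvd.1 (hoe ▸ heC)
  have hqp : ∀ x ∈ (P : Subgroup G), (orderOf e').Coprime (orderOf x) := fun x hx => by
    rw [hoe]
    exact hq.coprime_iff_not_dvd.2 fun hd => hqH (hd.trans (Subgroup.orderOf_dvd_natCard _ (hPH hx)))
  have hcP : e' ∈ centralizer ((P : Subgroup G) : Set G) := by
    rw [mem_centralizer_iff]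
    intro x hx
    by_cases hrp : r = p
    · have hh'P : h' ∈ (P : Subgroup G) := by
        obtain ⟨Q, hQ⟩ := (IsPGroup.of_card (p := p) (n := 1) (by rw [Nat.card_zpowers, hoh, hrp, pow_one]) :
          IsPGroup p (zpowers h')).exists_le_sylow
        haveI := Sylow.unique_of_normal P hPn
        exact Subsingleton.elim Q P ▸ hQ (mem_zpowers h')
      obtain ⟨z, hzP, hz1, hzc⟩ := exists_center P hP1 hPn
      have hez : e' * z = z * e' := commute_in_centralizer hCN hh1' hcom (hzc h' hh'P).symm (hqp z hzP)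
      exact (commute_in_centralizer hCN hz1 hez (hzc x hx) (hqp x hx)).symm
    · have hxh : x * h' = h' * x := by
        have := commute_of_coprime_orderOf_of_isNilpotent (isNilpotent_fittingHall (G := G))
          (x := ⟨x, hPH hx⟩) (g := ⟨h', hhH'⟩) (by
            rw [Subgroup.orderOf_mk, Subgroup.orderOf_mk, hoh]
            obtain ⟨i, hi⟩ := IsPGroup.iff_orderOf.1 P.2 ⟨x, hx⟩
            rw [Subgroup.orderOf_mk] at hi
            rw [hi]
            exact ((Nat.coprime_primes (Fact.out : p.Prime) hr).2 (Ne.symm hrp)).pow_left i)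
        exact congrArg Subtype.val this.eq
      exact (commute_in_centralizer hCN hh1' hcom hxh (hqp x hx)).symm
  exact hqH (hoe ▸ Subgroup.orderOf_dvd_natCard _ (centralizer_le hCN P hP1 hPn hcP))

theorem fpf (E : Subgroup G) (hE : IsComplement' (fittingHall G) E) :
    ∀ e ∈ E, e ≠ 1 → fittingHall G ⊓ centralizer ({e} : Set G) = ⊥ := fun e he =>
  fpf_coprime hCN P hP1 hPn e ((coprime_fittingHall.symm.coprime_dvd_left (hE.symm.index_eq_card ▸ Subgroup.orderOf_dvd_natCard E he)))

theorem frobenius (hnn : ¬ Group.IsNilpotent G) :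
    fittingHall G ≠ ⊥ ∧ fittingHall G ≠ ⊤ ∧
      (∃ E : Subgroup G, IsComplement' (fittingHall G) E ∧ IsFrobeniusComplement E ∧
        ∀ e ∈ E, e ≠ 1 → fittingHall G ⊓ centralizer ({e} : Set G) = ⊥) ∧
      Group.IsNilpotent (G ⧸ fittingHall G) := by
  classical
  set H := fittingHall G with hHdef
  have hH0 : H ≠ ⊥ := fun h => hP1 (le_bot_iff.1 (h ▸ sylow_le_fittingHall P hPn))
  have hHtop : H ≠ ⊤ := fun h => hnn (by
    haveI := isNilpotent_fittingHall (G := G)
    exact Group.nilpotent_of_mulEquiv ((MulEquiv.subgroupCongr h).trans topEquiv))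
  obtain ⟨E, hE⟩ := exists_right_complement'_of_coprime (N := H) coprime_fittingHall
  have hf := fpf hCN P hP1 hPn E hE
  have hE0 : E ≠ ⊥ := fun h => hHtop (by rwa [h, isComplement'_bot_right] at hE)
  refine ⟨hH0, hHtop, ⟨E, hE, Struct.Frobenius.isFrobeniusComplement_of_fpf' hE hH0 hE0 hf, hf⟩, ?_⟩
  have hcop : (Nat.card E).Coprime (Nat.card H) := by
    rw [← hE.symm.index_eq_card]; exact coprime_fittingHall.symm
  have hcen : center E ≠ ⊥ := by
    by_cases h2 : 2 ∣ Nat.card E
    · obtain ⟨⟨s, hs⟩, hso⟩ := exists_prime_orderOf_dvd_card' (G := E) 2 h2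
      rw [Subgroup.orderOf_mk] at hso
      have hs1 : s ≠ 1 := fun c => by rw [c, orderOf_one] at hso; norm_num at hso
      have hss : s * s = 1 := by rw [← pow_two, ← hso, pow_orderOf_eq_one]
      have hinv : ∀ t ∈ E, t ≠ 1 → t * t = 1 → ∀ x ∈ H, t * x * t⁻¹ = x⁻¹ := by
        intro t ht ht1 htt x hx
        have hfix : MonoidHom.FixedPointFree ⇑(MulAut.conjNormal t : MulAut H) := fun y hy => by
          have h1 := congrArg Subtype.val hy
          rw [MulAut.conjNormal_apply, mul_inv_eq_iff_eq_mul] at h1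
          exact Subtype.ext ((eq_bot_iff_forall _).1 (hf t ht ht1) y (mem_inf.2 ⟨y.2, mem_centralizer_singleton_iff.2 h1.symm⟩))
        have h3 := congrArg Subtype.val (congrFun (hfix.coe_eq_inv_of_involutive (φ := (MulAut.conjNormal t : MulAut H)) (fun y => by
          rw [← MulAut.mul_apply, ← map_mul, htt, map_one, MulAut.one_apply])) ⟨x, hx⟩)
        rwa [MulAut.conjNormal_apply] at h3
      intro hbot
      refine hs1 (congrArg Subtype.val (show (⟨s, hs⟩ : E) = 1 from (mem_bot).1 (hbot ▸ mem_center_iff.2 fun g => Subtype.ext ?_)))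
      show (g : G) * s = s * g
      set t := (g : G) * s * (g : G)⁻¹
      have ht : t ∈ E := E.mul_mem (E.mul_mem g.2 hs) (E.inv_mem g.2)
      have htt : t * t = 1 := by
        calc t * t = (g : G) * (s * s) * (g : G)⁻¹ := by simp only [t]; group
          _ = 1 := by rw [hss]; group
      have ht1 : t ≠ 1 := fun c => hs1 (by
        have : s = (g : G)⁻¹ * t * g := by simp only [t]; group
        rw [this, c]; group)
      by_contra hne
      have hts : t * s ≠ 1 := fun c => hne (by
        have h1 : t = s := by rw [eq_inv_of_mul_eq_one_left c, inv_eq_of_mul_eq_one_right hss]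
        exact mul_inv_eq_iff_eq_mul.1 h1)
      refine hH0 (le_bot_iff.1 (hf _ (E.mul_mem ht hs) hts ▸ le_inf le_rfl fun x hx => ?_))
      rw [mem_centralizer_singleton_iff]
      have e1 := hinv s hs hs1 hss x hx
      have e2 := hinv t ht ht1 htt x⁻¹ (H.inv_mem hx)
      rw [inv_inv] at e2
      calc x * (t * s) = t * x⁻¹ * t⁻¹ * (t * s) := by rw [e2]
        _ = t * (s * x * s⁻¹) * s := by rw [e1]; group
        _ = t * s * x := by group
    · exact Struct.Frobenius.center_ne_bot_of_odd hH0 le_normalizer_of_normal hcop hf hE0 h2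
  obtain ⟨⟨⟨c, hc⟩, hcc⟩, hc1⟩ := ne_bot_iff_exists_ne_one.1 hcen
  have hc1' : c ≠ 1 := fun h => hc1 (Subtype.ext (Subtype.ext h))
  haveI : Group.IsNilpotent E := by
    haveI := hCN c hc1'
    exact Group.nilpotent_of_mulEquiv (subgroupOfEquivOfLe (show E ≤ centralizer {c} from fun y hy =>
      mem_centralizer_singleton_iff.2 (congrArg Subtype.val (mem_center_iff.1 hcc ⟨y, hy⟩))))
  refine Group.nilpotent_of_surjective ((QuotientGroup.mk' H).comp E.subtype) fun x => ?_
  obtain ⟨g, rfl⟩ := QuotientGroup.mk'_surjective H x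
  obtain ⟨⟨⟨a, ha⟩, ⟨b, hb⟩⟩, hab⟩ := hE.2 g
  refine ⟨⟨b, hb⟩, ?_⟩
  show QuotientGroup.mk' H b = QuotientGroup.mk' H g
  rw [← hab]
  show _ = QuotientGroup.mk' H (a * b)
  rw [map_mul, show QuotientGroup.mk' H a = 1 from (QuotientGroup.eq_one_iff a).2 ha, one_mul]

end Cfsg.Agent.Solv.CNFrobenius
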