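import Mathlib
import Cfsg.Agent.Lib.Solv.Misc
import Cfsg.Agent.Lib.Solv.FpfNilpotent
import Cfsg.Prelude.Def_LieExceptional

/-!
Maximal nilpotent subgroups of groups with nilpotent centralizers.
-/

set_option autoImplicit false
set_option linter.style.haveILetI false

namespace Cfsg.Agent.Solv.CNMaximal

open Subgroup Cfsg

universe u

variable {G : Type u} [Group G] [Finite G] (hCN : IsCNGroup G) (H : Subgroup G) (hH : Group.IsNilpotent H)
  (hmax : ∀ L : Subgroup G, Group.IsNilpotent L → H ≤ L → L = H)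

include hH in
theorem commute_coprime {a b : G} (ha : a ∈ H) (hb : b ∈ H) (hcop : (orderOf a).Coprime (orderOf b)) : a * b = b * a :=
  congrArg Subtype.val (commute_of_coprime_orderOf_of_isNilpotent hH (x := ⟨a, ha⟩) (g := ⟨b, hb⟩)
    (by rwa [Subgroup.orderOf_mk, Subgroup.orderOf_mk])).eq

include hCN hmax in
theorem centralizer_eq {z : G} (hz : z ≠ 1) (hc : ∀ h ∈ H, h * z = z * h) : centralizer ({z} : Set G) = H :=
  hmax _ (hCN z hz) fun h hh => mem_centralizer_singleton_iff.2 (hc h hh)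

include hH in
theorem exists_central {p : ℕ} [Fact p.Prime] (hp : p ∣ Nat.card H) :
    ∃ z ∈ H, orderOf z = p ∧ ∀ h ∈ H, h * z = z * h := by
  haveI := hH
  obtain ⟨P⟩ := Sylow.nonempty (p := p) (G := H)
  haveI : (P : Subgroup H).Normal := ((Group.isNilpotent_of_finite_tfae (G := H)).out 0 3 rfl rfl).mp hH p ‹_› P
  have hne := inf_center_ne_bot (P : Subgroup H) (P.ne_bot_of_dvd_card hp)
  obtain ⟨⟨⟨w, hw⟩, hwP, hwc⟩, hw1⟩ := ne_bot_iff_exists_ne_one.1 hne
  obtain ⟨k, hk⟩ := IsPGroup.iff_orderOf.1 P.2 ⟨⟨w, hw⟩, hwP⟩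
  rw [Subgroup.orderOf_mk, Subgroup.orderOf_mk] at hk
  have hk0 : k ≠ 0 := by
    rintro rfl
    exact hw1 (Subtype.ext (Subtype.ext (orderOf_eq_one_iff.1 hk)))
  refine ⟨w ^ (orderOf w / p), H.pow_mem hw _, orderOf_pow_orderOf_div (orderOf_pos w).ne' (hk ▸ dvd_pow_self p hk0), fun h hh => ?_⟩
  exact ((show Commute h w from congrArg Subtype.val (mem_center_iff.1 hwc ⟨h, hh⟩)).pow_right _).eq

include hCN hH hmax in
theorem sylow_le {p : ℕ} [Fact p.Prime] (hp : p ∣ Nat.card H) :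
    ∃ P : Sylow p G, (P : Subgroup G) ≤ H := by
  haveI := hH
  obtain ⟨z, hzH, hzo, hzc⟩ := exists_central H hH hp
  obtain ⟨Q⟩ := Sylow.nonempty (p := p) (G := H)
  obtain ⟨P, hP⟩ := (Q.2.map H.subtype).exists_le_sylow
  refine ⟨P, ?_⟩
  have hQn : (Q : Subgroup H).Normal := ((Group.isNilpotent_of_finite_tfae (G := H)).out 0 3 rfl rfl).mp hH p ‹_› Q
  haveI := Sylow.unique_of_normal Q hQn
  have hpel : ∀ a ∈ H, (∃ i, orderOf a = p ^ i) → a ∈ (P : Subgroup G) := by
    intro a ha ⟨i, hi⟩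
    obtain ⟨Q', hQ'⟩ := (IsPGroup.of_card (p := p) (n := i) (by rw [Nat.card_zpowers, Subgroup.orderOf_mk, hi]) :
      IsPGroup p (zpowers (⟨a, ha⟩ : H))).exists_le_sylow
    exact hP ⟨⟨a, ha⟩, Subsingleton.elim Q' Q ▸ hQ' (mem_zpowers _), rfl⟩
  have hz1 : z ≠ 1 := fun c => (Fact.out : p.Prime).ne_one (by rw [← hzo, c, orderOf_one])
  have hzP : z ∈ (P : Subgroup G) := hpel z hzH ⟨1, by rw [hzo, pow_one]⟩
  haveI := P.2.isNilpotent
  haveI : Nontrivial (P : Subgroup G) := (nontrivial_iff_ne_bot _).2 fun c => hz1 (mem_bot.1 (c ▸ hzP))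
  haveI := P.2.center_nontrivial
  obtain ⟨⟨⟨w, hw⟩, hwc⟩, hw1⟩ := exists_ne (1 : center (P : Subgroup G))
  have hwP : ∀ x ∈ (P : Subgroup G), x * w = w * x := fun x hx => congrArg Subtype.val (mem_center_iff.1 hwc ⟨x, hx⟩)
  have hwH : w ∈ H := centralizer_eq hCN H hmax hz1 hzc ▸ mem_centralizer_singleton_iff.2 (hwP z hzP).symm
  obtain ⟨j, hj⟩ := IsPGroup.iff_orderOf.1 P.2 ⟨w, hw⟩
  rw [Subgroup.orderOf_mk] at hj
  have hwcH : ∀ h ∈ H, h * w = w * h := by
    -- commute with every Sylow subgroup of `H`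
    have key : ((centralizer ({w} : Set G)).subgroupOf H).index = 1 := by
      by_contra hne
      obtain ⟨r, hr, hd⟩ := Nat.exists_prime_and_dvd hne
      haveI := Fact.mk hr
      obtain ⟨R⟩ := Sylow.nonempty (p := r) (G := H)
      refine R.not_dvd_index (hd.trans (index_dvd_of_le fun a ha => mem_centralizer_singleton_iff.2 ?_))
      obtain ⟨i, hi⟩ := IsPGroup.iff_orderOf.1 R.2 ⟨a, ha⟩
      rw [Subgroup.orderOf_mk, ← Subgroup.orderOf_coe] at hi
      change (a : G) * w = w * a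
      by_cases hrp : r = p
      · exact hwP a (hpel a a.2 ⟨i, by rw [hi, hrp]⟩)
      · exact commute_coprime H hH a.2 hwH (by rw [hi, hj]; exact ((Nat.coprime_primes hr Fact.out).2 hrp).pow i j)
    intro h hh
    exact mem_centralizer_singleton_iff.1 (index_eq_one.1 key ▸ mem_top (⟨h, hh⟩ : H) : (⟨h, hh⟩ : H) ∈ (centralizer ({w} : Set G)).subgroupOf H)
  intro x hx
  exact centralizer_eq hCN H hmax (fun c => hw1 (Subtype.ext (Subtype.ext c))) hwcH ▸ mem_centralizer_singleton_iff.2 (hwP x hx)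

include hCN hH hmax in
theorem coprime_index : (Nat.card H).Coprime H.index := by
  refine Nat.coprime_of_dvd fun p hp h1 h2 => ?_
  haveI := Fact.mk hp
  obtain ⟨P, hP⟩ := sylow_le hCN H hH hmax h1
  exact P.not_dvd_index (h2.trans (index_dvd_of_le hP))

include hCN hH hmax in
theorem inf_eq_bot (hnp : ¬ IsPrimePow (Nat.card H)) (g : G) (hne : H.map (MulAut.conj g).toMonoidHom ≠ H) :
    H ⊓ H.map (MulAut.conj g).toMonoidHom = ⊥ := by
  rw [eq_bot_iff_forall]
  intro x hx
  by_contra hx1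
  obtain ⟨hxH, y, hy, hyx⟩ := mem_inf.1 hx
  set p := (orderOf x).minFac
  have hp : p.Prime := Nat.minFac_prime fun c => hx1 (orderOf_eq_one_iff.1 c)
  set n := orderOf x / p
  have hox : orderOf (x ^ n) = p := orderOf_pow_orderOf_div (orderOf_pos x).ne' (Nat.minFac_dvd _)
  obtain ⟨q, hq, hqd, hqp⟩ : ∃ q, q.Prime ∧ q ∣ Nat.card H ∧ q ≠ p := by
    by_contra hc
    push Not at hc
    have hpd : p ∣ Nat.card H := hox ▸ Subgroup.orderOf_dvd_natCard H (H.pow_mem hxH n)
    refine hnp ((isPrimePow_iff_unique_prime_dvd (n := Nat.card H)).2 ⟨p, ⟨hp, hpd⟩, fun r hr => hc r hr.1 hr.2⟩)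
  haveI := Fact.mk hq
  obtain ⟨z, hzH, hzo, hzc⟩ := exists_central H hH hqd
  obtain ⟨Q, hQ⟩ := sylow_le hCN H hH hmax hqd
  set c := x ^ n
  have hc1 : c ≠ 1 := fun e => hp.ne_one (by rw [← hox, e, orderOf_one])
  haveI hCc := hCN c hc1
  have hyn : g * y ^ n * g⁻¹ = c := by
    rw [← conj_pow]; exact congrArg (· ^ n) hyx
  have hoy : orderOf (y ^ n) = p := by
    rw [← hox, show c = MulAut.conj g (y ^ n) from hyn.symm, MulEquiv.orderOf_eq]
  have hQc : ∀ a ∈ (Q : Subgroup G), c * a = a * c ∧ c * (g * a * g⁻¹) = g * a * g⁻¹ * c := by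
    intro a ha
    obtain ⟨i, hi⟩ := IsPGroup.iff_orderOf.1 Q.2 ⟨a, ha⟩
    rw [Subgroup.orderOf_mk] at hi
    have hpa : p.Coprime (orderOf a) := by rw [hi]; exact ((Nat.coprime_primes hp hq).2 hqp.symm).pow_right i
    refine ⟨commute_coprime H hH (H.pow_mem hxH n) (hQ ha) (hox.symm ▸ hpa), ?_⟩
    rw [← hyn]
    have := commute_coprime H hH (H.pow_mem hy n) (hQ ha) (hoy.symm ▸ hpa)
    calc g * y ^ n * g⁻¹ * (g * a * g⁻¹) = g * (y ^ n * a) * g⁻¹ := by group
      _ = g * (a * y ^ n) * g⁻¹ := by rw [this]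
      _ = g * a * g⁻¹ * (g * y ^ n * g⁻¹) := by group
  set C := centralizer ({c} : Set G)
  have h1 : (Q : Subgroup G) ≤ C := fun a ha => mem_centralizer_singleton_iff.2 (hQc a ha).1.symm
  have h2 : ((g • Q : Sylow q G) : Subgroup G) ≤ C := by
    rintro _ ⟨a, ha, rfl⟩
    exact mem_centralizer_singleton_iff.2 (hQc a ha).2.symm
  have hQn : ((Q.subtype h1 : Sylow q C) : Subgroup C).Normal :=
    ((Group.isNilpotent_of_finite_tfae (G := C)).out 0 3 rfl rfl).mp hCc q ⟨hq⟩ _
  haveI := Sylow.unique_of_normal _ hQn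
  have heq : g • Q = Q := by
    have := Subsingleton.elim ((g • Q : Sylow q G).subtype h2) (Q.subtype h1)
    exact Sylow.subtype_injective this
  obtain ⟨i, hi⟩ : ∃ i, orderOf z = q ^ i := ⟨1, by rw [hzo, pow_one]⟩
  have hzQ : z ∈ (Q : Subgroup G) := by
    have hzC : centralizer ({z} : Set G) = H := centralizer_eq hCN H hmax (fun c => hq.ne_one (by rw [← hzo, c, orderOf_one])) hzc
    have hsup : IsPGroup q ↥((Q : Subgroup G) ⊔ zpowers z) := by
      refine Q.2.to_sup_of_normal_right' (IsPGroup.of_card (n := i) (by rw [Nat.card_zpowers, hi])) ?_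
      intro a ha
      refine centralizer_le_normalizer _ (mem_centralizer_iff.2 ?_)
      rintro b ⟨j, rfl⟩
      exact ((show Commute a z from hzc a (hQ ha)).symm.zpow_left j).eq
    exact Q.3 hsup le_sup_left ▸ mem_sup_right (mem_zpowers z)
  have hgz : g⁻¹ * z * g ∈ (Q : Subgroup G) := by
    have : z ∈ ((g • Q : Sylow q G) : Subgroup G) := heq.symm ▸ hzQ
    obtain ⟨a, ha, hae⟩ := this
    have hae' : g * a * g⁻¹ = z := hae
    have : g⁻¹ * z * g = a := by rw [← hae']; group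
    rwa [this]
  -- the conjugate of the central element is central
  refine hne (eq_of_le_of_card_ge ?_ (Nat.card_congr (H.equivMapOfInjective _ (MulAut.conj g).injective).toEquiv).le)
  set z' := g * z * g⁻¹
  have hz'Q : z' ∈ (Q : Subgroup G) := heq ▸ (⟨z, hzQ, rfl⟩ : z' ∈ ((g • Q : Sylow q G) : Subgroup G))
  have hz'H : z' ∈ H := hQ hz'Q
  have hz'1 : z' ≠ 1 := fun e => hq.ne_one (by
    rw [← hzo, ← MulEquiv.orderOf_eq (MulAut.conj g) z, show MulAut.conj g z = z' from rfl, e, orderOf_one])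
  have hz'c : ∀ h ∈ H, h * z' = z' * h := by
    -- z' lies in the centre of the Sylow subgroup and commutes with the other primes
    have key : ((centralizer ({z'} : Set G)).subgroupOf H).index = 1 := by
      by_contra hne'
      obtain ⟨r, hr, hd⟩ := Nat.exists_prime_and_dvd hne'
      haveI := Fact.mk hr
      obtain ⟨R⟩ := Sylow.nonempty (p := r) (G := H)
      refine R.not_dvd_index (hd.trans (index_dvd_of_le fun a ha => mem_centralizer_singleton_iff.2 ?_))
      obtain ⟨l, hl⟩ := IsPGroup.iff_orderOf.1 R.2 ⟨a, ha⟩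
      rw [Subgroup.orderOf_mk, ← Subgroup.orderOf_coe] at hl
      change (a : G) * z' = z' * a
      by_cases hrq : r = q
      · subst hrq
        haveI hRn : (R : Subgroup H).Normal := ((Group.isNilpotent_of_finite_tfae (G := H)).out 0 3 rfl rfl).mp hH r ‹_› R
        haveI := Sylow.unique_of_normal R hRn
        have haQ : (a : G) ∈ (Q : Subgroup G) := by
          have : Q.subtype hQ = R := Subsingleton.elim _ _
          rw [← this] at ha
          exact ha
        obtain ⟨b, hb, hbe⟩ := (heq.symm ▸ haQ : (a : G) ∈ ((g • Q : Sylow r G) : Subgroup G))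
        have hbe' : g * b * g⁻¹ = a := hbe
        rw [← hbe']
        calc g * b * g⁻¹ * z' = g * (b * z) * g⁻¹ := by simp only [z']; group
          _ = g * (z * b) * g⁻¹ := by rw [hzc b (hQ hb)]
          _ = z' * (g * b * g⁻¹) := by simp only [z']; group
      · exact commute_coprime H hH a.2 hz'H (by
          rw [hl, show orderOf z' = q from (MulEquiv.orderOf_eq (MulAut.conj g) z).trans hzo]
          exact ((Nat.coprime_primes hr hq).2 hrq).pow_left l)
    intro h hh
    exact mem_centralizer_singleton_iff.1 (index_eq_one.1 key ▸ mem_top (⟨h, hh⟩ : H) : (⟨h, hh⟩ : H) ∈ (centralizer ({z'} : Set G)).subgroupOf H)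
  refine le_of_le_of_eq ?_ (centralizer_eq hCN H hmax hz'1 hz'c)
  rintro _ ⟨h, hh, rfl⟩
  refine mem_centralizer_singleton_iff.2 ?_
  show g * h * g⁻¹ * z' = z' * (g * h * g⁻¹)
  calc g * h * g⁻¹ * z' = g * (h * z) * g⁻¹ := by simp only [z']; group
    _ = g * (z * h) * g⁻¹ := by rw [hzc h hh]
    _ = z' * (g * h * g⁻¹) := by simp only [z']; group

include hCN hH hmax in
theorem centralizer_le (hTI : ∀ g : G, H.map (MulAut.conj g).toMonoidHom ≠ H → H ⊓ H.map (MulAut.conj g).toMonoidHom = ⊥)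
    {x : G} (hx : x ∈ H) (hx1 : x ≠ 1) : centralizer ({x} : Set G) ≤ H := by
  set C := centralizer ({x} : Set G)
  haveI hC := hCN x hx1
  have hN : C ≤ normalizer (H : Set G) := by
    intro y hy
    rw [mem_normalizer_iff_map_conj_eq]
    by_contra hne
    have h1 : x ∈ H ⊓ H.map (MulAut.conj y).toMonoidHom := ⟨hx, x, hx, by
      show y * x * y⁻¹ = x
      rw [mem_centralizer_singleton_iff.1 hy, mul_inv_cancel_right]⟩
    rw [hTI y hne, mem_bot] at h1
    exact hx1 h1
  suffices key : (H.subgroupOf C).index = 1 by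
    intro y hy
    exact (index_eq_one.1 key ▸ mem_top (⟨y, hy⟩ : C) : (⟨y, hy⟩ : C) ∈ H.subgroupOf C)
  by_contra hne
  obtain ⟨r, hr, hd⟩ := Nat.exists_prime_and_dvd hne
  haveI := Fact.mk hr
  obtain ⟨R⟩ := Sylow.nonempty (p := r) (G := C)
  refine R.not_dvd_index (hd.trans (index_dvd_of_le fun a ha => ?_))
  obtain ⟨l, hl⟩ := IsPGroup.iff_orderOf.1 R.2 ⟨a, ha⟩
  rw [Subgroup.orderOf_mk, ← Subgroup.orderOf_coe] at hl
  by_cases hrH : r ∣ Nat.card H
  · obtain ⟨P, hP⟩ := sylow_le hCN H hH hmax hrH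
    obtain ⟨z, hzH, hzo, hzc⟩ := exists_central H hH hrH
    have hPn : (P : Subgroup G).subgroupOf H = ((P.subtype hP : Sylow r H) : Subgroup H) := rfl
    have hRP : IsPGroup r (zpowers (a : G)) := IsPGroup.of_card (n := l) (by rw [Nat.card_zpowers, hl])
    haveI hSn : ((P.subtype hP : Sylow r H) : Subgroup H).Normal :=
      ((Group.isNilpotent_of_finite_tfae (G := H)).out 0 3 rfl rfl).mp hH r ‹_› _
    haveI := Sylow.unique_of_normal _ hSn
    have hnorm : zpowers (a : G) ≤ normalizer ((P : Subgroup G) : Set G) := by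
      rw [zpowers_le, mem_normalizer_iff_map_conj_eq]
      have h1 : ((a : G) • P : Sylow r G) = P := by
        have hle : (((a : G) • P : Sylow r G) : Subgroup G) ≤ H := by
          rintro _ ⟨b, hb, rfl⟩
          exact (mem_normalizer_iff.1 (hN a.2) b).1 (hP hb)
        exact Sylow.subtype_injective (hP := hle) (hQ := hP) (Subsingleton.elim _ _)
      exact congrArg (fun T : Sylow r G => (T : Subgroup G)) h1
    have h3 := P.3 (P.2.to_sup_of_normal_left' hRP hnorm) le_sup_left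
    exact hP (h3 ▸ mem_sup_right (mem_zpowers _))
  · have hHne : Nat.card H ≠ 1 := fun e => hx1 (mem_bot.1 (card_eq_one.1 e ▸ hx))
    obtain ⟨s, hs, hsd⟩ := Nat.exists_prime_and_dvd hHne
    haveI := Fact.mk hs
    obtain ⟨z, hzH, hzo, hzc⟩ := exists_central H hH hsd
    have hzC : z ∈ C := mem_centralizer_singleton_iff.2 (hzc x hx).symm
    have h1 := commute_of_coprime_orderOf_of_isNilpotent hC (x := a) (g := ⟨z, hzC⟩) (by
      rw [← Subgroup.orderOf_coe, hl, Subgroup.orderOf_mk, hzo]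
      exact ((Nat.coprime_primes hr hs).2 fun e => hrH (e ▸ hsd)).pow_left l)
    exact centralizer_eq hCN H hmax (fun e => hs.ne_one (by rw [← hzo, e, orderOf_one])) hzc ▸
      mem_centralizer_singleton_iff.2 (congrArg Subtype.val h1.eq)

end Cfsg.Agent.Solv.CNMaximal
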