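import Mathlib
import Cfsg.Agent.Lib.Solv.Basic
import Cfsg.Agent.Lib.Solv.Misc
import Cfsg.Agent.Lib.Solv.Coprime
import Cfsg.Agent.Lib.Solv.FpfNilpotent
import Cfsg.Prelude.Def_LieExceptional

/-!
Quotients of groups with nilpotent centralizers by solvable normal subgroups.
-/

set_option autoImplicit false
set_option linter.style.haveILetI false

namespace Cfsg.Agent.Solv.CNQuotient

open Subgroup Cfsg
open scoped commutatorElement Pointwise

universe u v

theorem isCNGroup_of_mulEquiv {A : Type u} {B : Type v} [Group A] [Group B] (e : A ≃* B) (h : IsCNGroup A) :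
    IsCNGroup B := by
  intro b hb
  haveI := h (e.symm b) fun c => hb (e.symm.injective (c.trans (map_one e.symm).symm))
  have hmap : (centralizer ({e.symm b} : Set A)).map e.toMonoidHom = centralizer {b} := by
    ext y
    rw [mem_map_equiv, mem_centralizer_singleton_iff, mem_centralizer_singleton_iff, ← map_mul, ← map_mul,
      e.symm.injective.eq_iff]
  exact Group.nilpotent_of_mulEquiv ((e.subgroupMap _).trans (MulEquiv.subgroupCongr hmap))

/-- A finite group in which prime power elements for distinct primes commute is nilpotent. -/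
theorem isNilpotent_of_commute {L : Type u} [Group L] [Finite L]
    (h : ∀ (r s : ℕ), r.Prime → s.Prime → r ≠ s → ∀ a b : L, (∃ i, orderOf a = r ^ i) → (∃ j, orderOf b = s ^ j) → a * b = b * a) :
    Group.IsNilpotent L := by
  refine ((Group.isNilpotent_of_finite_tfae (G := L)).out 0 3 rfl rfl).mpr ?_
  intro r hr R
  rw [← normalizer_eq_top_iff, ← index_eq_one]
  by_contra hne
  obtain ⟨s, hs, hd⟩ := Nat.exists_prime_and_dvd hne
  haveI := Fact.mk hs
  by_cases hrs : r = s
  · subst hrs
    exact R.not_dvd_index (hd.trans (index_dvd_of_le le_normalizer))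
  obtain ⟨S⟩ := Sylow.nonempty (p := s) (G := L)
  refine S.not_dvd_index (hd.trans (index_dvd_of_le fun b hb => centralizer_le_normalizer _ (mem_centralizer_iff.2 fun a ha => ?_)))
  obtain ⟨i, hi⟩ := IsPGroup.iff_orderOf.1 R.2 ⟨a, ha⟩
  obtain ⟨j, hj⟩ := IsPGroup.iff_orderOf.1 S.2 ⟨b, hb⟩
  rw [Subgroup.orderOf_mk] at hi hj
  exact h r s hr.out hs hrs a b ⟨i, hi⟩ ⟨j, hj⟩

variable {G : Type u} [Group G] [Finite G]

theorem exists_fixed_ne_one {p : ℕ} [Fact p.Prime] (H : Subgroup G) [H.Normal] (hH : IsPGroup p H) (hH1 : H ≠ ⊥)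
    {w : G} {i : ℕ} (hw : orderOf w = p ^ i) : ∃ h ∈ H, h ≠ 1 ∧ w * h = h * w := by
  have hW : IsPGroup p ↥(H ⊔ zpowers w) :=
    hH.to_sup_of_normal_left' (IsPGroup.of_card (n := i) (by rw [Nat.card_zpowers, hw])) le_normalizer_of_normal
  haveI := hW.isNilpotent
  haveI : (H.subgroupOf (H ⊔ zpowers w)).Normal := Normal.comap inferInstance _
  have hne : H.subgroupOf (H ⊔ zpowers w) ≠ ⊥ := by
    rw [Ne, subgroupOf_eq_bot, disjoint_iff, inf_eq_left.2 (le_sup_left : H ≤ H ⊔ zpowers w)]; exact hH1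
  obtain ⟨⟨z, hzH, hzc⟩, hz1⟩ := ne_bot_iff_exists_ne_one.1 (inf_center_ne_bot (H.subgroupOf (H ⊔ zpowers w)) hne)
  exact ⟨z, hzH, fun c => hz1 (Subtype.ext (Subtype.ext c)),
    congrArg Subtype.val (mem_center_iff.1 hzc ⟨w, mem_sup_right (mem_zpowers w)⟩)⟩

theorem quotient_abelian (hCN : IsCNGroup G) {p : ℕ} [hp : Fact p.Prime] (H : Subgroup G) [H.Normal]
    (hHp : IsPGroup p H) (hH1 : H ≠ ⊥) (hHc : ∀ a ∈ H, ∀ b ∈ H, a * b = b * a) : IsCNGroup (G ⧸ H) := by
  classical
  set f := QuotientGroup.mk' H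
  obtain ⟨m, hm⟩ := IsPGroup.iff_card.1 hHp
  intro x₀ hx₀
  set q := (orderOf x₀).minFac
  have hq : q.Prime := Nat.minFac_prime fun c => hx₀ (orderOf_eq_one_iff.1 c)
  set x₁ := x₀ ^ (orderOf x₀ / q)
  have hox : orderOf x₁ = q := orderOf_pow_orderOf_div (orderOf_pos x₀).ne' (Nat.minFac_dvd _)
  have hle₀ : centralizer ({x₀} : Set (G ⧸ H)) ≤ centralizer {x₁} := fun g hg =>
    mem_centralizer_singleton_iff.2 ((show Commute g x₀ from mem_centralizer_singleton_iff.1 hg).pow_right _).eq
  suffices hN : Group.IsNilpotent (centralizer ({x₁} : Set (G ⧸ H))) by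
    haveI := hN
    exact Group.nilpotent_of_mulEquiv (subgroupOfEquivOfLe hle₀)
  obtain ⟨x, hx⟩ := QuotientGroup.mk'_surjective H x₁
  by_cases hqp : q = p
  · -- the preimage of the centralizer is nilpotent
    set L := (centralizer ({x₁} : Set (G ⧸ H))).comap f
    have key : ∀ y ∈ L, (orderOf y).Coprime p → ∀ h ∈ H, y * h = h * y := by
      intro y hy hyc h hh
      set X := H ⊔ zpowers x
      have hxp : IsPGroup p (zpowers x) := by
        have h1 : (x ^ p) ^ (p ^ m) = 1 := by
          have hxH : x ^ p ∈ H := (QuotientGroup.eq_one_iff _).1 (by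
            show f (x ^ p) = 1
            rw [map_pow, hx, ← hqp, ← hox, pow_orderOf_eq_one])
          have := congrArg Subtype.val (pow_card_eq_one' (x := (⟨x ^ p, hxH⟩ : H)))
          rwa [hm] at this
        obtain ⟨i, -, hi⟩ := (Nat.dvd_prime_pow hp.out).1 (orderOf_dvd_of_pow_eq_one (x := x) (n := p ^ (m + 1)) (by rwa [pow_succ', pow_mul]))
        exact IsPGroup.of_card (n := i) (by rw [Nat.card_zpowers, hi])
      have hX : IsPGroup p X := hHp.to_sup_of_normal_left' hxp le_normalizer_of_normal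
      obtain ⟨k, hk⟩ := IsPGroup.iff_card.1 hX
      have hcX : (Nat.card (zpowers y)).Coprime (Nat.card X) := by
        rw [Nat.card_zpowers, hk]; exact hyc.pow_right k
      have hcomm : ∀ a ∈ zpowers y, x⁻¹ * a * x * a⁻¹ ∈ H := by
        intro a ha
        refine (QuotientGroup.eq_one_iff _).1 ?_
        show f (x⁻¹ * a * x * a⁻¹) = 1
        have h1 : f a * f x = f x * f a := by
          have := mem_centralizer_singleton_iff.1 ((zpowers_le.2 hy) ha : a ∈ L)
          rwa [← hx] at this
        rw [map_mul, map_mul, map_mul, map_inv, map_inv, mul_assoc, mul_assoc, ← mul_assoc (f a), h1]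
        group
      have hAX : zpowers y ≤ normalizer (X : Set G) := by
        intro a ha
        rw [mem_normalizer_iff_map_conj_eq]
        refine eq_of_le_of_card_ge ?_ (Nat.card_congr (X.equivMapOfInjective _ (MulAut.conj a).injective).toEquiv).le
        rw [map_le_iff_le_comap]
        refine sup_le (fun b hb => mem_sup_left (Normal.conj_mem inferInstance b hb a)) (zpowers_le.2 ?_)
        show a * x * a⁻¹ ∈ X
        have := X.mul_mem (mem_sup_right (mem_zpowers x)) (mem_sup_left (hcomm a ha) : _ ∈ X)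
        simpa [mul_assoc] using this
      obtain ⟨i, hi⟩ : ∃ i, Nat.card X = p ^ i := ⟨k, hk⟩
      obtain ⟨c, ⟨hcX', hcy⟩, hxc⟩ := exists_centralizing_in_coset (zpowers y) X H hAX (inf_eq_bot_of_coprime hcX)
        le_sup_left le_normalizer_of_normal (hcX.coprime_dvd_right (card_dvd_of_le le_sup_left))
        (Or.inl inferInstance) x (mem_sup_right (mem_zpowers x)) hcomm
      have hc1 : c ≠ 1 := by
        rintro rfl
        have hxH : x ∈ H := by simpa using H.inv_mem hxc
        have : x₁ = 1 := by rw [← hx]; exact (QuotientGroup.eq_one_iff x).2 hxH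
        rw [this, orderOf_one] at hox
        exact hq.ne_one hox.symm
      obtain ⟨j, hj⟩ := IsPGroup.iff_orderOf.1 hX ⟨c, hcX'⟩
      rw [Subgroup.orderOf_mk] at hj
      obtain ⟨h₀, hh₀, hh₀1, hch⟩ := exists_fixed_ne_one H hHp hH1 hj
      have hcomm₂ : ∀ (g : G), g ≠ 1 → ∀ a b : G, a * g = g * a → b * g = g * b → (orderOf a).Coprime (orderOf b) → a * b = b * a :=
        fun g hg a b ha hb hab => congrArg Subtype.val (commute_of_coprime_orderOf_of_isNilpotent (hCN g hg)
          (x := ⟨a, mem_centralizer_singleton_iff.2 ha⟩) (g := ⟨b, mem_centralizer_singleton_iff.2 hb⟩)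
          (by rwa [Subgroup.orderOf_mk, Subgroup.orderOf_mk])).eq
      have hop : ∀ b ∈ H, (orderOf y).Coprime (orderOf b) := fun b hb => by
        obtain ⟨n, hn⟩ := IsPGroup.iff_orderOf.1 hHp ⟨b, hb⟩
        rw [Subgroup.orderOf_mk] at hn
        rw [hn]; exact hyc.pow_right n
      have hy0 : y * h₀ = h₀ * y := hcomm₂ c hc1 y h₀ (mem_centralizer_iff.1 hcy y (mem_zpowers y)) hch.symm (hop h₀ hh₀)
      exact hcomm₂ h₀ hh₀1 y h hy0 (hHc h hh h₀ hh₀) (hop h hh)
    haveI : Group.IsNilpotent L := by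
      refine isNilpotent_of_commute fun r s hr hs hrs a b ⟨i, hi⟩ ⟨j, hj⟩ => Subtype.ext ?_
      rw [← Subgroup.orderOf_coe] at hi hj
      have hfix : ∀ (t : ℕ), t.Prime → ∀ u : L, ∀ n, orderOf (u : G) = t ^ n → (t = p → ∃ h ∈ H, h ≠ 1 ∧ (u : G) * h = h * u) ∧
          (t ≠ p → ∀ h ∈ H, (u : G) * h = h * u) := fun t ht u n hu =>
        ⟨fun htp => exists_fixed_ne_one H hHp hH1 (i := n) (htp ▸ hu),
          fun htp => key u u.2 (by rw [hu]; exact ((Nat.coprime_primes ht hp.out).2 htp).pow_left n)⟩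
      obtain ⟨h₀, hh₀, hh₀1, ha0, hb0⟩ : ∃ h ∈ H, h ≠ 1 ∧ (a : G) * h = h * a ∧ (b : G) * h = h * b := by
        by_cases hrp : r = p
        · obtain ⟨h, hh, h1, h2⟩ := (hfix r hr a i hi).1 hrp
          exact ⟨h, hh, h1, h2, (hfix s hs b j hj).2 (fun c => hrs (hrp.trans c.symm)) h hh⟩
        · by_cases hsp : s = p
          · obtain ⟨h, hh, h1, h2⟩ := (hfix s hs b j hj).1 hsp
            exact ⟨h, hh, h1, (hfix r hr a i hi).2 hrp h hh, h2⟩
          · obtain ⟨⟨h, hh⟩, h1⟩ := ne_bot_iff_exists_ne_one.1 hH1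
            exact ⟨h, hh, fun c => h1 (Subtype.ext c), (hfix r hr a i hi).2 hrp h hh, (hfix s hs b j hj).2 hsp h hh⟩
      have hh := congrArg Subtype.val (commute_of_coprime_orderOf_of_isNilpotent (hCN h₀ hh₀1)
        (x := ⟨(a : G), mem_centralizer_singleton_iff.2 ha0⟩) (g := ⟨(b : G), mem_centralizer_singleton_iff.2 hb0⟩)
        (by rw [Subgroup.orderOf_mk, Subgroup.orderOf_mk, hi, hj]; exact ((Nat.coprime_primes hr hs).2 hrs).pow i j)).eq
      exact hh
    exact Group.nilpotent_of_surjective (f.subgroupComap (centralizer ({x₁} : Set (G ⧸ H)))) fun ⟨u, hu⟩ => by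
      obtain ⟨g, rfl⟩ := QuotientGroup.mk'_surjective H u
      exact ⟨⟨g, hu⟩, rfl⟩
  · -- a preimage of coprime order
    set w := x ^ p ^ m
    have hxq : x ^ q ∈ H := (QuotientGroup.eq_one_iff _).1 (by
      show f (x ^ q) = 1
      rw [map_pow, hx, ← hox, pow_orderOf_eq_one])
    have hw : w ^ q = 1 := by
      have := congrArg Subtype.val (pow_card_eq_one' (x := (⟨x ^ q, hxq⟩ : H)))
      rw [hm] at this
      simpa [w, ← pow_mul, mul_comm] using this
    have hcq : Nat.Coprime q (p ^ m) := ((Nat.coprime_primes hq hp.out).2 hqp).pow_right m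
    have hfw : f w = x₁ ^ p ^ m := by rw [map_pow, hx]
    have hw1 : w ≠ 1 := fun c => by
      have h1 : orderOf x₁ ∣ p ^ m := orderOf_dvd_of_pow_eq_one (by rw [← hfw, c, map_one])
      rw [hox] at h1
      exact hq.ne_one (Nat.eq_one_of_dvd_coprimes hcq dvd_rfl h1)
    have hcwH : (Nat.card H).Coprime (Nat.card (zpowers w)) := by
      rw [hm, Nat.card_zpowers]
      exact (hcq.coprime_dvd_left (orderOf_dvd_of_pow_eq_one hw)).symm
    haveI := hCN w hw1
    have hmem : ∀ g : centralizer ({w} : Set G), f g ∈ centralizer ({x₁} : Set (G ⧸ H)) := by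
      intro g
      have h1 : Commute (f g) (x₁ ^ p ^ m) := by
        rw [← hfw]; exact (show Commute (g : G) w from mem_centralizer_singleton_iff.1 g.2).map f
      have : x₁ ∈ zpowers (x₁ ^ p ^ m) := mem_zpowers_pow_iff.2 (by rw [hox]; exact hcq.symm)
      obtain ⟨i, hi⟩ := this
      rw [mem_centralizer_singleton_iff]
      have := (h1.zpow_right i).eq
      rwa [show (x₁ ^ p ^ m) ^ i = x₁ from hi] at this
    refine Group.nilpotent_of_surjective ((f.comp (centralizer ({w} : Set G)).subtype).codRestrict _ hmem) fun ⟨u, hu⟩ => ?_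
    obtain ⟨g, rfl⟩ := QuotientGroup.mk'_surjective H u
    have hd : g * w * g⁻¹ * w⁻¹ ∈ H := (QuotientGroup.eq_one_iff _).1 (by
      show f (g * w * g⁻¹ * w⁻¹) = 1
      have h1 : Commute (f g) (f w) := by
        rw [hfw]; exact (show Commute (f g) x₁ from mem_centralizer_singleton_iff.1 hu).pow_right _
      rw [map_mul, map_mul, map_mul, map_inv, map_inv, h1.eq]; group)
    have hle : MulAut.conj g • zpowers w ≤ H ⊔ zpowers w := by
      rintro _ ⟨b, ⟨i, rfl⟩, rfl⟩
      show g * w ^ i * g⁻¹ ∈ _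
      rw [← conj_zpow]
      refine zpow_mem ?_ i
      have := mul_mem (mem_sup_left hd : _ ∈ H ⊔ zpowers w) (mem_sup_right (mem_zpowers w))
      simpa [mul_assoc] using this
    obtain ⟨n, hn, hne⟩ := conj_of_card_eq H (zpowers w) (MulAut.conj g • zpowers w) (Or.inr inferInstance)
      le_normalizer_of_normal hle (card_conj_smul _ _) hcwH
    set c := n⁻¹ * g
    have hcmem : c * w * c⁻¹ ∈ zpowers w := by
      have h1 : g * w * g⁻¹ ∈ MulAut.conj n • zpowers w := hne.symm ▸ ⟨w, mem_zpowers w, rfl⟩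
      obtain ⟨b, hb, hbe⟩ := h1
      have hbe' : n * b * n⁻¹ = g * w * g⁻¹ := hbe
      have : c * w * c⁻¹ = b := by
        calc c * w * c⁻¹ = n⁻¹ * (g * w * g⁻¹) * n := by simp only [c]; group
          _ = b := by rw [← hbe']; group
      rwa [this]
    have hfc : f c = f g := by
      simp only [c, map_mul, map_inv, show f n = 1 from (QuotientGroup.eq_one_iff n).2 hn, inv_one, one_mul]
    have hcw : c * w * c⁻¹ * w⁻¹ ∈ H ⊓ zpowers w := by
      refine ⟨(QuotientGroup.eq_one_iff _).1 ?_, (zpowers w).mul_mem hcmem ((zpowers w).inv_mem (mem_zpowers w))⟩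
      show f (c * w * c⁻¹ * w⁻¹) = 1
      have h1 := (QuotientGroup.eq_one_iff _).2 hd
      change f (g * w * g⁻¹ * w⁻¹) = 1 at h1
      rw [map_mul, map_mul, map_mul, map_inv, map_inv] at h1 ⊢
      rw [hfc]; exact h1
    rw [inf_eq_bot_of_coprime hcwH, mem_bot, mul_inv_eq_one, mul_inv_eq_iff_eq_mul] at hcw
    exact ⟨⟨c, mem_centralizer_singleton_iff.2 hcw⟩, Subtype.ext hfc⟩

theorem quotient : ∀ (n : ℕ) (G : Type u) [Group G] [Finite G], Nat.card G ≤ n → IsCNGroup G →
    ∀ (H : Subgroup G) [H.Normal], Group.IsSolvable H → IsCNGroup (G ⧸ H) := by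
  intro n
  induction n with
  | zero =>
    intro G _ _ h
    have := Nat.card_pos (α := G)
    omega
  | succ n ih =>
    intro G _ _ hn hCN H _ hH
    rcases eq_or_ne H ⊥ with rfl | hH1
    · exact isCNGroup_of_mulEquiv (QuotientGroup.quotientBot (G := G)).symm hCN
    obtain ⟨M, hMn, hMH, hM1, hMmin⟩ := exists_minimal_normal_le hH1
    haveI := hMn
    have hMs : Group.IsSolvable M := isSolvable_of_le hMH hH
    have hMc : ∀ a ∈ M, ∀ b ∈ M, a * b = b * a := by
      haveI := hMs
      haveI : Nontrivial M := (nontrivial_iff_ne_bot M).2 hM1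
      have hlt : ⁅M, M⁆ < M := by
        rw [show ⁅M, M⁆ = (commutator M).map M.subtype by
          rw [_root_.commutator_def, map_commutator, ← MonoidHom.range_eq_map, range_subtype]]
        refine lt_of_lt_of_eq (map_lt_map_iff_of_injective M.subtype_injective |>.2 (Group.IsSolvable.commutator_lt_top_of_nontrivial M)) ?_
        rw [← MonoidHom.range_eq_map, range_subtype]
      rcases hMmin ⁅M, M⁆ inferInstance hlt.le with h | h
      · intro a ha b hb
        exact commutatorElement_eq_one_iff_mul_comm.1 (mem_bot.1 (h ▸ commutator_mem_commutator ha hb))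
      · exact absurd h hlt.ne
    obtain ⟨p, hp, hpM⟩ := Nat.exists_prime_and_dvd (fun e => hM1 (card_eq_one.1 e) : Nat.card M ≠ 1)
    haveI := Fact.mk hp
    obtain ⟨P⟩ := Sylow.nonempty (p := p) (G := M)
    haveI : IsMulCommutative M := ⟨⟨fun a b => Subtype.ext (hMc a a.2 b b.2)⟩⟩
    haveI : (P : Subgroup M).Normal := ⟨fun a ha g => by rw [(show Commute g a from Subtype.ext (hMc g g.2 a a.2)).eq, mul_inv_cancel_right]; exact ha⟩
    haveI : (P : Subgroup M).Characteristic := Sylow.characteristic_of_normal P inferInstance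
    have hP1 : (P : Subgroup M).map M.subtype ≠ ⊥ := fun c =>
      P.ne_bot_of_dvd_card hpM ((map_eq_bot_iff_of_injective _ M.subtype_injective).1 c)
    have hMp : IsPGroup p M := by
      rcases hMmin ((P : Subgroup M).map M.subtype) inferInstance (map_subtype_le _) with h | h
      · exact absurd h hP1
      · exact h ▸ P.2.map _
    have hQ := quotient_abelian hCN M hMp hM1 hMc
    have hlt : Nat.card (G ⧸ M) ≤ n := by
      have h1 := M.card_mul_index
      rw [index_eq_card] at h1
      have h2 : 2 ≤ Nat.card M := by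
        have h3 := Nat.card_pos (α := M)
        have h4 : Nat.card M ≠ 1 := fun e => hM1 (card_eq_one.1 e)
        omega
      have h5 := Nat.card_pos (α := G ⧸ M)
      have : 2 * Nat.card (G ⧸ M) ≤ Nat.card M * Nat.card (G ⧸ M) := Nat.mul_le_mul_right _ h2
      omega
    haveI : (H.map (QuotientGroup.mk' M)).Normal := Normal.map inferInstance _ (QuotientGroup.mk'_surjective M)
    have hs : Group.IsSolvable (H.map (QuotientGroup.mk' M)) := by
      haveI := hH
      exact Group.isSolvable_of_surjective ((QuotientGroup.mk' M).subgroupMap_surjective H)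
    exact isCNGroup_of_mulEquiv (QuotientGroup.quotientQuotientEquivQuotient M H hMH) (ih (G ⧸ M) hlt hQ _ hs)

end Cfsg.Agent.Solv.CNQuotient
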