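import Mathlib
import Cfsg.Agent.Lib.Solv.CNFrobenius
import Cfsg.Agent.Lib.Solv.CNQuotient
import Cfsg.Agent.Lib.Solv.SchurZassenhaus
import Cfsg.Agent.Lib.Struct.FpfCenter
import Cfsg.Agent.Lib.Struct.FpfComplement
import Cfsg.Agent.Lib.Perm.NilpotentMaximal
import Cfsg.Agent.Lib.Solv.NormalPComplement

/-!
Solvable groups with nilpotent centralizers.
-/

set_option autoImplicit false
set_option linter.style.haveILetI false

namespace Cfsg.Agent.Solv.CNSolvable

open Subgroup Cfsg
open scoped Pointwise commutatorElement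

universe u

variable {G : Type u} [Group G] [Finite G]

theorem commute_cn (hCN : IsCNGroup G) {z a b : G} (hz : z ≠ 1) (ha : a * z = z * a) (hb : b * z = z * b)
    (hcop : (orderOf a).Coprime (orderOf b)) : a * b = b * a :=
  congrArg Subtype.val (commute_of_coprime_orderOf_of_isNilpotent (hCN z hz)
    (x := ⟨a, mem_centralizer_singleton_iff.2 ha⟩) (g := ⟨b, mem_centralizer_singleton_iff.2 hb⟩)
    (by rwa [Subgroup.orderOf_mk, Subgroup.orderOf_mk])).eq

/-- An involution of a fixed point free group inverts the kernel, so there is only one. -/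
theorem involution_unique {K A : Subgroup G} [K.Normal] (hK : K ≠ ⊥) (hfpf : ∀ a ∈ A, a ≠ 1 → K ⊓ centralizer ({a} : Set G) = ⊥)
    {s t : G} (hs : s ∈ A) (ht : t ∈ A) (hso : orderOf s = 2) (hto : orderOf t = 2) : s = t := by
  have hinv : ∀ a ∈ A, orderOf a = 2 → ∀ x ∈ K, a * x * a⁻¹ = x⁻¹ := by
    intro a ha hao x hx
    have ha1 : a ≠ 1 := fun c => by rw [c, orderOf_one] at hao; norm_num at hao
    have haa : a * a = 1 := by rw [← pow_two, ← hao, pow_orderOf_eq_one]
    have hfix : MonoidHom.FixedPointFree ⇑(MulAut.conjNormal a : MulAut K) := fun y hy => by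
      have h1 := congrArg Subtype.val hy
      rw [MulAut.conjNormal_apply, mul_inv_eq_iff_eq_mul] at h1
      exact Subtype.ext ((eq_bot_iff_forall _).1 (hfpf a ha ha1) y (mem_inf.2 ⟨y.2, mem_centralizer_singleton_iff.2 h1.symm⟩))
    have h3 := congrArg Subtype.val (congrFun (hfix.coe_eq_inv_of_involutive (φ := (MulAut.conjNormal a : MulAut K)) (fun y => by
      rw [← MulAut.mul_apply, ← map_mul, haa, map_one, MulAut.one_apply])) ⟨x, hx⟩)
    rwa [MulAut.conjNormal_apply] at h3
  have hss : s⁻¹ = s := inv_eq_of_mul_eq_one_right (by rw [← pow_two, ← hso, pow_orderOf_eq_one])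
  by_contra hne
  have hts : t * s ≠ 1 := fun c => hne (by rw [eq_inv_of_mul_eq_one_left c, hss])
  refine hK (le_bot_iff.1 (hfpf _ (A.mul_mem ht hs) hts ▸ le_inf le_rfl fun x hx => mem_centralizer_singleton_iff.2 ?_))
  have e1 := hinv s hs hso x hx
  have e2 := hinv t ht hto x⁻¹ (K.inv_mem hx)
  rw [inv_inv] at e2
  calc x * (t * s) = t * x⁻¹ * t⁻¹ * (t * s) := by rw [e2]
    _ = t * (s * x * s⁻¹) * s := by rw [e1]; group
    _ = t * s * x := by group

theorem sylow_cyclic_of_odd {K A : Subgroup G} [K.Normal] (hK : K ≠ ⊥) (hcop : (Nat.card A).Coprime (Nat.card K))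
    (hfpf : ∀ a ∈ A, a ≠ 1 → K ⊓ centralizer ({a} : Set G) = ⊥) {r : ℕ} [Fact r.Prime] {R : Subgroup G}
    (hR : IsPGroup r R) (hRA : R ≤ A) (hr : r ≠ 2) : IsCyclic R :=
  (Struct.Frobenius.sylow_cyclic_or_quaternion hK le_normalizer_of_normal
    (hcop.coprime_dvd_left (card_dvd_of_le hRA)) (fun a ha => hfpf a (hRA ha)) hR).resolve_right fun h => hr h.1

/-- The shape of a nilpotent fixed point free group. -/
theorem complement_shape {K E : Subgroup G} [K.Normal] (hK : K ≠ ⊥) (hcop : (Nat.card E).Coprime (Nat.card K))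
    (hfpf : ∀ a ∈ E, a ≠ 1 → K ⊓ centralizer ({a} : Set G) = ⊥) (hnil : Group.IsNilpotent E) :
    IsCyclic E ∨ ∃ C Q : Subgroup G, C ⊔ Q = E ∧ (∀ a ∈ C, ∀ b ∈ Q, a * b = b * a) ∧ IsCyclic C ∧ Odd (Nat.card C) ∧
      ∃ n : ℕ, Nonempty (↥Q ≃* QuaternionGroup (2 ^ n)) := by
  haveI : Fact (Nat.Prime 2) := ⟨Nat.prime_two⟩
  haveI := hnil
  obtain ⟨T⟩ := Sylow.nonempty (p := 2) (G := E)
  rcases Struct.Frobenius.sylow_cyclic_or_quaternion hK le_normalizer_of_normal
    (hcop.coprime_dvd_left (card_dvd_of_le (map_subtype_le (T : Subgroup E)))) (fun a ha => hfpf a (map_subtype_le _ ha))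
    (T.2.map E.subtype) with hT | ⟨-, n, -, hT⟩
  · left
    haveI : IsZGroup E := ⟨fun r hr R => by
      haveI := Fact.mk hr
      have hRc : IsCyclic ((R : Subgroup E).map E.subtype : Subgroup G) := by
        by_cases hr2 : r = 2
        · subst hr2
          haveI := Sylow.unique_of_normal T (((Group.isNilpotent_of_finite_tfae (G := E)).out 0 3 rfl rfl).mp hnil 2 ‹_› T)
          rw [Subsingleton.elim R T]; exact hT
        · exact sylow_cyclic_of_odd hK hcop hfpf (R.2.map _) (map_subtype_le _) hr2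
      exact (equivMapOfInjective _ _ E.subtype_injective).isCyclic.2 hRc⟩
    infer_instance
  · right
    have hc := isComplement'_pPrimeCore (Perm.hasNormalPComplement_of_isNilpotent 2 hnil) T
    refine ⟨(pPrimeCore 2 E).map E.subtype, (T : Subgroup E).map E.subtype, ?_, ?_, ?_, ?_, n, hT⟩
    · rw [← Subgroup.map_sup, hc.sup_eq_top, ← MonoidHom.range_eq_map, range_subtype]
    · rintro _ ⟨a, ha, rfl⟩ _ ⟨b, hb, rfl⟩
      refine congrArg Subtype.val (commute_of_coprime_orderOf_of_isNilpotent hnil (x := a) (g := b) ?_).eq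
      obtain ⟨i, hi⟩ := IsPGroup.iff_orderOf.1 T.2 ⟨b, hb⟩
      rw [Subgroup.orderOf_mk] at hi
      rw [hi]
      exact ((card_pPrimeCore_coprime 2 E).coprime_dvd_left (Subgroup.orderOf_dvd_natCard _ ha)).pow_right i
    · haveI : IsZGroup (pPrimeCore 2 E) := ⟨fun r hr R => by
        haveI := Fact.mk hr
        by_cases hr2 : r = 2
        · subst hr2
          have : Nat.card R = 1 := Nat.eq_one_of_dvd_coprimes (card_pPrimeCore_coprime 2 E) (card_subgroup_dvd_card _) (by
            obtain ⟨i, hi⟩ := IsPGroup.iff_card.1 R.2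
            rcases Nat.eq_zero_or_pos i with rfl | hi0
            · rw [hi, pow_zero]; exact one_dvd _
            · have h2 : 2 ∣ Nat.card (pPrimeCore 2 E) := (hi ▸ dvd_pow_self 2 hi0.ne').trans (card_subgroup_dvd_card _)
              exact absurd h2 (Nat.prime_two.coprime_iff_not_dvd.1 (card_pPrimeCore_coprime 2 E).symm))
          haveI := (Nat.card_eq_one_iff_unique.1 this).1
          infer_instance
        · have hRc := sylow_cyclic_of_odd hK hcop hfpf ((R.2.map (pPrimeCore 2 E).subtype).map E.subtype)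
            (map_subtype_le _) hr2
          exact ((equivMapOfInjective _ _ (pPrimeCore 2 E).subtype_injective).trans
            (equivMapOfInjective _ _ E.subtype_injective)).isCyclic.2 hRc⟩
      haveI : Group.IsNilpotent (pPrimeCore 2 E) := inferInstance
      exact (equivMapOfInjective _ _ E.subtype_injective).isCyclic.1 inferInstance
    · rw [card_map_of_injective E.subtype_injective]
      exact (Nat.coprime_two_right.1 (card_pPrimeCore_coprime 2 E))

theorem exists_normal_sylow_of_two_primes (hCN : IsCNGroup G) {p q : ℕ} [Fact p.Prime] [Fact q.Prime] (hpq : p ≠ q)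
    (hp : pCore p G ≠ ⊥) (hq : pCore q G ≠ ⊥) : ∃ P : Sylow p G, (P : Subgroup G) ≠ ⊥ ∧ (P : Subgroup G).Normal := by
  obtain ⟨P⟩ := Sylow.nonempty (p := p) (G := G)
  obtain ⟨Q⟩ := Sylow.nonempty (p := q) (G := G)
  have hAP := pCore_le_sylow (G := G) P
  have hBQ := pCore_le_sylow (G := G) Q
  refine ⟨P, fun c => hp (le_bot_iff.1 (c ▸ hAP)), ?_⟩
  have hcop : ∀ {a b : G}, a ∈ (P : Subgroup G) → b ∈ (Q : Subgroup G) → (orderOf a).Coprime (orderOf b) := by
    intro a b ha hb
    obtain ⟨i, hi⟩ := IsPGroup.iff_orderOf.1 P.2 ⟨a, ha⟩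
    obtain ⟨j, hj⟩ := IsPGroup.iff_orderOf.1 Q.2 ⟨b, hb⟩
    rw [Subgroup.orderOf_mk] at hi hj
    rw [hi, hj]
    exact ((Nat.coprime_primes (Fact.out : p.Prime) (Fact.out : q.Prime)).2 hpq).pow i j
  have central : ∀ (r : ℕ) [Fact r.Prime] (R : Sylow r G) (N : Subgroup G), N.Normal → N ≤ R → N ≠ ⊥ →
      ∃ w ∈ N, w ≠ 1 ∧ ∀ x ∈ (R : Subgroup G), x * w = w * x := by
    intro r _ R N hN hNR hN1
    haveI := R.2.isNilpotent
    haveI : (N.subgroupOf R).Normal := Normal.comap hN _
    have hne : N.subgroupOf R ≠ ⊥ := by rw [Ne, subgroupOf_eq_bot, disjoint_iff, inf_eq_left.2 hNR]; exact hN1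
    obtain ⟨⟨z, hzN, hzc⟩, hz1⟩ := ne_bot_iff_exists_ne_one.1 (inf_center_ne_bot (N.subgroupOf R) hne)
    exact ⟨z, hzN, fun c => hz1 (Subtype.ext (Subtype.ext c)), fun x hx => congrArg Subtype.val (mem_center_iff.1 hzc ⟨x, hx⟩)⟩
  obtain ⟨w, hwA, hw1, hwc⟩ := central p P (pCore p G) inferInstance hAP hp
  obtain ⟨z, hzB, hz1, -⟩ := central q Q (pCore q G) inferInstance hBQ hq
  set C := centralizer (pCore q G : Set G)
  have hPC : (P : Subgroup G) ≤ C := by
    intro x hx
    refine mem_centralizer_iff.2 fun b hb => ?_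
    have hwb : b * w = w * b :=
      (commute_of_normal_of_disjoint _ _ inferInstance inferInstance
        (disjoint_iff.2 (inf_eq_bot_of_coprime (by
          obtain ⟨i, hi⟩ := IsPGroup.iff_card.1 (isPGroup_pCore p G)
          obtain ⟨j, hj⟩ := IsPGroup.iff_card.1 (isPGroup_pCore q G)
          rw [hi, hj]
          exact ((Nat.coprime_primes (Fact.out : p.Prime) (Fact.out : q.Prime)).2 hpq).pow i j))) w b hwA hb).eq.symm
    exact (commute_cn hCN hw1 (hwc x hx) hwb (hcop hx (hBQ hb))).symm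
  haveI : Group.IsNilpotent C := by
    haveI := hCN z hz1
    exact Group.nilpotent_of_mulEquiv (subgroupOfEquivOfLe (show C ≤ centralizer {z} from fun c hc =>
      mem_centralizer_singleton_iff.2 (mem_centralizer_iff.1 hc z hzB).symm))
  haveI hn : ((P.subtype hPC : Sylow p C) : Subgroup C).Normal :=
    ((Group.isNilpotent_of_finite_tfae (G := C)).out 0 3 rfl rfl).mp inferInstance p ‹_› _
  haveI := Sylow.characteristic_of_normal _ hn
  haveI : C.Normal := inferInstance
  have h1 : (((P.subtype hPC : Sylow p C) : Subgroup C).map C.subtype).Normal := inferInstance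
  rwa [show ((P.subtype hPC : Sylow p C) : Subgroup C) = (P : Subgroup G).subgroupOf C from rfl, map_subgroupOf_eq_of_le hPC] at h1

theorem normal_sylow_or_threeStep [Group.IsSolvable G] (hCN : IsCNGroup G) [Nontrivial G] :
    (∃ p, ∃ _ : Fact p.Prime, ∃ P : Sylow p G, (P : Subgroup G) ≠ ⊥ ∧ (P : Subgroup G).Normal) ∨
      ∃ p : ℕ, p.Prime ∧ IsThreeStepGroup p G := by
  classical
  -- some prime core is nontrivial
  obtain ⟨⟨p, hp⟩, hN1⟩ : ∃ p : Nat.Primes, pCore (p : ℕ) G ≠ ⊥ := by
    by_contra h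
    push Not at h
    have hF : fittingSubgroup G = ⊥ := by rw [fittingSubgroup_eq_iSup_pCore, iSup_eq_bot.2 h]
    have h1 := centralizer_fittingSubgroup_le (G := G)
    rw [hF] at h1
    obtain ⟨g, hg⟩ := exists_ne (1 : G)
    refine hg (mem_bot.1 (h1 (mem_centralizer_iff.2 fun x hx => ?_)))
    rw [mem_bot.1 hx, one_mul, mul_one]
  haveI := Fact.mk hp
  by_cases h2 : ∃ q : Nat.Primes, (q : ℕ) ≠ p ∧ pCore (q : ℕ) G ≠ ⊥
  · obtain ⟨⟨q, hq⟩, hqp, hq1⟩ := h2
    haveI := Fact.mk hq
    exact Or.inl ⟨p, ⟨hp⟩, exists_normal_sylow_of_two_primes hCN hqp.symm hN1 hq1⟩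
  push Not at h2
  set N := pCore p G
  have hC : centralizer (N : Set G) ≤ N := by
    have hF : fittingSubgroup G = N := le_antisymm (by
      rw [fittingSubgroup_eq_iSup_pCore]
      refine iSup_le fun q => ?_
      by_cases hqp : (q : ℕ) = p
      · rw [hqp]
      · rw [h2 q hqp]; exact bot_le) (pCore_le_fittingSubgroup p)
    rw [← hF]; exact centralizer_fittingSubgroup_le
  by_cases hsyl : ∃ P : Sylow p G, (P : Subgroup G) = N
  · obtain ⟨P, hP⟩ := hsyl
    exact Or.inl ⟨p, ⟨hp⟩, P, hP ▸ hN1, hP ▸ inferInstance⟩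
  right
  refine ⟨p, hp, hN1, ?_⟩
  obtain ⟨m, hm⟩ := IsPGroup.iff_card.1 (isPGroup_pCore p G)
  -- coprime elements act without fixed points
  have hfree : ∀ b : G, (orderOf b).Coprime p → b ≠ 1 → N ⊓ centralizer ({b} : Set G) = ⊥ := by
    intro b hb hb1
    rw [eq_bot_iff_forall]
    intro h hh
    obtain ⟨hhN, hhb⟩ := mem_inf.1 hh
    by_contra hh1
    haveI : Nontrivial N := (nontrivial_iff_ne_bot N).2 hN1
    haveI := (isPGroup_pCore p G).center_nontrivial
    obtain ⟨⟨⟨z, hzN⟩, hzc⟩, hz1⟩ := exists_ne (1 : center N)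
    have hzx : ∀ x ∈ N, x * z = z * x := fun x hx => congrArg Subtype.val (mem_center_iff.1 hzc ⟨x, hx⟩)
    have hcop : ∀ x ∈ N, (orderOf b).Coprime (orderOf x) := fun x hx =>
      ((hm ▸ hb.pow_right m : (orderOf b).Coprime (Nat.card N))).coprime_dvd_right (Subgroup.orderOf_dvd_natCard N hx)
    have hbz : b * z = z * b := commute_cn hCN hh1 (mem_centralizer_singleton_iff.1 hhb).symm (hzx h hhN).symm (hcop z hzN)
    have hbN : b ∈ N := hC (mem_centralizer_iff.2 fun x hx =>
      (commute_cn hCN (fun c => hz1 (Subtype.ext (Subtype.ext c))) hbz (hzx x hx) (hcop x hx)).symm)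
    exact hb1 (orderOf_eq_one_iff.1 (Nat.eq_one_of_dvd_coprimes (hcop b hbN) dvd_rfl dvd_rfl))
  -- the quotient
  set f := QuotientGroup.mk' N
  have hf : Function.Surjective f := QuotientGroup.mk'_surjective N
  haveI : Group.IsSolvable (G ⧸ N) := Group.isSolvable_of_surjective hf
  have hQ : IsCNGroup (G ⧸ N) := CNQuotient.quotient _ G le_rfl hCN N inferInstance
  have hQp : ∀ R : Subgroup (G ⧸ N), R.Normal → IsPGroup p R → R = ⊥ := by
    intro R hR hRp
    have h1 : IsPGroup p (R.comap f) := IsPGroup.comap_of_ker_isPGroup hRp f (by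
      rw [QuotientGroup.ker_mk']; exact isPGroup_pCore p G)
    haveI := Normal.comap hR f
    rw [← map_comap_eq_self_of_surjective hf R, eq_bot_iff, map_le_iff_le_comap, MonoidHom.comap_bot, QuotientGroup.ker_mk']
    exact le_pCore h1
  have hpG : p ∣ Nat.card (G ⧸ N) := by
    by_contra hd
    rw [← index_eq_card] at hd
    exact hsyl ⟨(isPGroup_pCore p G).toSylow hd, IsPGroup.toSylow_coe _ _⟩
  set A' := fittingSubgroup (G ⧸ N)
  have hA'n := fittingSubgroup_isNilpotent (G ⧸ N)
  have hCA := centralizer_fittingSubgroup_le (G := G ⧸ N)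
  have hA'p : ¬ p ∣ Nat.card A' := by
    intro hd
    obtain ⟨R⟩ := Sylow.nonempty (p := p) (G := A')
    haveI hRn : (R : Subgroup A').Normal := ((Group.isNilpotent_of_finite_tfae (G := A')).out 0 3 rfl rfl).mp hA'n p ‹_› R
    haveI := Sylow.characteristic_of_normal R hRn
    exact R.ne_bot_of_dvd_card hd ((map_eq_bot_iff_of_injective _ A'.subtype_injective).1 (hQp _ inferInstance (R.2.map _)))
  have hA'1 : A' ≠ ⊥ := by
    intro h
    have h1 : centralizer (A' : Set (G ⧸ N)) ≤ A' := hCA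
    rw [h] at h1
    have h3 : (⊤ : Subgroup (G ⧸ N)) = ⊥ := le_bot_iff.1 fun x _ => h1 (mem_centralizer_iff.2 fun y hy => by
      rw [mem_bot.1 hy, one_mul, mul_one])
    rw [← card_top, h3, card_bot] at hpG
    exact hp.not_dvd_one hpG
  -- a complement
  set M := A'.comap f
  have hNM : N ≤ M := fun x hx => by
    show f x ∈ A'
    rw [show f x = 1 from (QuotientGroup.eq_one_iff x).2 hx]; exact A'.one_mem
  have hMcard : Nat.card M = Nat.card N * Nat.card A' := card_comap_mk' _ _
  have hcopNA : (Nat.card N).Coprime (Nat.card A') := by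
    rw [hm]; exact (hp.coprime_iff_not_dvd.2 hA'p).pow_left m
  have hNidx : (N.subgroupOf M).index = Nat.card A' := by
    have h1 := (N.subgroupOf M).card_mul_index
    rw [Nat.card_congr (subgroupOfEquivOfLe hNM).toEquiv, hMcard] at h1
    exact Nat.eq_of_mul_eq_mul_left Nat.card_pos h1
  obtain ⟨A₀, hA₀⟩ := exists_right_complement'_of_coprime (N := N.subgroupOf M)
    (by rw [hNidx, Nat.card_congr (subgroupOfEquivOfLe hNM).toEquiv]; exact hcopNA)
  set A := A₀.map M.subtype
  have hAcard : Nat.card A = Nat.card A' := by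
    rw [card_map_of_injective M.subtype_injective, ← hA₀.symm.index_eq_card, hNidx]
  have hAp : (Nat.card A).Coprime p := by rw [hAcard]; exact (hp.coprime_iff_not_dvd.2 hA'p).symm
  have hAN : (Nat.card A).Coprime (Nat.card N) := by rw [hm]; exact hAp.pow_right m
  have hAM : N ⊔ A = M := by
    have h1 := congrArg (Subgroup.map M.subtype) hA₀.sup_eq_top
    rwa [Subgroup.map_sup, map_subgroupOf_eq_of_le hNM, ← MonoidHom.range_eq_map, range_subtype] at h1
  have hAmap : A.map f = A' := by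
    rw [← map_comap_eq_self_of_surjective hf A']
    show A.map f = M.map f
    rw [← hAM, Subgroup.map_sup, QuotientGroup.map_mk'_self, bot_sup_eq]
  have hfA : ∀ a ∈ A, f a = 1 → a = 1 := fun a ha h =>
    mem_bot.1 (inf_eq_bot_of_coprime hAN ▸ mem_inf.2 ⟨ha, (QuotientGroup.eq_one_iff a).1 h⟩)
  let eA : A ≃* A' := (MulEquiv.ofBijective (f.subgroupMap A) ⟨fun a b h => by
      have h1 := congrArg Subtype.val h
      refine Subtype.ext (mul_inv_eq_one.1 (hfA _ (A.mul_mem a.2 (A.inv_mem b.2)) ?_))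
      rw [map_mul, map_inv]
      exact mul_inv_eq_one.2 h1, f.subgroupMap_surjective A⟩).trans (MulEquiv.subgroupCongr hAmap)
  have hAfpf : ∀ a ∈ A, a ≠ 1 → N ⊓ centralizer ({a} : Set G) = ⊥ := fun a ha ha1 =>
    hfree a (hAp.coprime_dvd_left (Subgroup.orderOf_dvd_natCard A ha)) ha1
  -- the order is odd
  have hodd : ¬ 2 ∣ Nat.card A := by
    intro hd
    haveI : Fact (Nat.Prime 2) := ⟨Nat.prime_two⟩
    obtain ⟨⟨s, hs⟩, hso⟩ := exists_prime_orderOf_dvd_card' (G := A) 2 hd
    rw [Subgroup.orderOf_mk] at hso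
    have hcentral : ∀ g : G ⧸ N, g * f s = f s * g := by
      intro g
      have hfs : f s ∈ A' := hAmap ▸ ⟨s, hs, rfl⟩
      obtain ⟨t, ht, hte⟩ := Subgroup.mem_map.1 (hAmap.symm ▸ (Normal.conj_mem inferInstance _ hfs g) : g * f s * g⁻¹ ∈ A.map f)
      have hto : orderOf t = 2 := by
        have h2 : orderOf (f s) = 2 := by
          rw [← hso]
          exact orderOf_injective (f.comp A.subtype) (fun a b h => by
            refine Subtype.ext (mul_inv_eq_one.1 (hfA _ (A.mul_mem a.2 (A.inv_mem b.2)) ?_))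
            rw [map_mul, map_inv]; exact mul_inv_eq_one.2 h) ⟨s, hs⟩ |>.trans (Subgroup.orderOf_mk ..)
        have h3 : orderOf (f t) = 2 := by
          rw [hte, show g * f s * g⁻¹ = MulAut.conj g (f s) from rfl, MulEquiv.orderOf_eq, h2]
        rw [← h3]
        exact (orderOf_injective (f.comp A.subtype) (fun a b h => by
            refine Subtype.ext (mul_inv_eq_one.1 (hfA _ (A.mul_mem a.2 (A.inv_mem b.2)) ?_))
            rw [map_mul, map_inv]; exact mul_inv_eq_one.2 h) ⟨t, ht⟩ |>.trans (Subgroup.orderOf_mk ..)).symm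
      rw [involution_unique hN1 hAfpf ht hs hto hso] at hte
      exact mul_inv_eq_iff_eq_mul.1 hte.symm
    have hfs1 : f s ≠ 1 := fun h => by
      rw [hfA s hs h, orderOf_one] at hso; norm_num at hso
    haveI := hQ (f s) hfs1
    have htop : centralizer ({f s} : Set (G ⧸ N)) = ⊤ :=
      (eq_top_iff' _).2 fun g => mem_centralizer_singleton_iff.2 (hcentral g)
    haveI : Group.IsNilpotent (G ⧸ N) := Group.nilpotent_of_mulEquiv ((MulEquiv.subgroupCongr htop).trans topEquiv)
    obtain ⟨R⟩ := Sylow.nonempty (p := p) (G := G ⧸ N)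
    exact R.ne_bot_of_dvd_card hpG (hQp _ (((Group.isNilpotent_of_finite_tfae (G := G ⧸ N)).out 0 3 rfl rfl).mp inferInstance p ‹_› R) R.2)
  haveI hA'c : IsCyclic A' := by
    haveI := hA'n
    haveI : IsZGroup A' := ⟨fun r hr R => by
      haveI := Fact.mk hr
      by_cases hr2 : r = 2
      · subst hr2
        have : Nat.card R = 1 := by
          obtain ⟨i, hi⟩ := IsPGroup.iff_card.1 R.2
          rcases Nat.eq_zero_or_pos i with rfl | hi0
          · rw [hi, pow_zero]
          · exact absurd ((hi ▸ dvd_pow_self 2 hi0.ne').trans (card_subgroup_dvd_card _)) (hAcard ▸ hodd)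
        haveI := (Nat.card_eq_one_iff_unique.1 this).1
        infer_instance
      · have hRc := sylow_cyclic_of_odd hN1 hAN hAfpf ((R.2.map eA.symm.toMonoidHom).map A.subtype) (map_subtype_le _) hr2
        exact ((equivMapOfInjective _ eA.symm.toMonoidHom eA.symm.injective).trans (equivMapOfInjective _ _ A.subtype_injective)).isCyclic.2 hRc⟩
    infer_instance
  haveI hAc : IsCyclic A := eA.isCyclic.2 hA'c
  -- centralizers in the quotient
  have hself : ∀ a ∈ A', a ≠ 1 → centralizer ({a} : Set (G ⧸ N)) ≤ A' := by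
    intro a ha ha1
    have hAC : ∀ x ∈ A', ∀ y ∈ A', x * y = y * x := fun x hx y hy =>
      congrArg Subtype.val (IsCyclic.commutative.is_comm.comm (⟨x, hx⟩ : A') ⟨y, hy⟩)
    have hle : A' ≤ centralizer ({a} : Set (G ⧸ N)) := fun x hx => mem_centralizer_singleton_iff.2 (hAC x hx a ha)
    -- conjugation acts on the cyclic group through an abelian group
    have hcomm : commutator (G ⧸ N) ≤ centralizer (A' : Set (G ⧸ N)) := by
      rw [_root_.commutator_def, commutator_le]
      intro x _ y _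
      rw [mem_centralizer_iff]
      intro b hb
      have hpow : ∀ x : G ⧸ N, ∃ i : ℤ, ∀ c ∈ A', x * c * x⁻¹ = c ^ i := by
        intro x
        obtain ⟨i, hi⟩ := MonoidHom.map_cyclic (MulAut.conjNormal x : MulAut A').toMonoidHom
        exact ⟨i, fun c hc => by simpa using congrArg Subtype.val (hi ⟨c, hc⟩)⟩
      obtain ⟨i, hi⟩ := hpow x
      obtain ⟨j, hj⟩ := hpow y
      have hxy : ∀ c ∈ A', x * y * c * (x * y)⁻¹ = y * x * c * (y * x)⁻¹ := by
        intro c hc
        calc x * y * c * (x * y)⁻¹ = x * (y * c * y⁻¹) * x⁻¹ := by group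
          _ = (c ^ j) ^ i := by rw [hj c hc, hi _ (zpow_mem hc j)]
          _ = (c ^ i) ^ j := by rw [← zpow_mul, ← zpow_mul, mul_comm]
          _ = y * (x * c * x⁻¹) * y⁻¹ := by rw [hi c hc, hj _ (zpow_mem hc i)]
          _ = y * x * c * (y * x)⁻¹ := by group
      have hb' : (y * x)⁻¹ * b * (y * x) ∈ A' := by
        have := Normal.conj_mem inferInstance b hb (y * x)⁻¹
        rwa [inv_inv] at this
      have h1 := hxy _ hb'
      have h2 : y * x * ((y * x)⁻¹ * b * (y * x)) * (y * x)⁻¹ = b := by group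
      rw [h2] at h1
      calc b * ⁅x, y⁆ = x * y * ((y * x)⁻¹ * b * (y * x)) * (x * y)⁻¹ * ⁅x, y⁆ := by rw [h1]
        _ = ⁅x, y⁆ * b := by rw [commutatorElement_def]; group
    haveI : (centralizer ({a} : Set (G ⧸ N))).Normal := Normal.of_commutator_le _ ((hcomm.trans hCA).trans hle)
    exact le_fittingSubgroup (hQ a ha1)
  have hA'M : ∀ x : G, x ∈ N ⊔ A ↔ f x ∈ A' := fun x => by rw [hAM]; rfl
  have hAnorm : (N ⊔ A).Normal := by rw [hAM]; exact Normal.comap inferInstance f
  refine ⟨A, ?_, hAc, Nat.not_even_iff_odd.1 (fun h => hodd (even_iff_two_dvd.1 h)), hAp, hAnorm, ?_, ?_, hAfpf, ?_⟩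
  · intro h
    rw [h, Subgroup.map_bot] at hAmap
    exact hA'1 hAmap.symm
  · intro h
    refine hA'p ?_
    have : A' = ⊤ := by
      rw [← map_comap_eq_self_of_surjective hf A', ← map_top_of_surjective f hf]
      show M.map f = _
      rw [← hAM, h]
    rwa [this, card_top]
  · -- the top index is a power of p
    rw [hAM, index_comap_of_surjective _ hf]
    refine ⟨_, Nat.eq_prime_pow_of_unique_prime_dvd index_ne_zero_of_finite fun {r} hr hd => ?_⟩
    by_contra hrp
    haveI := Fact.mk hr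
    obtain ⟨R⟩ := Sylow.nonempty (p := r) (G := G ⧸ N)
    obtain ⟨y, hyR, hyA⟩ : ∃ y ∈ (R : Subgroup (G ⧸ N)), y ∉ A' := by
      by_contra hc
      push Not at hc
      exact R.not_dvd_index (hd.trans (index_dvd_of_le hc))
    obtain ⟨i, hi⟩ := IsPGroup.iff_orderOf.1 R.2 ⟨y, hyR⟩
    rw [Subgroup.orderOf_mk] at hi
    have hrA : ¬ r ∣ Nat.card A' := by
      intro hd'
      obtain ⟨⟨a, ha⟩, hao⟩ := exists_prime_orderOf_dvd_card' (G := A') r hd'
      rw [Subgroup.orderOf_mk] at hao
      have ha1 : a ≠ 1 := fun c => hr.ne_one (by rw [← hao, c, orderOf_one])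
      haveI : (zpowers a).Normal := ⟨fun b hb g => by
        obtain ⟨k, rfl⟩ := hb
        obtain ⟨l, hl⟩ := MonoidHom.map_cyclic (MulAut.conjNormal g : MulAut A').toMonoidHom
        have := congrArg Subtype.val (hl (⟨a, ha⟩ ^ k))
        simp only [MulEquiv.coe_toMonoidHom, MulAut.conjNormal_apply, SubgroupClass.coe_zpow] at this
        rw [this]
        exact zpow_mem (zpow_mem (mem_zpowers a) k) l⟩
      obtain ⟨h, hh, hh1, hyh⟩ := CNQuotient.exists_fixed_ne_one (zpowers a)
        (IsPGroup.of_card (p := r) (n := 1) (by rw [Nat.card_zpowers, hao, pow_one]))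
        (fun c => ha1 (zpowers_eq_bot.1 c)) (w := y) hi
      exact hyA (hself h (zpowers_le.2 ha hh) hh1 (mem_centralizer_singleton_iff.2 hyh))
    -- a preimage of prime order normalizing the complement
    have hy1 : y ≠ 1 := fun c => hyA (c ▸ A'.one_mem)
    have hi0 : i ≠ 0 := fun c => hy1 (orderOf_eq_one_iff.1 (by rw [hi, c, pow_zero]))
    set y₁ := y ^ (orderOf y / r)
    have hy₁o : orderOf y₁ = r := orderOf_pow_orderOf_div (orderOf_pos y).ne' (hi ▸ dvd_pow_self r hi0)
    have hy₁A : y₁ ∉ A' := fun h => hrA (hy₁o ▸ Subgroup.orderOf_dvd_natCard A' h)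
    obtain ⟨x, hx⟩ := hf y₁
    have hconj : MulAut.conj x • A ≤ N ⊔ A := by
      rintro _ ⟨b, hb, rfl⟩
      rw [hA'M]
      show f (x * b * x⁻¹) ∈ A'
      rw [map_mul, map_mul, map_inv]
      exact Normal.conj_mem inferInstance _ (hAmap ▸ (⟨b, hb, rfl⟩ : f b ∈ A.map f)) _
    obtain ⟨n, hn, hne⟩ := conj_of_card_eq N A (MulAut.conj x • A) (Or.inl inferInstance)
      le_normalizer_of_normal hconj (card_conj_smul _ _) hAN.symm
    set x₁ := n⁻¹ * x
    have hx₁N : MulAut.conj x₁ • A = A := by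
      rw [show x₁ = n⁻¹ * x from rfl, ← conj_smul_conj_smul, ← hne, conj_smul_conj_smul, inv_mul_cancel, map_one, one_smul]
    have hfx₁ : f x₁ = y₁ := by
      rw [map_mul, map_inv, show f n = 1 from (QuotientGroup.eq_one_iff n).2 hn, inv_one, one_mul, hx]
    have hx₁r : x₁ ^ r ∈ N := (QuotientGroup.eq_one_iff _).1 (by
      show f (x₁ ^ r) = 1
      rw [map_pow, hfx₁, ← hy₁o, pow_orderOf_eq_one])
    set w := x₁ ^ p ^ m
    have hwr : w ^ r = 1 := by
      have := congrArg Subtype.val (pow_card_eq_one' (x := (⟨x₁ ^ r, hx₁r⟩ : N)))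
      rw [hm] at this
      simpa [w, ← pow_mul, mul_comm] using this
    have hcr : Nat.Coprime r (p ^ m) := ((Nat.coprime_primes hr hp).2 hrp).pow_right m
    have hfw : f w = y₁ ^ p ^ m := by rw [map_pow, hfx₁]
    have hfwA : f w ∉ A' := fun h => hy₁A (by
      obtain ⟨k, hk⟩ : y₁ ∈ zpowers (y₁ ^ p ^ m) := mem_zpowers_pow_iff.2 (by rw [hy₁o]; exact hcr.symm)
      have := zpow_mem (hfw ▸ h) k
      rwa [show (y₁ ^ p ^ m) ^ k = y₁ from hk] at this)
    have hwo : orderOf w = r := (hr.eq_one_or_self_of_dvd _ (orderOf_dvd_of_pow_eq_one hwr)).resolve_left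
      fun h => hfwA (by rw [orderOf_eq_one_iff.1 h, map_one]; exact A'.one_mem)
    have hxnorm : x₁ ∈ normalizer (A : Set G) := by
      rw [mem_normalizer_iff]
      intro b
      constructor
      · intro hb
        have : x₁ * b * x₁⁻¹ ∈ MulAut.conj x₁ • A := ⟨b, hb, rfl⟩
        rwa [hx₁N] at this
      · intro hb
        rw [← hx₁N] at hb
        obtain ⟨c, hc, hce⟩ := hb
        have hce' : x₁ * c * x₁⁻¹ = x₁ * b * x₁⁻¹ := hce
        exact mul_left_cancel (mul_right_cancel hce') ▸ hc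
    have hwnorm : zpowers w ≤ normalizer (A : Set G) := zpowers_le.2 (pow_mem hxnorm _)
    -- a fixed point free group containing the complement and the new element
    set B := A ⊔ zpowers w
    haveI hAB : (A.subgroupOf B).Normal := by
      rw [normal_subgroupOf_iff_le_normalizer le_sup_left]
      exact sup_le le_normalizer hwnorm
    have hB : (Nat.card B).Coprime p := by
      have h1 : Nat.card B ∣ Nat.card A * Nat.card (zpowers w) := by
        have hBset : ((B : Subgroup G) : Set G) = (A : Set G) * (zpowers w : Set G) := Subgroup.coe_mul_of_right_le_normalizer_left _ _ hwnorm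
        have hdisj : Disjoint A (zpowers w) := disjoint_iff.2 (inf_eq_bot_of_coprime (by
          rw [Nat.card_zpowers, hwo, hAcard]; exact (hr.coprime_iff_not_dvd.2 hrA).symm))
        refine dvd_of_eq ?_
        rw [← Nat.card_prod]
        refine (Nat.card_congr (Equiv.ofBijective (fun z : A × zpowers w => (⟨z.1 * z.2, mul_mem (mem_sup_left z.1.2) (mem_sup_right z.2.2)⟩ : B)) ⟨?_, ?_⟩)).symm
        · intro z z' h
          exact mul_injective_of_disjoint hdisj (congrArg Subtype.val h)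
        · rintro ⟨b, hb⟩
          have hb' : b ∈ ((B : Subgroup G) : Set G) := hb
          rw [hBset] at hb'
          obtain ⟨a, ha, c, hc, rfl⟩ := Set.mem_mul.1 hb'
          exact ⟨(⟨a, ha⟩, ⟨c, hc⟩), rfl⟩
      refine Nat.Coprime.coprime_dvd_left h1 ?_
      rw [Nat.card_zpowers, hwo]
      exact hAp.mul_left ((Nat.coprime_primes hr hp).2 hrp)
    have hBN : (Nat.card B).Coprime (Nat.card N) := by rw [hm]; exact hB.pow_right m
    have hBfpf : ∀ b ∈ B, b ≠ 1 → N ⊓ centralizer ({b} : Set G) = ⊥ := fun b hb hb1 =>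
      hfree b (hB.coprime_dvd_left (Subgroup.orderOf_dvd_natCard B hb)) hb1
    have hA'0 : Nat.card A ≠ 1 := fun e => hA'1 (card_eq_one.1 (hAcard ▸ e))
    obtain ⟨t, ht, htd⟩ := Nat.exists_prime_and_dvd hA'0
    haveI := Fact.mk ht
    obtain ⟨⟨a, ha⟩, hao⟩ := exists_prime_orderOf_dvd_card' (G := A) t htd
    rw [Subgroup.orderOf_mk] at hao
    have hrt : r ≠ t := fun e => hrA (e ▸ hAcard ▸ htd)
    have hnorm : (⟨w, mem_sup_right (mem_zpowers w)⟩ : B) * ⟨a, mem_sup_left ha⟩ * (⟨w, mem_sup_right (mem_zpowers w)⟩ : B)⁻¹ ∈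
        zpowers (⟨a, mem_sup_left ha⟩ : B) := by
      have hmem : w * a * w⁻¹ ∈ A := (mem_normalizer_iff.1 (hwnorm (mem_zpowers w)) a).1 ha
      have hs : zpowers (⟨w * a * w⁻¹, hmem⟩ : A) = zpowers ⟨a, ha⟩ := by
        have h1 : orderOf (w * a * w⁻¹) = orderOf a := MulEquiv.orderOf_eq (MulAut.conj w) a
        obtain ⟨g, hg⟩ := IsCyclic.exists_generator (α := A)
        exact eq_of_le_of_card_ge (by
          haveI : Fintype A := Fintype.ofFinite A
          classical
          intro b hb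
          have hbt : b ^ t = 1 := by
            rw [← orderOf_dvd_iff_pow_eq_one]
            refine (orderOf_dvd_of_mem_zpowers hb).trans ?_
            rw [Subgroup.orderOf_mk, h1, hao]
          have hsub : Finset.univ.filter (fun b : A => b ^ t = 1) = (zpowers (⟨a, ha⟩ : A) : Set A).toFinset := by
            refine (Finset.eq_of_subset_of_card_le ?_ ?_).symm
            · intro b hb
              rw [Set.mem_toFinset] at hb
              rw [Finset.mem_filter]
              exact ⟨Finset.mem_univ _, orderOf_dvd_iff_pow_eq_one.1 ((orderOf_dvd_of_mem_zpowers hb).trans (by rw [Subgroup.orderOf_mk, hao]))⟩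
            · refine le_trans (IsCyclic.card_pow_eq_one_le ht.pos) ?_
              rw [Set.toFinset_card, ← Nat.card_eq_fintype_card, SetLike.coe_sort_coe, Nat.card_zpowers, Subgroup.orderOf_mk, hao]
          have : b ∈ Finset.univ.filter (fun b : A => b ^ t = 1) := Finset.mem_filter.2 ⟨Finset.mem_univ _, hbt⟩
          rw [hsub, Set.mem_toFinset] at this
          exact this) (by rw [Nat.card_zpowers, Nat.card_zpowers, Subgroup.orderOf_mk, Subgroup.orderOf_mk, h1])
      obtain ⟨k, hk⟩ : (⟨w * a * w⁻¹, hmem⟩ : A) ∈ zpowers (⟨a, ha⟩ : A) := hs ▸ mem_zpowers _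
      exact ⟨k, Subtype.ext (by simpa using congrArg Subtype.val hk)⟩
    have hcomm := Struct.Frobenius.commute_of_normalizes (A := B) hN1 le_normalizer_of_normal hBN hBfpf hr ht
      (x := ⟨w, mem_sup_right (mem_zpowers w)⟩) (w := ⟨a, mem_sup_left ha⟩)
      (by rw [Subgroup.orderOf_mk, hwo]) (by rw [Subgroup.orderOf_mk, hao]) hrt hnorm
    have hwa : w * a = a * w := congrArg Subtype.val hcomm.eq
    have hfa1 : f a ≠ 1 := fun h => by rw [hfA a ha h, orderOf_one] at hao; exact ht.ne_one hao.symm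
    exact hfwA (hself (f a) (hAmap ▸ ⟨a, ha, rfl⟩) hfa1 (mem_centralizer_singleton_iff.2 (by rw [← map_mul, ← map_mul, hwa])))
  · intro x hx a ha ha1 hcom
    refine hx ((hA'M x).2 (hself (f a) (hAmap ▸ ⟨a, ha, rfl⟩) (fun h => ha1 (hfA a ha h)) (mem_centralizer_singleton_iff.2 ?_)))
    have h1 : f (x * a * x⁻¹ * a⁻¹) = 1 := (QuotientGroup.eq_one_iff _).2 hcom
    rw [map_mul, map_mul, map_mul, map_inv, map_inv, mul_inv_eq_one, mul_inv_eq_iff_eq_mul] at h1
    exact h1

theorem trichotomy [Group.IsSolvable G] (hCN : IsCNGroup G) :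
    Group.IsNilpotent G ∨
      (∃ K E : Subgroup G, K.Normal ∧ Subgroup.IsComplement' K E ∧ IsFrobeniusComplement E ∧
        (IsCyclic E ∨ ∃ C Q : Subgroup G, C ⊔ Q = E ∧ (∀ a ∈ C, ∀ b ∈ Q, a * b = b * a) ∧ IsCyclic C ∧ Odd (Nat.card C) ∧
          ∃ n : ℕ, Nonempty (↥Q ≃* QuaternionGroup (2 ^ n)))) ∨
      ∃ p : ℕ, p.Prime ∧ IsThreeStepGroup p G := by
  by_cases hnn : Group.IsNilpotent G
  · exact Or.inl hnn
  haveI : Nontrivial G := by
    by_contra h
    haveI := not_nontrivial_iff_subsingleton.1 h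
    exact hnn inferInstance
  rcases normal_sylow_or_threeStep hCN with ⟨p, hp, P, hP1, hPn⟩ | h
  · obtain ⟨hK1, -, ⟨E, hE, hEF, hfpf⟩, hQn⟩ := CNFrobenius.frobenius hCN P hP1 hPn hnn
    refine Or.inr (Or.inl ⟨_, E, inferInstance, hE, hEF, complement_shape hK1 ?_ hfpf ?_⟩)
    · rw [← hE.symm.index_eq_card]; exact CNFrobenius.coprime_fittingHall.symm
    · haveI := hQn
      exact Group.nilpotent_of_mulEquiv hE.symm.QuotientMulEquiv
  · exact Or.inr (Or.inr h)

end Cfsg.Agent.Solv.CNSolvable
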