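import Mathlib
import Cfsg.Agent.Lib.Solv.CNSolvable
import Cfsg.Agent.Lib.Solv.CNMaximal
import Cfsg.Agent.Lib.Solv.TransferApps
import Cfsg.Agent.Lib.Solv.ZJApps
import Cfsg.Agent.S1458
import Cfsg.Agent.S0118
import Cfsg.Prelude.Def_OddOrder
import Cfsg.Prelude.Def_OddOrderLocal

/-!
Minimal simple groups of odd order with nilpotent centralizers.
-/

set_option autoImplicit false
set_option linter.style.haveILetI false

namespace Cfsg.Agent.Solv.CNMinimal

open Subgroup Cfsg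
open scoped Pointwise

universe u

theorem isCNGroup_subgroup {G : Type u} [Group G] (hCN : IsCNGroup G) (M : Subgroup G) : IsCNGroup M := by
  intro g hg
  haveI := hCN (g : G) fun c => hg (Subtype.ext c)
  have hle : (centralizer ({g} : Set M)).map M.subtype ≤ centralizer {(g : G)} := by
    rintro _ ⟨c, hc, rfl⟩
    exact mem_centralizer_singleton_iff.2 (congrArg Subtype.val (mem_centralizer_singleton_iff.1 hc))
  haveI : Group.IsNilpotent ((centralizer ({g} : Set M)).map M.subtype : Subgroup G) :=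
    Group.nilpotent_of_mulEquiv (subgroupOfEquivOfLe hle)
  exact Group.nilpotent_of_mulEquiv (equivMapOfInjective _ _ M.subtype_injective).symm

section Group

variable {X : Type u} [Group X] [Finite X] {p : ℕ}

theorem threeStep_core (h : IsThreeStepGroup p X) (hp : p.Prime) : pPrimeCore p X = ⊥ := by
  haveI := Fact.mk hp
  obtain ⟨hN, A, -, -, -, hAp, hn, -, ⟨n, hidx⟩, hfpf, -⟩ := h
  set N := pCore p X
  set K := pPrimeCore p X
  have hKM : K ≤ N ⊔ A := by
    haveI := hn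
    intro k hk
    refine mem_of_coprime_index _ ?_
    rw [hidx]
    exact ((card_pPrimeCore_coprime p X).coprime_dvd_left (Subgroup.orderOf_dvd_natCard K hk)).pow_right n
  haveI : Nontrivial N := (nontrivial_iff_ne_bot N).2 hN
  haveI := (isPGroup_pCore p X).center_nontrivial
  obtain ⟨⟨⟨z, hzN⟩, hzc⟩, hz1⟩ := exists_ne (1 : center N)
  have hcomm : ∀ x ∈ N, ∀ k ∈ K, x * k = k * x := fun x hx k hk =>
    (commute_of_normal_of_disjoint _ _ inferInstance inferInstance
      (disjoint_iff.2 (inf_eq_bot_of_isPGroup (isPGroup_pCore p X) (card_pPrimeCore_coprime p X))) x k hx hk).eq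
  rw [eq_bot_iff]
  intro k hk
  obtain ⟨m, hm, a, ha, hma⟩ := mem_sup_of_normal_left.1 (hKM hk)
  have hxz : m * z = z * m := congrArg Subtype.val (mem_center_iff.1 hzc ⟨m, hm⟩)
  have ha1 : a = 1 := by
    by_contra ha1
    refine hz1 (Subtype.ext (Subtype.ext ((eq_bot_iff_forall _).1 (hfpf a ha ha1) z
      (mem_inf.2 ⟨hzN, mem_centralizer_singleton_iff.2 ?_⟩))))
    have h1 : a = m⁻¹ * k := by rw [← hma]; group
    rw [h1]
    exact (Commute.mul_right (show Commute z m⁻¹ from (show Commute z m from hxz.symm).inv_right) (hcomm z hzN k hk)).eq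
  rw [ha1, mul_one] at hma
  subst hma
  have : m ∈ N ⊓ K := ⟨hm, hk⟩
  rwa [inf_eq_bot_of_isPGroup (isPGroup_pCore p X) (card_pPrimeCore_coprime p X)] at this

theorem threeStep_quotient (h : IsThreeStepGroup p X) (hp : p.Prime) (K : Subgroup X) [K.Normal]
    (hK : Group.IsNilpotent K) (hQ : Group.IsNilpotent (X ⧸ K)) : False := by
  haveI := Fact.mk hp
  have hKN : K ≤ pCore p X := fittingSubgroup_eq_pCore (threeStep_core h hp) ▸ le_fittingSubgroup hK
  obtain ⟨-, A, hA1, -, -, hAp, hn, hne, ⟨n, hidx⟩, -, hlast⟩ := h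
  haveI := hn
  obtain ⟨P⟩ := Sylow.nonempty (p := p) (G := X)
  obtain ⟨x, hxP, hx⟩ : ∃ x ∈ (P : Subgroup X), x ∉ pCore p X ⊔ A := by
    by_contra hc
    push Not at hc
    rcases Nat.eq_zero_or_pos n with rfl | hn0
    · exact hne (index_eq_one.1 (by simpa using hidx))
    · exact P.not_dvd_index ((hidx.symm ▸ dvd_pow_self p hn0.ne').trans (index_dvd_of_le hc))
  obtain ⟨⟨a, ha⟩, ha1⟩ := ne_bot_iff_exists_ne_one.1 hA1
  refine hlast x hx a ha (fun c => ha1 (Subtype.ext c)) (hKN ?_)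
  refine (QuotientGroup.eq_one_iff _).1 ?_
  set f := QuotientGroup.mk' K
  show f (x * a * x⁻¹ * a⁻¹) = 1
  have hcop : (orderOf (f x)).Coprime (orderOf (f a)) := by
    obtain ⟨i, hi⟩ := IsPGroup.iff_orderOf.1 P.2 ⟨x, hxP⟩
    rw [Subgroup.orderOf_mk] at hi
    refine Nat.Coprime.coprime_dvd_left (orderOf_map_dvd f x) (Nat.Coprime.coprime_dvd_right ((orderOf_map_dvd f a).trans (Subgroup.orderOf_dvd_natCard A ha)) ?_)
    rw [hi]; exact hAp.symm.pow_left i
  rw [map_mul, map_mul, map_mul, map_inv, map_inv, (commute_of_coprime_orderOf_of_isNilpotent hQ hcop).eq]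
  group

theorem threeStep_residual (h : IsThreeStepGroup p X) (hp : p.Prime) (P : Sylow p X) :
    ¬ (P : Subgroup X) ≤ pResidual p X := by
  haveI := Fact.mk hp
  obtain ⟨-, A, -, -, -, -, hn, hne, ⟨n, hidx⟩, -, -⟩ := h
  haveI := hn
  intro hle
  have hres : pResidual p X ≤ pCore p X ⊔ A := by
    refine (closure_le _).2 fun g hg => mem_of_coprime_index _ ?_
    rw [hidx]; exact (show Nat.Coprime (orderOf g) p from hg).pow_right n
  rcases Nat.eq_zero_or_pos n with rfl | hn0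
  · exact hne (index_eq_one.1 (by simpa using hidx))
  · exact P.not_dvd_index ((hidx.symm ▸ dvd_pow_self p hn0.ne').trans (index_dvd_of_le (hle.trans hres)))

theorem threeStep_prime (h : IsThreeStepGroup p X) (hp : p.Prime) : p ∣ Nat.card X := by
  haveI := Fact.mk hp
  obtain ⟨k, hk⟩ := (IsPGroup.iff_card (p := p)).1 (isPGroup_pCore p X)
  have hk0 : k ≠ 0 := by
    rintro rfl
    exact h.1 (card_eq_one.1 (by simpa using hk))
  exact (hk ▸ dvd_pow_self p hk0).trans (card_subgroup_dvd_card _)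

/-- A solvable group with nilpotent centralizers is three-step or has a nilpotent Hall kernel. -/
theorem shape [Group.IsSolvable X] (hCN : IsCNGroup X) :
    (∃ q : ℕ, q.Prime ∧ IsThreeStepGroup q X) ∨
      ((∀ e : X, (orderOf e).Coprime (Nat.card (fittingHall X)) → e ≠ 1 → fittingHall X ⊓ centralizer ({e} : Set X) = ⊥) ∧
        Group.IsNilpotent (X ⧸ fittingHall X)) := by
  by_cases hnil : Group.IsNilpotent X
  · have htop : fittingHall X = ⊤ := eq_top_iff.2 (CNFrobenius.le_fittingHall inferInstance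
      (by haveI := hnil; exact Group.nilpotent_of_mulEquiv topEquiv.symm) (by rw [index_top]; exact Nat.coprime_one_right _))
    refine Or.inr ⟨fun e he he1 => absurd ?_ he1, by haveI := hnil; infer_instance⟩
    rw [htop, card_top] at he
    exact orderOf_eq_one_iff.1 (Nat.eq_one_of_dvd_coprimes he dvd_rfl (orderOf_dvd_natCard e))
  haveI : Nontrivial X := by
    by_contra h
    haveI := not_nontrivial_iff_subsingleton.1 h
    exact hnil inferInstance
  rcases CNSolvable.normal_sylow_or_threeStep hCN with ⟨q, hq, P, hP1, hPn⟩ | h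
  · exact Or.inr ⟨CNFrobenius.fpf_coprime hCN P hP1 hPn, (CNFrobenius.frobenius hCN P hP1 hPn hnil).2.2.2⟩
  · exact Or.inl h

end Group

theorem isNilpotent_zpowers {G : Type u} [Group G] [Finite G] (g : G) : Group.IsNilpotent (zpowers g) :=
  CNQuotient.isNilpotent_of_commute fun _ _ _ _ _ a b _ _ => IsCyclic.commutative.is_comm.comm a b

variable {G : Type u} [Group G] [Finite G] (hG : IsMinSimpleOddOrder G) (hCN : IsCNGroup G)

include hG in
theorem not_nilpotent : ¬ Group.IsNilpotent G := by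
  obtain ⟨-, hs, hnc, -⟩ := hG
  intro h
  haveI := hs
  haveI : Nontrivial G := IsSimpleGroup.toNontrivial
  have hc : center G ≠ ⊥ := by
    intro hb
    have := inf_center_ne_bot (⊤ : Subgroup G) top_ne_bot
    rw [hb, inf_bot_eq] at this
    exact this rfl
  have htop := ((inferInstance : (center G).Normal).eq_bot_or_eq_top).resolve_left hc
  exact hnc ⟨⟨fun a b => (mem_center_iff.1 (htop ▸ mem_top b : b ∈ center G) a)⟩⟩

include hG in
theorem nilpotent_ne_top {H : Subgroup G} (hH : Group.IsNilpotent H) : H ≠ ⊤ := by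
  rintro rfl
  exact not_nilpotent hG (by haveI := hH; exact Group.nilpotent_of_mulEquiv topEquiv)

include hG in
theorem normalizer_ne_top {D : Subgroup G} (hD : D ≠ ⊥) (hDn : Group.IsNilpotent D) : normalizer (D : Set G) ≠ ⊤ := by
  haveI := hG.2.1
  intro h
  haveI : D.Normal := normalizer_eq_top_iff.1 h
  exact nilpotent_ne_top hG hDn (((inferInstance : D.Normal).eq_bot_or_eq_top).resolve_left hD)

include hG in
theorem ne_two {p : ℕ} (hp : p ∣ Nat.card G) : p ≠ 2 := by
  rintro rfl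
  exact Nat.not_even_iff_odd.2 hG.1 (even_iff_two_dvd.2 hp)

include hG in
theorem centerThompson_facts {p : ℕ} [Fact p.Prime] {P : Subgroup G} (hP : IsPGroup p P) (hP1 : P ≠ ⊥) :
    centerThompsonOf p P ≠ ⊥ ∧ centerThompsonOf p P ≤ P ∧ Group.IsNilpotent (centerThompsonOf p P) ∧
      normalizer (P : Set G) ≤ normalizer (centerThompsonOf p P : Set G) ∧ normalizer (centerThompsonOf p P : Set G) ≠ ⊤ := by
  set Z := centerThompsonOf p P
  have hZe : Z = (ZJ.WE p ↥P).map P.subtype := (ZJ.inducedFunctor_WE P).symm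
  have hne : Z ≠ ⊥ := by
    rw [hZe, Ne, map_eq_bot_iff_of_injective _ P.subtype_injective]
    exact ZJ.isCharPFunctor_WE.1 ↥P hP ((nontrivial_iff_ne_bot P).2 hP1)
  have hle : Z ≤ P := hZe ▸ map_subtype_le _
  have hnil : Group.IsNilpotent Z := (hP.to_le hle).isNilpotent
  refine ⟨hne, hle, hnil, fun g hg => ?_, normalizer_ne_top hG hne hnil⟩
  have h1 := ZJ.centerThompsonOf_map (p := p) (MulAut.conj g).toMonoidHom (MulAut.conj g).injective P
  have hg' : P.map (MulAut.conj g).toMonoidHom = P := mem_normalizer_iff_map_conj_eq.1 hg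
  rw [hg'] at h1
  exact mem_normalizer_iff_map_conj_eq.2 h1.symm

include hG hCN in
/-- No three-step subgroups. -/
theorem no_threeStep (X : Subgroup G) (p : ℕ) (hp : p.Prime) : ¬ IsThreeStepGroup p ↥X := by
  classical
  haveI := Fact.mk hp
  obtain ⟨hodd, hs, -, hsol⟩ := id hG
  intro hX0
  obtain ⟨X', hX', hmax⟩ := Set.exists_max_image {Y : Subgroup G | IsThreeStepGroup p ↥Y}
    (fun Y => p ^ (Nat.card Y).factorization p) (Set.toFinite _) ⟨X, hX0⟩
  clear hX0
  change IsThreeStepGroup p ↥X' at hX'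
  have hXne : X' ≠ ⊤ := by
    intro htop
    haveI := hs
    set R := (pCore p ↥X').map X'.subtype
    haveI : R.Normal := by
      rw [← normalizer_eq_top_iff, eq_top_iff, ← htop]
      exact fun x hx => mem_normalizer_iff_map_conj_eq.2 (eq_of_le_of_card_ge (by
        rintro _ ⟨_, ⟨r, hr, rfl⟩, rfl⟩
        exact ⟨⟨x, hx⟩ * r * ⟨x, hx⟩⁻¹, Normal.conj_mem inferInstance r hr _, rfl⟩)
        (Nat.card_congr (R.equivMapOfInjective _ (MulAut.conj x).injective).toEquiv).le)
    have hR1 : R ≠ ⊥ := fun h => hX'.1 ((map_eq_bot_iff_of_injective _ X'.subtype_injective).1 h)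
    exact nilpotent_ne_top hG ((isPGroup_pCore p ↥X').map X'.subtype).isNilpotent
      (((inferInstance : R.Normal).eq_bot_or_eq_top).resolve_left hR1)
  haveI := hsol X' hXne
  have hpG : p ∣ Nat.card G := (threeStep_prime hX' hp).trans (card_subgroup_dvd_card X')
  have hp2 := ne_two hG hpG
  obtain ⟨P0⟩ := Sylow.nonempty (p := p) (G := X')
  set P := (P0 : Subgroup X').map X'.subtype
  have hP1 : P ≠ ⊥ := fun h => P0.ne_bot_of_dvd_card (threeStep_prime hX' hp)
    ((map_eq_bot_iff_of_injective _ X'.subtype_injective).1 h)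
  obtain ⟨hZ1, hZP, hZn, hNP, hMne⟩ := centerThompson_facts hG (P0.2.map X'.subtype) hP1
  set Z := centerThompsonOf p P
  set M := normalizer (Z : Set G)
  have hXM : X' ≤ M := by
    have hn := S1458.result (G := ↥X') (hodd.of_dvd_nat (card_subgroup_dvd_card X')) p P0
    rw [threeStep_core hX' hp, sup_bot_eq] at hn
    intro x hx
    rw [mem_normalizer_iff_map_conj_eq]
    have hZe : Z = (centerThompsonOf p (P0 : Subgroup X')).map X'.subtype :=
      ZJ.centerThompsonOf_map X'.subtype X'.subtype_injective _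
    refine eq_of_le_of_card_ge ?_ (Nat.card_congr (Z.equivMapOfInjective _ (MulAut.conj x).injective).toEquiv).le
    rw [hZe]
    rintro _ ⟨_, ⟨r, hr, rfl⟩, rfl⟩
    exact ⟨⟨x, hx⟩ * r * ⟨x, hx⟩⁻¹, hn.conj_mem r hr _, rfl⟩
  haveI := hsol M hMne
  -- the normalizer is three-step for the same prime
  have hM : IsThreeStepGroup p ↥M := by
    rcases shape (isCNGroup_subgroup hCN M) with ⟨q, hq, h⟩ | ⟨-, hQ⟩
    · by_cases hqp : q = p
      · rwa [← hqp]
      exfalso
      haveI := Fact.mk hq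
      have hZle : Z.subgroupOf M ≤ pPrimeCore q ↥M := by
        haveI : (Z.subgroupOf M).Normal := normal_in_normalizer
        refine le_pPrimeCore ?_
        rw [Nat.card_congr (subgroupOfEquivOfLe le_normalizer).toEquiv]
        obtain ⟨k, hk⟩ := IsPGroup.iff_card.1 (((P0.2.map X'.subtype) : IsPGroup p P).to_le hZP)
        rw [hk]
        exact ((Nat.coprime_primes hp hq).2 (Ne.symm hqp)).pow_left k
      rw [threeStep_core h hq, le_bot_iff, subgroupOf_eq_bot, disjoint_iff, inf_eq_left.2 le_normalizer] at hZle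
      exact hZ1 hZle
    · exfalso
      set f := (QuotientGroup.mk' (fittingHall ↥M)).comp (inclusion hXM)
      have hK : Group.IsNilpotent f.ker := by
        haveI := CNFrobenius.isNilpotent_fittingHall (G := ↥M)
        have hle : f.ker.map (inclusion hXM) ≤ fittingHall ↥M := by
          rintro _ ⟨k, hk, rfl⟩
          exact (QuotientGroup.eq_one_iff _).1 hk
        haveI : Group.IsNilpotent (f.ker.map (inclusion hXM)) := Group.nilpotent_of_mulEquiv (subgroupOfEquivOfLe hle)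
        exact Group.nilpotent_of_mulEquiv (equivMapOfInjective _ _ (inclusion_injective hXM)).symm
      haveI := hQ
      exact threeStep_quotient hX' hp f.ker hK (Group.nilpotent_of_mulEquiv (QuotientGroup.quotientKerEquivRange f).symm)
  -- it contains a Sylow subgroup of the group
  have hPM : P ≤ M := (map_subtype_le _).trans hXM
  have hfacM : p ^ (Nat.card M).factorization p ≤ Nat.card P := by
    rw [card_map_of_injective X'.subtype_injective, P0.card_eq_multiplicity]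
    exact hmax M hM
  obtain ⟨Q, hQ⟩ := (P0.2.map X'.subtype).exists_le_sylow
  have hQP : (Q : Subgroup G) = P := by
    by_contra hne
    haveI := Q.2.isNilpotent
    have hlt : P.subgroupOf (Q : Subgroup G) < ⊤ := lt_top_iff_ne_top.2 fun h =>
      hne (le_antisymm (subgroupOf_eq_top.1 h) hQ)
    have hlt' := (Group.normalizerCondition_of_isNilpotent (G := (Q : Subgroup G))) _ hlt
    set R := (normalizer ((P.subgroupOf (Q : Subgroup G)) : Set (Q : Subgroup G))).map (Q : Subgroup G).subtype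
    have hRM : R ≤ M := by
      refine le_trans ?_ hNP
      rintro _ ⟨r, hr, rfl⟩
      rw [mem_normalizer_iff_map_conj_eq]
      refine eq_of_le_of_card_ge ?_ (Nat.card_congr (P.equivMapOfInjective _ (MulAut.conj (r : G)).injective).toEquiv).le
      rintro _ ⟨y, hy, rfl⟩
      exact (mem_normalizer_iff.1 hr ⟨y, hQ hy⟩).1 hy
    have hRp : IsPGroup p R := (Q.2.to_subgroup _).map _
    obtain ⟨S, hS⟩ := (hRp.comap_of_injective M.subtype M.subtype_injective).exists_le_sylow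
    have h1 : Nat.card R ≤ Nat.card P := by
      refine le_trans ?_ hfacM
      rw [← P0.card_eq_multiplicity.trans rfl |> fun _ => S.card_eq_multiplicity]
      refine le_trans (le_of_eq ?_) (card_le_of_le hS)
      exact (Nat.card_congr (subgroupOfEquivOfLe hRM).toEquiv).symm
    have h2 : Nat.card P < Nat.card R := by
      rw [card_map_of_injective (Q : Subgroup G).subtype_injective, ← Nat.card_congr (subgroupOfEquivOfLe hQ).toEquiv]
      exact lt_of_le_of_ne (card_le_of_le hlt'.le) fun h => hlt'.ne (eq_of_le_of_card_ge hlt'.le h.ge)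
    omega
  have hQM : (Q : Subgroup G) ≤ M := hQP ▸ hPM
  -- transfer
  have hfree : ¬ ∃ (H K : Subgroup G) (_ : (K.subgroupOf H).Normal),
      Nonempty ((H ⧸ K.subgroupOf H) ≃* Matrix.SpecialLinearGroup (Fin 2) (ZMod p)) := by
    rintro ⟨H, K, hKn, ⟨e⟩⟩
    have h2 : 2 ∣ Nat.card (Matrix.SpecialLinearGroup (Fin 2) (ZMod p)) := by
      have ho : orderOf (-1 : Matrix.SpecialLinearGroup (Fin 2) (ZMod p)) = 2 := by
        haveI : Fact (Nat.Prime 2) := ⟨Nat.prime_two⟩
        refine orderOf_eq_prime (neg_one_sq) fun h => ?_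
        have h1 := congrArg (fun m : Matrix.SpecialLinearGroup (Fin 2) (ZMod p) => (m : Matrix (Fin 2) (Fin 2) (ZMod p)) 0 0) h
        simp only [Matrix.SpecialLinearGroup.coe_neg, Matrix.SpecialLinearGroup.coe_one, Matrix.neg_apply, Matrix.one_apply_eq] at h1
        haveI : Fact (2 < p) := ⟨lt_of_le_of_ne hp.two_le (Ne.symm hp2)⟩
        exact ZMod.neg_one_ne_one h1
      exact (dvd_of_eq ho.symm).trans (_root_.orderOf_dvd_natCard _)
    refine Nat.not_even_iff_odd.2 hodd (even_iff_two_dvd.2 ((h2.trans ?_).trans (card_subgroup_dvd_card H)))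
    rw [← Nat.card_congr e.toEquiv]
    exact card_quotient_dvd_card _
  have hctrl := inf_pResidual_of_control Q M hQM fun U hU g hg => by
    obtain ⟨v, hv, he⟩ := S0118.result hp2 hfree Q (U : Set G) hU g⁻¹ (by
      rintro _ ⟨a, ha, rfl⟩
      rw [inv_inv]
      exact hU ((mem_normalizer_iff.1 hg a).1 ha))
    rw [hQP] at hv
    exact ⟨v⁻¹, inv_mem hv, fun x hx => by
      have := he x hx
      rw [inv_inv] at this ⊢
      exact this.symm⟩
  have htop : pResidual p G = ⊤ := by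
    haveI := hs
    haveI := pResidual_characteristic p G
    refine ((inferInstance : (pResidual p G).Normal).eq_bot_or_eq_top).resolve_left fun h => not_nilpotent hG ?_
    refine IsPGroup.isNilpotent (p := p) fun g => ?_
    by_contra hg
    push Not at hg
    obtain ⟨k, m, hm, hkm⟩ := Nat.exists_eq_pow_mul_and_not_dvd (orderOf_pos g).ne' p hp.ne_one
    have hgm : g ^ p ^ k ∈ pResidual p G := subset_closure (by
      show Nat.Coprime (orderOf (g ^ p ^ k)) p
      rw [orderOf_pow_of_dvd (pow_ne_zero _ hp.ne_zero) (Dvd.intro m hkm.symm), hkm,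
        Nat.mul_div_cancel_left _ (pow_pos hp.pos _)]
      exact (hp.coprime_iff_not_dvd.2 hm).symm)
    rw [h, mem_bot] at hgm
    exact hg k hgm
  rw [htop, inf_top_eq] at hctrl
  refine threeStep_residual hM hp (Q.subtype hQM) ?_
  intro x hx
  have h1 : (x : G) ∈ (Q : Subgroup G) ⊓ (pResidual p ↥M).map M.subtype := hctrl ▸ hx
  obtain ⟨y, hy, hye⟩ := h1.2
  exact (Subtype.ext hye : y = x) ▸ hy

include hG hCN in
/-- The kernel of a proper subgroup. -/
theorem kernel {M : Subgroup G} (hM : M ≠ ⊤) :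
    fittingHallOf M ≤ M ∧ M ≤ normalizer (fittingHallOf M : Set G) ∧ Group.IsNilpotent (fittingHallOf M) ∧
      (∀ y ∈ M, (orderOf y).Coprime (Nat.card (fittingHallOf M)) → y ≠ 1 → fittingHallOf M ⊓ centralizer ({y} : Set G) = ⊥) ∧
      (∀ U : Subgroup G, U ≤ M → U ⊓ fittingHallOf M = ⊥ → Group.IsNilpotent U) ∧
      (∀ y ∈ M, (orderOf y).Coprime ((fittingHall M).index) → y ∈ fittingHallOf M) := by
  haveI := hG.2.2.2 M hM
  obtain ⟨q, hq, h⟩ | ⟨hfpf, hQ⟩ := shape (isCNGroup_subgroup hCN M)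
  · exact absurd h (no_threeStep hG hCN M q hq)
  refine ⟨map_subtype_le _, fun x hx => ?_, ?_, fun y hy hc hy1 => ?_, fun U hU hUK => ?_, fun y hy hc => ?_⟩
  · rw [mem_normalizer_iff_map_conj_eq]
    refine eq_of_le_of_card_ge ?_ (Nat.card_congr ((fittingHallOf M).equivMapOfInjective _ (MulAut.conj x).injective).toEquiv).le
    rintro _ ⟨_, ⟨r, hr, rfl⟩, rfl⟩
    exact ⟨⟨x, hx⟩ * r * ⟨x, hx⟩⁻¹, Normal.conj_mem inferInstance r hr _, rfl⟩
  · haveI := CNFrobenius.isNilpotent_fittingHall (G := ↥M)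
    exact Group.nilpotent_of_mulEquiv (equivMapOfInjective _ _ M.subtype_injective)
  · rw [fittingHallOf, card_map_of_injective M.subtype_injective, ← Subgroup.orderOf_mk y hy] at hc
    have h1 := hfpf ⟨y, hy⟩ hc (fun c => hy1 (congrArg Subtype.val c))
    rw [eq_bot_iff_forall]
    intro z hz
    obtain ⟨⟨w, hw, rfl⟩, hzy⟩ := mem_inf.1 hz
    rw [(eq_bot_iff_forall _).1 h1 w (mem_inf.2 ⟨hw, mem_centralizer_singleton_iff.2 (Subtype.ext (mem_centralizer_singleton_iff.1 hzy))⟩), map_one]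
  · haveI := hQ
    set f := (QuotientGroup.mk' (fittingHall ↥M)).comp (inclusion hU)
    have hf : Function.Injective f := by
      rw [injective_iff_map_eq_one]
      intro u hu
      have h1 : (u : G) ∈ U ⊓ fittingHallOf M := ⟨u.2, _, (QuotientGroup.eq_one_iff _).1 hu, rfl⟩
      rw [hUK, mem_bot] at h1
      exact Subtype.ext h1
    exact Group.nilpotent_of_mulEquiv (MonoidHom.ofInjective hf).symm
  · rw [← Subgroup.orderOf_mk y hy] at hc
    exact ⟨⟨y, hy⟩, mem_of_coprime_index _ hc, rfl⟩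

include hG hCN in
/-- Prime power elements lie in the kernel when the prime divides its order. -/
theorem mem_kernel {M : Subgroup G} (hM : M ≠ ⊤) {p i : ℕ} (hp : p.Prime) (hd : p ∣ Nat.card (fittingHallOf M))
    {y : G} (hy : y ∈ M) (hyo : orderOf y = p ^ i) : y ∈ fittingHallOf M := by
  refine (kernel hG hCN hM).2.2.2.2.2 y hy ?_
  rw [hyo]
  refine (hp.coprime_iff_not_dvd.2 fun h => ?_).pow_left i
  rw [fittingHallOf, card_map_of_injective M.subtype_injective] at hd
  have h1 := Nat.dvd_gcd hd h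
  rw [CNFrobenius.coprime_fittingHall] at h1
  exact hp.not_dvd_one h1

variable (H : Subgroup G) (hH : Group.IsNilpotent H)
  (hmax : ∀ L : Subgroup G, Group.IsNilpotent L → H ≤ L → L = H)

omit H hH hmax in
theorem exists_max {U : Subgroup G} (hU : Group.IsNilpotent U) :
    ∃ L : Subgroup G, U ≤ L ∧ Group.IsNilpotent L ∧ ∀ L' : Subgroup G, Group.IsNilpotent L' → L ≤ L' → L' = L := by
  obtain ⟨L, hL⟩ := (Set.toFinite {L : Subgroup G | U ≤ L ∧ Group.IsNilpotent L}).exists_maximal ⟨U, le_rfl, hU⟩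
  exact ⟨L, hL.1.1, hL.1.2, fun L' h1 h2 => le_antisymm (hL.2 ⟨hL.1.1.trans h2, h1⟩ h2) h2⟩

omit H hH hmax in
include hG in
theorem max_ne_bot {L : Subgroup G} (hLmax : ∀ L' : Subgroup G, Group.IsNilpotent L' → L ≤ L' → L' = L) : L ≠ ⊥ := by
  rintro rfl
  haveI := hG.2.1
  haveI : Nontrivial G := IsSimpleGroup.toNontrivial
  obtain ⟨g, hg⟩ := exists_ne (1 : G)
  exact hg (zpowers_eq_bot.1 (hLmax (zpowers g) (isNilpotent_zpowers g) bot_le))

include hCN hH hmax in
theorem central_of_sylow {p : ℕ} [Fact p.Prime] {P : Sylow p G} (hP : (P : Subgroup G) ≤ H) {w : G}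
    (hwP : w ∈ (P : Subgroup G)) (hw : ∀ x ∈ (P : Subgroup G), x * w = w * x) (hw1 : w ≠ 1) :
    centralizer ({w} : Set G) = H := by
  refine CNMaximal.centralizer_eq hCN H hmax hw1 ?_
  suffices key : ((centralizer ({w} : Set G)).subgroupOf H).index = 1 by
    intro h hh
    exact mem_centralizer_singleton_iff.1 (index_eq_one.1 key ▸ mem_top (⟨h, hh⟩ : H) : (⟨h, hh⟩ : H) ∈ (centralizer ({w} : Set G)).subgroupOf H)
  by_contra hne
  obtain ⟨r, hr, hd⟩ := Nat.exists_prime_and_dvd hne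
  haveI := Fact.mk hr
  obtain ⟨R⟩ := Sylow.nonempty (p := r) (G := H)
  refine R.not_dvd_index (hd.trans (index_dvd_of_le fun a ha => mem_centralizer_singleton_iff.2 ?_))
  change (a : G) * w = w * a
  obtain ⟨l, hl⟩ := IsPGroup.iff_orderOf.1 R.2 ⟨a, ha⟩
  rw [Subgroup.orderOf_mk, ← Subgroup.orderOf_coe] at hl
  by_cases hrp : r = p
  · subst hrp
    haveI hRn : (R : Subgroup H).Normal := ((Group.isNilpotent_of_finite_tfae (G := H)).out 0 3 rfl rfl).mp hH r ‹_› R
    haveI := Sylow.unique_of_normal R hRn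
    refine hw a ?_
    have : P.subtype hP = R := Subsingleton.elim _ _
    rw [← this] at ha
    exact ha
  · obtain ⟨i, hi⟩ := IsPGroup.iff_orderOf.1 P.2 ⟨w, hwP⟩
    rw [Subgroup.orderOf_mk] at hi
    exact CNMaximal.commute_coprime H hH a.2 (hP hwP) (by rw [hl, hi]; exact ((Nat.coprime_primes hr Fact.out).2 hrp).pow l i)

omit H hH hmax in
theorem exists_central_sylow {p : ℕ} [Fact p.Prime] (P : Sylow p G) (hP : (P : Subgroup G) ≠ ⊥) :
    ∃ w ∈ (P : Subgroup G), w ≠ 1 ∧ ∀ x ∈ (P : Subgroup G), x * w = w * x := by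
  haveI : Nontrivial (P : Subgroup G) := (nontrivial_iff_ne_bot _).2 hP
  haveI := P.2.center_nontrivial
  obtain ⟨⟨⟨w, hw⟩, hwc⟩, hw1⟩ := exists_ne (1 : center (P : Subgroup G))
  exact ⟨w, hw, fun c => hw1 (Subtype.ext (Subtype.ext c)), fun x hx => congrArg Subtype.val (mem_center_iff.1 hwc ⟨x, hx⟩)⟩

include hCN hH hmax in
theorem unique {p : ℕ} [Fact p.Prime] {P : Sylow p G} (hP1 : (P : Subgroup G) ≠ ⊥) (hP : (P : Subgroup G) ≤ H)
    {L : Subgroup G} (hL : Group.IsNilpotent L) (hLmax : ∀ L' : Subgroup G, Group.IsNilpotent L' → L ≤ L' → L' = L)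
    (hPL : (P : Subgroup G) ≤ L) : L = H := by
  obtain ⟨w, hw, hw1, hwc⟩ := exists_central_sylow P hP1
  rw [← central_of_sylow hCN H hH hmax hP hw hwc hw1, central_of_sylow hCN L hL hLmax hPL hw hwc hw1]

include hG hCN hH hmax in
theorem kernel_eq {M : Subgroup G} (hM : M ≠ ⊤) (hHM : H ≤ M) {p : ℕ} (hp : p.Prime) (hpH : p ∣ Nat.card H)
    (hpK : p ∣ Nat.card (fittingHallOf M)) : fittingHallOf M = H := by
  haveI := Fact.mk hp
  obtain ⟨P, hP⟩ := CNMaximal.sylow_le hCN H hH hmax hpH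
  have hP1 : (P : Subgroup G) ≠ ⊥ := P.ne_bot_of_dvd_card (hpH.trans (card_subgroup_dvd_card H))
  obtain ⟨hKM, -, hKn, hfpf, -, -⟩ := kernel hG hCN hM
  have hPK : (P : Subgroup G) ≤ fittingHallOf M := fun x hx => by
    obtain ⟨i, hi⟩ := IsPGroup.iff_orderOf.1 P.2 ⟨x, hx⟩
    rw [Subgroup.orderOf_mk] at hi
    exact mem_kernel hG hCN hM hp hpK (hHM (hP hx)) hi
  obtain ⟨L, hKL, hL, hLmax⟩ := exists_max hKn
  have hKH : fittingHallOf M ≤ H := unique hCN H hH hmax hP1 hP hL hLmax (hPK.trans hKL) ▸ hKL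
  refine le_antisymm hKH ?_
  suffices key : ((fittingHallOf M).subgroupOf H).index = 1 by
    intro h hh
    exact (index_eq_one.1 key ▸ mem_top (⟨h, hh⟩ : H) : (⟨h, hh⟩ : H) ∈ (fittingHallOf M).subgroupOf H)
  by_contra hne
  obtain ⟨r, hr, hd⟩ := Nat.exists_prime_and_dvd hne
  haveI := Fact.mk hr
  obtain ⟨R⟩ := Sylow.nonempty (p := r) (G := H)
  refine R.not_dvd_index (hd.trans (index_dvd_of_le fun a ha => ?_))
  obtain ⟨l, hl⟩ := IsPGroup.iff_orderOf.1 R.2 ⟨a, ha⟩
  rw [Subgroup.orderOf_mk, ← Subgroup.orderOf_coe] at hl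
  show (a : G) ∈ fittingHallOf M
  by_cases hrK : r ∣ Nat.card (fittingHallOf M)
  · exact mem_kernel hG hCN hM hr hrK (hHM a.2) hl
  · by_contra haK
    obtain ⟨⟨w, hw⟩, hw1⟩ := ne_bot_iff_exists_ne_one.1 hP1
    refine hw1 (Subtype.ext ((eq_bot_iff_forall _).1 (hfpf a (hHM a.2) (by rw [hl]; exact (hr.coprime_iff_not_dvd.2 hrK).pow_left l)
      (fun c => haK (c ▸ one_mem _))) w (mem_inf.2 ⟨hPK hw, mem_centralizer_singleton_iff.2 ?_⟩)))
    obtain ⟨i, hi⟩ := IsPGroup.iff_orderOf.1 P.2 ⟨w, hw⟩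
    rw [Subgroup.orderOf_mk] at hi
    exact CNMaximal.commute_coprime H hH (hP hw) a.2 (by
      rw [hl, hi]; exact ((Nat.coprime_primes hp hr).2 fun e => hrK (e ▸ hpK)).pow i l)

include hG hCN hH hmax in
theorem normalizer_facts :
    IsCoatom (normalizer (H : Set G)) ∧ ¬ Group.IsNilpotent (normalizer (H : Set G)) ∧
      fittingHallOf (normalizer (H : Set G)) = H := by
  have hH1 := max_ne_bot hG hmax
  obtain ⟨p, hp, hpH⟩ := Nat.exists_prime_and_dvd (fun e => hH1 (card_eq_one.1 e) : Nat.card H ≠ 1)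
  haveI := Fact.mk hp
  obtain ⟨P, hP⟩ := CNMaximal.sylow_le hCN H hH hmax hpH
  have hpG := hpH.trans (card_subgroup_dvd_card H)
  have hP1 : (P : Subgroup G) ≠ ⊥ := P.ne_bot_of_dvd_card hpG
  obtain ⟨hZ1, hZP, hZn, hNP, hMne⟩ := centerThompson_facts hG P.2 hP1
  set Z := centerThompsonOf p (P : Subgroup G)
  set M := normalizer (Z : Set G)
  have hHP : H ≤ normalizer ((P : Subgroup G) : Set G) := by
    haveI hn : ((P.subtype hP : Sylow p H) : Subgroup H).Normal :=
      ((Group.isNilpotent_of_finite_tfae (G := H)).out 0 3 rfl rfl).mp hH p ‹_› _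
    exact (normal_subgroupOf_iff_le_normalizer hP).1 hn
  have hHM : H ≤ M := hHP.trans hNP
  have hMnil : ¬ Group.IsNilpotent M := by
    intro h
    have hnpc : HasNormalPComplement p G := ZJ.npc_of_centerThompson (ne_two hG hpG) P
      (Perm.hasNormalPComplement_of_isNilpotent p h)
    obtain ⟨Q, N, hN, hc⟩ := hnpc
    haveI := hG.2.1
    rcases hN.eq_bot_or_eq_top with rfl | rfl
    · refine not_nilpotent hG ?_
      have htopQ := isComplement'_bot_left.1 hc
      haveI := Q.2.isNilpotent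
      exact Group.nilpotent_of_mulEquiv ((MulEquiv.subgroupCongr htopQ).trans topEquiv)
    · exact Q.ne_bot_of_dvd_card hpG (isComplement'_top_left.1 hc)
  obtain ⟨hKM, -, -, hfpf, hquot, -⟩ := kernel hG hCN hMne
  have hpK : p ∣ Nat.card (fittingHallOf M) := by
    by_contra hd
    obtain ⟨⟨z, hz⟩, hz1⟩ := ne_bot_iff_exists_ne_one.1 hZ1
    obtain ⟨i, hi⟩ := IsPGroup.iff_orderOf.1 P.2 ⟨z, hZP hz⟩
    rw [Subgroup.orderOf_mk] at hi
    have h1 := hfpf z (le_normalizer hz) (by rw [hi]; exact (hp.coprime_iff_not_dvd.2 hd).pow_left i) (fun c => hz1 (Subtype.ext c))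
    have hdisj : Z ⊓ fittingHallOf M = ⊥ := inf_eq_bot_of_coprime (by
      obtain ⟨k, hk⟩ := IsPGroup.iff_card.1 (P.2.to_le hZP)
      rw [hk]; exact (hp.coprime_iff_not_dvd.2 hd).pow_left k)
    have hle : fittingHallOf M ≤ centralizer ({z} : Set G) := by
      intro x hx
      rw [mem_centralizer_singleton_iff]
      have h2 : x * z * x⁻¹ * z⁻¹ ∈ Z ⊓ fittingHallOf M := by
        refine ⟨Z.mul_mem ((mem_normalizer_iff.1 (hKM hx) z).1 hz) (Z.inv_mem hz), ?_⟩
        have : z * x⁻¹ * z⁻¹ ∈ fittingHallOf M :=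
          (mem_normalizer_iff.1 ((kernel hG hCN hMne).2.1 (le_normalizer hz)) _).1 (inv_mem hx)
        simpa [mul_assoc] using mul_mem hx this
      rw [hdisj, mem_bot, mul_inv_eq_one, mul_inv_eq_iff_eq_mul] at h2
      exact h2
    refine hMnil (hquot M le_rfl ?_)
    rw [show fittingHallOf M = ⊥ from le_bot_iff.1 (h1 ▸ le_inf le_rfl hle), inf_bot_eq]
  have hKH := kernel_eq hG hCN H hH hmax hMne hHM hp hpH hpK
  have hMN : M ≤ normalizer (H : Set G) := hKH ▸ (kernel hG hCN hMne).2.1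
  have hNn : ¬ Group.IsNilpotent (normalizer (H : Set G)) := by
    intro h
    have h1 := hmax _ h le_normalizer
    haveI := h
    exact hMnil (Group.nilpotent_of_mulEquiv (subgroupOfEquivOfLe hMN))
  have hNne : normalizer (H : Set G) ≠ ⊤ := normalizer_ne_top hG hH1 hH
  have hKN : fittingHallOf (normalizer (H : Set G)) = H := by
    refine kernel_eq hG hCN H hH hmax hNne le_normalizer hp hpH (hpH.trans ?_)
    have hle : H.subgroupOf (normalizer (H : Set G)) ≤ fittingHall (normalizer (H : Set G)) := by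
      refine CNFrobenius.le_fittingHall normal_in_normalizer ?_ ?_
      · haveI := hH; exact Group.nilpotent_of_mulEquiv (subgroupOfEquivOfLe le_normalizer).symm
      · rw [Nat.card_congr (subgroupOfEquivOfLe le_normalizer).toEquiv]
        exact (CNMaximal.coprime_index hCN H hH hmax).coprime_dvd_right (relIndex_dvd_index_of_le le_normalizer)
    rw [← Nat.card_congr (subgroupOfEquivOfLe (le_normalizer : H ≤ normalizer (H : Set G))).toEquiv, fittingHallOf,
      card_map_of_injective (Subgroup.subtype_injective _)]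
    exact card_dvd_of_le hle
  refine ⟨?_, hNn, hKN⟩
  obtain ⟨M', hM', hle⟩ := (eq_top_or_exists_le_coatom (normalizer (H : Set G))).resolve_left hNne
  obtain ⟨-, hM'N, -, hfpf', hquot', -⟩ := kernel hG hCN hM'.1
  by_cases hcop : (Nat.card H).Coprime (Nat.card (fittingHallOf M'))
  · exfalso
    refine hNn (hquot' _ hle ?_)
    rw [eq_bot_iff_forall]
    intro x hx
    obtain ⟨hxN, hxK⟩ := mem_inf.1 hx
    obtain ⟨⟨h, hh⟩, hh1⟩ := ne_bot_iff_exists_ne_one.1 hH1
    refine (eq_bot_iff_forall _).1 (hfpf' h (hle (le_normalizer hh))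
      (hcop.coprime_dvd_left (Subgroup.orderOf_dvd_natCard H hh)) (fun c => hh1 (Subtype.ext c))) x
      (mem_inf.2 ⟨hxK, mem_centralizer_singleton_iff.2 ?_⟩)
    have h2 : x * h * x⁻¹ * h⁻¹ ∈ H ⊓ fittingHallOf M' := by
      refine ⟨H.mul_mem ((mem_normalizer_iff.1 hxN h).1 hh) (H.inv_mem hh), ?_⟩
      have : h * x⁻¹ * h⁻¹ ∈ fittingHallOf M' :=
        (mem_normalizer_iff.1 (hM'N (hle (le_normalizer hh))) _).1 (inv_mem hxK)
      simpa [mul_assoc] using mul_mem hxK this
    rw [inf_eq_bot_of_coprime hcop, mem_bot, mul_inv_eq_one, mul_inv_eq_iff_eq_mul] at h2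
    exact h2
  · obtain ⟨r, hr, hrH, hrK⟩ := Nat.Prime.not_coprime_iff_dvd.1 hcop
    have h := kernel_eq hG hCN H hH hmax hM'.1 (le_normalizer.trans hle) hr hrH hrK
    rwa [le_antisymm hle (h ▸ hM'N)]

include hG hCN in
/-- Two Sylow subgroups meet trivially. -/
theorem sylow_inf_eq_bot {p : ℕ} [Fact p.Prime] (S T : Sylow p G) (hne : S ≠ T) :
    (S : Subgroup G) ⊓ (T : Subgroup G) = ⊥ := by
  classical
  by_contra h0
  obtain ⟨⟨A, B⟩, hAB, hbest⟩ := Set.exists_max_image {q : Sylow p G × Sylow p G | q.1 ≠ q.2}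
    (fun q => Nat.card ↥((q.1 : Subgroup G) ⊓ (q.2 : Subgroup G))) (Set.toFinite _) ⟨(S, T), hne⟩
  change A ≠ B at hAB
  set D := (A : Subgroup G) ⊓ (B : Subgroup G)
  have hD1 : D ≠ ⊥ := by
    intro h
    have hb : Nat.card ↥((S : Subgroup G) ⊓ (T : Subgroup G)) ≤ Nat.card D := hbest (S, T) hne
    rw [h, card_bot] at hb
    exact h0 (card_eq_one.1 (le_antisymm hb Nat.card_pos))
  have hDn : Group.IsNilpotent D := (A.2.to_le inf_le_left).isNilpotent
  obtain ⟨M, hM, hle⟩ := (eq_top_or_exists_le_coatom (normalizer (D : Set G))).resolve_left (normalizer_ne_top hG hD1 hDn)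
  obtain ⟨-, hMN, hKn, hfpf, hquot, -⟩ := kernel hG hCN hM.1
  -- the prime power elements of the normalizer form a subgroup
  obtain ⟨U, hU, hUel⟩ : ∃ U : Subgroup G, IsPGroup p U ∧ ∀ y ∈ normalizer (D : Set G), (∃ i, orderOf y = p ^ i) → y ∈ U := by
    have gen : ∀ L : Subgroup G, Group.IsNilpotent L → ∃ U : Subgroup G, IsPGroup p U ∧ ∀ y ∈ L, (∃ i, orderOf y = p ^ i) → y ∈ U := by
      intro L hL
      obtain ⟨R⟩ := Sylow.nonempty (p := p) (G := L)
      haveI := Sylow.unique_of_normal R (((Group.isNilpotent_of_finite_tfae (G := L)).out 0 3 rfl rfl).mp hL p ‹_› R)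
      refine ⟨(R : Subgroup L).map L.subtype, R.2.map _, fun y hy ⟨i, hi⟩ => ?_⟩
      obtain ⟨R', hR'⟩ := (IsPGroup.of_card (p := p) (n := i) (by rw [Nat.card_zpowers, Subgroup.orderOf_mk, hi]) :
        IsPGroup p (zpowers (⟨y, hy⟩ : L))).exists_le_sylow
      exact ⟨⟨y, hy⟩, Subsingleton.elim R' R ▸ hR' (mem_zpowers _), rfl⟩
    by_cases hd : p ∣ Nat.card (fittingHallOf M)
    · obtain ⟨U, hU, h⟩ := gen _ hKn
      exact ⟨U, hU, fun y hy ⟨i, hi⟩ => h y (mem_kernel hG hCN hM.1 Fact.out hd (hle hy) hi) ⟨i, hi⟩⟩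
    · refine gen _ (hquot _ hle ?_)
      rw [eq_bot_iff_forall]
      intro x hx
      obtain ⟨hxN, hxK⟩ := mem_inf.1 hx
      obtain ⟨⟨h, hh⟩, hh1⟩ := ne_bot_iff_exists_ne_one.1 hD1
      obtain ⟨i, hi⟩ := IsPGroup.iff_orderOf.1 A.2 ⟨h, hh.1⟩
      rw [Subgroup.orderOf_mk] at hi
      refine (eq_bot_iff_forall _).1 (hfpf h (hle (le_normalizer hh))
        (by rw [hi]; exact ((Fact.out : p.Prime).coprime_iff_not_dvd.2 hd).pow_left i) (fun c => hh1 (Subtype.ext c))) x
        (mem_inf.2 ⟨hxK, mem_centralizer_singleton_iff.2 ?_⟩)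
      have h2 : x * h * x⁻¹ * h⁻¹ ∈ D ⊓ fittingHallOf M := by
        refine ⟨D.mul_mem ((mem_normalizer_iff.1 hxN h).1 hh) (D.inv_mem hh), ?_⟩
        have : h * x⁻¹ * h⁻¹ ∈ fittingHallOf M :=
          (mem_normalizer_iff.1 (hMN (hle (le_normalizer hh))) _).1 (inv_mem hxK)
        simpa [mul_assoc] using mul_mem hxK this
      rw [inf_eq_bot_of_coprime (by
        obtain ⟨k, hk⟩ := IsPGroup.iff_card.1 (A.2.to_le inf_le_left : IsPGroup p D)
        rw [hk]; exact ((Fact.out : p.Prime).coprime_iff_not_dvd.2 hd).pow_left k),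
        mem_bot, mul_inv_eq_one, mul_inv_eq_iff_eq_mul] at h2
      exact h2
  obtain ⟨R, hUR⟩ := hU.exists_le_sylow
  have key : ∀ C : Sylow p G, D < (C : Subgroup G) → R = C := by
    intro C hDC
    by_contra hRC
    haveI := C.2.isNilpotent
    have hlt : D.subgroupOf (C : Subgroup G) < ⊤ := lt_top_iff_ne_top.2 fun h =>
      hDC.ne (le_antisymm hDC.le (subgroupOf_eq_top.1 h))
    have hlt' := (Group.normalizerCondition_of_isNilpotent (G := (C : Subgroup G))) _ hlt
    set W := (normalizer ((D.subgroupOf (C : Subgroup G)) : Set (C : Subgroup G))).map (C : Subgroup G).subtype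
    have hW : W ≤ (R : Subgroup G) ⊓ (C : Subgroup G) := by
      rintro _ ⟨r, hr, rfl⟩
      refine ⟨hUR (hUel r ?_ ?_), r.2⟩
      · rw [mem_normalizer_iff_map_conj_eq]
        refine eq_of_le_of_card_ge ?_ (Nat.card_congr (D.equivMapOfInjective _ (MulAut.conj (r : G)).injective).toEquiv).le
        rintro _ ⟨y, hy, rfl⟩
        exact (mem_normalizer_iff.1 hr ⟨y, hDC.le hy⟩).1 hy
      · obtain ⟨i, hi⟩ := IsPGroup.iff_orderOf.1 C.2 r
        exact ⟨i, by rw [← hi]; exact Subgroup.orderOf_coe r⟩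
    have h1 := (card_le_of_le hW).trans (hbest (R, C) hRC)
    have h2 : Nat.card D < Nat.card W := by
      rw [card_map_of_injective (C : Subgroup G).subtype_injective, ← Nat.card_congr (subgroupOfEquivOfLe hDC.le).toEquiv]
      exact lt_of_le_of_ne (card_le_of_le hlt'.le) fun h => hlt'.ne (eq_of_le_of_card_ge hlt'.le h.ge)
    exact absurd h1 (not_le.2 h2)
  have hA : D < (A : Subgroup G) := lt_of_le_of_ne inf_le_left fun h =>
    hAB (Sylow.ext (A.3 B.2 (inf_eq_left.1 h) ▸ rfl))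
  have hB : D < (B : Subgroup G) := lt_of_le_of_ne inf_le_right fun h =>
    hAB (Sylow.ext (B.3 A.2 (inf_eq_right.1 h)))
  exact hAB ((key A hA).symm.trans (key B hB))

include hG hCN hH hmax in
theorem inf_conj_eq_bot (g : G) (hne : H.map (MulAut.conj g).toMonoidHom ≠ H) :
    H ⊓ H.map (MulAut.conj g).toMonoidHom = ⊥ := by
  by_cases hpp : IsPrimePow (Nat.card H)
  · obtain ⟨p, k, hp, hk, hpk⟩ := hpp
    haveI := Fact.mk hp.nat_prime
    obtain ⟨P, hP⟩ := CNMaximal.sylow_le hCN H hH hmax (hpk ▸ dvd_pow_self p hk.ne')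
    have hHP : (P : Subgroup G) = H := (P.3 (IsPGroup.of_card hpk.symm) hP).symm
    subst hHP
    exact sylow_inf_eq_bot hG hCN P (g • P) fun h =>
      hne (congrArg (fun T : Sylow p G => (T : Subgroup G)) h).symm
  · exact CNMaximal.inf_eq_bot hCN H hH hmax hpp g hne

include hG hCN hH hmax in
theorem frobenius_normalizer : ∃ E : Subgroup G, IsComplIn H E (normalizer (H : Set G)) ∧ E ≠ ⊥ ∧
    ∀ e ∈ E, e ≠ 1 → H ⊓ centralizer ({e} : Set G) = ⊥ := by
  obtain ⟨hN, hNn, hK⟩ := normalizer_facts hG hCN H hH hmax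
  obtain ⟨-, -, -, hfpf, -, -⟩ := kernel hG hCN hN.1
  rw [hK] at hfpf
  set N := normalizer (H : Set G)
  have hcard : Nat.card (H.subgroupOf N) = Nat.card H := Nat.card_congr (subgroupOfEquivOfLe le_normalizer).toEquiv
  haveI : (H.subgroupOf N).Normal := normal_in_normalizer
  have hcop : (Nat.card (H.subgroupOf N)).Coprime (H.subgroupOf N).index := by
    rw [hcard]
    exact (CNMaximal.coprime_index hCN H hH hmax).coprime_dvd_right (relIndex_dvd_index_of_le le_normalizer)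
  obtain ⟨E₀, hE₀⟩ := exists_right_complement'_of_coprime hcop
  refine ⟨E₀.map N.subtype, ⟨le_normalizer, map_subtype_le _, ?_, fun m hm => ?_⟩, ?_, ?_⟩
  · rw [eq_bot_iff_forall]
    intro x hx
    obtain ⟨hxH, e, he, rfl⟩ := mem_inf.1 hx
    rw [(eq_bot_iff_forall _).1 hE₀.disjoint.eq_bot e (mem_inf.2 ⟨hxH, he⟩), map_one]
  · obtain ⟨⟨⟨a, ha⟩, ⟨b, hb⟩⟩, hab⟩ := hE₀.2 ⟨m, hm⟩
    exact ⟨a, ha, b, ⟨b, hb, rfl⟩, (congrArg Subtype.val hab).symm⟩
  · intro h
    rw [map_eq_bot_iff_of_injective _ N.subtype_injective] at h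
    rw [h, isComplement'_bot_right, subgroupOf_eq_top] at hE₀
    haveI := hH
    exact hNn (Group.nilpotent_of_mulEquiv (MulEquiv.subgroupCongr (le_antisymm le_normalizer hE₀ : H = N)))
  · rintro _ ⟨e, he, rfl⟩ he1
    refine hfpf _ e.2 ?_ he1
    rw [← hcard]
    refine hcop.symm.coprime_dvd_left ?_
    rw [hE₀.symm.index_eq_card]
    exact (Subgroup.orderOf_coe e).symm ▸ Subgroup.orderOf_dvd_natCard E₀ he

omit H hH hmax in
include hG hCN in
theorem coatom_facts {M : Subgroup G} (hM : IsCoatom M) :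
    ∃ H : Subgroup G, Group.IsNilpotent H ∧ (∀ L : Subgroup G, Group.IsNilpotent L → H ≤ L → L = H) ∧
      normalizer (H : Set G) = M ∧ fittingHallOf M = H := by
  classical
  obtain ⟨hKM, hMN, hKn, -, hquot, -⟩ := kernel hG hCN hM.1
  by_cases hK : fittingHallOf M = ⊥
  · exfalso
    have hMnil := hquot M le_rfl (by rw [hK, inf_bot_eq])
    have hMmax : ∀ L : Subgroup G, Group.IsNilpotent L → M ≤ L → L = M := fun L hL hle =>
      (eq_or_lt_of_le hle).elim Eq.symm fun h => absurd (hM.2 L h) (nilpotent_ne_top hG hL)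
    obtain ⟨hN, hNn, -⟩ := normalizer_facts hG hCN M hMnil hMmax
    have h1 : normalizer (M : Set G) = M := (eq_or_lt_of_le le_normalizer).elim Eq.symm fun h => absurd (hM.2 _ h) hN.1
    exact hNn (h1.symm ▸ hMnil)
  obtain ⟨p, hp, hpK⟩ := Nat.exists_prime_and_dvd (fun e => hK (card_eq_one.1 e) : Nat.card (fittingHallOf M) ≠ 1)
  haveI := Fact.mk hp
  obtain ⟨R₀⟩ := Sylow.nonempty (p := p) (G := fittingHallOf M)
  haveI hR₀n := ((Group.isNilpotent_of_finite_tfae (G := fittingHallOf M)).out 0 3 rfl rfl).mp hKn p ‹_› R₀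
  haveI := Sylow.unique_of_normal R₀ hR₀n
  set R := (R₀ : Subgroup (fittingHallOf M)).map (fittingHallOf M).subtype
  have hR1 : R ≠ ⊥ := fun h => R₀.ne_bot_of_dvd_card hpK ((map_eq_bot_iff_of_injective _ (Subgroup.subtype_injective _)).1 h)
  have hRel : ∀ y ∈ M, (∃ i, orderOf y = p ^ i) → y ∈ R := fun y hy ⟨i, hi⟩ => by
    have hyK := mem_kernel hG hCN hM.1 hp hpK hy hi
    obtain ⟨R', hR'⟩ := (IsPGroup.of_card (p := p) (n := i) (by rw [Nat.card_zpowers, Subgroup.orderOf_mk, hi]) :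
      IsPGroup p (zpowers (⟨y, hyK⟩ : fittingHallOf M))).exists_le_sylow
    exact ⟨⟨y, hyK⟩, Subsingleton.elim R' R₀ ▸ hR' (mem_zpowers _), rfl⟩
  have hRK : R ≤ fittingHallOf M := map_subtype_le _
  have hRp : IsPGroup p R := R₀.2.map _
  have hMR : M ≤ normalizer (R : Set G) := by
    intro x hx
    rw [mem_normalizer_iff_map_conj_eq]
    refine eq_of_le_of_card_ge ?_ (Nat.card_congr (R.equivMapOfInjective _ (MulAut.conj x).injective).toEquiv).le
    rintro _ ⟨r, hr, rfl⟩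
    refine hRel _ (M.mul_mem (M.mul_mem hx (hKM (hRK hr))) (M.inv_mem hx)) ?_
    obtain ⟨i, hi⟩ := IsPGroup.iff_orderOf.1 hRp ⟨r, hr⟩
    rw [Subgroup.orderOf_mk] at hi
    exact ⟨i, (MulEquiv.orderOf_eq (MulAut.conj x) r).trans hi⟩
  have hRM : normalizer (R : Set G) = M := ((eq_or_lt_of_le hMR).elim Eq.symm fun h =>
    absurd (hM.2 _ h) (normalizer_ne_top hG hR1 hRp.isNilpotent))
  obtain ⟨P, hRP⟩ := hRp.exists_le_sylow
  have hPR : (P : Subgroup G) = R := by
    by_contra hne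
    haveI := P.2.isNilpotent
    have hlt : R.subgroupOf (P : Subgroup G) < ⊤ := lt_top_iff_ne_top.2 fun h =>
      hne (le_antisymm (subgroupOf_eq_top.1 h) hRP)
    obtain ⟨r, hr, hrR⟩ := SetLike.exists_of_lt ((Group.normalizerCondition_of_isNilpotent (G := (P : Subgroup G))) _ hlt)
    refine hrR (hRel r (hRM ▸ ?_) ?_)
    · rw [mem_normalizer_iff_map_conj_eq]
      refine eq_of_le_of_card_ge ?_ (Nat.card_congr (R.equivMapOfInjective _ (MulAut.conj (r : G)).injective).toEquiv).le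
      rintro _ ⟨y, hy, rfl⟩
      exact (mem_normalizer_iff.1 hr ⟨y, hRP hy⟩).1 hy
    · obtain ⟨i, hi⟩ := IsPGroup.iff_orderOf.1 P.2 r
      exact ⟨i, by rw [← hi]; exact Subgroup.orderOf_coe r⟩
  obtain ⟨H, hKH, hH, hmax⟩ := exists_max hKn
  have hPH : (P : Subgroup G) ≤ H := hPR ▸ hRK.trans hKH
  have hpH : p ∣ Nat.card H := hpK.trans (card_dvd_of_le hKH)
  have hHM : H ≤ M := by
    rw [← hRM, ← hPR]
    haveI hn : ((P.subtype hPH : Sylow p H) : Subgroup H).Normal :=
      ((Group.isNilpotent_of_finite_tfae (G := H)).out 0 3 rfl rfl).mp hH p ‹_› _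
    exact (normal_subgroupOf_iff_le_normalizer hPH).1 hn
  have hKeq := kernel_eq hG hCN H hH hmax hM.1 hHM hp hpH hpK
  refine ⟨H, hH, hmax, ?_, hKeq⟩
  exact ((eq_or_lt_of_le (hKeq ▸ hMN : M ≤ normalizer (H : Set G))).elim Eq.symm fun h =>
    absurd (hM.2 _ h) (normalizer_ne_top hG (max_ne_bot hG hmax) hH))

omit H hH hmax in
include hG hCN in
theorem conj_or_coprime {H₁ H₂ : Subgroup G} (h₁ : Group.IsNilpotent H₁)
    (m₁ : ∀ L : Subgroup G, Group.IsNilpotent L → H₁ ≤ L → L = H₁) (h₂ : Group.IsNilpotent H₂)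
    (m₂ : ∀ L : Subgroup G, Group.IsNilpotent L → H₂ ≤ L → L = H₂) :
    (∃ g : G, H₂ = H₁.map (MulAut.conj g).toMonoidHom) ∨ (Nat.card H₁).Coprime (Nat.card H₂) := by
  refine or_iff_not_imp_right.2 fun hnc => ?_
  obtain ⟨p, hp, hd₁, hd₂⟩ := Nat.Prime.not_coprime_iff_dvd.1 hnc
  haveI := Fact.mk hp
  obtain ⟨P, hP⟩ := CNMaximal.sylow_le hCN H₁ h₁ m₁ hd₁
  obtain ⟨Q, hQ⟩ := CNMaximal.sylow_le hCN H₂ h₂ m₂ hd₂
  obtain ⟨g, hg⟩ := MulAction.exists_smul_eq G P Q
  refine ⟨g, (unique hCN H₂ h₂ m₂ (Q.ne_bot_of_dvd_card (hd₂.trans (card_subgroup_dvd_card H₂))) hQ ?_ ?_ ?_).symm⟩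
  · haveI := h₁
    exact Group.nilpotent_of_mulEquiv (H₁.equivMapOfInjective _ (MulAut.conj g).injective)
  · intro L hL hle
    have h := m₁ (L.map (MulAut.conj g⁻¹).toMonoidHom) (by
      haveI := hL; exact Group.nilpotent_of_mulEquiv (L.equivMapOfInjective _ (MulAut.conj g⁻¹).injective)) (fun x hx =>
        ⟨g * x * g⁻¹, hle ⟨x, hx, rfl⟩, by show g⁻¹ * (g * x * g⁻¹) * g⁻¹⁻¹ = x; group⟩)
    refine le_antisymm (fun x hx => ?_) hle
    exact ⟨g⁻¹ * x * g⁻¹⁻¹, h.le ⟨x, hx, rfl⟩, by show g * (g⁻¹ * x * g⁻¹⁻¹) * g⁻¹ = x; group⟩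
  · rw [← hg]
    exact map_mono hP

omit H hH hmax in
include hG hCN in
theorem transitive {p q r : ℕ} (hp : p.Prime) (hq : q.Prime) (hr : r.Prime) {x y y' z : G} (hx : x ≠ 1) (hy : y ≠ 1)
    (hy' : y' ≠ 1) (hz : z ≠ 1) (hxp : IsPGroup p (zpowers x)) (hyq : IsPGroup q (zpowers y))
    (hy'q : IsPGroup q (zpowers y')) (hzr : IsPGroup r (zpowers z)) (hxy : x * y = y * x) (hyz : y' * z = z * y') :
    ∃ x' z' : G, x' ≠ 1 ∧ z' ≠ 1 ∧ IsPGroup p (zpowers x') ∧ IsPGroup r (zpowers z') ∧ x' * z' = z' * x' := by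
  have dv : ∀ (s : ℕ), s.Prime → ∀ a : G, a ≠ 1 → IsPGroup s (zpowers a) → ∀ L : Subgroup G, a ∈ L → s ∣ Nat.card L := by
    intro s hs a ha hap L haL
    haveI := Fact.mk hs
    obtain ⟨i, hi⟩ := IsPGroup.iff_card.1 hap
    rw [Nat.card_zpowers] at hi
    have hi0 : i ≠ 0 := fun c => ha (orderOf_eq_one_iff.1 (by rw [hi, c, pow_zero]))
    exact (hi ▸ dvd_pow_self s hi0).trans (Subgroup.orderOf_dvd_natCard L haL)
  obtain ⟨H₁, hle₁, h₁, m₁⟩ := exists_max (hCN y hy)
  obtain ⟨H₂, hle₂, h₂, m₂⟩ := exists_max (hCN y' hy')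
  have hxH : x ∈ H₁ := hle₁ (mem_centralizer_singleton_iff.2 hxy)
  have hyH : y ∈ H₁ := hle₁ (mem_centralizer_singleton_iff.2 rfl)
  have hyH' : y' ∈ H₂ := hle₂ (mem_centralizer_singleton_iff.2 rfl)
  have hzH : z ∈ H₂ := hle₂ (mem_centralizer_singleton_iff.2 hyz.symm)
  obtain ⟨g, hg⟩ := (conj_or_coprime hG hCN h₁ m₁ h₂ m₂).resolve_right fun hc =>
    hq.not_dvd_one (hc ▸ Nat.dvd_gcd (dv q hq y hy hyq H₁ hyH) (dv q hq y' hy' hy'q H₂ hyH'))
  have hr₁ : r ∣ Nat.card H₁ := by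
    have := dv r hr z hz hzr H₂ hzH
    rwa [hg, card_map_of_injective (f := (MulAut.conj g).toMonoidHom) (MulAut.conj g).injective] at this
  haveI := Fact.mk hp
  haveI := Fact.mk hr
  obtain ⟨a, ha, hao, hac⟩ := CNMaximal.exists_central H₁ h₁ (dv p hp x hx hxp H₁ hxH)
  obtain ⟨b, hb, hbo, -⟩ := CNMaximal.exists_central H₁ h₁ hr₁
  refine ⟨a, b, fun c => hp.ne_one (by rw [← hao, c, orderOf_one]), fun c => hr.ne_one (by rw [← hbo, c, orderOf_one]),
    IsPGroup.of_card (n := 1) (by rw [Nat.card_zpowers, hao, pow_one]),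
    IsPGroup.of_card (n := 1) (by rw [Nat.card_zpowers, hbo, pow_one]), (hac b hb).symm⟩

omit H hH hmax in
include hG hCN in
theorem partition (k : ℕ) (Mrep : Fin k → Subgroup G) (hmaxM : ∀ i, IsCoatom (Mrep i))
    (hnc : ∀ i j, i ≠ j → ∀ g : G, Mrep j ≠ (Mrep i).map (MulAut.conj g).toMonoidHom)
    (hall : ∀ M : Subgroup G, IsCoatom M → ∃ i, ∃ g : G, M = (Mrep i).map (MulAut.conj g).toMonoidHom) :
    (∀ i j, i ≠ j → (Nat.card (fittingHallOf (Mrep i))).Coprime (Nat.card (fittingHallOf (Mrep j)))) ∧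
      ∏ i, Nat.card (fittingHallOf (Mrep i)) = Nat.card G ∧
      ∀ x : G, ∃ i, ∃ g : G, g * x * g⁻¹ ∈ fittingHallOf (Mrep i) := by
  classical
  choose Hs hHn hHmax hHN hHK using fun i => coatom_facts hG hCN (hmaxM i)
  simp only [hHK]
  have hconj : ∀ (g : G) (A : Subgroup G), (normalizer (A : Set G)).map (MulAut.conj g).toMonoidHom =
      normalizer ((A.map (MulAut.conj g).toMonoidHom : Subgroup G) : Set G) := fun g A =>
    map_equiv_normalizer_eq A (MulAut.conj g)
  have hcop : ∀ i j, i ≠ j → (Nat.card (Hs i)).Coprime (Nat.card (Hs j)) := fun i j hij =>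
    (conj_or_coprime hG hCN (hHn i) (hHmax i) (hHn j) (hHmax j)).resolve_left fun ⟨g, hg⟩ =>
      hnc i j hij g (by rw [← hHN i, ← hHN j, hconj g, hg])
  -- every maximal nilpotent subgroup is conjugate to a representative
  have hrep : ∀ L : Subgroup G, Group.IsNilpotent L → (∀ L' : Subgroup G, Group.IsNilpotent L' → L ≤ L' → L' = L) →
      ∃ i, ∃ g : G, L = (Hs i).map (MulAut.conj g).toMonoidHom := by
    intro L hL hLmax
    obtain ⟨hN, -, hLK⟩ := normalizer_facts hG hCN L hL hLmax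
    obtain ⟨i, g, hg⟩ := hall _ hN
    rw [← hHN i, hconj] at hg
    refine ⟨i, g, ?_⟩
    set L' := (Hs i).map (MulAut.conj g).toMonoidHom
    have hL' : Group.IsNilpotent L' := by
      haveI := hHn i
      exact Group.nilpotent_of_mulEquiv ((Hs i).equivMapOfInjective _ (MulAut.conj g).injective)
    have hL'max : ∀ A : Subgroup G, Group.IsNilpotent A → L' ≤ A → A = L' := fun A hA hle => by
      have h := hHmax i (A.map (MulAut.conj g⁻¹).toMonoidHom) (by
        haveI := hA; exact Group.nilpotent_of_mulEquiv (A.equivMapOfInjective _ (MulAut.conj g⁻¹).injective)) (fun x hx =>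
          ⟨g * x * g⁻¹, hle ⟨x, hx, rfl⟩, by show g⁻¹ * (g * x * g⁻¹) * g⁻¹⁻¹ = x; group⟩)
      refine le_antisymm (fun x hx => ?_) hle
      exact ⟨g⁻¹ * x * g⁻¹⁻¹, h.le ⟨x, hx, rfl⟩, by show g * (g⁻¹ * x * g⁻¹⁻¹) * g⁻¹ = x; group⟩
    rw [← (normalizer_facts hG hCN L' hL' hL'max).2.2, ← hg, hLK]
  refine ⟨hcop, ?_, fun x => ?_⟩
  · refine Nat.dvd_antisymm (Finset.prod_dvd_of_isRelPrime (fun i _ j _ hij => ?_) fun i _ => card_subgroup_dvd_card _) ?_
    · exact Nat.coprime_iff_isRelPrime.1 (hcop i j hij)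
    · rw [Nat.dvd_iff_prime_pow_dvd_dvd]
      intro p n hp hd
      rcases Nat.eq_zero_or_pos n with rfl | hn
      · simp
      haveI := Fact.mk hp
      obtain ⟨P⟩ := Sylow.nonempty (p := p) (G := G)
      obtain ⟨L, hPL, hL, hLmax⟩ := exists_max (U := (P : Subgroup G)) P.2.isNilpotent
      obtain ⟨i, g, hg⟩ := hrep L hL hLmax
      refine dvd_trans ?_ (Finset.dvd_prod_of_mem (fun i => Nat.card (Hs i)) (Finset.mem_univ i))
      have e : Nat.card L = Nat.card (Hs i) := by rw [hg]; exact card_map_of_injective (MulAut.conj g).injective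
      rw [← e]
      exact (P.pow_dvd_card_of_pow_dvd_card hd).trans (card_dvd_of_le hPL)
  · obtain ⟨L, hxL, hL, hLmax⟩ := exists_max (U := zpowers x) (isNilpotent_zpowers x)
    obtain ⟨i, g, hg⟩ := hrep L hL hLmax
    obtain ⟨w, hw, hwe⟩ : x ∈ (Hs i).map (MulAut.conj g).toMonoidHom := hg ▸ hxL (mem_zpowers x)
    refine ⟨i, g⁻¹, ?_⟩
    have : g⁻¹ * x * g⁻¹⁻¹ = w := by rw [← hwe]; show g⁻¹ * (g * w * g⁻¹) * g⁻¹⁻¹ = w; group
    rwa [this]

end Cfsg.Agent.Solv.CNMinimal
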