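import Mathlib
import Cfsg.Agent.Lib.Solv.CNMinimal

/-!
No three-step subgroups, for an arbitrary natural number in place of the prime.
-/

set_option autoImplicit false
set_option linter.style.haveILetI false

namespace Cfsg.Agent.Solv.CNMinimal

open Subgroup Cfsg
open scoped Pointwise

universe u

theorem dvd_pow_self_of_primes {n p : ℕ} (hn : n ≠ 0) (h : ∀ r : ℕ, r.Prime → r ∣ n → r ∣ p) : n ∣ p ^ n := by
  rw [Nat.dvd_iff_prime_pow_dvd_dvd]
  intro r j hr hd
  rcases Nat.eq_zero_or_pos j with rfl | hj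
  · simp
  · refine (pow_dvd_pow_of_dvd (h r hr ((dvd_pow_self r hj.ne').trans hd)) j).trans (pow_dvd_pow p ?_)
    have h1 : r ^ j ≤ n := Nat.le_of_dvd (Nat.pos_of_ne_zero hn) hd
    have h2 : j < r ^ j := Nat.lt_pow_self hr.one_lt
    omega

theorem threeStep_false {X : Type u} [Group X] [Finite X] [Group.IsSolvable X] {p : ℕ} (h : IsThreeStepGroup p X)
    (hfpf : ∀ e : X, (orderOf e).Coprime (Nat.card (fittingHall X)) → e ≠ 1 → fittingHall X ⊓ centralizer ({e} : Set X) = ⊥)
    (hQ : Group.IsNilpotent (X ⧸ fittingHall X)) : False := by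
  classical
  obtain ⟨hN, A, hA1, -, -, hAp, hn, hne, ⟨n, hidx⟩, hAfpf, hlast⟩ := h
  haveI := hn
  set N := pCore p X
  -- the normal p-subgroups
  rcases Nat.eq_zero_or_pos p with rfl | hp0
  · refine hne (eq_top_iff.2 (le_trans ?_ le_sup_left))
    exact le_sSup (a := (⊤ : Subgroup X)) ⟨inferInstance, fun g => ⟨1, by rw [pow_one, pow_zero]⟩⟩
  have hNord : ∀ x ∈ N, ∃ k : ℕ, orderOf x ∣ p ^ k := by
    -- the set of such elements in the core
    have hg : ∀ x ∈ N, ∀ r : ℕ, r.Prime → r ∣ orderOf x → r ∣ p := by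
      intro x hx r hr hrx
      by_contra hrp
      have hle : N ≤ pPrimeCore r X := sSup_le fun U hU => by
        haveI := hU.1
        refine le_pPrimeCore ((hr.coprime_iff_not_dvd.2 fun hd => ?_).symm)
        haveI := Fact.mk hr
        obtain ⟨u, hu⟩ := exists_prime_orderOf_dvd_card' (G := U) r hd
        obtain ⟨k, hk⟩ := hU.2 u
        exact hrp (hr.dvd_of_dvd_pow (hu ▸ orderOf_dvd_of_pow_eq_one hk))
      exact (hr.coprime_iff_not_dvd.1 (card_pPrimeCore_coprime r X).symm)
        (hrx.trans (Subgroup.orderOf_dvd_natCard _ (hle hx)))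
    exact fun x hx => ⟨orderOf x, dvd_pow_self_of_primes (orderOf_pos x).ne' (hg x hx)⟩
  have hNA : (Nat.card N).Coprime (Nat.card A) := by
    refine Nat.coprime_of_dvd fun r hr h1 h2 => ?_
    haveI := Fact.mk hr
    obtain ⟨⟨u, hu⟩, hu'⟩ := exists_prime_orderOf_dvd_card' (G := N) r h1
    rw [Subgroup.orderOf_mk] at hu'
    obtain ⟨k, hk⟩ := hNord u hu
    have h3 : r ∣ p := hr.dvd_of_dvd_pow (hu' ▸ hk)
    have h4 := Nat.dvd_gcd h2 h3
    rw [hAp] at h4
    exact hr.not_dvd_one h4
  set K := fittingHall X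
  have hKn := CNFrobenius.isNilpotent_fittingHall (G := X)
  obtain ⟨⟨a, ha⟩, ha1'⟩ := ne_bot_iff_exists_ne_one.1 hA1
  have ha1 : a ≠ 1 := fun c => ha1' (Subtype.ext c)
  obtain ⟨⟨z, hz⟩, hz1'⟩ := ne_bot_iff_exists_ne_one.1 hN
  have hz1 : z ≠ 1 := fun c => hz1' (Subtype.ext c)
  have hcopNA : ∀ x ∈ N, ∀ b ∈ A, (orderOf x).Coprime (orderOf b) := fun x hx b hb =>
    (hNA.coprime_dvd_left (Subgroup.orderOf_dvd_natCard N hx)).coprime_dvd_right (Subgroup.orderOf_dvd_natCard A hb)
  have hnotnil : ¬ Group.IsNilpotent X := by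
    intro hX
    refine hz1 ((eq_bot_iff_forall _).1 (hAfpf a ha ha1) z (mem_inf.2 ⟨hz, mem_centralizer_singleton_iff.2 ?_⟩))
    exact (commute_of_coprime_orderOf_of_isNilpotent hX (hcopNA z hz a ha)).eq
  -- the core meets the kernel
  have hmeet : N ⊓ K ≠ ⊥ := by
    intro hd
    have hzK : ∀ k ∈ K, z * k = k * z := fun k hk =>
      (commute_of_normal_of_disjoint _ _ inferInstance inferInstance (disjoint_iff.2 hd) z k hz hk).eq
    have hinj : Function.Injective ((QuotientGroup.mk' K).comp N.subtype) := by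
      rw [injective_iff_map_eq_one]
      intro u hu
      have h1 : (u : X) ∈ N ⊓ K := ⟨u.2, (QuotientGroup.eq_one_iff _).1 hu⟩
      rw [hd, mem_bot] at h1
      exact Subtype.ext h1
    have hzc : (orderOf z).Coprime (Nat.card K) := by
      refine CNFrobenius.coprime_fittingHall.symm.coprime_dvd_left ?_
      rw [← orderOf_injective _ hinj ⟨z, hz⟩ |>.trans (Subgroup.orderOf_mk ..), index_eq_card]
      exact _root_.orderOf_dvd_natCard _
    have hKbot : K = ⊥ := le_bot_iff.1 (hfpf z hzc hz1 ▸ le_inf le_rfl fun k hk => mem_centralizer_singleton_iff.2 (hzK k hk).symm)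
    refine hnotnil ?_
    haveI := hQ
    exact Group.nilpotent_of_mulEquiv ((QuotientGroup.quotientMulEquivOfEq hKbot).trans QuotientGroup.quotientBot)
  -- the kernel lies in the core
  have hKp : K ≤ N := by
    have hel : ∀ k ∈ K, (orderOf k).Coprime p → k = 1 := by
      intro k hk hkp
      by_contra hk1
      have hkM : k ∈ N ⊔ A := mem_of_coprime_index _ (hidx ▸ hkp.pow_right n)
      obtain ⟨m, hm, b, hb, rfl⟩ := mem_sup_of_normal_left.1 hkM
      have hcN : (Nat.card N).Coprime (orderOf b) := hNA.coprime_dvd_right (Subgroup.orderOf_dvd_natCard A hb)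
      have hob : orderOf (m * b) = orderOf b := by
        -- both orders agree modulo the core
        have himg : QuotientGroup.mk' N (m * b) = QuotientGroup.mk' N b := by
          rw [map_mul, show QuotientGroup.mk' N m = 1 from (QuotientGroup.eq_one_iff m).2 hm, one_mul]
        have key : ∀ u : X, (orderOf u).Coprime (Nat.card N) → orderOf (QuotientGroup.mk' N u) = orderOf u := by
          intro u hu
          refine Nat.dvd_antisymm (orderOf_map_dvd _ u) (orderOf_dvd_of_pow_eq_one ?_)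
          have hmem : u ^ orderOf (QuotientGroup.mk' N u) ∈ N :=
            (QuotientGroup.eq_one_iff (N := N) (u ^ orderOf (QuotientGroup.mk' N u))).1 (by
              show QuotientGroup.mk' N (u ^ _) = 1
              rw [map_pow, pow_orderOf_eq_one])
          exact orderOf_eq_one_iff.1 (Nat.eq_one_of_dvd_coprimes hu (orderOf_pow_dvd _) (Subgroup.orderOf_dvd_natCard N hmem))
        have hmbN : (orderOf (m * b)).Coprime (Nat.card N) := by
          refine Nat.coprime_of_dvd fun r hr h1 h2 => ?_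
          haveI := Fact.mk hr
          obtain ⟨⟨u, hu⟩, hu'⟩ := exists_prime_orderOf_dvd_card' (G := N) r h2
          rw [Subgroup.orderOf_mk] at hu'
          obtain ⟨j, hj⟩ := hNord u hu
          have h3 := Nat.dvd_gcd h1 (hr.dvd_of_dvd_pow (hu' ▸ hj))
          rw [hkp] at h3
          exact hr.not_dvd_one h3
        rw [← key _ hmbN, himg, key b hcN.symm]
      have hle : zpowers (m * b) ≤ N ⊔ zpowers b :=
        zpowers_le.2 (mul_mem (mem_sup_left hm) (mem_sup_right (mem_zpowers b)))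
      obtain ⟨w, hw, hwe⟩ := conj_of_card_eq N (zpowers b) (zpowers (m * b)) (Or.inl inferInstance)
        le_normalizer_of_normal hle (by rw [Nat.card_zpowers, Nat.card_zpowers, hob]) (by rwa [Nat.card_zpowers])
      obtain ⟨c, hc, hce⟩ : m * b ∈ MulAut.conj w • zpowers b := hwe.symm ▸ mem_zpowers _
      have hce' : w * c * w⁻¹ = m * b := hce
      have hcA : c ∈ A := zpowers_le.2 hb hc
      have hc1 : c ≠ 1 := fun e => hk1 (by rw [← hce', e]; group)
      obtain ⟨⟨h, hh⟩, hh1⟩ := ne_bot_iff_exists_ne_one.1 hmeet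
      obtain ⟨hhN, hhK⟩ := mem_inf.1 hh
      have hcomm : (m * b) * h = h * (m * b) := congrArg Subtype.val (commute_of_coprime_orderOf_of_isNilpotent hKn
        (x := ⟨m * b, hk⟩) (g := ⟨h, hhK⟩) (by
          rw [Subgroup.orderOf_mk, Subgroup.orderOf_mk, hob]
          exact (hcN.coprime_dvd_left (Subgroup.orderOf_dvd_natCard N hhN)).symm)).eq
      have hwh : w⁻¹ * h * w ∈ N := N.mul_mem (N.mul_mem (N.inv_mem hw) hhN) hw
      have h0 := (eq_bot_iff_forall _).1 (hAfpf c hcA hc1) _ (mem_inf.2 ⟨hwh, mem_centralizer_singleton_iff.2 (by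
        calc w⁻¹ * h * w * c = w⁻¹ * (h * (w * c * w⁻¹)) * w := by group
          _ = w⁻¹ * ((w * c * w⁻¹) * h) * w := by rw [hce', hcomm]
          _ = c * (w⁻¹ * h * w) := by group)⟩)
      refine hh1 (Subtype.ext ?_)
      calc h = w * (w⁻¹ * h * w) * w⁻¹ := by group
        _ = 1 := by rw [h0]; group
    refine le_sSup (a := K) ⟨inferInstance, fun u => ⟨orderOf (u : X), ?_⟩⟩
    refine orderOf_dvd_iff_pow_eq_one.1 ?_
    rw [← Subgroup.orderOf_coe]
    refine dvd_pow_self_of_primes (orderOf_pos _).ne' fun r hr hru => ?_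
    by_contra hrp
    have hk := hel ((u : X) ^ (orderOf (u : X) / r)) (K.pow_mem u.2 _) (by
      rw [orderOf_pow_orderOf_div (orderOf_pos _).ne' hru]; exact hr.coprime_iff_not_dvd.2 hrp)
    have h1 := orderOf_pow_orderOf_div (orderOf_pos (u : X)).ne' hru
    rw [hk, orderOf_one] at h1
    exact hr.ne_one h1.symm
  -- a prime of the index
  have hidx1 : (N ⊔ A).index ≠ 1 := fun h => hne (index_eq_one.1 h)
  obtain ⟨r, hr, hrd⟩ := Nat.exists_prime_and_dvd hidx1
  haveI := Fact.mk hr
  have hrp : r ∣ p := hr.dvd_of_dvd_pow (hidx ▸ hrd)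
  obtain ⟨R⟩ := Sylow.nonempty (p := r) (G := X)
  obtain ⟨x, hxR, hx⟩ : ∃ x ∈ (R : Subgroup X), x ∉ N ⊔ A := by
    by_contra hc
    push Not at hc
    exact R.not_dvd_index (hrd.trans (index_dvd_of_le hc))
  refine hlast x hx a ha ha1 (hKp ((QuotientGroup.eq_one_iff _).1 ?_))
  set f := QuotientGroup.mk' K
  show f (x * a * x⁻¹ * a⁻¹) = 1
  have hcop : (orderOf (f x)).Coprime (orderOf (f a)) := by
    obtain ⟨i, hi⟩ := IsPGroup.iff_orderOf.1 R.2 ⟨x, hxR⟩
    rw [Subgroup.orderOf_mk] at hi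
    refine Nat.Coprime.coprime_dvd_left (orderOf_map_dvd f x) (Nat.Coprime.coprime_dvd_right ((orderOf_map_dvd f a).trans (Subgroup.orderOf_dvd_natCard A ha)) ?_)
    rw [hi]; exact (hAp.symm.coprime_dvd_left hrp).pow_left i
  rw [map_mul, map_mul, map_mul, map_inv, map_inv, (commute_of_coprime_orderOf_of_isNilpotent hQ hcop).eq]
  group

theorem no_threeStep_nat {G : Type u} [Group G] [Finite G] (hG : IsMinSimpleOddOrder G) (hCN : IsCNGroup G)
    (X : Subgroup G) (p : ℕ) : ¬ IsThreeStepGroup p ↥X := by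
  by_cases hp : p.Prime
  · exact no_threeStep hG hCN X p hp
  intro h
  by_cases htop : X = ⊤
  · -- the whole group is simple
    haveI := hG.2.1
    subst htop
    obtain ⟨hN, A, hA, -, -, -, -, hne, -, -, -⟩ := h
    haveI : IsSimpleGroup (⊤ : Subgroup G) := topEquiv.isSimpleGroup
    rcases ((inferInstance : (pCore p (⊤ : Subgroup G)).Normal).eq_bot_or_eq_top) with h1 | h1
    · exact hN h1
    · exact hne (eq_top_iff.2 (h1 ▸ le_sup_left))
  haveI := hG.2.2.2 X htop
  rcases shape (isCNGroup_subgroup hCN X) with ⟨q, hq, h'⟩ | ⟨hfpf, hQ⟩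
  · exact no_threeStep hG hCN X q hq h'
  · exact threeStep_false h hfpf hQ

end Cfsg.Agent.Solv.CNMinimal
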