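import Cfsg.Prelude.Def_SolvableStructure
import Cfsg.Agent.Lib.Solv.FpfNilpotent
import Cfsg.Agent.Lib.Solv.Misc

/-!
Carter subgroups of finite solvable groups: existence, conjugacy, images.
-/

set_option autoImplicit false
set_option linter.style.haveILetI false

namespace Cfsg.Agent.Solv

open Subgroup Cfsg
open scoped Pointwise commutatorElement

universe u

variable {G : Type u} [Group G]

theorem card_quotient_lt_of_ne_bot [Finite G] (N : Subgroup G) [N.Normal] (hN : N ≠ ⊥) :
    Nat.card (G ⧸ N) < Nat.card G := by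
  rw [card_eq_card_quotient_mul_card_subgroup N]
  exact lt_mul_of_one_lt_right Nat.card_pos ((one_lt_card_iff_ne_bot N).mpr hN)

theorem mem_normalizer_conj_iff {g : G} {H : Subgroup G} :
    g ∈ normalizer (H : Set G) ↔ MulAut.conj g • H = H := by
  constructor
  · intro h
    exact conj_smul_eq_self_of_mem_normalizer h
  · intro h
    rw [mem_normalizer_iff]
    intro x
    conv_rhs => rw [← h]
    rw [mem_conj_smul]
    simp [mul_assoc]

theorem normalizer_conj (g : G) (H : Subgroup G) :
    normalizer ((MulAut.conj g • H : Subgroup G) : Set G) = MulAut.conj g • normalizer (H : Set G) := by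
  ext x
  rw [mem_conj_smul, mem_normalizer_conj_iff, mem_normalizer_conj_iff, conj_smul_conj_smul]
  constructor
  · intro h
    rw [map_mul, mul_smul, map_mul, mul_smul]
    rw [map_mul, mul_smul] at h
    rw [h, ← mul_smul, ← map_mul, inv_mul_cancel, map_one, one_smul]
  · intro h
    rw [map_mul, mul_smul, map_mul, mul_smul] at h
    have := congrArg (fun X : Subgroup G => MulAut.conj g • X) h
    simp only [← mul_smul, ← map_mul, mul_inv_cancel] at this
    rw [map_mul, mul_smul]
    simpa [← mul_smul, ← map_mul, mul_assoc] using this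

theorem isCarter_conj [Finite G] {C : Subgroup G} (hC : IsCarterSubgroup C) (g : G) :
    IsCarterSubgroup (MulAut.conj g • C : Subgroup G) :=
  ⟨(Group.isNilpotent_congr (Subgroup.equivSMul (MulAut.conj g) C)).mp hC.1,
    by rw [normalizer_conj, hC.2]⟩

theorem isCarter_subgroupOf [Finite G] {C X : Subgroup G} (hC : IsCarterSubgroup C) (hCX : C ≤ X) :
    IsCarterSubgroup (C.subgroupOf X) :=
  ⟨(Group.isNilpotent_congr (subgroupOfEquivOfLe hCX)).mpr hC.1,
    by rw [← subgroupOf_normalizer_eq hCX, hC.2]⟩

theorem eq_top_of_isCarter [Finite G] [Group.IsNilpotent G] {C : Subgroup G}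
    (hC : IsCarterSubgroup C) : C = ⊤ := by
  by_contra hne
  exact (Group.normalizerCondition_of_isNilpotent C (lt_top_iff_ne_top.mpr hne)).ne' hC.2

theorem isCarter_map_of_conj [Finite G] {C : Subgroup G} (hC : IsCarterSubgroup C)
    (N : Subgroup G) [N.Normal]
    (hconj : ∀ Y : Subgroup G, Y ≠ ⊤ → ∀ A B : Subgroup Y, IsCarterSubgroup A → IsCarterSubgroup B →
      ∃ y : Y, MulAut.conj y • A = B) :
    IsCarterSubgroup (C.map (QuotientGroup.mk' N)) := by
  set f := QuotientGroup.mk' N
  haveI := hC.1
  refine ⟨Group.nilpotent_of_surjective _ (f.subgroupMap_surjective C), le_antisymm ?_ le_normalizer⟩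
  intro y hy
  obtain ⟨g, rfl⟩ := QuotientGroup.mk'_surjective N y
  set Y := (C.map f).comap f
  have hCY : C ≤ Y := le_comap_map f C
  by_cases hY : Y = ⊤
  · exact (hY ▸ mem_top g : g ∈ Y)
  have hgCY : MulAut.conj g • C ≤ Y := by
    intro x hx
    rw [mem_conj_smul] at hx
    have h1 := (mem_normalizer_iff.mp hy (f (g⁻¹ * x * g))).mp (mem_map_of_mem f hx)
    change f x ∈ C.map f
    rwa [map_mul, map_mul, map_inv, show f g * ((f g)⁻¹ * f x * f g) * (f g)⁻¹ = f x by group] at h1
  obtain ⟨u, hu⟩ := hconj Y hY _ _ (isCarter_subgroupOf hC hCY)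
    (isCarter_subgroupOf (isCarter_conj hC g) hgCY)
  have hu' : MulAut.conj (u : G) • C = MulAut.conj g • C := by
    have := congrArg (Subgroup.map Y.subtype) hu
    rwa [map_conj_smul, map_subgroupOf_eq_of_le hCY, map_subgroupOf_eq_of_le hgCY,
      Subgroup.coe_subtype] at this
  have hn : (u : G)⁻¹ * g ∈ C := by
    rw [← hC.2, mem_normalizer_conj_iff, map_mul, mul_smul, ← hu', ← mul_smul, ← map_mul,
      inv_mul_cancel, map_one, one_smul]
  have := mul_mem (u.2 : (u : G) ∈ Y) (hCY hn)
  rwa [mul_inv_cancel_left] at this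

theorem index_eq_relIndex_of_sup_top [Finite G] (A C : Subgroup G) [A.Normal]
    (h : A ⊔ C = ⊤) : A.relIndex C = A.index := by
  rw [← relIndex_sup_right C A, sup_comm, h, relIndex_top_right]

theorem coatom_of_complement [Finite G] {N C : Subgroup G} [N.Normal] [IsMulCommutative N]
    (hNmin : ∀ K : Subgroup G, K.Normal → K ≤ N → K = ⊥ ∨ K = N) (hNb : N ≠ ⊥)
    (htop : N ⊔ C = ⊤) (hNC : N ⊓ C = ⊥) : IsCoatom C := by
  refine ⟨fun e => hNb (by rwa [e, inf_top_eq] at hNC), fun Y hY => ?_⟩
  have hYN : (N ⊓ Y).Normal := by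
    refine normalizer_eq_top_iff.mp (top_le_iff.mp (htop ▸ sup_le ?_
      ((le_inf le_normalizer_of_normal (hY.le.trans le_normalizer)).trans
        (le_normalizer_inf inf_le_left inf_le_right))))
    exact (le_centralizer_iff_isMulCommutative.mpr ‹_›).trans
      ((centralizer_le fun _ h => h.1).trans (centralizer_le_normalizer _))
  rcases hNmin _ hYN inf_le_left with e | e
  · exfalso
    refine hY.not_ge fun y hy => ?_
    obtain ⟨n, hn, c, hc, rfl⟩ := mem_sup_of_normal_left.mp (htop ▸ mem_top y)
    have h1 : n ∈ N ⊓ Y := ⟨hn, by simpa using mul_mem hy (inv_mem (hY.le hc))⟩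
    rw [e, mem_bot] at h1
    simpa [h1] using hc
  · rw [eq_top_iff, ← htop]
    exact sup_le (inf_eq_left.mp e) hY.le

theorem carter_conj_aux : ∀ (n : ℕ) (G : Type u) [Group G] [Finite G] [Group.IsSolvable G],
    Nat.card G ≤ n → ∀ C D : Subgroup G, IsCarterSubgroup C → IsCarterSubgroup D →
      ∃ g : G, MulAut.conj g • C = D := by
  intro n
  induction n with
  | zero => intro G _ _ _ hn; exact absurd hn (not_le.mpr Nat.card_pos)
  | succ n ih =>
    intro G _ _ _ hn C D hC hD
    rcases subsingleton_or_nontrivial G with h | h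
    · exact ⟨1, Subsingleton.elim _ _⟩
    have hsub : ∀ Y : Subgroup G, Y ≠ ⊤ → ∀ A B : Subgroup Y, IsCarterSubgroup A →
        IsCarterSubgroup B → ∃ y : Y, MulAut.conj y • A = B := fun Y hY A B hA hB => by
      have : Nat.card Y < Nat.card G :=
        lt_of_le_of_ne (card_le_card_group _) fun e => hY (eq_top_of_card_eq _ e)
      exact ih Y (by omega) A B hA hB
    obtain ⟨N, hN, -, hNb, hNmin⟩ := exists_minimal_normal_le (N := (⊤ : Subgroup G))
      (fun h => bot_ne_top h.symm)
    haveI := hN
    obtain ⟨hNab, p, hp, hexp⟩ := minimal_normal_elementary N hNb hNmin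
    haveI := hNab
    haveI := Fact.mk hp
    set f := QuotientGroup.mk' N with hf
    obtain ⟨xb, hxb⟩ := ih (G ⧸ N) (by have := card_quotient_lt_of_ne_bot N hNb; omega) _ _
      (isCarter_map_of_conj hC N hsub) (isCarter_map_of_conj hD N hsub)
    obtain ⟨x, rfl⟩ := QuotientGroup.mk'_surjective N xb
    suffices h : ∀ C : Subgroup G, IsCarterSubgroup C → C.map f = D.map f →
        ∃ g : G, MulAut.conj g • C = D by
      obtain ⟨g, hg⟩ := h _ (isCarter_conj hC x) (by rw [map_conj_smul]; exact hxb)
      exact ⟨g * x, by rw [map_mul, mul_smul, hg]⟩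
    intro C hC himg
    set X := (D.map f).comap f
    have hDX : D ≤ X := le_comap_map f D
    have hCX : C ≤ X := (le_comap_map f C).trans (le_of_eq (by rw [himg]))
    by_cases hX : X = ⊤
    swap
    · obtain ⟨y, hy⟩ := hsub X hX _ _ (isCarter_subgroupOf hC hCX) (isCarter_subgroupOf hD hDX)
      refine ⟨y, ?_⟩
      have := congrArg (Subgroup.map X.subtype) hy
      rwa [map_conj_smul, map_subgroupOf_eq_of_le hCX, map_subgroupOf_eq_of_le hDX,
        Subgroup.coe_subtype] at this
    have hsup : ∀ C : Subgroup G, C.map f = D.map f → N ⊔ C = ⊤ := by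
      intro C h
      rw [← hX, sup_comm]
      change C ⊔ N = (D.map f).comap f
      rw [← h, comap_map_eq, hf, QuotientGroup.ker_mk']
    have hdich : ∀ C : Subgroup G, IsCarterSubgroup C → N ⊔ C = ⊤ →
        C = ⊤ ∨ (N ⊓ C = ⊥ ∧ IsCoatom C) := by
      intro C hC htop
      have hn : (N ⊓ C).Normal := by
        refine normalizer_eq_top_iff.mp (top_le_iff.mp (htop ▸ sup_le ?_
          (le_normalizer_inf le_normalizer_of_normal le_normalizer)))
        exact (le_centralizer_iff_isMulCommutative.mpr hNab).trans
          ((centralizer_le fun _ h => h.1).trans (centralizer_le_normalizer _))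
      rcases hNmin _ hn inf_le_left with e | e
      · exact Or.inr ⟨e, coatom_of_complement hNmin hNb htop e⟩
      · exact Or.inl (top_le_iff.mp (htop.symm.le.trans (sup_le (inf_eq_left.mp e) le_rfl)))
    have hnil : ∀ C D : Subgroup G, IsCarterSubgroup C → IsCarterSubgroup D → C = ⊤ → D = ⊤ := by
      rintro C D ⟨hC, -⟩ hD rfl
      haveI := Group.isNilpotent_top.mp hC
      exact eq_top_of_isCarter hD
    rcases hdich C hC (hsup C himg) with hCt | ⟨hCN, hCc⟩
    · exact ⟨1, by rw [map_one, one_smul, hCt, hnil C D hC hD hCt]⟩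
    rcases hdich D hD (hsup D rfl) with hDt | ⟨hDN, hDc⟩
    · exact ⟨1, by rw [map_one, one_smul, hDt, hnil D C hD hC hDt]⟩
    -- a prime other than `p` whose Sylow subgroup does not centralise `N`
    have hNp : IsPGroup p N := fun x => ⟨1, by rw [pow_one]; exact Subtype.ext (hexp x x.2)⟩
    -- Sylow subgroups of `C` and `D` are Sylow subgroups of `G`
    have hsyl : ∀ q : ℕ, q.Prime → q ≠ p → ∀ C : Subgroup G, IsCarterSubgroup C → N ⊔ C = ⊤ → N ⊓ C = ⊥ →
        ∃ Q : Sylow q G, (Q : Subgroup G) ≤ C ∧ C ≤ normalizer ((Q : Subgroup G) : Set G) := by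
      intro q hq hqp C hC htop hNC
      haveI := Fact.mk hq
      obtain ⟨X⟩ : Nonempty (Sylow q C) := inferInstance
      haveI hXn : (X : Subgroup C).Normal :=
        ((Group.isNilpotent_of_finite_tfae (G := C)).out 0 3 rfl rfl).mp hC.1 q ⟨hq⟩ X
      have hidx : ¬ q ∣ ((X : Subgroup C).map C.subtype).index := by
        rw [index_map_subtype]
        intro hd
        rcases hq.dvd_mul.mp hd with h | h
        · exact X.not_dvd_index h
        · have h1 := card_sup_mul_card_inf N C le_normalizer_of_normal
          rw [htop, card_top, hNC, card_bot, mul_one, ← C.index_mul_card] at h1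
          rw [Nat.eq_of_mul_eq_mul_right Nat.card_pos h1] at h
          obtain ⟨i, hi⟩ := IsPGroup.iff_card.mp hNp
          rw [hi] at h
          exact hqp ((Nat.prime_dvd_prime_iff_eq hq hp).mp (hq.dvd_of_dvd_pow h))
      refine ⟨(X.isPGroup'.map C.subtype).toSylow hidx, ?_, ?_⟩
      · rw [IsPGroup.toSylow_coe]; exact map_subtype_le _
      · rw [IsPGroup.toSylow_coe]
        refine le_normalizer_of_conj_mem fun c hc y hy => ?_
        obtain ⟨z, hz, rfl⟩ := hy
        exact ⟨⟨c, hc⟩ * z * ⟨c, hc⟩⁻¹, hXn.conj_mem z hz _, rfl⟩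
    obtain ⟨q, hq, hqp, Q, hQC, hCQ, hQn⟩ : ∃ q : ℕ, q.Prime ∧ q ≠ p ∧ ∃ Q : Sylow q G,
        (Q : Subgroup G) ≤ C ∧ C ≤ normalizer ((Q : Subgroup G) : Set G) ∧
          ¬ (Q : Subgroup G).Normal := by
      by_contra hno
      push Not at hno
      obtain ⟨P⟩ : Nonempty (Sylow p G) := inferInstance
      -- then all Sylow subgroups are normal
      have hall : ∀ (r : ℕ), r.Prime → ∀ S : Sylow r G, (S : Subgroup G).Normal := by
        intro r hr S
        haveI := Fact.mk hr
        by_cases hrp : r = p
        · subst hrp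
          obtain ⟨Y⟩ : Nonempty (Sylow r C) := inferInstance
          haveI hYn : (Y : Subgroup C).Normal :=
            ((Group.isNilpotent_of_finite_tfae (G := C)).out 0 3 rfl rfl).mp hC.1 r ⟨hr⟩ Y
          set Y' := (Y : Subgroup C).map C.subtype
          have hCY : C ≤ normalizer (Y' : Set G) := by
            refine le_normalizer_of_conj_mem fun c hc y hy => ?_
            obtain ⟨z, hz, rfl⟩ := hy
            exact ⟨⟨c, hc⟩ * z * ⟨c, hc⟩⁻¹, hYn.conj_mem z hz _, rfl⟩
          have hn' : (N ⊔ Y').Normal := by
            refine normalizer_eq_top_iff.mp (top_le_iff.mp ?_)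
            rw [← hsup C himg]
            exact sup_le (le_sup_left.trans le_normalizer)
              ((le_inf le_normalizer_of_normal hCY).trans (normalizer_inf_le_normalizer_sup N Y'))
          have hpg := IsPGroup.to_sup_of_normal_left hNp (Y.isPGroup'.map C.subtype)
          have hidx : ¬ r ∣ (N ⊔ Y').index := by
            intro hd
            have h1 := relIndex_sup_right Y' N
            have h2 : (N ⊔ Y').index ∣ (Y : Subgroup C).index := by
              have hle : (N ⊔ Y').subgroupOf C ≥ (Y : Subgroup C) :=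
                fun z hz => mem_sup_right (mem_map_of_mem _ hz)
              refine (dvd_of_eq ?_).trans (index_dvd_of_le hle)
              exact (index_eq_relIndex_of_sup_top (N ⊔ Y') C (top_le_iff.mp
                ((hsup C himg).symm.le.trans (sup_le_sup_right le_sup_left _)))).symm
            exact Y.not_dvd_index (hd.trans h2)
          obtain ⟨a, ha⟩ := MulAction.exists_smul_eq G (hpg.toSylow hidx) S
          haveI : ((hpg.toSylow hidx : Sylow r G) : Subgroup G).Normal := by
            rw [IsPGroup.toSylow_coe]; exact hn'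
          rw [Sylow.smul_eq_of_normal] at ha
          exact ha ▸ inferInstance
        · obtain ⟨Q, hQC, hCQ⟩ := hsyl r hr hrp C hC (hsup C himg) hCN
          haveI := hno r hr hrp Q hQC hCQ
          obtain ⟨a, ha⟩ := MulAction.exists_smul_eq G Q S
          rw [Sylow.smul_eq_of_normal] at ha
          exact ha ▸ inferInstance
      haveI : Group.IsNilpotent G := ((Group.isNilpotent_of_finite_tfae (G := G)).out 0 3 rfl rfl).mpr
        fun r hr S => hall r hr.out S
      exact hCc.1 (eq_top_of_isCarter hC)
    haveI := Fact.mk hq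
    obtain ⟨R, hRD, hDR⟩ := hsyl q hq hqp D hD (hsup D rfl) hDN
    obtain ⟨g, hg⟩ := MulAction.exists_smul_eq G Q R
    refine ⟨g, ?_⟩
    have hne : normalizer ((R : Subgroup G) : Set G) ≠ ⊤ := fun e => hQn (by
      haveI := normalizer_eq_top_iff.mp e
      have h1 : g⁻¹ • R = Q := by rw [← hg, inv_smul_smul]
      rw [Sylow.smul_eq_of_normal] at h1
      exact h1 ▸ inferInstance)
    have h1 : normalizer ((R : Subgroup G) : Set G) = D :=
      (hDR.lt_or_eq.resolve_left fun hlt => hne (hDc.2 _ hlt)).symm
    have h2 : MulAut.conj g • C ≤ D := by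
      rw [← h1, ← hg, Sylow.coe_subgroup_smul, normalizer_conj]
      exact pointwise_smul_le_pointwise_smul_iff.mpr hCQ
    have hgc : IsCoatom (MulAut.conj g • C : Subgroup G) :=
      (OrderIso.isCoatom_iff (MulAut.conj g).mapSubgroup C).mpr hCc
    exact h2.lt_or_eq.resolve_left fun hlt => hDc.1 (hgc.2 _ hlt)

theorem carter_conj [Finite G] [Group.IsSolvable G] {C D : Subgroup G} (hC : IsCarterSubgroup C)
    (hD : IsCarterSubgroup D) : ∃ g : G, MulAut.conj g • C = D :=
  carter_conj_aux _ G le_rfl C D hC hD

theorem isCarter_map [Finite G] [Group.IsSolvable G] {C : Subgroup G} (hC : IsCarterSubgroup C)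
    (N : Subgroup G) [N.Normal] : IsCarterSubgroup (C.map (QuotientGroup.mk' N)) :=
  isCarter_map_of_conj hC N fun _ _ _ _ hA hB => carter_conj hA hB

theorem exists_carter_aux : ∀ (n : ℕ) (G : Type u) [Group G] [Finite G] [Group.IsSolvable G],
    Nat.card G ≤ n → ∃ C : Subgroup G, IsCarterSubgroup C := by
  intro n
  induction n with
  | zero => intro G _ _ _ hn; exact absurd hn (not_le.mpr Nat.card_pos)
  | succ n ih =>
    intro G _ _ _ hn
    rcases subsingleton_or_nontrivial G with h | h
    · exact ⟨⊤, inferInstance, top_le_iff.mp le_normalizer⟩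
    obtain ⟨N, hN, -, hNb, hNmin⟩ := exists_minimal_normal_le (N := (⊤ : Subgroup G))
      (fun h => bot_ne_top h.symm)
    haveI := hN
    set f := QuotientGroup.mk' N with hf
    have hfs : Function.Surjective f := QuotientGroup.mk'_surjective N
    obtain ⟨Cb, hCbn, hCbs⟩ := ih (G ⧸ N) (by have := card_quotient_lt_of_ne_bot N hNb; omega)
    set X := Cb.comap f
    have hNX : N ≤ X := by rw [← QuotientGroup.ker_mk' N]; exact ker_le_comap _ _
    by_cases hX : X = ⊤
    · have hCbt : Cb = ⊤ := comap_injective hfs (hX.trans (comap_top f).symm)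
      haveI : Group.IsNilpotent (G ⧸ N) := by
        subst hCbt; exact Group.isNilpotent_top.mp hCbn
      by_cases hG : Group.IsNilpotent G
      · exact ⟨⊤, Group.isNilpotent_top.mpr hG, top_le_iff.mp le_normalizer⟩
      obtain ⟨hNab, -, -, -⟩ := minimal_normal_elementary N hNb hNmin
      haveI := hNab
      obtain ⟨M, hM, hle⟩ : ∃ M : Subgroup G, IsCoatom M ∧ ¬ N ≤ M := by
        by_contra hno
        push Not at hno
        refine hG (isNilpotent_of_quotient_frattini_top ?_)
        have hle : N ≤ frattini G := le_iInf fun M => le_iInf fun hM => hno M hM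
        exact Group.nilpotent_of_surjective (QuotientGroup.map N (frattini G) (MonoidHom.id G)
          (by simpa using hle)) (fun y => by
            obtain ⟨g, rfl⟩ := QuotientGroup.mk_surjective y
            exact ⟨g, rfl⟩)
      have htop : N ⊔ M = ⊤ := hM.2 _ (lt_of_le_of_ne le_sup_right fun e => hle (e ▸ le_sup_left))
      have hNM : N ⊓ M = ⊥ := by
        have hn : (N ⊓ M).Normal := by
          refine normalizer_eq_top_iff.mp (top_le_iff.mp (htop ▸ sup_le ?_
            (le_normalizer_inf le_normalizer_of_normal le_normalizer)))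
          exact (le_centralizer_iff_isMulCommutative.mpr hNab).trans
            ((centralizer_le fun _ h => h.1).trans (centralizer_le_normalizer _))
        exact (hNmin _ hn inf_le_left).resolve_right fun e => hle (inf_eq_left.mp e)
      have hinj : Function.Injective (f.comp M.subtype) := by
        rw [injective_iff_map_eq_one]
        intro x hx
        have : (x : G) ∈ N ⊓ M := ⟨(QuotientGroup.eq_one_iff _).mp hx, x.2⟩
        rw [hNM, mem_bot] at this
        exact Subtype.ext this
      have hMn : Group.IsNilpotent M :=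
        (Group.isNilpotent_congr (MonoidHom.ofInjective hinj)).mpr inferInstance
      refine ⟨M, hMn, ?_⟩
      by_contra hne
      have htopN := hM.2 _ (lt_of_le_of_ne (le_normalizer (H := M)) (Ne.symm hne))
      haveI := normalizer_eq_top_iff.mp htopN
      -- then `G` is the product of two normal nilpotent subgroups
      refine hG ?_
      haveI hNnil : Group.IsNilpotent N := by
        letI : CommGroup N := { (inferInstance : Group N) with mul_comm := fun a b => mul_comm' a b }
        exact CommGroup.isNilpotent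
      haveI := fittingSubgroup_isNilpotent G
      refine Group.isNilpotent_top.mp ?_
      rw [show (⊤ : Subgroup G) = fittingSubgroup G from
        (top_le_iff.mp (htop ▸ sup_le (le_fittingSubgroup hNnil) (le_fittingSubgroup hMn))).symm]
      infer_instance
    · obtain ⟨C, hC⟩ := ih X (by
        have : Nat.card X < Nat.card G :=
          lt_of_le_of_ne (card_le_card_group _) fun e => hX (eq_top_of_card_eq _ e)
        omega)
      refine ⟨C.map X.subtype, (Group.isNilpotent_congr
        (C.equivMapOfInjective _ X.subtype_injective)).mp hC.1, ?_⟩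
      -- the image of `C` is the whole of `X / N`
      have himg : (C.map X.subtype).map f = Cb := by
        haveI := hCbn
        let φ : X →* Cb := f.subgroupComap Cb
        have hφ : Function.Surjective φ := MonoidHom.subgroupComap_surjective_of_surjective f Cb hfs
        haveI : Group.IsNilpotent (X ⧸ φ.ker) :=
          (Group.isNilpotent_congr (QuotientGroup.quotientKerEquivOfSurjective φ hφ)).mpr hCbn
        have h1 := eq_top_of_isCarter (isCarter_map hC φ.ker)
        refine le_antisymm (map_le_iff_le_comap.mpr (map_subtype_le _)) fun y hy => ?_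
        obtain ⟨x, hx⟩ := hφ ⟨y, hy⟩
        obtain ⟨c, hc, hcx⟩ := (h1 ▸ mem_top (QuotientGroup.mk' φ.ker x) :
          QuotientGroup.mk' φ.ker x ∈ C.map (QuotientGroup.mk' φ.ker))
        refine ⟨(c : G), mem_map_of_mem _ hc, ?_⟩
        have h2 : c⁻¹ * x ∈ φ.ker := QuotientGroup.eq.mp hcx
        rw [MonoidHom.mem_ker, map_mul, map_inv, inv_mul_eq_one] at h2
        rw [hx] at h2
        exact congrArg Subtype.val h2
      refine le_antisymm (fun g hg => ?_) le_normalizer
      have hgX : g ∈ X := by
        change f g ∈ Cb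
        rw [← hCbs, ← himg, mem_normalizer_conj_iff, ← map_conj_smul,
          conj_smul_eq_self_of_mem_normalizer hg]
      have : (⟨g, hgX⟩ : X) ∈ normalizer (C : Set X) := by
        rw [mem_normalizer_iff] at hg ⊢
        intro z
        have h1 := hg (z : G)
        have e : ∀ w : X, (w : G) ∈ C.map X.subtype ↔ w ∈ C :=
          fun w => ⟨fun ⟨v, hv, hvw⟩ => (Subtype.ext hvw : v = w) ▸ hv, fun hw => mem_map_of_mem _ hw⟩
        rw [← e, ← e]
        exact h1
      rw [hC.2] at this
      exact mem_map_of_mem X.subtype this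

theorem exists_carter [Finite G] [Group.IsSolvable G] : ∃ C : Subgroup G, IsCarterSubgroup C :=
  exists_carter_aux _ G le_rfl

end Cfsg.Agent.Solv
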