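import Cfsg.Agent.Lib.Solv.Basic
import Cfsg.Agent.Lib.Solv.SchurZassenhaus
import Cfsg.Prelude.Def_LocalEven

/-!
Complete reducibility of minimal normal abelian subgroups over subnormal subgroups, and actions
that are trivial on all chief factors.
-/

set_option autoImplicit false
set_option linter.unusedSectionVars false
set_option linter.style.haveILetI false

universe u

namespace Cfsg.Agent.Solv.Chief

open Subgroup
open scoped commutatorElement Pointwise

variable {G : Type u} [Group G] [Finite G]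

theorem inf_normalizer_le_sup (A B : Subgroup G) :
    normalizer (A : Set G) ⊓ normalizer (B : Set G) ≤ normalizer ((A ⊔ B : Subgroup G) : Set G) := by
  refine le_normalizer_of_conj_mem fun g hg x hx => ?_
  have hle : A ⊔ B ≤ (A ⊔ B).comap (MulAut.conj g).toMonoidHom :=
    sup_le (fun a ha => mem_sup_left ((mem_normalizer_iff.mp hg.1 a).mp ha))
      (fun b hb => mem_sup_right ((mem_normalizer_iff.mp hg.2 b).mp hb))
  exact hle hx

/-- Nontrivial `H`-invariant subgroups of `N`, minimal as such. -/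
def MinInv (H N : Subgroup G) : Set (Subgroup G) :=
  {m | m ≤ N ∧ m ≠ ⊥ ∧ H ≤ normalizer (m : Set G) ∧
    ∀ m' : Subgroup G, m' ≤ m → H ≤ normalizer (m' : Set G) → m' = ⊥ ∨ m' = m}

theorem exists_minInv {H N M : Subgroup G} (hMN : M ≤ N) (hM : M ≠ ⊥) (hH : H ≤ normalizer (M : Set G)) :
    ∃ m ∈ MinInv H N, m ≤ M := by
  obtain ⟨m, ⟨hmM, hm, hmH⟩, hmin⟩ := (Set.toFinite {m : Subgroup G | m ≤ M ∧ m ≠ ⊥ ∧ H ≤ normalizer (m : Set G)}).exists_minimal
    ⟨M, le_rfl, hM, hH⟩
  refine ⟨m, ⟨hmM.trans hMN, hm, hmH, fun m' hm' hH' => ?_⟩, hmM⟩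
  by_cases h : m' = ⊥
  · exact Or.inl h
  · exact Or.inr (le_antisymm hm' (hmin ⟨hm'.trans hmM, h, hH'⟩ hm'))

theorem sup_minInv_of_isSubnormal {N : Subgroup G} [N.Normal]
    (hmin : ∀ M : Subgroup G, M.Normal → M ≤ N → M = ⊥ ∨ M = N) {H : Subgroup G} (hH : H.IsSubnormal) :
    N ≤ sSup (MinInv H N) := by
  induction hH with
  | top =>
    by_cases hN : N = ⊥
    · rw [hN]; exact bot_le
    · exact le_sSup ⟨le_rfl, hN, le_normalizer_of_normal, fun m hm hn =>
        hmin m (normalizer_eq_top_iff.mp (top_le_iff.mp hn)) hm⟩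
  | step H K hle _ hn ih =>
    refine ih.trans (sSup_le fun M hM => ?_)
    obtain ⟨hMN, hM0, hKM, hMmin⟩ := hM
    obtain ⟨m, hm, hmM⟩ := exists_minInv hMN hM0 (hle.trans hKM)
    set J := sSup {m' | m' ∈ MinInv H N ∧ m' ≤ M} with hJ
    have hJM : J ≤ M := sSup_le fun _ h => h.2
    have hKH : K ≤ normalizer (H : Set G) := (normal_subgroupOf_iff_le_normalizer hle).mp hn
    have hJK : K ≤ normalizer (J : Set G) := by
      refine le_normalizer_of_conj_mem fun k hk x hx => ?_
      have hle' : J ≤ J.comap (MulAut.conj k).toMonoidHom := sSup_le fun m' hm' => by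
        rw [← map_le_iff_le_comap]
        refine le_sSup ⟨⟨?_, ?_, ?_, ?_⟩, ?_⟩
        · rintro _ ⟨y, hy, rfl⟩
          exact (inferInstance : N.Normal).conj_mem y (hm'.1.1 hy) k
        · rw [Ne, map_eq_bot_iff_of_injective _ (MulAut.conj k).injective]
          exact hm'.1.2.1
        · intro h hh
          have h1 : k⁻¹ * h * k ∈ normalizer (m' : Set G) :=
            hm'.1.2.2.1 ((mem_normalizer_iff''.mp (hKH hk) h).mp hh)
          have h2 := le_normalizer_map (MulAut.conj k).toMonoidHom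
            (mem_map_of_mem (MulAut.conj k).toMonoidHom h1)
          have e : (MulAut.conj k).toMonoidHom (k⁻¹ * h * k) = h := by simp [mul_assoc]
          rwa [e] at h2
        · intro m'' hm'' hH''
          have h1 : m''.map (MulAut.conj k⁻¹).toMonoidHom ≤ m' := by
            rintro _ ⟨y, hy, rfl⟩
            obtain ⟨z, hz, rfl⟩ := hm'' hy
            simpa [mul_assoc] using hz
          have h2 : H ≤ normalizer ((m''.map (MulAut.conj k⁻¹).toMonoidHom : Subgroup G) : Set G) := by
            intro h hh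
            have h3 : k * h * k⁻¹ ∈ normalizer (m'' : Set G) := hH'' ((mem_normalizer_iff.mp (hKH hk) h).mp hh)
            have h4 := le_normalizer_map (MulAut.conj k⁻¹).toMonoidHom
              (mem_map_of_mem (MulAut.conj k⁻¹).toMonoidHom h3)
            have e : (MulAut.conj k⁻¹).toMonoidHom (k * h * k⁻¹) = h := by simp [mul_assoc]
            rwa [e] at h4
          rcases hm'.1.2.2.2 _ h1 h2 with h5 | h5
          · exact Or.inl ((map_eq_bot_iff_of_injective _ (MulAut.conj k⁻¹).injective).mp h5)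
          · right
            rw [← h5, map_map]
            convert (map_id m'').symm using 2
            ext y
            simp [mul_assoc]
        · rintro _ ⟨y, hy, rfl⟩
          exact (mem_normalizer_iff.mp (hKM hk) y).mp (hm'.2 hy)
      exact hle' hx
    rcases hMmin J hJM hJK with h | h
    · exact absurd (le_bot_iff.mp (((le_sSup ⟨hm, hmM⟩ : m ≤ sSup {m' | m' ∈ MinInv H N ∧ m' ≤ M})).trans h.le)) hm.2.1
    · rw [← h]
      exact sSup_le_sSup fun _ h' => h'.1

/-- Invariant complements. -/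
theorem exists_complement {N : Subgroup G} [N.Normal] [IsMulCommutative N]
    (hmin : ∀ M : Subgroup G, M.Normal → M ≤ N → M = ⊥ ∨ M = N) {H : Subgroup G} (hH : H.IsSubnormal)
    {W : Subgroup G} (hWN : W ≤ N) (hHW : H ≤ normalizer (W : Set G)) :
    ∃ W' : Subgroup G, W' ≤ N ∧ H ≤ normalizer (W' : Set G) ∧ W ⊓ W' = ⊥ ∧ W ⊔ W' = N := by
  obtain ⟨W', ⟨hW'N, hW'H, hdis⟩, hmax⟩ := (Set.toFinite
    {W' : Subgroup G | W' ≤ N ∧ H ≤ normalizer (W' : Set G) ∧ W ⊓ W' = ⊥}).exists_maximal
    ⟨⊥, bot_le, le_normalizer_of_normal, inf_bot_eq _⟩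
  refine ⟨W', hW'N, hW'H, hdis, le_antisymm (sup_le hWN hW'N) ?_⟩
  refine (sup_minInv_of_isSubnormal hmin hH).trans (sSup_le fun m hm => ?_)
  have hHsup : H ≤ normalizer ((W ⊔ W' : Subgroup G) : Set G) :=
    (le_inf hHW hW'H).trans (inf_normalizer_le_sup _ _)
  rcases hm.2.2.2 (m ⊓ (W ⊔ W')) inf_le_left ((le_inf hm.2.2.1 hHsup).trans inf_normalizer_le_normalizer_inf) with h | h
  · exfalso
    have hnorm : m ≤ normalizer (W' : Set G) := fun x hx => mem_normalizer_iff.mpr fun y => by
      refine ⟨fun hy => ?_, fun hy => ?_⟩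
      · have hxy : x * y = y * x := congrArg Subtype.val
          ((inferInstance : IsMulCommutative N).is_comm.comm (⟨x, hm.1 hx⟩ : N) ⟨y, hW'N hy⟩)
        rwa [hxy, mul_inv_cancel_right]
      · have hxy : x * (x * y * x⁻¹) = (x * y * x⁻¹) * x := congrArg Subtype.val
          ((inferInstance : IsMulCommutative N).is_comm.comm (⟨x, hm.1 hx⟩ : N) ⟨_, hW'N hy⟩)
        have e : x * y * x⁻¹ = y := by
          calc x * y * x⁻¹ = x⁻¹ * (x * (x * y * x⁻¹)) := by group
            _ = x⁻¹ * ((x * y * x⁻¹) * x) := by rw [hxy]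
            _ = y := by group
        rwa [e] at hy
    have hdis' : W ⊓ (W' ⊔ m) = ⊥ := by
      rw [eq_bot_iff]
      rintro x ⟨hxW, hx⟩
      obtain ⟨a, ha, b, hb, rfl⟩ : x ∈ (W' : Set G) * (m : Set G) := by
        rw [← coe_mul_of_right_le_normalizer_left W' m hnorm]
        exact hx
      have hb' : b ∈ m ⊓ (W ⊔ W') := ⟨hb, by
        have := mul_mem (inv_mem (mem_sup_right ha : a ∈ W ⊔ W')) (mem_sup_left hxW : a * b ∈ W ⊔ W')
        rwa [inv_mul_cancel_left] at this⟩
      rw [h, mem_bot] at hb'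
      subst hb'
      simp only [mul_one] at hxW ⊢
      exact hdis.le ⟨hxW, ha⟩
    have hle := hmax (y := W' ⊔ m) ⟨sup_le hW'N hm.1,
      (le_inf hW'H hm.2.2.1).trans (inf_normalizer_le_sup _ _), hdis'⟩ le_sup_left
    exact hm.2.1 (le_bot_iff.mp ((le_inf le_rfl ((le_sup_right.trans hle).trans le_sup_right)).trans h.le))
  · exact h ▸ inf_le_right

/-- Elements fixing every chief factor below a normal `p`-subgroup act on it as `p`-elements. -/
theorem exists_pow_mem_centralizer {p : ℕ} [Fact p.Prime] (g : G) :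
    ∀ (n : ℕ) (N : Subgroup G), N.Normal → Nat.card N ≤ n → IsPGroup p N →
      (∀ U V : Subgroup G, IsChiefFactor U V → U ≤ N → ∀ u ∈ U, ⁅u, g⁆ ∈ V) →
      ∃ k, g ^ p ^ k ∈ centralizer (N : Set G) := by
  intro n
  induction n with
  | zero => intro N _ hn; exact absurd hn (not_le.mpr Nat.card_pos)
  | succ n ih =>
    intro N hN hn hNp hg
    rcases eq_or_ne N ⊥ with rfl | hN1
    · refine ⟨0, mem_centralizer_iff.mpr fun v hv => ?_⟩
      rw [SetLike.mem_coe, mem_bot] at hv
      rw [hv, one_mul, mul_one]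
    obtain ⟨M, ⟨hMn, hMN⟩, hmax⟩ := (Set.toFinite {M : Subgroup G | M.Normal ∧ M < N}).exists_maximal
      ⟨⊥, inferInstance, bot_lt_iff_ne_bot.mpr hN1⟩
    have hcf : IsChiefFactor N M := ⟨hMN, hN, hMn, fun L hL h1 h2 => by
      rcases h2.eq_or_lt with h | h
      · exact Or.inr h
      · exact Or.inl (le_antisymm (hmax ⟨hL, h⟩ h1) h1)⟩
    obtain ⟨k, hk⟩ := ih M hMn (by
      have := lt_of_le_of_ne (card_le_of_le hMN.le) fun e => hMN.ne (eq_of_le_of_card_ge hMN.le e.ge)
      omega) (hNp.to_le hMN.le) fun U V hUV hU => hg U V hUV (hU.trans hMN.le)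
    obtain ⟨e, he⟩ := IsPGroup.iff_card.mp (hNp.to_le hMN.le)
    refine ⟨k + e, ?_⟩
    rw [pow_add, pow_mul]
    set h := g ^ p ^ k with hh
    rw [mem_centralizer_iff]
    intro v hv
    set z := h * v * h⁻¹ * v⁻¹ with hz
    have hzM : z ∈ M := by
      haveI := hMn
      haveI := hN
      have hfix : QuotientGroup.mk' M h * QuotientGroup.mk' M v = QuotientGroup.mk' M v * QuotientGroup.mk' M h := by
        rw [hh, map_pow]
        refine (Commute.pow_left ?_ _).eq
        have h1 := hg N M hcf le_rfl v hv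
        rw [← QuotientGroup.eq_one_iff] at h1
        have h2 : ⁅QuotientGroup.mk' M v, QuotientGroup.mk' M g⁆ = 1 := by
          rw [← map_commutatorElement]; exact h1
        exact (commutatorElement_eq_one_iff_mul_comm.mp h2).symm
      rw [← QuotientGroup.eq_one_iff]
      change QuotientGroup.mk' M z = 1
      rw [hz, map_mul, map_mul, map_mul, map_inv, map_inv, hfix]
      group
    have hhz : h * z = z * h := (mem_centralizer_iff.mp hk z hzM).symm
    have hpw : ∀ m : ℕ, h ^ m * v * (h ^ m)⁻¹ = z ^ m * v := by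
      intro m
      induction m with
      | zero => simp
      | succ m ihm =>
        calc h ^ (m + 1) * v * (h ^ (m + 1))⁻¹ = h * (h ^ m * v * (h ^ m)⁻¹) * h⁻¹ := by
              rw [pow_succ']; group
          _ = h * z ^ m * h⁻¹ * (h * v * h⁻¹) := by rw [ihm]; group
          _ = z ^ m * (z * v) := by
              rw [((show Commute h z from hhz).pow_right m).eq, mul_inv_cancel_right]
              congr 1
              rw [hz, inv_mul_cancel_right]
          _ = z ^ (m + 1) * v := by rw [pow_succ, mul_assoc (z ^ m) z v]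
    have h5 := hpw (p ^ e)
    rw [show z ^ p ^ e = 1 from he ▸ congrArg Subtype.val (pow_card_eq_one' (x := (⟨z, hzM⟩ : M))), one_mul] at h5
    exact (mul_inv_eq_iff_eq_mul.mp h5).symm

/-- The elements fixing every chief factor below `N`. -/
def stabilizer (N : Subgroup G) : Subgroup G :=
  ⨅ (U : Subgroup G) (V : Subgroup G) (h : IsChiefFactor U V ∧ U ≤ N),
    haveI := h.1.2.2.1
    (centralizer ((U.map (QuotientGroup.mk' V) : Subgroup (G ⧸ V)) : Set (G ⧸ V))).comap (QuotientGroup.mk' V)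

theorem mem_stabilizer {N : Subgroup G} {g : G} :
    g ∈ stabilizer N ↔ ∀ U V : Subgroup G, IsChiefFactor U V → U ≤ N → ∀ u ∈ U, ⁅u, g⁆ ∈ V := by
  simp only [stabilizer, mem_iInf, mem_comap, mem_centralizer_iff]
  constructor
  · intro h U V hUV hUN u hu
    haveI := hUV.2.2.1
    rw [← QuotientGroup.eq_one_iff]
    change QuotientGroup.mk' V ⁅u, g⁆ = 1
    rw [map_commutatorElement, commutatorElement_eq_one_iff_mul_comm]
    exact h U V ⟨hUV, hUN⟩ _ (mem_map_of_mem _ hu)
  · rintro h U V ⟨hUV, hUN⟩ _ ⟨u, hu, rfl⟩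
    haveI := hUV.2.2.1
    rw [← commutatorElement_eq_one_iff_mul_comm, ← map_commutatorElement]
    exact (QuotientGroup.eq_one_iff _).mpr (h U V hUV hUN u hu)

theorem stabilizer_normal (N : Subgroup G) : (stabilizer N).Normal := by
  refine ⟨fun d hd g => mem_stabilizer.mpr fun U V hUV hUN u hu => ?_⟩
  have h := mem_stabilizer.mp hd U V hUV hUN _ (hUV.2.1.conj_mem u hu g⁻¹)
  have h2 := hUV.2.2.1.conj_mem _ h g
  have e : g * ⁅g⁻¹ * u * g⁻¹⁻¹, d⁆ * g⁻¹ = ⁅u, g * d * g⁻¹⁆ := by simp only [commutatorElement_def]; group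
  rwa [e] at h2

end Cfsg.Agent.Solv.Chief
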