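import Cfsg.Agent.Lib.Solv.AlperinCentralizer
import Cfsg.Agent.Lib.Solv.MaxClass

/-!
Power formulas in groups of nilpotency class at most three, and `Ω₁` of `p`-groups of rank two.
-/

set_option autoImplicit false
set_option linter.style.haveILetI false

namespace Cfsg.Agent.Solv.ClassThree

open Subgroup
open scoped commutatorElement

universe u

variable {G : Type u} [Group G]

/-- The class-three collection formula for `(y * x) ^ n`. -/
theorem collect {x y c d e : G} (hxy : x * y * x⁻¹ = c * y) (hxc : x * c * x⁻¹ = d * c)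
    (hyc : y * c * y⁻¹ = e * c) (hd : d ∈ center G) (he : e ∈ center G) (n : ℕ) :
    (y * x) ^ n =
      c ^ n.choose 2 * d ^ n.choose 3 * e ^ (n.choose 2 + 2 * n.choose 3) * y ^ n * x ^ n := by
  have hdc : ∀ g : G, Commute d g := fun g => (mem_center_iff.mp hd g).symm
  have hec : ∀ g : G, Commute e g := fun g => (mem_center_iff.mp he g).symm
  have hxconj : ∀ k : ℕ, x ^ k * y * (x ^ k)⁻¹ = c ^ k * d ^ k.choose 2 * y :=
    AlperinC.conj_pow_formula hxy hxc (by rw [(hdc x).symm.eq, mul_inv_cancel_right]) (hdc c).symm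
  have hyk : ∀ m k : ℕ, y ^ m * c ^ k = e ^ (m * k) * c ^ k * y ^ m := by
    intro m k
    induction m with
    | zero => simp
    | succ m ih =>
      have h1 : y * c ^ k * y⁻¹ = e ^ k * c ^ k := by rw [← conj_pow, hyc, (hec c).mul_pow]
      calc y ^ (m + 1) * c ^ k = y * (y ^ m * c ^ k) := by rw [pow_succ', mul_assoc]
        _ = e ^ (m * k) * (y * c ^ k * y⁻¹) * y ^ (m + 1) := by
          rw [ih, ← mul_assoc, ← mul_assoc, ← ((hec y).pow_left (m * k)).eq, pow_succ']; group
        _ = e ^ ((m + 1) * k) * c ^ k * y ^ (m + 1) := by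
          rw [h1, ← mul_assoc, ← pow_add, show m * k + k = (m + 1) * k by ring]
  induction n with
  | zero => simp
  | succ n ih =>
    have h2 : (n + 1).choose 2 = n.choose 2 + n := by
      rw [Nat.choose_succ_succ, Nat.choose_one_right, add_comm]
    have h3 : (n + 1).choose 3 = n.choose 3 + n.choose 2 := by
      rw [Nat.choose_succ_succ, add_comm]
    have hsum : n.choose 2 + n + 2 * (n.choose 3 + n.choose 2) =
        n.choose 2 + 2 * n.choose 3 + n * n := by
      have h := AlperinC.two_mul_choose_two n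
      rcases n with _ | n
      · simp
      · simp only [Nat.add_sub_cancel] at h
        nlinarith [h]
    set A := c ^ n.choose 2 * d ^ n.choose 3 * e ^ (n.choose 2 + 2 * n.choose 3) with hA
    have hmove : x ^ n * y = (c ^ n * d ^ n.choose 2 * y) * x ^ n := by
      rw [← hxconj n]; group
    calc (y * x) ^ (n + 1) = A * y ^ n * (x ^ n * y) * x := by rw [pow_succ, ih]; group
      _ = A * (y ^ n * c ^ n) * d ^ n.choose 2 * y * x ^ (n + 1) := by
        rw [hmove, pow_succ x]; group
      _ = A * e ^ (n * n) * c ^ n * (y ^ n * d ^ n.choose 2) * y * x ^ (n + 1) := by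
        rw [hyk]; group
      _ = A * e ^ (n * n) * c ^ n * d ^ n.choose 2 * y ^ (n + 1) * x ^ (n + 1) := by
        rw [((hdc (y ^ n)).pow_left _).symm.eq, pow_succ y]; group
      _ = _ := by
        congr 2
        rw [hA, h2, h3, hsum, pow_add c, pow_add d]
        generalize n.choose 2 + 2 * n.choose 3 = Q
        rw [pow_add e]
        have k1 : Commute (c ^ n) (d ^ n.choose 3) := ((hdc _).pow_left _).symm
        have k2 : ∀ i : ℕ, Commute (c ^ n) (e ^ i) := fun i => ((hec _).pow_left i).symm
        have k3 : ∀ i : ℕ, Commute (d ^ n.choose 2) (e ^ i) := fun i => (hdc _).pow_left _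
        have k4 : Commute (c ^ n) (e ^ Q * e ^ (n * n)) := (k2 _).mul_right (k2 _)
        have k5 : Commute (d ^ n.choose 2) (e ^ Q * e ^ (n * n)) :=
          (k3 _).mul_right (k3 _)
        calc c ^ n.choose 2 * d ^ n.choose 3 * e ^ Q * e ^ (n * n) * c ^ n *
              d ^ n.choose 2
            = c ^ n.choose 2 * (d ^ n.choose 3 * ((e ^ Q * e ^ (n * n)) * c ^ n)) *
              d ^ n.choose 2 := by group
          _ = c ^ n.choose 2 * ((d ^ n.choose 3 * c ^ n) * ((e ^ Q * e ^ (n * n)))) *
              d ^ n.choose 2 := by rw [k4.symm.eq]; group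
          _ = c ^ n.choose 2 * (c ^ n * d ^ n.choose 3) *
              ((e ^ Q * e ^ (n * n)) * d ^ n.choose 2) := by
            rw [k1.symm.eq]; group
          _ = c ^ n.choose 2 * c ^ n * (d ^ n.choose 3 * d ^ n.choose 2) *
              (e ^ Q * e ^ (n * n)) := by rw [k5.symm.eq]; group

variable [Finite G] {p : ℕ} [hp : Fact p.Prime]

theorem dvd_choose (h3 : 3 < p) : p ∣ p.choose 2 ∧ p ∣ p.choose 3 :=
  ⟨hp.out.dvd_choose_self (by norm_num) (by omega), hp.out.dvd_choose_self (by norm_num) h3⟩

theorem center_of_class_three (hcl : ⁅⁅commutator G, (⊤ : Subgroup G)⁆, (⊤ : Subgroup G)⁆ = ⊥)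
    (a : G) {c : G} (hc : c ∈ commutator G) : ⁅a, c⁆ ∈ center G := by
  have h1 : ⁅c, a⁆ ∈ ⁅commutator G, (⊤ : Subgroup G)⁆ := commutator_mem_commutator hc (mem_top a)
  rw [← commutatorElement_inv c a, mem_center_iff]
  intro g
  have h2 := commutator_eq_bot_iff_le_centralizer.mp hcl (Subgroup.inv_mem _ h1)
  exact mem_centralizer_iff.mp h2 g (mem_top g)

theorem pow_mul (h3 : 3 < p) (hcl : ⁅⁅commutator G, (⊤ : Subgroup G)⁆, (⊤ : Subgroup G)⁆ = ⊥)
    (x y : G) (hc : ⁅x, y⁆ ^ p = 1) (hd : ⁅x, ⁅x, y⁆⁆ ^ p = 1) (he : ⁅y, ⁅x, y⁆⁆ ^ p = 1) :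
    (y * x) ^ p = y ^ p * x ^ p := by
  have hmem : ⁅x, y⁆ ∈ commutator G := by
    rw [_root_.commutator_def]; exact commutator_mem_commutator (mem_top x) (mem_top y)
  rw [collect (c := ⁅x, y⁆) (d := ⁅x, ⁅x, y⁆⁆) (e := ⁅y, ⁅x, y⁆⁆)
    (by simp only [commutatorElement_def]; group) (by simp only [commutatorElement_def]; group)
    (by simp only [commutatorElement_def]; group) (center_of_class_three hcl x hmem)
    (center_of_class_three hcl y hmem)]
  obtain ⟨⟨s, hs⟩, ⟨t, ht⟩⟩ := dvd_choose (p := p) h3
  rw [hs, ht, show p * s + 2 * (p * t) = p * (s + 2 * t) by ring]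
  simp only [_root_.pow_mul, hc, hd, he, one_pow, one_mul]

theorem omega_exponent (h3 : 3 < p) (hcl : ⁅⁅commutator G, (⊤ : Subgroup G)⁆, (⊤ : Subgroup G)⁆ = ⊥)
    {g : G} (hg : g ∈ closure {x : G | x ^ p = 1}) : g ^ p = 1 := by
  induction hg using closure_induction with
  | mem x hx => exact hx
  | one => exact one_pow p
  | inv x _ hx => rw [inv_pow, hx, inv_one]
  | mul y x _ _ hy hx =>
    set c := ⁅x, y⁆
    have hmem : c ∈ commutator G := by
      rw [_root_.commutator_def]; exact commutator_mem_commutator (mem_top x) (mem_top y)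
    have key : ∀ a : G, a ^ p = 1 → ⁅a, c⁆ ^ p = 1 := by
      intro a ha
      have hz := center_of_class_three hcl a hmem
      have h1 : ∀ k : ℕ, a ^ k * c * (a ^ k)⁻¹ = ⁅a, c⁆ ^ k * c := by
        intro k
        have h := AlperinC.conj_pow_formula (x := a) (b := c) (c := ⁅a, c⁆) (d := 1)
          (by simp only [commutatorElement_def]; group)
          (by rw [one_mul, mem_center_iff.mp hz a, mul_inv_cancel_right]) (by simp) (Commute.one_right _) k
        rwa [one_pow, mul_one] at h
      have h2 := h1 p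
      rw [ha, one_mul, inv_one, mul_one, eq_comm, mul_eq_right] at h2
      exact h2
    have hd := key x hx
    have hc : c ^ p = 1 := by
      have h1 : (y * x * y⁻¹) ^ p = 1 := by rw [conj_pow, hx]; group
      rw [show y * x * y⁻¹ = c⁻¹ * x by simp only [c, commutatorElement_def]; group,
        Repl.mul_pow_of_central (x := c⁻¹) (y := x) (c := ⁅x, c⁻¹⁆)
          (by simp only [commutatorElement_def]; group)
          (mem_center_iff.mp (center_of_class_three hcl x (Subgroup.inv_mem _ hmem)) _).symm
          (mem_center_iff.mp (center_of_class_three hcl x (Subgroup.inv_mem _ hmem)) _).symm,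
        hx, mul_one] at h1
      have hd' : ⁅x, c⁻¹⁆ ^ p = 1 := by
        have e : ⁅x, c⁻¹⁆ = c⁻¹ * ⁅x, c⁆⁻¹ * c := by simp only [commutatorElement_def]; group
        have e2 : c⁻¹ * ⁅x, c⁆⁻¹ * c = ⁅x, c⁆⁻¹ := by
          rw [mem_center_iff.mp (Subgroup.inv_mem _ (center_of_class_three hcl x hmem)) c⁻¹, inv_mul_cancel_right]
        rw [e, e2, inv_pow, hd, inv_one]
      obtain ⟨t, ht⟩ := (dvd_choose (p := p) h3).1
      rw [ht, _root_.pow_mul, hd', one_pow, mul_one, inv_pow, inv_eq_one] at h1
      exact h1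
    rw [pow_mul h3 hcl x y hc hd (key y hy), hy, hx, one_mul]

theorem card_le_of_exponent {T : Type u} [Group T] [Finite T] (hp2 : p ≠ 2) (hT : ∀ x : T, x ^ p = 1)
    (hrk : ∀ E : Subgroup T, IsElementaryAbelian p E → Nat.card E ≤ p ^ 2) : Nat.card T ≤ p ^ 3 := by
  have hTp : IsPGroup p T := fun x => ⟨1, by rw [pow_one]; exact hT x⟩
  haveI := hTp.isNilpotent
  obtain ⟨A, hA⟩ := (Set.toFinite {A : Subgroup T | A.Normal ∧ IsMulCommutative A}).exists_maximal
    ⟨⊥, inferInstance, inferInstance⟩
  obtain ⟨hAn, hAc⟩ := hA.1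
  haveI := hAn
  haveI := hAc
  obtain ⟨a, ha⟩ := IsPGroup.iff_card.mp (hTp.to_subgroup A)
  have ha2 : a ≤ 2 := (Nat.pow_le_pow_iff_right hp.out.one_lt).mp
    (ha ▸ hrk A ⟨hAc, fun x _ => hT x⟩)
  have hC : centralizer (A : Set T) = A := S0015.result A
    (fun M hM hMab hle => le_antisymm (hA.2 ⟨hM, hMab⟩ hle) hle)
  have h := AlperinC.index_centralizer_le hTp a A hAn ha
  rw [hC] at h
  rw [← A.card_mul_index, ha]
  refine (Nat.mul_le_mul le_rfl h).trans ?_
  rw [← pow_add]
  exact Nat.pow_le_pow_right hp.out.pos (by interval_cases a <;> omega)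

theorem omega_exponent_rank_two (h3 : 3 < p) : ∀ (n : ℕ) (R : Type u) [Group R] [Finite R],
    Nat.card R ≤ n → IsPGroup p R →
    (∀ E : Subgroup R, IsElementaryAbelian p E → Nat.card E ≤ p ^ 2) →
    ∀ g ∈ closure {x : R | x ^ p = 1}, g ^ p = 1 := by
  intro n
  induction n with
  | zero => intro R _ _ hn; exact absurd hn (not_le.mpr Nat.card_pos)
  | succ n ih =>
    intro R _ _ hn hR hrk g hg
    haveI := hR.isNilpotent
    induction hg using closure_induction with
    | mem x hx => exact hx
    | one => exact one_pow p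
    | inv x _ hx => rw [inv_pow, hx, inv_one]
    | mul x y _ _ hx hy =>
      set K := closure ({x, y} : Set R) with hK
      have hxK : x ∈ K := subset_closure (Or.inl rfl)
      have hyK : y ∈ K := subset_closure (Or.inr rfl)
      have hsub : ∀ H : Subgroup R, ∀ E : Subgroup H, IsElementaryAbelian p E → Nat.card E ≤ p ^ 2 :=
        fun H E hE => by
          rw [show Nat.card E = Nat.card (E.map H.subtype) from (Subgroup.card_map_of_injective H.subtype_injective).symm]
          exact hrk _ (elemAbelian_map _ hE)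
      by_cases hKt : K = ⊤
      swap
      · have hlt : Nat.card K < Nat.card R := lt_of_le_of_ne K.card_le_card_group
          fun e => hKt (K.eq_top_of_card_eq e)
        have := ih K (by omega) (hR.to_subgroup K) (hsub K) (⟨x, hxK⟩ * ⟨y, hyK⟩)
          (Subgroup.mul_mem _ (subset_closure (Subtype.ext hx)) (subset_closure (Subtype.ext hy)))
        exact congrArg Subtype.val this
      by_cases hxt : zpowers x = ⊤
      · obtain ⟨i, hi⟩ := mem_zpowers_iff.mp (hxt.ge (mem_top y))
        rw [← hi, ((Commute.refl x).zpow_right i).mul_pow, hx, one_mul, ← zpow_natCast, ← zpow_mul,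
          mul_comm, zpow_mul, zpow_natCast, hx, one_zpow]
      obtain ⟨H, hH, hxH⟩ := Solv.exists_coatom_ge hxt
      have hHi := CycP.index_eq_of_coatom hR H hH
      haveI := CycP.normal_of_index_prime hR H hHi
      have hlt : Nat.card H < Nat.card R := lt_of_le_of_ne H.card_le_card_group
        fun e => hH.1 (H.eq_top_of_card_eq e)
      set O := closure {z : H | z ^ p = 1} with hO
      have hOe : ∀ z ∈ O, z ^ p = 1 := ih H (by omega) (hR.to_subgroup H) (hsub H)
      haveI : O.Characteristic := characteristic_iff_map_le.mpr fun φ => by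
        rw [hO, MonoidHom.map_closure]
        refine closure_mono ?_
        rintro _ ⟨z, hz, rfl⟩
        show φ z ^ p = 1
        rw [← map_pow, hz, map_one]
      set W := O.map H.subtype
      have hWc : Nat.card W ≤ p ^ 3 := by
        refine (card_le_of_exponent (T := ↥W) (by omega) (fun z => ?_) (hsub W))
        obtain ⟨z', hz', ez⟩ := z.2
        exact Subtype.ext (by
          rw [SubgroupClass.coe_pow, ← ez, ← map_pow, hOe z' hz', map_one]; rfl)
      have hxW : x ∈ W := ⟨⟨x, hxH (mem_zpowers x)⟩, subset_closure (Subtype.ext hx), rfl⟩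
      have htop : W ⊔ zpowers y = ⊤ := by
        rw [eq_top_iff, ← hKt, hK, closure_le]
        rintro z (rfl | rfl)
        · exact mem_sup_left hxW
        · exact mem_sup_right (mem_zpowers z)
      obtain ⟨m, hm⟩ := IsPGroup.iff_card.mp hR
      have hm4 : m ≤ 4 := by
        have h1 := card_sup_mul_card_inf W (zpowers y) le_normalizer_of_normal
        rw [htop, card_top] at h1
        have h2 : Nat.card (zpowers y) ≤ p := by
          rw [Nat.card_zpowers]; exact Nat.le_of_dvd hp.out.pos (orderOf_dvd_of_pow_eq_one hy)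
        refine (Nat.pow_le_pow_iff_right hp.out.one_lt).mp ?_
        rw [← hm]
        calc Nat.card R ≤ Nat.card R * Nat.card ↥(W ⊓ zpowers y) := Nat.le_mul_of_pos_right _ Nat.card_pos
          _ = Nat.card W * Nat.card (zpowers y) := h1
          _ ≤ p ^ 3 * p := Nat.mul_le_mul hWc h2
          _ = p ^ 4 := by rw [pow_succ p 3]
      have hcl : ⁅⁅commutator R, (⊤ : Subgroup R)⁆, (⊤ : Subgroup R)⁆ = ⊥ := by
        have hc : Group.nilpotencyClass R ≤ 3 := by
          rcases Nat.lt_or_ge m 2 with hm2 | hm2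
          · refine le_trans ?_ (show (1 : ℕ) ≤ 3 by norm_num)
            rw [← Subgroup.lowerCentralSeries_eq_bot_iff_nilpotencyClass_le,
              Subgroup.lowerCentralSeries_succ, eq_bot_iff, commutator_le]
            intro a _ b _
            rw [mem_bot, commutatorElement_eq_one_iff_mul_comm]
            haveI : IsCyclic R := by
              interval_cases m
              · haveI := (Nat.card_eq_one_iff_unique.mp (hm.trans (pow_zero p))).1
                infer_instance
              · exact isCyclic_of_prime_card (hm.trans (pow_one p))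
            exact (IsCyclic.commGroup (α := R)).mul_comm a b
          · exact (MaxClass.class_le hm hm2).trans (by omega)
        exact Subgroup.lowerCentralSeries_eq_bot_iff_nilpotencyClass_le.mpr hc
      exact omega_exponent h3 hcl
        (Subgroup.mul_mem _ (subset_closure hx) (subset_closure hy))

end Cfsg.Agent.Solv.ClassThree
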