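import Cfsg.Prelude.Def_TwoFusion
import Cfsg.Agent.Lib.Solv.NormalPComplement
import Cfsg.Agent.Lib.Solv.AlperinTame
import Cfsg.Agent.Lib.Local.ConjFamily

/-!
Frobenius' criterion relative to a strongly closed subgroup.
-/

set_option autoImplicit false
set_option linter.style.haveILetI false

namespace Cfsg.Agent.Solv.ClosedFrob

open Subgroup

variable {G : Type*} [Group G] [Finite G] {p : ℕ} [Fact p.Prime]

/-- `p'`-elements normalizing `Q` centralize it. -/
def Good (p : ℕ) (Q : Subgroup G) : Prop :=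
  ∀ g ∈ normalizer (Q : Set G), (orderOf g).Coprime p → g ∈ centralizer (Q : Set G)

theorem good_of_npc {Q M : Subgroup G} (hQ : IsPGroup p Q) (hQM : Q ≤ M)
    (hM : normalizer (Q : Set G) ≤ M) (h : HasNormalPComplement p M) : Good p Q := by
  intro g hg hgc
  have hc := frobeniusCond_of_hasNormalPComplement h (Q.subgroupOf M) hQ.comap_subtype
    ⟨g, hM hg⟩ ?_ (by rwa [Subgroup.orderOf_mk])
  · rw [mem_centralizer_iff] at hc ⊢
    exact fun q hq => congrArg Subtype.val (hc ⟨q, hQM hq⟩ hq)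
  · rw [mem_normalizer_iff]
    exact fun x => mem_normalizer_iff.mp hg x

theorem good_of_split {Q K L : Subgroup G} (hKM : K ≤ normalizer (Q : Set G))
    (hn : normalizer (Q : Set G) ≤ normalizer (K : Set G))
    (hCK : centralizer (Q : Set G) ≤ K)
    (hK : ∀ g ∈ K, (orderOf g).Coprime p → g ∈ centralizer (Q : Set G))
    (hL : ∀ g ∈ L, (orderOf g).Coprime p → g ∈ centralizer (Q : Set G))
    (hsplit : ∀ g ∈ normalizer (Q : Set G), ∃ c ∈ K, ∃ y ∈ L, y ∈ normalizer (Q : Set G) ∧ g = c * y) :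
    Good p Q := by
  intro g hg hgc
  obtain ⟨c, hc, y, hy, hyN, rfl⟩ := hsplit g hg
  refine hK _ ?_ hgc
  set M := normalizer (Q : Set G)
  haveI : (K.subgroupOf M).Normal := normal_subgroupOf_of_le_normalizer hn
  let q := QuotientGroup.mk' (K.subgroupOf M)
  have he : q ⟨c * y, hg⟩ = q ⟨y, hyN⟩ := by
    rw [show (⟨c * y, hg⟩ : M) = ⟨c, hKM hc⟩ * ⟨y, hyN⟩ from rfl, map_mul,
      show q ⟨c, hKM hc⟩ = 1 from (QuotientGroup.eq_one_iff _).2 hc, one_mul]
  set a := (orderOf y).factorization p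
  have hy' : y ^ p ^ a ∈ K := by
    refine hCK (hL _ (pow_mem hy _) ?_)
    rw [orderOf_pow, Nat.gcd_eq_right (Nat.ordProj_dvd _ _)]
    exact ((Nat.coprime_ordCompl Fact.out (orderOf_pos y).ne')).symm
  have h1 : orderOf (q ⟨c * y, hg⟩) ∣ p ^ a := by
    refine orderOf_dvd_of_pow_eq_one ?_
    rw [he, ← map_pow]
    exact (QuotientGroup.eq_one_iff _).2 hy'
  have h2 : orderOf (q ⟨c * y, hg⟩) ∣ orderOf (c * y) := by
    refine (orderOf_map_dvd q _).trans ?_
    rw [Subgroup.orderOf_mk]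
  have h3 := Nat.eq_one_of_dvd_coprimes (hgc.pow_right a) h2 h1
  exact mem_subgroupOf.mp ((QuotientGroup.eq_one_iff (N := K.subgroupOf M) (⟨c * y, hg⟩ : M)).1 (orderOf_eq_one_iff.1 h3))

theorem frattini_split (S : Sylow p G) {M K : Subgroup G} (hKM : K ≤ M)
    (hn : M ≤ normalizer (K : Set G))
    (hM : ¬ p ∣ ((S : Subgroup G) ⊓ M).relIndex M) :
    ∀ g ∈ M, ∃ c ∈ K, ∃ y ∈ M, y ∈ normalizer (((S : Subgroup G) ⊓ K : Subgroup G) : Set G) ∧
      g = c * y := by
  haveI : (K.subgroupOf M).Normal := normal_subgroupOf_of_le_normalizer hn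
  set T := ((S : Subgroup G) ⊓ M).subgroupOf M
  set K' := K.subgroupOf M
  have hidx : ¬ p ∣ T.relIndex K' := by
    intro hd
    refine hM (hd.trans ?_)
    show T.relIndex K' ∣ T.index
    have e1 := relIndex_mul_index (inf_le_right : T ⊓ K' ≤ K')
    have e2 := relIndex_mul_index (inf_le_left : T ⊓ K' ≤ T)
    rw [inf_relIndex_right] at e1
    rw [inf_relIndex_left] at e2
    obtain ⟨s, hs⟩ := relIndex_dvd_index_of_normal K' T
    rw [← e2, hs] at e1
    have hr : K'.relIndex T ≠ 0 := index_ne_zero_of_finite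
    exact ⟨s, Nat.eq_of_mul_eq_mul_left (Nat.pos_of_ne_zero hr)
      (by rw [← e1]; ring)⟩
  have hTp : IsPGroup p T := (S.isPGroup'.to_le inf_le_left).comap_subtype
  let R : Sylow p K' := (hTp.comap_subtype (K := K')).toSylow hidx
  have htop := Sylow.normalizer_sup_eq_top R
  intro g hg
  obtain ⟨y, hy, c, hc, hyc⟩ := mem_sup_of_normal_right.mp (htop ▸ mem_top (⟨g, hg⟩ : M))
  have hmem : ∀ x : G, x ∈ (S : Subgroup G) ⊓ K ↔
      ∃ hx : x ∈ M, (⟨x, hx⟩ : M) ∈ (R : Subgroup K').map K'.subtype := by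
    intro x
    constructor
    · rintro ⟨hxS, hxK⟩
      exact ⟨hKM hxK, ⟨⟨⟨x, hKM hxK⟩, hxK⟩, ⟨hxS, hKM hxK⟩, rfl⟩⟩
    · rintro ⟨hx, ⟨z, hz⟩, hz', e⟩
      have e' : z = ⟨x, hx⟩ := e
      subst e'
      exact ⟨hz'.1, hz⟩
  refine ⟨(y * c * y⁻¹ : M), ?_, y, y.2, ?_, ?_⟩
  · exact mem_subgroupOf.mp (Subgroup.Normal.conj_mem inferInstance c hc y)
  · rw [mem_normalizer_iff]
    intro x
    rw [hmem, hmem]
    constructor
    · rintro ⟨hx, h⟩
      exact ⟨M.mul_mem (M.mul_mem y.2 hx) (M.inv_mem y.2), (mem_normalizer_iff.mp hy _).mp h⟩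
    · rintro ⟨hx, h⟩
      have hx' : x ∈ M := by
        have := M.mul_mem (M.mul_mem (M.inv_mem y.2) hx) y.2
        simpa [mul_assoc] using this
      exact ⟨hx', (mem_normalizer_iff.mp hy _).mpr h⟩
  · rw [← Subgroup.coe_mul, inv_mul_cancel_right, hyc]

/-- Elements acting trivially on a section and on a subgroup act trivially. -/
theorem stab_trivial {Q : Subgroup G} (hQ : IsPGroup p Q) {g : G} (hgc : (orderOf g).Coprime p)
    {U : Subgroup G} (hUQ : U ≤ Q) (hgU : g ∈ centralizer (U : Set G))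
    (h : ∀ a ∈ Q, g * a * g⁻¹ * a⁻¹ ∈ U) : g ∈ centralizer (Q : Set G) := by
  rw [mem_centralizer_iff]
  intro a ha
  obtain ⟨u, hudef⟩ : ∃ u, u = g * a * g⁻¹ * a⁻¹ := ⟨_, rfl⟩
  have hu := h a ha
  rw [← hudef] at hu
  have hgu : g * u * g⁻¹ = u := by
    rw [← mem_centralizer_iff.mp hgU u hu]; group
  have key : ∀ n : ℕ, g ^ n * a * (g ^ n)⁻¹ = u ^ n * a := by
    intro n
    induction n with
    | zero => simp
    | succ n ih =>
      have h1 : g * a * g⁻¹ = u * a := by rw [hudef, inv_mul_cancel_right]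
      have h2 : g * u ^ n * g⁻¹ = u ^ n := by rw [← conj_pow, hgu]
      calc g ^ (n + 1) * a * (g ^ (n + 1))⁻¹ = g * (g ^ n * a * (g ^ n)⁻¹) * g⁻¹ := by
            rw [pow_succ']; group
        _ = (g * u ^ n * g⁻¹) * (g * a * g⁻¹) := by rw [ih]; group
        _ = u ^ (n + 1) * a := by rw [h2, h1, pow_succ, mul_assoc]
  have h1 := key (orderOf g)
  rw [pow_orderOf_eq_one, one_mul, inv_one, mul_one] at h1
  have h2 : orderOf u ∣ orderOf g := orderOf_dvd_of_pow_eq_one (by simpa using h1.symm)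
  obtain ⟨k, hk⟩ := IsPGroup.iff_orderOf.mp hQ ⟨u, hUQ hu⟩
  rw [Subgroup.orderOf_mk] at hk
  have h3 : u = 1 := orderOf_eq_one_iff.mp
    (Nat.eq_one_of_dvd_coprimes (hgc.pow_right k) h2 hk.dvd)
  have h4 : g * a * g⁻¹ = a := mul_inv_eq_one.mp (hudef ▸ h3)
  exact (mul_inv_eq_iff_eq_mul.mp h4).symm

theorem good_of_conj {Q : Subgroup G} (c : G) (h : Good p (Q.map (MulAut.conj c).toMonoidHom)) :
    Good p Q := by
  intro g hg hgc
  have hg' : c * g * c⁻¹ ∈ normalizer ((Q.map (MulAut.conj c).toMonoidHom : Subgroup G) : Set G) := by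
    rw [← Local.map_conj_normalizer]
    exact ⟨g, hg, rfl⟩
  have ho : orderOf (c * g * c⁻¹) = orderOf g := orderOf_injective (MulAut.conj c).toMonoidHom (MulAut.conj c).injective g
  have hc := h _ hg' (by rwa [ho])
  rw [mem_centralizer_iff] at hc ⊢
  intro a ha
  have := hc (c * a * c⁻¹) ⟨a, ha, rfl⟩
  have h2 := congrArg (fun t => c⁻¹ * t * c) this
  simpa [mul_assoc] using h2

variable (S : Sylow p G) {D : Subgroup G}

theorem conj_mem_closed (hD : IsStronglyClosed D (S : Subgroup G)) {Q : Subgroup G}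
    (hQ : Q ≤ (S : Subgroup G)) {g x : G} (hg : g ∈ normalizer (Q : Set G)) (hx : x ∈ Q ⊓ D) :
    g * x * g⁻¹ ∈ Q ⊓ D := by
  have h1 := (mem_normalizer_iff.mp hg x).mp hx.1
  exact ⟨h1, hD.2 x hx.2 g (hQ h1)⟩

theorem mem_normalizer_inf (hD : IsStronglyClosed D (S : Subgroup G)) {Q : Subgroup G}
    (hQ : Q ≤ (S : Subgroup G)) {g : G} (hg : g ∈ normalizer (Q : Set G)) :
    g ∈ normalizer ((Q ⊓ D : Subgroup G) : Set G) := by
  rw [mem_normalizer_iff]
  intro x
  refine ⟨conj_mem_closed S hD hQ hg, fun h => ?_⟩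
  have := conj_mem_closed S hD hQ (inv_mem hg) h
  simpa [mul_assoc] using this

theorem good_closed_aux (hD : IsStronglyClosed D (S : Subgroup G))
    (h : ∀ U : Subgroup G, U ≤ D → D ⊓ centralizer (U : Set G) ≤ U →
      HasNormalPComplement p ↥(normalizer (U : Set G))) :
    ∀ (n : ℕ) (U : Subgroup G), U ≤ D → Nat.card D ≤ n + Nat.card U → Good p U := by
  intro n
  induction n using Nat.strong_induction_on with
  | _ n ih =>
    intro U0 hU0 hn
    obtain ⟨c, hcS, hidx⟩ := Local.exists_fullyNormalized S U0 (hU0.trans hD.1)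
    refine good_of_conj c ?_
    set U := U0.map (MulAut.conj c).toMonoidHom with hUdef
    have hUD : U ≤ D := by
      rintro x ⟨u, hu, rfl⟩
      exact hD.2 u (hU0 hu) c (hcS ⟨u, hu, rfl⟩)
    have hcard : Nat.card U = Nat.card U0 :=
      Nat.card_congr (U0.equivMapOfInjective _ (MulAut.conj c).injective).toEquiv.symm
    by_cases hC : D ⊓ centralizer (U : Set G) ≤ U
    · exact good_of_npc (S.isPGroup'.to_le (hUD.trans hD.1)) le_normalizer le_rfl (h U hUD hC)
    set U' := U ⊔ D ⊓ centralizer (U : Set G)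
    have hlt : U < U' := lt_of_le_of_ne le_sup_left fun e => hC (le_sup_right.trans e.ge)
    have hU'D : U' ≤ D := sup_le hUD inf_le_left
    have hU' : Good p U' := by
      have h1 := AlperinTame.card_lt_card hlt
      have h2 := Subgroup.card_le_of_le hU'D
      exact ih (Nat.card D - Nat.card U') (by omega) U' hU'D (by omega)
    refine good_of_split (K := centralizer (U : Set G))
      (L := normalizer (U : Set G) ⊓ normalizer (((S : Subgroup G) ⊓ centralizer (U : Set G) : Subgroup G) : Set G))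
      (centralizer_le_normalizer _) ?_ le_rfl (fun g hg _ => hg) ?_ ?_
    · intro g hg
      rw [mem_normalizer_iff]
      have step : ∀ g ∈ normalizer (U : Set G), ∀ x ∈ centralizer (U : Set G),
          g * x * g⁻¹ ∈ centralizer (U : Set G) := by
        intro g hg x hx
        rw [mem_centralizer_iff] at hx ⊢
        intro u hu
        have := hx (g⁻¹ * u * g) (by simpa using (mem_normalizer_iff.mp (inv_mem hg) u).mp hu)
        have h2 := congrArg (fun t => g * t * g⁻¹) this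
        simpa [mul_assoc] using h2
      exact fun x => ⟨step g hg x, fun hx => by simpa [mul_assoc] using step g⁻¹ (inv_mem hg) _ hx⟩
    · rintro g ⟨hg1, hg2⟩ hgc
      have hg3 : g ∈ normalizer (U' : Set G) := by
        have h4 : g ∈ normalizer ((D ⊓ centralizer (U : Set G) : Subgroup G) : Set G) := by
          have := mem_normalizer_inf S hD inf_le_left hg2
          rwa [show (S : Subgroup G) ⊓ centralizer (U : Set G) ⊓ D = D ⊓ centralizer (U : Set G) by
            rw [inf_right_comm, inf_eq_right.mpr hD.1]] at this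
        exact normalizer_inf_normalizer_le_normalizer_sup _ _ (mem_inf.mpr ⟨hg1, h4⟩)
      exact centralizer_le (SetLike.coe_subset_coe.mpr le_sup_left) (hU' g hg3 hgc)
    · intro g hg
      obtain ⟨c', hc', y, hy, hy', e⟩ := frattini_split S (centralizer_le_normalizer _) (by
        intro g hg
        rw [mem_normalizer_iff]
        have step : ∀ g ∈ normalizer (U : Set G), ∀ x ∈ centralizer (U : Set G),
            g * x * g⁻¹ ∈ centralizer (U : Set G) := by
          intro g hg x hx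
          rw [mem_centralizer_iff] at hx ⊢
          intro u hu
          have := hx (g⁻¹ * u * g) (by simpa using (mem_normalizer_iff.mp (inv_mem hg) u).mp hu)
          have h2 := congrArg (fun t => g * t * g⁻¹) this
          simpa [mul_assoc] using h2
        exact fun x => ⟨step g hg x, fun hx => by simpa [mul_assoc] using step g⁻¹ (inv_mem hg) _ hx⟩)
        hidx g hg
      exact ⟨c', hc', y, ⟨hy, hy'⟩, hy, e⟩

/-- The trivial-on-`Q/(Q ⊓ D)` part of the normalizer. -/
def actTriv (D Q : Subgroup G) : Subgroup G where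
  carrier := {g | g ∈ normalizer (Q : Set G) ∧ ∀ a ∈ Q, g * a * g⁻¹ * a⁻¹ ∈ D}
  one_mem' := ⟨one_mem _, fun a _ => by simp⟩
  mul_mem' := by
    rintro g h ⟨hg, hg'⟩ ⟨hh, hh'⟩
    refine ⟨mul_mem hg hh, fun a ha => ?_⟩
    rw [show g * h * a * (g * h)⁻¹ * a⁻¹ = (g * (h * a * h⁻¹) * g⁻¹ * (h * a * h⁻¹)⁻¹) *
      (h * a * h⁻¹ * a⁻¹) by group]
    exact D.mul_mem (hg' _ ((mem_normalizer_iff.mp hh a).mp ha)) (hh' a ha)
  inv_mem' := by
    rintro g ⟨hg, hg'⟩
    refine ⟨inv_mem hg, fun a ha => ?_⟩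
    have := hg' (g⁻¹ * a * g) (by simpa using (mem_normalizer_iff.mp (inv_mem hg) a).mp ha)
    rw [show g⁻¹ * a * g⁻¹⁻¹ * a⁻¹ = (g * (g⁻¹ * a * g) * g⁻¹ * (g⁻¹ * a * g)⁻¹)⁻¹ by group]
    exact D.inv_mem this

theorem actTriv_conj (hD : IsStronglyClosed D (S : Subgroup G)) {Q : Subgroup G}
    (hQ : Q ≤ (S : Subgroup G)) {n g : G} (hn : n ∈ normalizer (Q : Set G))
    (hg : g ∈ actTriv D Q) : n * g * n⁻¹ ∈ actTriv D Q := by
  refine ⟨mul_mem (mul_mem hn hg.1) (inv_mem hn), fun a ha => ?_⟩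
  have ha' : n⁻¹ * a * n ∈ Q := by simpa using (mem_normalizer_iff.mp (inv_mem hn) a).mp ha
  have hm : g * (n⁻¹ * a * n) * g⁻¹ * (n⁻¹ * a * n)⁻¹ ∈ Q ⊓ D :=
    ⟨Q.mul_mem ((mem_normalizer_iff.mp hg.1 _).mp ha') (Q.inv_mem ha'), hg.2 _ ha'⟩
  rw [show n * g * n⁻¹ * a * (n * g * n⁻¹)⁻¹ * a⁻¹ =
    n * (g * (n⁻¹ * a * n) * g⁻¹ * (n⁻¹ * a * n)⁻¹) * n⁻¹ by group]
  exact (conj_mem_closed S hD hQ hn hm).2

theorem good_aux (hD : IsStronglyClosed D (S : Subgroup G))
    (h : ∀ U : Subgroup G, U ≤ D → D ⊓ centralizer (U : Set G) ≤ U →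
      HasNormalPComplement p ↥(normalizer (U : Set G))) :
    ∀ (n : ℕ) (Q : Subgroup G), Q ≤ (S : Subgroup G) →
      Nat.card (S : Subgroup G) ≤ n + Nat.card Q → Good p Q := by
  intro n
  induction n using Nat.strong_induction_on with
  | _ n ih =>
    intro Q0 hQ0 hn
    obtain ⟨c, hQS, hidx⟩ := Local.exists_fullyNormalized S Q0 hQ0
    refine good_of_conj c ?_
    set Q := Q0.map (MulAut.conj c).toMonoidHom with hQdef
    have hcard : Nat.card Q = Nat.card Q0 :=
      Nat.card_congr (Q0.equivMapOfInjective _ (MulAut.conj c).injective).toEquiv.symm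
    have hSD : ∀ s ∈ (S : Subgroup G), s ∈ normalizer (D : Set G) := by
      intro s hs
      rw [mem_normalizer_iff]
      refine fun x => ⟨fun hx => hD.2 x hx s
        ((S : Subgroup G).mul_mem ((S : Subgroup G).mul_mem hs (hD.1 hx)) ((S : Subgroup G).inv_mem hs)),
        fun hx => ?_⟩
      have := hD.2 _ hx s⁻¹ (by
        simpa [mul_assoc] using (S : Subgroup G).mul_mem ((S : Subgroup G).mul_mem
          ((S : Subgroup G).inv_mem hs) (hD.1 hx)) hs)
      simpa [mul_assoc] using this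
    by_cases hDQ : D ≤ Q
    · refine good_of_npc (S.isPGroup'.to_le hQS) (hQS.trans hSD) (fun g hg => ?_)
        (h D le_rfl inf_le_left)
      have := mem_normalizer_inf S hD hQS hg
      rwa [inf_eq_right.mpr hDQ] at this
    set B := actTriv D Q
    set R := (S : Subgroup G) ⊓ B
    set Q' := Q ⊔ R
    have hlt : Q < Q' := by
      refine lt_of_le_of_ne le_sup_left fun e => ?_
      have hQD : Q < Q ⊔ D := lt_of_le_of_ne le_sup_left fun e' => hDQ (le_sup_right.trans e'.ge)
      obtain ⟨w, ⟨hw, hwN⟩, hwQ⟩ := SetLike.exists_of_lt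
        (AlperinTame.inf_normalizer_gt (S.isPGroup'.to_le (sup_le hQS hD.1)) hQD)
      have hw' : w ∈ ((Q ⊔ D : Subgroup G) : Set G) := hw
      rw [coe_mul_of_left_le_normalizer_right Q D (hQS.trans hSD)] at hw'
      obtain ⟨q, hq, d, hd, rfl⟩ := hw'
      have hdN : d ∈ normalizer (Q : Set G) := by
        have := mul_mem (inv_mem (le_normalizer hq)) hwN
        simpa using this
      have hdB : d ∈ B := by
        refine ⟨hdN, fun a ha => ?_⟩
        rw [show d * a * d⁻¹ * a⁻¹ = d * (a * d⁻¹ * a⁻¹) by group]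
        exact D.mul_mem hd ((mem_normalizer_iff.mp (hSD a (hQS ha)) _).mp (D.inv_mem hd))
      exact hwQ (Q.mul_mem hq (e.ge (mem_sup_right (show d ∈ R from mem_inf.mpr ⟨hD.1 hd, hdB⟩))))
    have hQ'S : Q' ≤ (S : Subgroup G) := sup_le hQS inf_le_left
    have hQ' : Good p Q' := by
      have h1 := AlperinTame.card_lt_card hlt
      have h2 := Subgroup.card_le_of_le hQ'S
      exact ih (Nat.card (S : Subgroup G) - Nat.card Q') (by omega) Q' hQ'S (by omega)
    have hBn : normalizer (Q : Set G) ≤ normalizer (B : Set G) := by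
      intro g hg
      rw [mem_normalizer_iff]
      exact fun x => ⟨actTriv_conj S hD hQS hg, fun hx => by
        simpa [mul_assoc] using actTriv_conj S hD hQS (inv_mem hg) hx⟩
    refine good_of_split (K := B)
      (L := normalizer (Q : Set G) ⊓ normalizer (R : Set G)) (fun g hg => hg.1) hBn ?_ ?_ ?_ ?_
    · intro g hg
      refine ⟨centralizer_le_normalizer _ hg, fun a ha => ?_⟩
      rw [← mem_centralizer_iff.mp hg a ha]
      simp
    · intro g hg hgc
      refine stab_trivial (S.isPGroup'.to_le hQS) hgc (inf_le_left : Q ⊓ D ≤ Q) ?_ fun a ha =>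
        ⟨Q.mul_mem ((mem_normalizer_iff.mp hg.1 a).mp ha) (Q.inv_mem ha), hg.2 a ha⟩
      exact good_closed_aux S hD h (Nat.card D) (Q ⊓ D) inf_le_right (Nat.le_add_right _ _) g
        (mem_normalizer_inf S hD hQS hg.1) hgc
    · rintro g ⟨hg1, hg2⟩ hgc
      exact centralizer_le (SetLike.coe_subset_coe.mpr le_sup_left)
        (hQ' g (normalizer_inf_normalizer_le_normalizer_sup Q R (mem_inf.mpr ⟨hg1, hg2⟩)) hgc)
    · intro g hg
      obtain ⟨c', hc', y, hy, hy', e⟩ := frattini_split S (K := B) (M := normalizer (Q : Set G)) (fun x hx => hx.1) hBn hidx g hg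
      exact ⟨c', hc', y, ⟨hy, hy'⟩, hy, e⟩

/-- Frobenius' criterion relative to a strongly closed subgroup. -/
theorem npc_iff (hD : IsStronglyClosed D (S : Subgroup G)) :
    HasNormalPComplement p G ↔ ∀ U : Subgroup G, U ≤ D → D ⊓ centralizer (U : Set G) ≤ U →
      HasNormalPComplement p ↥(normalizer (U : Set G)) := by
  refine ⟨fun hG U _ _ => hasNormalPComplement_subgroup hG _, fun h => ?_⟩
  refine FrobeniusCond.hasNormalPComplement fun Q hQ => ?_
  obtain ⟨P, hP⟩ := hQ.exists_le_sylow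
  obtain ⟨c, rfl⟩ := MulAction.exists_smul_eq G P S
  refine good_of_conj c ?_
  refine good_aux (c • P) hD h (Nat.card ((c • P : Sylow p G) : Subgroup G)) _ ?_ (Nat.le_add_right _ _)
  rintro x ⟨q, hq, rfl⟩
  rw [Sylow.coe_subgroup_smul]
  exact smul_mem_pointwise_smul q (MulAut.conj c) (P : Subgroup G) (hP hq)

end Cfsg.Agent.Solv.ClosedFrob
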