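import Cfsg.Agent.Lib.Perm.NilpotentMaximal
import Cfsg.Agent.Lib.Solv.ClosedFrobenius

/-!
A group with a nilpotent maximal subgroup of class at most two is solvable.
-/

set_option autoImplicit false
set_option linter.style.haveILetI false

namespace Cfsg.Agent.Perm

open Subgroup
open scoped Pointwise commutatorElement

universe u

theorem isSolvable_of_classTwo_coatom_aux : ∀ (n : ℕ) (G : Type u) [Group G] [Finite G],
    Nat.card G ≤ n → ∀ M : Subgroup G, IsCoatom M → Group.IsNilpotent M →
      (∀ a b c : M, ⁅a, b⁆ * c = c * ⁅a, b⁆) → Group.IsSolvable G := by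
  intro n
  induction n with
  | zero => intro G _ _ hn; exact absurd Nat.card_pos (not_lt.mpr hn)
  | succ n ih =>
  intro G _ _ hn M hM hnil h2
  haveI := hnil
  haveI : Fact (Nat.Prime 2) := ⟨Nat.prime_two⟩
  by_cases hX : ∃ X : Subgroup G, X.Normal ∧ X ≠ ⊥ ∧ X ≤ M
  · obtain ⟨X, hXn, hX0, hXM⟩ := hX
    haveI := hXn
    set π := QuotientGroup.mk' X
    have hπ : Function.Surjective π := QuotientGroup.mk'_surjective X
    have hcm : (M.map π).comap π = M := by
      rw [comap_map_eq, QuotientGroup.ker_mk', sup_of_le_left hXM]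
    have hco : IsCoatom (M.map π) := by
      refine ⟨fun h => hM.1 (by rw [← hcm, h, comap_top]), fun B hB => ?_⟩
      have h1 : M < B.comap π := hcm ▸ (comap_lt_comap_of_surjective hπ).mpr hB
      have h3 := congrArg (Subgroup.map π) (hM.2 _ h1)
      rwa [map_comap_eq_self_of_surjective hπ, map_top_of_surjective _ hπ] at h3
    have hnil' : Group.IsNilpotent (M.map π) :=
      Group.nilpotent_of_surjective (π.subgroupMap M) (π.subgroupMap_surjective M)
    have h2' : ∀ a b c : M.map π, ⁅a, b⁆ * c = c * ⁅a, b⁆ := by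
      intro a b c
      obtain ⟨a, rfl⟩ := π.subgroupMap_surjective M a
      obtain ⟨b, rfl⟩ := π.subgroupMap_surjective M b
      obtain ⟨c, rfl⟩ := π.subgroupMap_surjective M c
      rw [← map_commutatorElement, ← map_mul, ← map_mul, h2]
    have hlt : Nat.card (G ⧸ X) < Nat.card G := by
      rw [X.card_eq_card_quotient_mul_card_subgroup]
      exact lt_mul_of_one_lt_right Nat.card_pos (X.one_lt_card_iff_ne_bot.mpr hX0)
    haveI : Group.IsSolvable (G ⧸ X) := ih _ (by omega) _ hco hnil' h2'
    haveI : Group.IsSolvable X := Solv.isSolvable_of_le hXM inferInstance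
    exact Group.isSolvable_of_ker_le_range X.subtype π (by rw [QuotientGroup.ker_mk', range_subtype])
  push Not at hX
  have hnorm : ∀ Y : Subgroup G, Y ≠ ⊥ → Y ≤ M → M ≤ normalizer (Y : Set G) → normalizer (Y : Set G) = M :=
    fun Y h0 hle hN => by
      rcases hN.lt_or_eq with hlt | he
      · exact absurd hle (hX Y (normalizer_eq_top_iff.mp (hM.2 _ hlt)) h0)
      · exact he.symm
  have key : ∀ p : ℕ, p.Prime → p ∣ Nat.card M →
      (Nat.card M).factorization p = (Nat.card G).factorization p ∧ HasNormalPComplement p G := by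
    intro p hpp hd
    haveI := Fact.mk hpp
    obtain ⟨R⟩ : Nonempty (Sylow p M) := inferInstance
    haveI hRn := ((Group.isNilpotent_of_finite_tfae (G := M)).out 0 3 rfl rfl).mp hnil p inferInstance R
    haveI := R.characteristic_of_normal hRn
    set Mp := (R : Subgroup M).map M.subtype with hMp
    have hR0 : (R : Subgroup M) ≠ ⊥ := R.ne_bot_of_dvd_card hd
    have hMp0 : Mp ≠ ⊥ := by rwa [Ne, hMp, map_eq_bot_iff_of_injective _ M.subtype_injective]
    have hMN : M ≤ normalizer (Mp : Set G) := le_normalizer.trans (normalizer_le_map_char M R)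
    have hNMp := hnorm Mp hMp0 (map_subtype_le _) hMN
    have hcard : Nat.card Mp = p ^ (Nat.card M).factorization p := by
      rw [hMp, card_map_of_injective M.subtype_injective]; exact R.card_eq_multiplicity
    have hfac : (Nat.card M).factorization p = (Nat.card G).factorization p := by
      refine le_antisymm ((Nat.factorization_le_iff_dvd Nat.card_pos.ne' Nat.card_pos.ne').mpr
        M.card_subgroup_dvd_card p) ?_
      by_contra hlt
      push Not at hlt
      obtain ⟨K, hK, hle⟩ := Sylow.exists_subgroup_card_pow_succ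
        ((Nat.pow_dvd_pow p hlt).trans (Nat.ordProj_dvd (Nat.card G) p)) hcard
      have hKn : (Mp.subgroupOf K).Normal := by
        refine normal_of_index_eq_minFac_card ?_
        rw [hK, Nat.pow_minFac (Nat.succ_ne_zero _), hpp.minFac_eq]
        have e := (Mp.subgroupOf K).card_mul_index
        rw [Nat.card_congr (subgroupOfEquivOfLe hle).toEquiv, hcard, hK, pow_succ] at e
        exact Nat.eq_of_mul_eq_mul_left (pow_pos hpp.pos _) e
      have hKM : K ≤ M := hNMp ▸ (normal_subgroupOf_iff_le_normalizer hle).mp hKn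
      have := (card_dvd_of_le hKM)
      rw [hK] at this
      exact Nat.pow_succ_factorization_not_dvd Nat.card_pos.ne' hpp this
    refine ⟨hfac, ?_⟩
    let P : Sylow p G := Sylow.ofCard Mp (by rw [hcard, hfac])
    have hP : (P : Subgroup G) = Mp := rfl
    rcases eq_or_ne p 2 with rfl | hp2
    · have hMp2 : IsPGroup 2 Mp := R.isPGroup'.map _
      refine (Solv.ClosedFrob.npc_iff (D := (P : Subgroup G)) P ⟨le_rfl, fun _ _ _ h => h⟩).mpr ?_
      intro U hU hC
      rw [hP] at hU hC
      have hU0 : U ≠ ⊥ := by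
        rintro rfl
        obtain ⟨z, hz⟩ : ∃ z, z ∈ Mp ∧ z ≠ 1 := by
          by_contra! h
          exact hMp0 ((eq_bot_iff_forall _).mpr h)
        exact hz.2 (mem_bot.mp (hC ⟨hz.1, by simp [mem_centralizer_iff]⟩))
      have hUM : U ≤ M := hU.trans (map_subtype_le _)
      have hMU : M ≤ normalizer (U : Set G) := by
        intro m hm
        rw [mem_normalizer_iff]
        have step : ∀ m ∈ M, ∀ u ∈ U, m * u * m⁻¹ ∈ U := by
          intro m hm u hu
          set w := ⁅(⟨m, hm⟩ : M), (⟨u, hUM hu⟩ : M)⁆
          have hwR : (w : G) ∈ Mp := by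
            refine mem_map.mpr ⟨w, ?_, rfl⟩
            obtain ⟨r, hr, hre⟩ := hU hu
            have e : r = ⟨u, hUM hu⟩ := Subtype.ext hre
            subst e
            rw [show w = ((⟨m, hm⟩ : M) * ⟨u, hUM hu⟩ * (⟨m, hm⟩ : M)⁻¹) * (⟨u, hUM hu⟩ : M)⁻¹ from
              commutatorElement_def _ _]
            exact mul_mem (hRn.conj_mem _ hr _) (inv_mem hr)
          have hwU : (w : G) ∈ U := hC ⟨hwR, mem_centralizer_iff.mpr fun v hv =>
            congrArg Subtype.val (h2 ⟨m, hm⟩ ⟨u, hUM hu⟩ ⟨v, hUM hv⟩).symm⟩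
          have := U.mul_mem hwU hu
          simpa [w, commutatorElement_def] using this
        exact fun u => ⟨step m hm u, fun h => by simpa [mul_assoc] using step m⁻¹ (inv_mem hm) _ h⟩
      rw [hnorm U hU0 hUM hMU]
      exact hasNormalPComplement_of_isNilpotent 2 hnil
    · set J := thompsonSubgroup p R with hJ
      haveI : J.Characteristic := Solv.thompson_characteristic
      haveI : Nontrivial (R : Subgroup M) := (nontrivial_iff_ne_bot _).mpr hR0
      obtain ⟨e, hev⟩ : ∃ e : (R : Subgroup M) ≃* Mp, ∀ z, ((e z : Mp) : G) = ((z : M) : G) :=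
        ⟨(R : Subgroup M).equivMapOfInjective M.subtype M.subtype_injective, fun _ => rfl⟩
      have hnilM : HasNormalPComplement p M := hasNormalPComplement_of_isNilpotent p hnil
      have hsubset : ∀ Y : Subgroup Mp, Y.Characteristic → Y ≠ ⊥ →
          HasNormalPComplement p (normalizer ((Y.map Mp.subtype : Subgroup G) : Set G)) := by
        intro Y hY h0
        rw [hnorm _ (by rwa [Ne, map_eq_bot_iff_of_injective _ Mp.subtype_injective])
          ((map_subtype_le _).trans (map_subtype_le _)) (hMN.trans (normalizer_le_map_char Mp Y))]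
        exact hnilM
      haveI : Nontrivial Mp := (nontrivial_iff_ne_bot Mp).mpr hMp0
      have hMpp : IsPGroup p Mp := R.isPGroup'.map _
      refine Solv.thompson_complement hp2 P
        (hsubset (thompsonSubgroup p Mp) Solv.thompson_characteristic (Solv.thompson_ne_bot ?_)) ?_
      · rw [hcard]
        exact dvd_pow_self p (hpp.factorization_pos_of_dvd Nat.card_pos.ne' hd).ne'
      · have hz : (P : Subgroup G) ⊓ centralizer ((P : Subgroup G) : Set G) = (center Mp).map Mp.subtype := by
          rw [hP]
          ext z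
          constructor
          · rintro ⟨h1, h3⟩
            exact ⟨⟨z, h1⟩, mem_center_iff.mpr fun g => Subtype.ext (mem_centralizer_iff.mp h3 g g.2), rfl⟩
          · rintro ⟨w, hw, rfl⟩
            exact ⟨w.2, mem_centralizer_iff.mpr fun g hg => congrArg Subtype.val (mem_center_iff.mp hw ⟨g, hg⟩)⟩
        rw [hz]
        exact Solv.hasNormalPComplement_of_le (centralizer_le_normalizer _)
          (hsubset _ inferInstance (hMpp.bot_lt_center).ne')
  set s := (Nat.card M).primeFactors
  let K : Subgroup G := ⨅ p : s, pPrimeCore (p : ℕ) G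
  haveI hKn : K.Normal := Subgroup.normal_iInf_normal fun p => by
    haveI := Fact.mk (Nat.prime_of_mem_primeFactors p.2)
    haveI := Solv.pPrimeCore_characteristic (p : ℕ) G
    infer_instance
  have hcop : (Nat.card M).Coprime (Nat.card K) := Nat.coprime_of_dvd fun p hpp hd hdK => by
    haveI := Fact.mk hpp
    have hps : p ∈ s := Nat.mem_primeFactors.mpr ⟨hpp, hd, Nat.card_pos.ne'⟩
    have h3 : p ∣ Nat.card (pPrimeCore p G) :=
      hdK.trans (card_dvd_of_le (iInf_le (fun q : s => pPrimeCore (q : ℕ) G) ⟨p, hps⟩))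
    exact hpp.one_lt.ne' (Nat.Coprime.eq_one_of_dvd (Solv.card_pPrimeCore_coprime p G).symm h3)
  have hKM : ¬ K ≤ M := fun hle => by
    have hK0 : K = ⊥ := card_eq_one.mp (Nat.eq_one_of_dvd_coprimes hcop (card_dvd_of_le hle) dvd_rfl)
    refine hM.1 (eq_top_of_le_card M ?_)
    calc Nat.card G = K.index := by rw [hK0, index_bot]
      _ ≤ ∏ p : s, (pPrimeCore (p : ℕ) G).index := index_iInf_le _
      _ = ∏ p : s, (p : ℕ) ^ (Nat.card M).factorization p := Finset.prod_congr rfl fun p _ => by
          obtain ⟨hpp, hd, -⟩ := Nat.mem_primeFactors.mp p.2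
          haveI := Fact.mk hpp
          obtain ⟨hf, hc⟩ := key p hpp hd
          obtain ⟨R⟩ : Nonempty (Sylow (p : ℕ) G) := inferInstance
          rw [(Solv.isComplement'_pPrimeCore hc R).symm.index_eq_card, hf]
          exact R.card_eq_multiplicity
      _ = Nat.card M := by
          rw [Finset.prod_coe_sort s (fun p => p ^ (Nat.card M).factorization p),
            ← Nat.prod_factorization_eq_prod_primeFactors (fun p e => p ^ e)]
          exact Nat.prod_factorization_pow_eq_self Nat.card_pos.ne'
  obtain ⟨q, hq, hqd⟩ := Nat.exists_prime_and_dvd (show Nat.card K ≠ 1 from fun h => hKM (by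
    rw [card_eq_one.mp h]; exact bot_le))
  haveI := Fact.mk hq
  obtain ⟨Q, hQ⟩ := Solv.exists_invariant_sylow M K (by rw [normalizer_eq_top]; exact le_top) hcop
    (Or.inl inferInstance) q
  set Q' := (Q : Subgroup K).map K.subtype with hQ'
  have hQM : ¬ Q' ≤ M := fun hle => by
    have h1 : Nat.card Q' = 1 := Nat.eq_one_of_dvd_coprimes hcop (card_dvd_of_le hle) (card_dvd_of_le (map_subtype_le _))
    rw [hQ', card_map_of_injective K.subtype_injective, card_eq_one] at h1
    exact Q.ne_bot_of_dvd_card hqd h1
  have htop : M ⊔ Q' = ⊤ := hM.2 _ (lt_of_le_of_ne le_sup_left fun h => hQM (h ▸ le_sup_right))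
  haveI : Q'.Normal := normalizer_eq_top_iff.mp (top_le_iff.mp (htop ▸ sup_le hQ le_normalizer))
  haveI : Group.IsSolvable Q' := by
    haveI := (Q.isPGroup'.map K.subtype).isNilpotent
    infer_instance
  haveI : Group.IsSolvable (G ⧸ Q') := by
    refine Group.isSolvable_of_surjective (f := (QuotientGroup.mk' Q').comp M.subtype) ?_
    rw [← MonoidHom.range_eq_top, MonoidHom.range_eq_map, ← map_map, ← MonoidHom.range_eq_map, range_subtype]
    have := map_top_of_surjective _ (QuotientGroup.mk'_surjective Q')
    rwa [← htop, Subgroup.map_sup, (map_eq_bot_iff Q').mpr (QuotientGroup.ker_mk' Q').ge, sup_bot_eq] at this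
  exact Group.isSolvable_of_ker_le_range Q'.subtype (QuotientGroup.mk' Q') (by rw [QuotientGroup.ker_mk', range_subtype])

end Cfsg.Agent.Perm
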