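import Cfsg.Agent.Lib.Solv.QdFree

/-!
`Qd(p)` and `p`-stability in the normalizer form.
-/

set_option autoImplicit false
set_option linter.unusedSectionVars false

universe u v

namespace Cfsg.Agent.Solv.Quad

open Subgroup Local
open scoped commutatorElement

variable {p : ℕ} [Fact p.Prime]

theorem mem_pCore_quot_congr {X : Type v} [Group X] {C C' : Subgroup X} [C.Normal] [C'.Normal]
    (h : C = C') {a : X} (ha : (QuotientGroup.mk a : X ⧸ C) ∈ pCore p (X ⧸ C)) :
    (QuotientGroup.mk a : X ⧸ C') ∈ pCore p (X ⧸ C') := by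
  subst h; exact ha

theorem subgroupOf_centralizer_eq {X : Type v} [Group X] (P : Subgroup X) :
    centralizer (P.subgroupOf (normalizer (P : Set X)) : Set (normalizer (P : Set X))) =
      (centralizer (P : Set X)).subgroupOf (normalizer (P : Set X)) := by
  ext x
  simp only [mem_subgroupOf, mem_centralizer_iff, SetLike.mem_coe]
  constructor
  · intro h v hv
    exact congrArg Subtype.val (h ⟨v, le_normalizer hv⟩ hv)
  · intro h v hv
    exact Subtype.ext (h v hv)

/-- Groups without `Qd(p)` are `p`-stable in the normalizer form. -/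
theorem isNormalizerPStable_of_qdFree {X : Type v} [Group X] [Finite X] (hp2 : p ≠ 2)
    (hfree : ¬ Involves ↥(qd p) X) : IsNormalizerPStable p X := by
  intro P hP g hg hq
  set N := normalizer (P : Set X) with hN
  haveI : (P.subgroupOf N).Normal := normal_in_normalizer
  refine mem_pCore_quot_congr (subgroupOf_centralizer_eq P) ?_
  refine isPStableOn_of_qdFree hp2 (fun h => hfree (involves_of_subgroup h)) _
    (hP.of_equiv (subgroupOfEquivOfLe le_normalizer).symm) ⟨g, hg⟩ ?_
  apply map_injective N.subtype_injective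
  rw [map_commutator, map_commutator, MonoidHom.map_zpowers, map_subgroupOf_eq_of_le le_normalizer,
    Subgroup.map_bot]
  exact hq

theorem involves_of_section {G : Type v} [Group G] {K R : Subgroup G} [(R.subgroupOf K).Normal]
    (h : Involves ↥(qd p) (K ⧸ R.subgroupOf K)) : Involves ↥(qd p) G :=
  involves_of_subgroup (involves_of_surjective (QuotientGroup.mk' (R.subgroupOf K))
    (QuotientGroup.mk'_surjective _) h)

/-- The standard transvection of `Qd(p)`. -/
def qdT : qd p := qdElt 1 1 0 1 0 0 (by ring)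

/-- The Weyl element of `Qd(p)`. -/
def qdW : qd p := qdElt 0 1 (-1) 0 0 0 (by ring)

theorem qdT_pow (n : ℕ) : (qdT (p := p)) ^ n = qdElt 1 (n : ZMod p) 0 1 0 0 (by ring) := by
  induction n with
  | zero =>
    rw [pow_zero]
    exact qdElt_one.symm.trans (qdElt_congr _ _ rfl (by simp) rfl rfl rfl rfl)
  | succ n ih =>
    rw [pow_succ, ih, qdT, qdElt_mul]
    exact qdElt_congr _ _ (by ring) (by push_cast; ring) (by ring) (by ring) (by ring) (by ring)

theorem quad_qdT {q : qd p} (hq : q ∈ transGroup (p := p)) (n : ℕ) :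
    Commute (qdT (p := p)) (q * qdT ^ n * q⁻¹ * (qdT ^ n)⁻¹) := by
  obtain ⟨r, s, rfl⟩ := hq
  have h : Local.trans r s * qdT ^ n * (Local.trans r s)⁻¹ * (qdT ^ n)⁻¹ = Local.trans (-((n : ZMod p) * s)) 0 := by
    rw [mul_inv_eq_iff_eq_mul, mul_inv_eq_iff_eq_mul, qdT_pow, Local.trans, Local.trans, qdElt_mul, qdElt_mul,
      qdElt_mul]
    exact qdElt_congr _ _ (by ring) (by ring) (by ring) (by ring) (by ring) (by ring)
  rw [h, commute_iff_eq, qdT, Local.trans, qdElt_mul, qdElt_mul]
  exact qdElt_congr _ _ (by ring) (by ring) (by ring) (by ring) (by ring) (by ring)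

theorem not_commute_trans (hp2 : p ≠ 2) (k : ℕ) :
    ¬ ∀ q ∈ transGroup (p := p), Commute ((qdT * (qdW * qdT * qdW⁻¹)) ^ p ^ k) q := by
  intro h
  have hx : qdT * (qdW * qdT * qdW⁻¹) = qdElt (0 : ZMod p) 1 (-1) 1 0 0 (by ring) := by
    have h1 : (qdW (p := p)) * qdT * qdW⁻¹ = qdElt 1 0 (-1) 1 0 0 (by ring) := by
      rw [mul_inv_eq_iff_eq_mul, qdW, qdT, qdElt_mul, qdElt_mul]
      exact qdElt_congr _ _ (by ring) (by ring) (by ring) (by ring) (by ring) (by ring)
    rw [h1, qdT, qdElt_mul]
    exact qdElt_congr _ _ (by ring) (by ring) (by ring) (by ring) (by ring) (by ring)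
  set x : qd p := qdT * (qdW * qdT * qdW⁻¹) with hxdef
  set z : qd p := qdElt (-1) 0 0 (-1) 0 0 (by ring) with hz
  have hx3 : x ^ 3 = z := by
    rw [hx, pow_succ, pow_two, qdElt_mul, qdElt_mul, hz]
    exact qdElt_congr _ _ (by ring) (by ring) (by ring) (by ring) (by ring) (by ring)
  have hz2 : z ^ 2 = 1 := by
    rw [pow_two, hz, qdElt_mul]
    exact (qdElt_congr _ _ (by ring) (by ring) (by ring) (by ring) (by ring) (by ring)).trans qdElt_one
  have hzp : (x ^ p ^ k) ^ 3 = z := by
    rw [← pow_mul, mul_comm, pow_mul, hx3]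
    obtain ⟨j, hj⟩ := ((Fact.out : p.Prime).odd_of_ne_two hp2).pow (n := k)
    rw [hj, pow_succ, pow_mul, hz2, one_pow, one_mul]
  have hc := (h (Local.trans 1 0) ⟨1, 0, rfl⟩).pow_left 3
  rw [hzp, commute_iff_eq, hz, Local.trans, qdElt_mul, qdElt_mul] at hc
  have h2 := congrArg (fun q : qd p => ((q : Matrix.SpecialLinearGroup (Fin 3) (ZMod p)) :
    Matrix (Fin 3) (Fin 3) (ZMod p)) 0 2) hc
  simp [qdElt, affMat] at h2
  have h20 : (2 : ZMod p) = 0 := by linear_combination -h2
  exact Dickson.two_ne (F := ZMod p) hp2 h20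

/-- A group isomorphic to `Qd(p)` is not `p`-stable in the normalizer form. -/
theorem not_isNormalizerPStable_qd {X : Type v} [Group X] [Finite X] (hp2 : p ≠ 2)
    (e : X ≃* qd p) : ¬ IsNormalizerPStable p X := by
  intro hst
  set P : Subgroup X := (transGroup (p := p)).comap e.toMonoidHom with hP
  haveI := transGroup_normal (p := p)
  haveI : P.Normal := inferInstance
  have hPp : IsPGroup p P := by
    intro x
    obtain ⟨r, s, hrs⟩ := x.2
    refine ⟨1, Subtype.ext (e.injective ?_)⟩
    rw [SubgroupClass.coe_pow, map_pow, OneMemClass.coe_one, map_one, pow_one]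
    change (e.toMonoidHom (x : X)) ^ p = 1
    rw [hrs, trans_pow, ZMod.natCast_self, zero_mul, zero_mul]
    exact (qdElt_congr _ _ rfl rfl rfl rfl rfl rfl).trans qdElt_one
  have hN : normalizer (P : Set X) = ⊤ := normalizer_eq_top_iff.mpr inferInstance
  set g := e.symm qdT with hg
  set w := e.symm qdW with hw
  have hgN : g ∈ normalizer (P : Set X) := hN ▸ mem_top g
  have hwN : w ∈ normalizer (P : Set X) := hN ▸ mem_top w
  have hq : ⁅⁅P, zpowers g⁆, zpowers g⁆ = ⊥ := by
    rw [commutator_eq_bot_iff_le_centralizer, commutator_le]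
    intro a ha b hb
    obtain ⟨n, rfl⟩ := mem_powers_iff_mem_zpowers.mpr hb
    rw [mem_centralizer_iff]
    rintro y hy
    obtain ⟨i, rfl⟩ := mem_zpowers_iff.mp hy
    apply e.injective
    have h := (quad_qdT (q := e a) ha n).zpow_left i
    simp only [commutatorElement_def, map_mul, map_inv, map_pow, map_zpow, hg,
      MulEquiv.apply_symm_apply]
    exact h.eq
  have h1 := hst P hPp g hgN hq
  set C := (centralizer (P : Set X)).subgroupOf (normalizer (P : Set X)) with hC
  set gg : normalizer (P : Set X) := ⟨g, hgN⟩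
  set ww : normalizer (P : Set X) := ⟨w, hwN⟩
  have h2 : (QuotientGroup.mk (gg * (ww * gg * ww⁻¹)) : _ ⧸ C) ∈ pCore p (_ ⧸ C) :=
    (pCore p (_ ⧸ C)).mul_mem h1 ((inferInstance : (pCore p (_ ⧸ C)).Normal).conj_mem _ h1 (QuotientGroup.mk ww))
  obtain ⟨k, hk⟩ := isPGroup_pCore p _ ⟨_, h2⟩
  have h3 : (gg * (ww * gg * ww⁻¹)) ^ p ^ k ∈ C := by
    rw [← QuotientGroup.eq_one_iff, QuotientGroup.mk_pow]
    exact congrArg Subtype.val hk
  rw [hC, mem_subgroupOf, mem_centralizer_iff] at h3
  refine not_commute_trans (p := p) hp2 k fun q hq' => ?_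
  have h4 := congrArg e (h3 (e.symm q) (by
    change e (e.symm q) ∈ transGroup (p := p)
    rwa [MulEquiv.apply_symm_apply]))
  simp only [SubgroupClass.coe_pow, Subgroup.coe_mul, Subgroup.coe_inv, gg, ww, map_mul, map_inv, map_pow, hg, hw,
    MulEquiv.apply_symm_apply] at h4
  exact h4.symm

end Cfsg.Agent.Solv.Quad
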