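import Cfsg.Agent.Lib.Fusion.ZJStrong
import Cfsg.Agent.Lib.Local.FusionReduction
import Cfsg.Agent.Lib.Local.PGroup
import Cfsg.Agent.Lib.Solv.QdStable
import Cfsg.Agent.Lib.Solv.ZJApps
import Cfsg.Agent.Lib.Local.AmalgamBasics

/-!
Control of strong fusion by the Thompson centre of a strongly closed subgroup.
-/

set_option autoImplicit false
set_option linter.style.haveILetI false
set_option linter.unusedSectionVars false

universe u

namespace Cfsg.Agent.Solv.ClosedFusion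

open Subgroup
open scoped Pointwise

variable {G : Type u} [Group G] [Finite G] {p : ℕ} [Fact p.Prime] {e : ℕ}

/-- Fusion inside `P` is induced by the normalizer of the Thompson centre of `D`. -/
def Ctl (e : ℕ) (P D : Subgroup G) : Prop :=
  ∀ A : Subgroup G, A ≤ P → ∀ g : G, (∀ a ∈ A, g * a * g⁻¹ ∈ P) →
    ∃ m ∈ normalizer (ZJ.zj e D : Set G), ∀ a ∈ A, m * a * m⁻¹ = g * a * g⁻¹

theorem Ctl.controls {P D : Subgroup G} (h : Ctl e P D) {A : Set G} (hA : A ⊆ P) :
    ControlsStrongFusionOf (normalizer (ZJ.zj e D : Set G)) P A := by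
  refine ⟨hA, fun g hg => ?_⟩
  have hle : closure A ≤ P := (closure_le _).2 hA
  obtain ⟨m, hm, hme⟩ := h (closure A) hle g fun a ha => by
    have : closure A ≤ P.comap (MulAut.conj g).toMonoidHom :=
      (closure_le _).2 fun x hx => hg ⟨x, hx, rfl⟩
    exact this ha
  exact ⟨m, hm, fun a ha => (hme a (subset_closure ha)).symm⟩

theorem ctl_of_normal (P D : Subgroup G) (h : (ZJ.zj e D).Normal) : Ctl e P D := fun A _ g _ =>
  ⟨g, by haveI := h; rw [normalizer_eq_top]; trivial, fun _ _ => rfl⟩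

theorem zj_normal_of_le_normal (P : Sylow p G) {D : Subgroup G} (hD : IsStronglyClosed D (P : Subgroup G))
    (Q : Subgroup G) [Q.Normal] (hQP : Q ≤ (P : Subgroup G)) (hDQ : D ≤ Q) : (ZJ.zj e D).Normal := by
  have hDn : D.Normal := ⟨fun x hx g => hD.2 x hx g (hQP (‹Q.Normal›.conj_mem x (hDQ hx) g))⟩
  rw [← normalizer_eq_top_iff, eq_top_iff]
  exact le_trans (by haveI := hDn; rw [normalizer_eq_top]) (ZJ.normalizer_le_zj D)

theorem le_normalizer_zj_closed (P : Sylow p G) {D : Subgroup G} (hD : IsStronglyClosed D (P : Subgroup G)) :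
    (P : Subgroup G) ≤ normalizer (ZJ.zj e D : Set G) :=
  (ZJ.le_normalizer_closed P hD).trans (ZJ.normalizer_le_zj D)

/-- The control inside a subgroup. -/
theorem ctl_in (H R D : Subgroup G) (hRH : R ≤ H) (hDR : D ≤ R) (h : Ctl e (R.subgroupOf H) (D.subgroupOf H))
    (A : Subgroup G) (hA : A ≤ R) {g : G} (hg : g ∈ H) (hgA : ∀ a ∈ A, g * a * g⁻¹ ∈ R) :
    ∃ m ∈ H ⊓ normalizer (ZJ.zj e D : Set G), ∀ a ∈ A, m * a * m⁻¹ = g * a * g⁻¹ := by
  obtain ⟨m, hm, he⟩ := h (A.subgroupOf H) (fun a ha => hA ha) ⟨g, hg⟩ fun a ha => hgA (a : G) ha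
  have hmap : (ZJ.zj e (D.subgroupOf H)).map H.subtype = ZJ.zj e D := by
    rw [← ZJ.zj_map H.subtype H.subtype_injective, map_subgroupOf_eq_of_le (hDR.trans hRH)]
  refine ⟨(m : G), ⟨m.2, ?_⟩, fun a ha => congrArg Subtype.val (he ⟨a, hRH (hA ha)⟩ ha)⟩
  rw [← hmap]
  exact le_normalizer_map H.subtype ⟨m, hm, rfl⟩

theorem closed_inf (P : Sylow p G) {D : Subgroup G} (hD : IsStronglyClosed D (P : Subgroup G)) (H : Subgroup G) :
    IsStronglyClosed ((D ⊓ H).subgroupOf H) (((P : Subgroup G) ⊓ H).subgroupOf H) :=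
  ⟨fun _ hx => ⟨hD.1 hx.1, hx.2⟩, fun x hx g hg => ⟨hD.2 (x : G) hx.1 (g : G) hg.1, (g * x * g⁻¹).2⟩⟩

/-- The image of a strongly closed subgroup modulo a normal subgroup. -/
theorem closed_map (P : Sylow p G) {D : Subgroup G} (hD : IsStronglyClosed D (P : Subgroup G)) {Q : Type u}
    [Group Q] (π : G →* Q) (hπ : Function.Surjective π) :
    IsStronglyClosed (D.map π) ((P : Subgroup G).map π) := by
  refine ⟨map_mono hD.1, ?_⟩
  rintro _ ⟨x, hx, rfl⟩ y
  obtain ⟨g, rfl⟩ := hπ y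
  intro hy
  have hy' : g * x * g⁻¹ ∈ (P : Subgroup G) ⊔ π.ker := by
    rw [← comap_map_eq, mem_comap, map_mul, map_mul, map_inv]
    exact hy
  have hup : IsPGroup p (zpowers (g * x * g⁻¹)) := by
    refine ((P.isPGroup'.to_le (zpowers_le.mpr (hD.1 hx))).map (MulAut.conj g).toMonoidHom).to_le ?_
    rw [zpowers_le]
    exact ⟨x, mem_zpowers x, rfl⟩
  obtain ⟨l, hl, hlu⟩ := Local.exists_conj_le_of_not_dvd_relIndex (le_sup_left : (P : Subgroup G) ≤ (P : Subgroup G) ⊔ π.ker)
    P.isPGroup' (fun h => P.not_dvd_index (h.trans (relIndex_dvd_index_of_le le_sup_left))) (zpowers_le.mpr hy') hup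
  obtain ⟨s, hs, k, hk, rfl⟩ := mem_sup_of_normal_right.1 hl
  have h1 := mul_mem (mul_mem (inv_mem hs) (hlu _ (mem_zpowers _))) hs
  have h2 : k * g * x * (k * g)⁻¹ ∈ (P : Subgroup G) := by simpa [mul_assoc] using h1
  refine ⟨_, hD.2 x hx (k * g) h2, ?_⟩
  rw [map_mul, map_mul, map_inv, map_mul, MonoidHom.mem_ker.mp hk, one_mul]

/-- The part of a `p`-subgroup fusing into `D`. -/
def dt (D T : Subgroup G) : Subgroup G := closure {x | x ∈ T ∧ ∃ k : G, k * x * k⁻¹ ∈ D}

/-- The functor attached to `D`. -/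
noncomputable def wd (e : ℕ) (D : Subgroup G) (T : Subgroup G) : Subgroup G :=
  @ite _ (dt D T = ⊥) (Classical.propDecidable _) T (ZJ.zj e (dt D T))

theorem dt_le (D T : Subgroup G) : dt D T ≤ T := (closure_le _).2 fun _ h => h.1

theorem dt_eq (P : Sylow p G) {D : Subgroup G} (hD : IsStronglyClosed D (P : Subgroup G)) {T : Subgroup G}
    (hT : T ≤ (P : Subgroup G)) : dt D T = D ⊓ T := by
  refine le_antisymm ((closure_le _).2 ?_) fun x hx => subset_closure ⟨hx.2, 1, by simpa using hx.1⟩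
  rintro x ⟨hxT, k, hk⟩
  refine ⟨?_, hxT⟩
  have h := hD.2 _ hk k⁻¹ (by simpa [mul_assoc] using hT hxT)
  simpa [mul_assoc] using h

theorem dt_map (D T : Subgroup G) (g : G) :
    dt D (T.map (MulAut.conj g).toMonoidHom) = (dt D T).map (MulAut.conj g).toMonoidHom := by
  rw [dt, dt, MonoidHom.map_closure]
  congr 1
  ext x
  constructor
  · rintro ⟨⟨t, ht, rfl⟩, k, hk⟩
    exact ⟨t, ⟨ht, k * g, by simpa [mul_assoc] using hk⟩, rfl⟩
  · rintro ⟨t, ⟨ht, k, hk⟩, rfl⟩
    exact ⟨⟨t, ht, rfl⟩, k * g⁻¹, by simpa [mul_assoc] using hk⟩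

theorem isConjugacyFunctor_wd (he : p ∣ e) (D : Subgroup G) : IsConjugacyFunctor p (wd e D) := by
  intro T hT
  refine ⟨?_, fun h0 => ?_, fun g => ?_⟩
  · unfold wd
    split_ifs
    · exact le_rfl
    · exact (ZJ.zj_le _ _).trans (dt_le D T)
  · unfold wd
    split_ifs with h
    · exact h0
    · exact ZJ.zj_ne_bot_aux (hT.to_le (dt_le D T)) he h
  · unfold wd
    rw [dt_map]
    by_cases h : dt D T = ⊥
    · rw [if_pos h, if_pos (by rw [h, Subgroup.map_bot])]
    · rw [if_neg h, if_neg fun h' => h ((map_eq_bot_iff_of_injective _ (MulAut.conj g).injective).1 h')]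
      exact ZJ.zj_map _ (MulAut.conj g).injective _

theorem inf_normalizer_ne_bot (P : Sylow p G) {D : Subgroup G} (hD : IsStronglyClosed D (P : Subgroup G))
    (hD0 : D ≠ ⊥) {T : Subgroup G} (hT : T ≤ (P : Subgroup G)) :
    D ⊓ ((P : Subgroup G) ⊓ normalizer (T : Set G)) ≠ ⊥ := by
  haveI : (D.subgroupOf (P : Subgroup G)).Normal :=
    (normal_subgroupOf_iff_le_normalizer hD.1).2 (ZJ.le_normalizer_closed P hD)
  have h1 := Local.inf_center_ne_bot P.isPGroup' (D.subgroupOf (P : Subgroup G))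
    (fun h => hD0 (by rwa [subgroupOf_eq_bot, disjoint_iff, inf_eq_left.2 hD.1] at h))
  intro h
  refine h1 ((Subgroup.eq_bot_iff_forall _).2 fun z hz => Subtype.ext ?_)
  have hz' : (z : G) ∈ D ⊓ ((P : Subgroup G) ⊓ normalizer (T : Set G)) := by
    refine ⟨hz.1, z.2, ?_⟩
    refine centralizer_le_normalizer _ (mem_centralizer_iff.2 fun t ht => ?_)
    exact congrArg Subtype.val (mem_center_iff.1 hz.2 ⟨t, hT ht⟩)
  rwa [h, mem_bot] at hz'

/-- Control in the normalizers of fully normalized subgroups suffices. -/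
theorem ctl_of_locals (he : p ∣ e) (P : Sylow p G) {D : Subgroup G} (hD : IsStronglyClosed D (P : Subgroup G))
    (hD0 : D ≠ ⊥)
    (hloc : ∀ T : Subgroup G, T ≤ (P : Subgroup G) → T ≠ ⊥ →
      ¬ p ∣ ((P : Subgroup G) ⊓ normalizer (T : Set G)).relIndex (normalizer (T : Set G)) →
      Ctl e (((P : Subgroup G) ⊓ normalizer (T : Set G)).subgroupOf (normalizer (T : Set G)))
        ((D ⊓ normalizer (T : Set G)).subgroupOf (normalizer (T : Set G)))) :
    Ctl e (P : Subgroup G) D := by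
  classical
  intro A hA g hg
  have key := Local.reach_of_family P {wd e D} (fun W hW => by
      rw [Set.mem_singleton_iff] at hW; subst hW; exact isConjugacyFunctor_wd he D)
    (fun T => ¬ p ∣ ((P : Subgroup G) ⊓ normalizer (T : Set G)).relIndex (normalizer (T : Set G))) ?_ ?_ A hA g hg
  · obtain ⟨x, hx, hxe⟩ := key.exists_single
    rw [wd, dt_eq P hD le_rfl, inf_eq_left.2 hD.1, if_neg hD0] at hx
    exact ⟨x, hx, hxe⟩
  · intro T hT _
    obtain ⟨x, hxT, hidx⟩ := Local.exists_fullyNormalized P T hT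
    set U := T.map (MulAut.conj x).toMonoidHom with hU
    obtain ⟨n, hn, hn'⟩ := Local.exists_conj_le_of_not_dvd_relIndex inf_le_right (P.isPGroup'.to_le inf_le_left) hidx
      ((map_mono (inf_le_right : (P : Subgroup G) ⊓ normalizer (T : Set G) ≤ _)).trans (Local.map_conj_normalizer x T).le)
      ((P.isPGroup'.to_le inf_le_left).map _)
    have hTU : T.map (MulAut.conj (n * x)).toMonoidHom = U := by
      rw [map_mul, show (MulAut.conj n * MulAut.conj x).toMonoidHom = (MulAut.conj n).toMonoidHom.comp (MulAut.conj x).toMonoidHom from rfl,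
        ← map_map, ← hU]
      exact mem_normalizer_iff_map_conj_eq.1 hn
    refine ⟨n * x, fun u hu => ?_, ?_, ?_⟩
    · have := (hn' _ ⟨u, hu, rfl⟩).1
      simpa [mul_assoc] using (show _ ∈ (P : Subgroup G) from this)
    · rw [hTU]; exact hidx
    · rw [hTU]; exact hidx
  · intro T hT hT0 hidx
    set H := normalizer (T : Set G)
    set R := (P : Subgroup G) ⊓ H with hR
    refine ⟨R, inf_le_right, P.isPGroup'.to_le inf_le_left, hidx, fun B h hh hB hhB => ?_⟩
    have hcl := closed_inf P hD H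
    have hle : D ⊓ H ≤ R := inf_le_inf_right H hD.1
    have hBR : closure B ≤ R := (closure_le _).2 hB
    obtain ⟨m, hm, hme⟩ := ctl_in H R (D ⊓ H) inf_le_right hle (hloc T hT hT0 hidx) (closure B) hBR hh fun a ha => by
      have : closure B ≤ R.comap (MulAut.conj h).toMonoidHom :=
        (closure_le _).2 fun x hx => hhB ⟨x, hx, rfl⟩
      exact this ha
    refine ⟨1, ![1, m], rfl, fun i => ⟨_, rfl, ?_⟩, fun i => ?_, fun a ha => hme a (subset_closure ha)⟩
    · fin_cases i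
      have hd : dt D R = D ⊓ H := by
        rw [dt_eq P hD inf_le_left, ← inf_assoc, inf_eq_left.2 hD.1]
      have hne : dt D R ≠ ⊥ := by
        rw [dt_eq P hD inf_le_left]; exact inf_normalizer_ne_bot P hD hD0 hT
      have hW : wd e D R = ZJ.zj e (D ⊓ H) := by rw [wd, if_neg hne, hd]
      simp only [hW]
      simpa using hm
    · fin_cases i
      · simpa using hB
      · rintro _ ⟨a, ha, rfl⟩
        simpa [hme a (subset_closure ha)] using hhB ⟨a, ha, rfl⟩

/-- Reduction modulo a normal `p'`-subgroup. -/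
theorem ctl_of_pPrime (P : Sylow p G) {D : Subgroup G} (hD : IsStronglyClosed D (P : Subgroup G))
    (O : Subgroup G) [O.Normal] (hO : (Nat.card O).Coprime p)
    (h : Ctl e ((P : Subgroup G).map (QuotientGroup.mk' O)) (D.map (QuotientGroup.mk' O))) :
    Ctl e (P : Subgroup G) D := by
  intro A hA g hg
  set π := QuotientGroup.mk' O with hπdef
  have hinj : ∀ x ∈ (P : Subgroup G), π x = 1 → x = 1 := fun x hx hx1 => by
    have hinf : (P : Subgroup G) ⊓ O = ⊥ := inf_eq_bot_of_isPGroup P.isPGroup' hO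
    rw [← mem_bot, ← hinf]
    exact ⟨hx, (QuotientGroup.eq_one_iff x).1 hx1⟩
  let f : (P : Subgroup G) →* G ⧸ O := π.comp (P : Subgroup G).subtype
  have hf : Function.Injective f := by
    rw [injective_iff_map_eq_one]
    exact fun x hx => Subtype.ext (hinj x x.2 hx)
  set Z := ZJ.zj e D with hZdef
  have hmap : ZJ.zj e (D.map π) = Z.map π := by
    have e1 : (D.subgroupOf (P : Subgroup G)).map f = D.map π := by
      rw [← map_map, map_subgroupOf_eq_of_le hD.1]
    rw [← e1, ZJ.zj_map f hf, ← map_map]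
    congr 1
    rw [← ZJ.zj_map _ (P : Subgroup G).subtype_injective, map_subgroupOf_eq_of_le hD.1]
  obtain ⟨mb, hmb, hmbe⟩ := h (A.map π) (map_mono hA) (π g) (by
    rintro _ ⟨a, ha, rfl⟩
    exact ⟨g * a * g⁻¹, hg a ha, by simp⟩)
  rw [hmap] at hmb
  have hZp : IsPGroup p Z := P.isPGroup'.to_le ((ZJ.zj_le _ _).trans hD.1)
  obtain ⟨y, rfl⟩ := QuotientGroup.mk'_surjective O mb
  -- a preimage normalizing `Z`
  have hU : Z.map (MulAut.conj y).toMonoidHom ≤ Z ⊔ O := by
    rintro _ ⟨z, hz, rfl⟩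
    show (MulAut.conj y).toMonoidHom z ∈ Z ⊔ O
    rw [← QuotientGroup.ker_mk' O, ← comap_map_eq, mem_comap]
    have := (mem_normalizer_iff.1 hmb (π z)).1 ⟨z, hz, rfl⟩
    simpa [hπdef] using this
  have hidxZ : ¬ p ∣ Z.relIndex (Z ⊔ O) := by
    have h1 := card_sup_mul_card_inf O Z le_normalizer_of_normal
    have hbot : O ⊓ Z = ⊥ := by
      rw [inf_comm]; exact inf_eq_bot_of_isPGroup hZp hO
    rw [hbot, card_bot, mul_one, sup_comm] at h1
    have h2 := (Z.subgroupOf (Z ⊔ O)).card_mul_index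
    rw [card_subgroupOf le_sup_left, h1, mul_comm (Nat.card O)] at h2
    rw [relIndex, Nat.eq_of_mul_eq_mul_left Nat.card_pos h2]
    exact (Nat.Prime.coprime_iff_not_dvd Fact.out).1 hO.symm
  obtain ⟨l, hl, hl'⟩ := Local.exists_conj_le_of_not_dvd_relIndex le_sup_left hZp hidxZ hU (hZp.map _)
  obtain ⟨w, hw, o, ho, rfl⟩ := mem_sup_of_normal_right.1 hl
  have hn : o * y ∈ normalizer (Z : Set G) := by
    have hle : Z.map (MulAut.conj (o * y)).toMonoidHom ≤ Z := by
      rintro _ ⟨v, hv, rfl⟩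
      have := mul_mem (mul_mem (inv_mem hw) (hl' _ ⟨v, hv, rfl⟩)) hw
      simpa [mul_assoc] using this
    exact mem_normalizer_iff_map_conj_eq.2
      (eq_of_le_of_card_ge hle (card_map_of_injective (MulAut.conj (o * y)).injective).ge)
  have hπo : π o = 1 := (QuotientGroup.eq_one_iff o).2 ho
  set L := normalizer (Z : Set G) ⊓ ((P : Subgroup G) ⊔ O)
  have hPL : (P : Subgroup G) ≤ L := le_inf (le_normalizer_zj_closed P hD) le_sup_left
  have hU2 : A.map (MulAut.conj (o * y)).toMonoidHom ≤ L := by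
    rintro _ ⟨a, ha, rfl⟩
    refine Subgroup.mem_inf.2 ⟨mul_mem (mul_mem hn (le_normalizer_zj_closed P hD (hA ha))) (inv_mem hn), ?_⟩
    rw [← QuotientGroup.ker_mk' O, ← comap_map_eq, mem_comap]
    have h2 : π g * π a * (π g)⁻¹ ∈ (P : Subgroup G).map π := ⟨g * a * g⁻¹, hg a ha, by simp⟩
    rw [← hmbe (π a) (mem_map_of_mem π ha)] at h2
    show π (o * y * a * (o * y)⁻¹) ∈ _
    simp only [map_mul, map_inv, hπo, one_mul]
    exact h2
  obtain ⟨l2, hl2, hl2'⟩ := Local.exists_conj_le_of_not_dvd_relIndex hPL P.isPGroup'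
    (fun hd => P.not_dvd_index (hd.trans (relIndex_dvd_index_of_le hPL))) hU2 ((P.isPGroup'.to_le hA).map _)
  obtain ⟨s, hs, o', ho', rfl⟩ := mem_sup_of_normal_right.1 hl2.2
  have ho'n : o' ∈ normalizer (Z : Set G) := by
    have h3 := mul_mem (inv_mem (le_normalizer_zj_closed (e := e) P hD hs)) hl2.1
    rwa [inv_mul_cancel_left] at h3
  refine ⟨o' * (o * y), mul_mem ho'n hn, fun a ha => ?_⟩
  have hmem : o' * (o * y) * a * (o' * (o * y))⁻¹ ∈ (P : Subgroup G) := by
    have h4 := mul_mem (mul_mem (inv_mem hs) (hl2' _ ⟨a, ha, rfl⟩)) hs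
    simpa [mul_assoc] using h4
  refine mul_inv_eq_one.1 (hinj _ (mul_mem hmem (inv_mem (hg a ha))) ?_)
  have hπo' : π o' = 1 := (QuotientGroup.eq_one_iff o').2 ho'
  simp only [map_mul, map_inv, hπo, hπo', one_mul, mul_inv_cancel_right]
  rw [hmbe (π a) (mem_map_of_mem π ha), mul_inv_cancel]

/-- Two overgroups of the Sylow subgroup. -/
theorem ctl_of_split (P : Sylow p G) {D : Subgroup G} (hD : IsStronglyClosed D (P : Subgroup G))
    {H₁ H₂ : Subgroup G} (h₁ : (P : Subgroup G) ≤ H₁) (h₂ : (P : Subgroup G) ≤ H₂)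
    (hG : ∀ g : G, ∃ a ∈ H₁, ∃ b ∈ H₂, g = a * b)
    (c₁ : Ctl e ((P : Subgroup G).subgroupOf H₁) (D.subgroupOf H₁))
    (c₂ : Ctl e ((P : Subgroup G).subgroupOf H₂) (D.subgroupOf H₂)) : Ctl e (P : Subgroup G) D := by
  intro A hA g hg
  obtain ⟨a, ha, b, hb, rfl⟩ := hG g
  obtain ⟨m, hm, hmA⟩ := Local.FusionRed.exists_split P h₁ h₂ ha hb (A := (A : Set G)) hA
    (by rintro _ ⟨x, hx, rfl⟩; exact hg x hx)
  have hA1 : A.map (MulAut.conj (m * b)).toMonoidHom ≤ (P : Subgroup G) := by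
    rintro _ ⟨x, hx, rfl⟩; exact hmA ⟨x, hx, rfl⟩
  obtain ⟨n₂, hn₂, he₂⟩ := ctl_in H₂ _ D h₂ hD.1 c₂ A hA (mul_mem hm.2 hb) fun x hx => hmA ⟨x, hx, rfl⟩
  obtain ⟨n₁, hn₁, he₁⟩ := ctl_in H₁ _ D h₁ hD.1 c₁ _ hA1 (mul_mem ha (inv_mem hm.1)) (by
    rintro _ ⟨x, hx, rfl⟩
    simpa [mul_assoc] using hg x hx)
  refine ⟨n₁ * n₂, mul_mem hn₁.2 hn₂.2, fun x hx => ?_⟩
  have h4 := he₁ _ ⟨x, hx, rfl⟩
  calc n₁ * n₂ * x * (n₁ * n₂)⁻¹ = n₁ * (n₂ * x * n₂⁻¹) * n₁⁻¹ := by group
    _ = n₁ * (m * b * x * (m * b)⁻¹) * n₁⁻¹ := by rw [he₂ x hx]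
    _ = a * m⁻¹ * (m * b * x * (m * b)⁻¹) * (a * m⁻¹)⁻¹ := h4
    _ = a * b * x * (a * b)⁻¹ := by group

/-- Reduction modulo the `p`-core on which the fusion is by `p`-elements. -/
theorem ctl_of_pCore (he : p ∣ e) (P : Sylow p G) {D : Subgroup G} (hD : IsStronglyClosed D (P : Subgroup G))
    (hC : centralizer (pCore p G : Set G) ⊔ (P : Subgroup G) = ⊤) (hDQ : ¬ D ≤ pCore p G)
    (hind : ∀ H : Subgroup G, (P : Subgroup G) ≤ H → H ≠ ⊤ →
      Ctl e ((P : Subgroup G).subgroupOf H) (D.subgroupOf H))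
    (hquot : Ctl e ((P : Subgroup G).map (QuotientGroup.mk' (pCore p G)))
      (D.map (QuotientGroup.mk' (pCore p G)))) :
    Ctl e (P : Subgroup G) D := by
  classical
  set Q := pCore p G with hQdef
  set π := QuotientGroup.mk' Q with hπdef
  have hQP : Q ≤ (P : Subgroup G) := pCore_le_sylow P
  have hcomap : ((P : Subgroup G).map π).comap π = (P : Subgroup G) := by
    rw [comap_map_eq, QuotientGroup.ker_mk', sup_eq_left.2 hQP]
  set Wb := ZJ.zj e (D.map π) with hWb
  set H := (normalizer (Wb : Set (G ⧸ Q))).comap π with hHdef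
  have hPH : (P : Subgroup G) ≤ H := fun x hx => ZJ.normalizer_le_zj _
    (le_normalizer_map π ⟨x, ZJ.le_normalizer_closed P hD hx, rfl⟩)
  have hHne : H ≠ ⊤ := by
    intro htop
    have hWne : Wb ≠ ⊥ := ZJ.zj_ne_bot_aux ((P.isPGroup'.to_le hD.1).map π) he fun h => hDQ (by
      rw [Subgroup.map_eq_bot_iff, QuotientGroup.ker_mk'] at h; exact h)
    haveI : Wb.Normal := by
      rw [← normalizer_eq_top_iff, eq_top_iff]
      intro z _
      obtain ⟨x, rfl⟩ := QuotientGroup.mk'_surjective Q z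
      exact htop.ge (mem_top x)
    refine hWne (le_bot_iff.1 ((le_pCore (((P.isPGroup'.to_le hD.1).map π).to_le (ZJ.zj_le _ _))).trans ?_))
    exact (pCore_quotient_pCore p G).le
  -- the key step
  have key : ∀ B : Subgroup G, Q ≤ B → B ≤ (P : Subgroup G) →
      ¬ p ∣ ((P : Subgroup G) ⊓ normalizer (B : Set G)).relIndex (normalizer (B : Set G)) →
      ∀ g : G, (∀ b ∈ B, g * b * g⁻¹ ∈ (P : Subgroup G)) →
        ∃ m ∈ normalizer (ZJ.zj e D : Set G), ∀ b ∈ B, m * b * m⁻¹ = g * b * g⁻¹ := by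
    intro B hQB hBP hidx g hg
    obtain ⟨mb, hmb, hmbe⟩ := hquot (B.map π) (map_mono hBP) (π g) (by
      rintro _ ⟨b, hb, rfl⟩
      exact ⟨g * b * g⁻¹, hg b hb, by simp⟩)
    obtain ⟨y, rfl⟩ := QuotientGroup.mk'_surjective Q mb
    have hyB : ∀ b ∈ B, y * b * y⁻¹ ∈ (P : Subgroup G) := fun b hb => by
      rw [← hcomap, mem_comap, map_mul, map_mul, map_inv]
      rw [hπdef, hmbe _ (mem_map_of_mem π hb)]
      exact ⟨g * b * g⁻¹, hg b hb, by simp [hπdef]⟩
    obtain ⟨m, hm, hme⟩ := ctl_in H _ D hPH hD.1 (hind H hPH hHne) B hBP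
      (show y ∈ H from hmb) hyB
    set h := m⁻¹ * g with hh
    have hfix : ∀ b ∈ B, π h * π b * (π h)⁻¹ = π b := fun b hb => by
      have h1 : π m * π b * (π m)⁻¹ = π g * π b * (π g)⁻¹ := by
        rw [← hmbe _ (mem_map_of_mem π hb), ← map_inv, ← map_inv, ← map_mul, ← map_mul, ← map_mul, ← map_mul,
          hme b hb]
      calc π h * π b * (π h)⁻¹ = (π m)⁻¹ * (π g * π b * (π g)⁻¹) * π m := by
            rw [hh, map_mul, map_inv]; group
        _ = _ := by rw [← h1]; group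
    have hQp : IsPGroup p Q := isPGroup_pCore p G
    set C := centralizer (Q : Set G) with hCdef
    have hdec : ∀ k : G, ∃ s ∈ (P : Subgroup G), ∃ c ∈ C, k = s * c := fun k => by
      obtain ⟨s, hs, c, hc, hsc⟩ := mem_sup_of_normal_right.1
        (show k ∈ (P : Subgroup G) ⊔ C by rw [sup_comm, hC]; trivial)
      exact ⟨s, hs, c, hc, hsc.symm⟩
    have hq : ∀ k : G, (∀ b ∈ B, π k * π b * (π k)⁻¹ = π b) → ∀ b ∈ B, k * b * k⁻¹ * b⁻¹ ∈ Q := by
      intro k hk b hb
      refine (QuotientGroup.eq_one_iff _).1 ?_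
      show π _ = 1
      rw [map_mul, map_mul, map_mul, map_inv, map_inv, hk b hb, mul_inv_cancel]
    have hnorm : ∀ k : G, (∀ b ∈ B, π k * π b * (π k)⁻¹ = π b) → k ∈ normalizer (B : Set G) := by
      intro k hk
      have hle : B.map (MulAut.conj k).toMonoidHom ≤ B := by
        rintro _ ⟨b, hb, rfl⟩
        have := mul_mem (hQB (hq k hk b hb)) hb
        simpa using this
      have heq := eq_of_le_of_card_ge hle (card_map_of_injective (MulAut.conj k).injective).ge
      rw [mem_normalizer_iff]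
      refine fun z => ⟨fun hz => hle ⟨z, hz, rfl⟩, fun hz => ?_⟩
      obtain ⟨v, hv, he⟩ := heq.symm.le hz
      rwa [(MulAut.conj k).injective he] at hv
    set NB := normalizer (B : Set G) with hNB
    let CB := (centralizer (B : Set G)).subgroupOf NB
    haveI : CB.Normal := by
      refine ⟨fun c hc n => mem_centralizer_iff.2 fun b hb => ?_⟩
      have h1 := mem_centralizer_iff.1 hc _ ((mem_normalizer_iff''.1 n.2 b).1 hb)
      simpa [mul_assoc] using congrArg (fun t => (n : G) * t * (n : G)⁻¹) h1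
    let ψ := QuotientGroup.mk' CB
    let K₀ : Subgroup NB :=
      { carrier := {k | ∀ b ∈ B, π (k : G) * π b * (π (k : G))⁻¹ = π b}
        one_mem' := fun b _ => by simp
        mul_mem' := fun {k l} hk hl b hb => by
          rw [Subgroup.coe_mul, map_mul,
            show π (k : G) * π (l : G) * π b * (π (k : G) * π (l : G))⁻¹ =
              π (k : G) * (π (l : G) * π b * (π (l : G))⁻¹) * (π (k : G))⁻¹ by group,
            hl b hb, hk b hb]
        inv_mem' := fun {k} hk b hb => by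
          rw [Subgroup.coe_inv, map_inv, inv_inv]
          conv_lhs => rw [← hk b hb]
          group }
    haveI : K₀.Normal := ⟨fun k hk n b hb => by
      have h1 := hk _ ((mem_normalizer_iff''.1 n.2 b).1 hb)
      simp only [map_mul, map_inv, inv_inv] at h1
      calc π ((n * k * n⁻¹ : NB) : G) * π b * (π ((n * k * n⁻¹ : NB) : G))⁻¹
          = π (n : G) * (π (k : G) * ((π (n : G))⁻¹ * π b * π (n : G)) * (π (k : G))⁻¹) *
              (π (n : G))⁻¹ := by simp only [Subgroup.coe_mul, Subgroup.coe_inv, map_mul, map_inv]; group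
        _ = _ := by rw [h1]; group⟩
    have hK₀p : IsPGroup p (K₀.map ψ) := by
      rintro ⟨_, k, hk, rfl⟩
      -- a power centralizes `Q`
      obtain ⟨e, he⟩ : ∃ e : ℕ, (k : G) ^ p ^ e ∈ C := by
        obtain ⟨s, hs, c, hc, hsc⟩ := hdec (k : G)
        obtain ⟨e, hse⟩ := P.isPGroup' ⟨s, hs⟩
        refine ⟨e, (QuotientGroup.eq_one_iff _).1 ?_⟩
        rw [QuotientGroup.mk_pow, hsc, QuotientGroup.mk_mul, (QuotientGroup.eq_one_iff c).2 hc, mul_one,
          ← QuotientGroup.mk_pow, show s ^ p ^ e = 1 from congrArg Subtype.val hse, QuotientGroup.mk_one]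
      obtain ⟨f, hf⟩ := IsPGroup.iff_card.1 hQp
      refine ⟨e + f, Subtype.ext ?_⟩
      rw [SubmonoidClass.coe_pow, OneMemClass.coe_one, ← map_pow, QuotientGroup.mk'_apply,
        QuotientGroup.eq_one_iff, mem_subgroupOf, SubmonoidClass.coe_pow, mem_centralizer_iff]
      intro b hb
      set k' := (k : G) ^ p ^ e with hk'
      have hk'fix : ∀ b ∈ B, π k' * π b * (π k')⁻¹ = π b := fun b hb => by
        have := (K₀.pow_mem hk (p ^ e)) b hb
        rwa [SubmonoidClass.coe_pow] at this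
      set d := k' * b * k'⁻¹ * b⁻¹ with hd
      have hdQ : d ∈ Q := hq k' hk'fix b hb
      have hcomm : d * k' = k' * d := mem_centralizer_iff.1 he d hdQ
      have hiter : ∀ n : ℕ, k' ^ n * b * (k' ^ n)⁻¹ = d ^ n * b := by
        intro n
        induction n with
        | zero => simp
        | succ n ih =>
          calc k' ^ (n + 1) * b * (k' ^ (n + 1))⁻¹ = k' * (k' ^ n * b * (k' ^ n)⁻¹) * k'⁻¹ := by
                rw [pow_succ']; group
            _ = k' * d ^ n * k'⁻¹ * (d * b) := by rw [ih, hd]; group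
            _ = d ^ (n + 1) * b := by
                rw [((Commute.pow_left (show Commute d k' from hcomm) n).symm).eq,
                  mul_inv_cancel_right, pow_succ]
                group
      have hdQ' : d ^ p ^ f = 1 := by
        rw [← hf]
        exact congrArg Subtype.val (pow_card_eq_one' (x := (⟨d, hdQ⟩ : Q)))
      have := hiter (p ^ f)
      rw [hdQ', one_mul, mul_inv_eq_iff_eq_mul] at this
      rw [pow_add, pow_mul, ← hk']
      exact this.symm
    let R := (P : Subgroup G) ⊓ NB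
    have hRN : R ≤ NB := inf_le_right
    let PN : Sylow p NB :=
      ((P.isPGroup'.to_le inf_le_left).of_equiv (subgroupOfEquivOfLe hRN).symm).toSylow hidx
    have hhN : h ∈ NB := hnorm h hfix
    have hmem : ψ ⟨h, hhN⟩ ∈ (PN.mapSurjective (QuotientGroup.mk'_surjective CB) : Subgroup _) := by
      haveI : (K₀.map ψ).Normal := ‹K₀.Normal›.map ψ (QuotientGroup.mk'_surjective CB)
      exact (le_pCore hK₀p).trans (pCore_le_sylow _) ⟨⟨h, hhN⟩, fun b hb => hfix b hb, rfl⟩
    obtain ⟨s, hs, hsh⟩ := hmem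
    rw [QuotientGroup.mk'_eq_mk'] at hsh
    obtain ⟨c, hc, hsc⟩ := hsh
    have hsR : (s : G) ∈ R := hs
    have hact : ∀ b ∈ B, h * b * h⁻¹ = (s : G) * b * (s : G)⁻¹ := fun b hb => by
      have e1 : (s : G) * (c : G) = h := congrArg Subtype.val hsc
      have h2 : b * (c : G) = (c : G) * b := mem_centralizer_iff.1 hc b hb
      rw [← e1, mul_assoc (s : G), ← h2]
      group
    refine ⟨m * (s : G), mul_mem hm.2 (le_normalizer_zj_closed P hD hsR.1), fun b hb => ?_⟩
    calc m * (s : G) * b * (m * (s : G))⁻¹ = m * ((s : G) * b * (s : G)⁻¹) * m⁻¹ := by group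
      _ = m * (h * b * h⁻¹) * m⁻¹ := by rw [hact b hb]
      _ = g * b * g⁻¹ := by rw [hh]; group
  -- the general subgroup
  intro A hA g hg
  set B := A ⊔ Q with hB
  have hBP : B ≤ (P : Subgroup G) := sup_le hA hQP
  have hgB : ∀ b ∈ B, g * b * g⁻¹ ∈ (P : Subgroup G) := by
    have : B.map (MulAut.conj g).toMonoidHom ≤ (P : Subgroup G) := by
      rw [Subgroup.map_sup, sup_le_iff]
      constructor
      · rintro _ ⟨a, ha, rfl⟩; exact hg a ha
      · rintro _ ⟨q, hq, rfl⟩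
        exact hQP (Normal.conj_mem inferInstance q hq g)
    exact fun b hb => this ⟨b, hb, rfl⟩
  obtain ⟨x, hxP, hidx⟩ := Local.exists_fullyNormalized P B hBP
  set Bf := B.map (MulAut.conj x).toMonoidHom with hBf
  have hQBf : Q ≤ Bf := fun q hq => ⟨x⁻¹ * q * x, mem_sup_right (by
    simpa using (Normal.conj_mem (inferInstance : Q.Normal) q hq x⁻¹)), by simp [mul_assoc]⟩
  have hback : ∀ b ∈ Bf, x⁻¹ * b * x ∈ B := by
    rintro _ ⟨b, hb, rfl⟩; simpa [mul_assoc] using hb
  obtain ⟨m₁, hm₁, he₁⟩ := key Bf hQBf hxP hidx x⁻¹ fun b hb => hBP (by simpa using hback b hb)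
  obtain ⟨m₂, hm₂, he₂⟩ := key Bf hQBf hxP hidx (g * x⁻¹) fun b hb => by
    simpa [mul_assoc] using hgB _ (hback b hb)
  refine ⟨m₂ * m₁⁻¹, mul_mem hm₂ (inv_mem hm₁), fun a ha => ?_⟩
  have hb : x * a * x⁻¹ ∈ Bf := ⟨a, mem_sup_left ha, rfl⟩
  have h1 : m₁ * (x * a * x⁻¹) * m₁⁻¹ = a := by
    rw [he₁ _ hb]; group
  calc m₂ * m₁⁻¹ * a * (m₂ * m₁⁻¹)⁻¹ = m₂ * (m₁⁻¹ * a * m₁) * m₂⁻¹ := by group
    _ = m₂ * (x * a * x⁻¹) * m₂⁻¹ := by
      (conv_lhs => rw [← h1])
      group
    _ = g * a * g⁻¹ := by rw [he₂ _ hb]; group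

theorem closed_of_le (P : Sylow p G) {D : Subgroup G} (hD : IsStronglyClosed D (P : Subgroup G))
    {H : Subgroup G} (hPH : (P : Subgroup G) ≤ H) :
    IsStronglyClosed (D.subgroupOf H) ((P : Subgroup G).subgroupOf H) :=
  ⟨fun _ hx => hD.1 hx, fun x hx g hg => hD.2 (x : G) hx (g : G) hg⟩

theorem ctl_of_qdFree_aux (hp2 : p ≠ 2) (he : p ∣ e) : ∀ (n : ℕ) (X : Type u) [Group X] [Finite X],
    Nat.card X ≤ n → ¬ Involves ↥(qd p) X → ∀ (P : Sylow p X) (D : Subgroup X),
      IsStronglyClosed D (P : Subgroup X) → Ctl e (P : Subgroup X) D := by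
  intro n
  induction n with
  | zero => intro X _ _ hn; exact absurd hn (not_le.mpr Nat.card_pos)
  | succ n ih =>
    intro X _ _ hn hfree P D hD
    have hsub : ∀ (H : Subgroup X), H ≠ ⊤ → ∀ (R : Sylow p H) (E : Subgroup H),
        IsStronglyClosed E (R : Subgroup H) → Ctl e (R : Subgroup H) E := fun H hH R E hE => by
      have hlt : Nat.card H < Nat.card X := lt_of_le_of_ne (card_le_card_group H) fun h =>
        hH (eq_top_of_card_eq H h)
      exact ih H (by omega) (fun h => hfree (Quad.involves_of_subgroup h)) R E hE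
    have hover : ∀ H : Subgroup X, (P : Subgroup X) ≤ H → H ≠ ⊤ →
        Ctl e ((P : Subgroup X).subgroupOf H) (D.subgroupOf H) := fun H hPH hH =>
      hsub H hH (P.subtype hPH) _ (closed_of_le P hD hPH)
    have hquot : ∀ (O : Subgroup X) [O.Normal], O ≠ ⊥ →
        Ctl e ((P : Subgroup X).map (QuotientGroup.mk' O)) (D.map (QuotientGroup.mk' O)) := fun O _ hO => by
      have hs := QuotientGroup.mk'_surjective O
      have hlt : Nat.card (X ⧸ O) < Nat.card X := by
        rw [← O.index_eq_card, ← O.card_mul_index]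
        refine lt_mul_left (Nat.pos_of_ne_zero index_ne_zero_of_finite) ?_
        exact Finite.one_lt_card_iff_nontrivial.mpr (O.nontrivial_iff_ne_bot.mpr hO)
      exact ih (X ⧸ O) (by omega) (fun h => hfree (Quad.involves_of_surjective _ hs h))
        (P.mapSurjective hs) _ (closed_map P hD _ hs)
    by_cases hD0 : D = ⊥
    · subst hD0
      refine ctl_of_normal _ _ ?_
      rw [show ZJ.zj e (⊥ : Subgroup X) = ⊥ from le_bot_iff.1 (ZJ.zj_le _ _)]
      infer_instance
    by_cases hO : pPrimeCore p X = ⊥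
    swap
    · exact ctl_of_pPrime P hD _ (card_pPrimeCore_coprime p X) (hquot _ hO)
    by_cases hc : centralizer (pCore p X : Set X) ≤ pCore p X
    · exact ctl_of_normal _ _ (ZJ.zj_normal_of_closed hp2
        (ZJ.stab_of_isPStableOn fun B _ hB => Quad.isPStableOn_of_qdFree hp2 hfree B hB) hc P hD)
    by_cases hQ : pCore p X = ⊥
    · refine ctl_of_locals he P hD hD0 fun T hT hT0 hidx => ?_
      set H := normalizer (T : Set X) with hH
      have hHt : H ≠ ⊤ := fun h => by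
        haveI : T.Normal := normalizer_eq_top_iff.1 h
        exact hT0 (le_bot_iff.1 ((le_pCore (P.isPGroup'.to_le hT)).trans hQ.le))
      let R : Sylow p H := ((P.isPGroup'.to_le (inf_le_left : (P : Subgroup X) ⊓ H ≤ _)).comap_subtype).toSylow hidx
      exact hsub H hHt R _ (closed_inf P hD H)
    by_cases hDQ : D ≤ pCore p X
    · exact ctl_of_normal _ _ (zj_normal_of_le_normal P hD _ (pCore_le_sylow P) hDQ)
    obtain ⟨hfr, hPN, hNne⟩ := Local.FusionRed.proper_normalizer P hO hc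
    by_cases hC : centralizer (pCore p X : Set X) ⊔ (P : Subgroup X) = ⊤
    · exact ctl_of_pCore he P hD hC hDQ hover (hquot _ hQ)
    · refine ctl_of_split P hD hPN le_sup_right (fun g => ?_) (hover _ hPN hNne) (hover _ le_sup_right hC)
      haveI := pCore_characteristic p X
      obtain ⟨a, ha, b, hb, rfl⟩ := mem_sup_of_normal_right.1 (hfr.ge (mem_top g))
      exact ⟨a, ha, b, sup_le le_sup_left ((pCore_le_sylow P).trans le_sup_right) hb, rfl⟩

theorem ctl_of_qdFree (hp2 : p ≠ 2) (he : p ∣ e) (hfree : ¬ Involves ↥(qd p) G) (P : Sylow p G)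
    {D : Subgroup G} (hD : IsStronglyClosed D (P : Subgroup G)) : Ctl e (P : Subgroup G) D :=
  ctl_of_qdFree_aux hp2 he _ G le_rfl hfree P D hD

end Cfsg.Agent.Solv.ClosedFusion

namespace Cfsg.Agent.Solv.ClosedFusion

open Subgroup

theorem omegaOne_centerThompsonOf_eq {G : Type u} [Group G] [Finite G] {p : ℕ} [Fact p.Prime] (D : Subgroup G) :
    omegaOne p (centerThompsonOf p D) = ZJ.zj p D := by
  rw [ZJ.zj_prime, omegaCenterThompson, Local.Amalgam.omegaOne_map _ D.subtype_injective]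
  congr 1
  ext x
  constructor
  · rintro ⟨⟨y, hy, rfl⟩, hx⟩
    refine ⟨y, ⟨hy, ?_⟩, rfl⟩
    intro z hz
    exact Subtype.ext (hx (z : G) ⟨z, hz, rfl⟩)
  · rintro ⟨y, ⟨hy, hc⟩, rfl⟩
    refine ⟨⟨y, hy, rfl⟩, ?_⟩
    rintro _ ⟨z, hz, rfl⟩
    exact congrArg Subtype.val (hc z hz)

end Cfsg.Agent.Solv.ClosedFusion
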