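import Cfsg.Agent.Lib.Solv.ClosedFusion

/-!
Stable groups with constrained locals: the Thompson centre of a strongly closed subgroup.
-/

set_option autoImplicit false
set_option linter.style.haveILetI false
set_option linter.unusedSectionVars false

universe u

namespace Cfsg.Agent.Solv.ClosedFusion

open Subgroup ZJ
open scoped Pointwise commutatorElement

variable {p : ℕ} [Fact p.Prime] {e : ℕ}

/-- Stability in the normalizer form descends along the quotient by the `p'`-core. -/
theorem stab_of_normalizerStable {G G' : Type*} [Group G] [Finite G] [Group G'] [Finite G']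
    (h : IsNormalizerPStable p G) (f : G →* G') (hf : Function.Surjective f)
    (hker : f.ker = pPrimeCore p G) : Stab p G' := by
  intro B _ hB A hA hq
  set M := B.comap f with hM
  haveI : M.Normal := inferInstance
  obtain ⟨PB⟩ : Nonempty (Sylow p M) := inferInstance
  set Bm := (PB : Subgroup M).map M.subtype with hBm
  have hBmM : Bm ≤ M := map_subtype_le _
  have hsurB : Function.Surjective (f.subgroupComap B) := fun ⟨y, hy⟩ => by
    obtain ⟨x, rfl⟩ := hf y
    exact ⟨⟨x, hy⟩, rfl⟩
  have hBmB : Bm.map f = B := by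
    refine le_antisymm (map_le_iff_le_comap.mpr hBmM) fun y hy => ?_
    have htop : ((PB.mapSurjective hsurB : Sylow p B) : Subgroup B) = ⊤ :=
      top_le_iff.mp ((PB.mapSurjective hsurB).is_maximal' (hB.to_subgroup ⊤) le_top).le
    obtain ⟨z, hz, hzx⟩ := htop.ge (mem_top (⟨y, hy⟩ : B))
    exact ⟨z, mem_map_of_mem _ hz, congrArg Subtype.val hzx⟩
  have hsupM : pPrimeCore p G ⊔ Bm = M := by
    refine le_antisymm (sup_le ?_ hBmM) fun x hx => ?_
    · rw [← hker]; exact f.ker_le_comap B
    · have hx' : f x ∈ Bm.map f := hBmB ▸ hx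
      obtain ⟨b, hb, hbx⟩ := hx'
      have h1 : x * b⁻¹ ∈ pPrimeCore p G := by
        rw [← hker, MonoidHom.mem_ker, map_mul, map_inv, hbx, mul_inv_cancel]
      have := mul_mem (mem_sup_left h1 : x * b⁻¹ ∈ pPrimeCore p G ⊔ Bm) (mem_sup_right hb)
      rwa [inv_mul_cancel_right] at this
  have hBmp : IsPGroup p Bm := PB.isPGroup'.map _
  set N := normalizer (Bm : Set G) with hN
  have hNf : N.map f = ⊤ := by
    have hfr := Sylow.normalizer_sup_eq_top PB
    rw [← hBm, ← hN] at hfr
    rw [eq_top_iff, ← map_top_of_surjective f hf, ← hfr, Subgroup.map_sup]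
    refine sup_le le_rfl (le_trans ?_ (map_mono (le_normalizer : Bm ≤ N)))
    rw [hBmB]
    exact map_comap_le f B
  set A0 := A.comap f ⊓ N with hA0
  obtain ⟨PA⟩ : Nonempty (Sylow p A0) := inferInstance
  set Am := (PA : Subgroup A0).map A0.subtype with hAm
  let g : A0 →* A := (f.comp A0.subtype).codRestrict A fun x => x.2.1
  have hsurA : Function.Surjective g := fun ⟨y, hy⟩ => by
    obtain ⟨x, hx, rfl⟩ := hNf.ge (mem_top y)
    exact ⟨⟨x, hy, hx⟩, rfl⟩
  have hAmN : Am ≤ N := (map_subtype_le _).trans inf_le_right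
  have hq0 : ⁅⁅Bm, Am⁆, Am⁆ = ⊥ := by
    have h1 : ⁅Bm, Am⁆ ≤ Bm := commutator_le.mpr fun b hb a ha => by
      rw [commutatorElement_def, mul_assoc, mul_assoc]
      refine Bm.mul_mem hb ?_
      rw [← mul_assoc]
      exact (mem_normalizer_iff.mp (hAmN ha) b⁻¹).mp (Bm.inv_mem hb)
    have h2 : ⁅⁅Bm, Am⁆, Am⁆ ≤ Bm := (commutator_mono h1 le_rfl).trans h1
    have h3 : ⁅⁅Bm, Am⁆, Am⁆ ≤ pPrimeCore p G := by
      refine le_trans ?_ hker.le
      rw [← Subgroup.map_eq_bot_iff, map_commutator, map_commutator, hBmB, ← le_bot_iff, ← hq]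
      have hAmA : Am.map f ≤ A := by
        rintro _ ⟨_, ⟨x, _, rfl⟩, rfl⟩
        exact x.2.1
      exact commutator_mono (commutator_mono le_rfl hAmA) hAmA
    exact le_bot_iff.mp ((le_inf h2 h3).trans
      (inf_eq_bot_of_isPGroup hBmp (card_pPrimeCore_coprime p G)).le)
  set C' := (centralizer (Bm : Set G)).subgroupOf N
  set C := centralizer (B : Set G') with hC
  have hcc : C' ≤ C.comap (f.comp N.subtype) := fun c hc => by
    rw [mem_comap, hC, mem_centralizer_iff]
    intro y hy
    rw [SetLike.mem_coe, ← hBmB] at hy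
    obtain ⟨b, hb, rfl⟩ := hy
    rw [MonoidHom.comp_apply, ← map_mul, ← map_mul]
    exact congrArg f (mem_centralizer_iff.mp hc b hb)
  let ψ : N ⧸ C' →* G' ⧸ C := QuotientGroup.map C' C (f.comp N.subtype) hcc
  have hψ : Function.Surjective ψ := fun z => by
    obtain ⟨y, rfl⟩ := QuotientGroup.mk_surjective z
    obtain ⟨x, hx, rfl⟩ := hNf.ge (mem_top y)
    exact ⟨QuotientGroup.mk ⟨x, hx⟩, rfl⟩
  rintro _ ⟨a, ha, rfl⟩
  have htopA : ((PA.mapSurjective hsurA : Sylow p A) : Subgroup A) = ⊤ :=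
    top_le_iff.mp ((PA.mapSurjective hsurA).is_maximal' (hA.to_subgroup ⊤) le_top).le
  obtain ⟨z, hz, hzx⟩ := htopA.ge (mem_top (⟨a, ha⟩ : A))
  have hza : f z = a := congrArg Subtype.val hzx
  have hzm : (z : G) ∈ Am := mem_map_of_mem _ hz
  have himg : (QuotientGroup.mk (⟨z, hAmN hzm⟩ : N) : N ⧸ C') ∈ pCore p (N ⧸ C') := by
    refine h Bm hBmp z (hAmN hzm) (le_bot_iff.1 ?_)
    rw [← hq0]
    exact commutator_mono (commutator_mono le_rfl (zpowers_le.mpr hzm)) (zpowers_le.mpr hzm)
  refine map_pCore_le_of_surjective p ψ hψ ⟨_, himg, ?_⟩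
  rw [← hza]
  rfl

theorem normalizerPStable_subgroup {G : Type u} [Group G] [Finite G] (hst : IsNormalizerPStable p G)
    (H : Subgroup G) : IsNormalizerPStable p H := by
  intro P hP g hg hq
  set P' := P.map H.subtype with hP'
  have hPP : IsPGroup p P' := hP.map _
  have hg' : (g : G) ∈ normalizer (P' : Set G) := le_normalizer_map H.subtype ⟨g, hg, rfl⟩
  have hq' : ⁅⁅P', zpowers (g : G)⁆, zpowers (g : G)⁆ = ⊥ := by
    have h1 : zpowers (g : G) = (zpowers g).map H.subtype := (MonoidHom.map_zpowers H.subtype g).symm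
    rw [h1, ← map_commutator, ← map_commutator, hq, Subgroup.map_bot]
  have hmain := hst P' hPP g hg' hq'
  set N' := normalizer (P' : Set G)
  set N := normalizer (P : Set H) with hN
  set C' := (centralizer (P' : Set G)).subgroupOf N' with hC'
  set C := (centralizer (P : Set H)).subgroupOf N with hC
  haveI hC'n : C'.Normal := inferInstance
  let i : N →* N' := (H.subtype.comp N.subtype).codRestrict N' fun x => le_normalizer_map H.subtype ⟨x, x.2, rfl⟩
  let ψ : N →* N' ⧸ C' := (QuotientGroup.mk' C').comp i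
  have hker : ψ.ker = C := by
    ext x
    rw [MonoidHom.mem_ker]
    show (QuotientGroup.mk' C') (i x) = 1 ↔ _
    rw [QuotientGroup.mk'_apply, QuotientGroup.eq_one_iff, hC, hC', mem_subgroupOf, mem_subgroupOf,
      mem_centralizer_iff, mem_centralizer_iff]
    constructor
    · exact fun h v hv => Subtype.ext (h (v : G) ⟨v, hv, rfl⟩)
    · rintro h _ ⟨v, hv, rfl⟩
      exact congrArg Subtype.val (h v hv)
  let χ : N ⧸ C →* N' ⧸ C' := QuotientGroup.lift C ψ hker.ge
  have hχ : Function.Injective χ := by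
    rw [← MonoidHom.ker_eq_bot_iff]
    refine (Subgroup.eq_bot_iff_forall _).2 fun x hx => ?_
    obtain ⟨x, rfl⟩ := QuotientGroup.mk_surjective x
    refine (QuotientGroup.eq_one_iff _).2 ?_
    rw [← hker]
    exact hx
  exact le_pCore ((isPGroup_pCore p _).comap_of_injective χ hχ) hmain

theorem ctl_of_stable_constrained {G : Type u} [Group G] [Finite G] (hp2 : p ≠ 2) (he : p ∣ e) (P : Sylow p G)
    {D : Subgroup G} (hD : IsStronglyClosed D (P : Subgroup G)) (hst : IsNormalizerPStable p G)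
    (hc : ∀ U : Subgroup G, U ≤ (P : Subgroup G) → U ≠ ⊥ → IsPConstrained p (normalizer (U : Set G))) :
    Ctl e (P : Subgroup G) D := by
  by_cases hD0 : D = ⊥
  · subst hD0
    refine ctl_of_normal _ _ ?_
    rw [show ZJ.zj e (⊥ : Subgroup G) = ⊥ from le_bot_iff.1 (ZJ.zj_le _ _)]
    infer_instance
  refine ctl_of_locals he P hD hD0 fun T hT hT0 hidx => ?_
  set H := normalizer (T : Set G) with hH
  let R : Sylow p H := ((P.isPGroup'.to_le (inf_le_left : (P : Subgroup G) ⊓ H ≤ _)).comap_subtype).toSylow hidx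
  set O := pPrimeCore p H
  have hcl : IsStronglyClosed ((D ⊓ H).subgroupOf H) (R : Subgroup H) := closed_inf P hD H
  have hs := QuotientGroup.mk'_surjective O
  refine ctl_of_pPrime R hcl O (card_pPrimeCore_coprime p H) (ctl_of_normal _ _ ?_)
  exact zj_normal_of_closed hp2 (stab_of_normalizerStable (normalizerPStable_subgroup hst H) _ hs (QuotientGroup.ker_mk' _))
    (Local.ClassTwo.centralizer_pCore_le_of_isPConstrained (hc T hT hT0)) (R.mapSurjective hs) (closed_map R hcl _ hs)

end Cfsg.Agent.Solv.ClosedFusion
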