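import Cfsg.Agent.Lib.Solv.ClosedFusion
import Cfsg.Agent.Lib.Local.NPCFunctor

/-!
Normal `p`-complements from the Thompson centre of a strongly closed subgroup.
-/

set_option autoImplicit false
set_option linter.style.haveILetI false
set_option linter.unusedSectionVars false

universe u

namespace Cfsg.Agent.Solv.ClosedFusion

open Subgroup
open scoped Pointwise commutatorElement

variable {p : ℕ} [Fact p.Prime] {e : ℕ}

theorem npc_closed_subgroup {G : Type u} [Group G] [Finite G] {D : Subgroup G} (H : Subgroup G)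
    (hDH : D ≤ H) (h : HasNormalPComplement p (normalizer (ZJ.zj e D : Set G))) :
    HasNormalPComplement p (normalizer (ZJ.zj e (D.subgroupOf H) : Set H)) := by
  refine hasNormalPComplement_of_injective
    ((H.subtype.comp (normalizer (ZJ.zj e (D.subgroupOf H) : Set H)).subtype).codRestrict
      (normalizer (ZJ.zj e D : Set G)) fun x => map_normalizer_le_of_eq H.subtype
        (by rw [← ZJ.zj_map H.subtype H.subtype_injective, map_subgroupOf_eq_of_le hDH]) ⟨x, x.2, rfl⟩) ?_ h
  exact fun a b hab => Subtype.ext (Subtype.ext (Subtype.ext_iff.mp hab :))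

theorem npc_of_closed_zj (hp2 : p ≠ 2) (he : p ∣ e) : ∀ (n : ℕ) (X : Type u) [Group X] [Finite X],
    Nat.card X ≤ n → ∀ (S : Sylow p X) (D : Subgroup X), IsStronglyClosed D (S : Subgroup X) →
      HasNormalPComplement p (normalizer (ZJ.zj e D : Set X)) → HasNormalPComplement p X := by
  intro n
  induction n with
  | zero => intro X _ _ hn; exact absurd (Nat.card_pos (α := X)) (by omega)
  | succ n ih =>
  intro X _ _ hn S D hD hN
  by_contra hcon
  by_cases hD0 : D = ⊥
  · subst hD0
    rw [show ZJ.zj e (⊥ : Subgroup X) = ⊥ from le_bot_iff.1 (ZJ.zj_le _ _), normalizer_eq_top] at hN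
    exact hcon (hasNormalPComplement_of_mulEquiv topEquiv hN)
  have hO : pPrimeCore p X = ⊥ := by
    by_contra hne
    set f := QuotientGroup.mk' (pPrimeCore p X) with hf
    have hs := QuotientGroup.mk'_surjective (pPrimeCore p X)
    have hlt : Nat.card (X ⧸ pPrimeCore p X) < Nat.card X := by
      rw [card_eq_card_quotient_mul_card_subgroup (pPrimeCore p X)]
      exact lt_mul_of_one_lt_right Nat.card_pos ((one_lt_card_iff_ne_bot _).mpr hne)
    refine hcon (hasNormalPComplement_of_normal_coprime _ (card_pPrimeCore_coprime p X)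
      (ih _ (by omega) (S.mapSurjective hs) _ (closed_map S hD f hs) ?_))
    have hinf : (S : Subgroup X) ⊓ pPrimeCore p X = ⊥ :=
      inf_eq_bot_of_isPGroup S.isPGroup' (card_pPrimeCore_coprime p X)
    let g : (S : Subgroup X) →* X ⧸ pPrimeCore p X := f.comp (S : Subgroup X).subtype
    have hg : Function.Injective g := by
      rw [injective_iff_map_eq_one]
      intro x hx
      refine Subtype.ext ?_
      show (x : X) = 1
      rw [← mem_bot, ← hinf]
      exact ⟨x.2, (QuotientGroup.eq_one_iff (x : X)).1 hx⟩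
    have hmap : ZJ.zj e (D.map f) = (ZJ.zj e D).map f := by
      have e1 : (D.subgroupOf (S : Subgroup X)).map g = D.map f := by
        rw [← map_map, map_subgroupOf_eq_of_le hD.1]
      rw [← e1, ZJ.zj_map g hg, ← map_map]
      congr 1
      rw [← ZJ.zj_map _ (S : Subgroup X).subtype_injective, map_subgroupOf_eq_of_le hD.1]
    rw [hmap]
    set w := ZJ.zj e D with hw
    have hwp : IsPGroup p w := S.isPGroup'.to_le ((ZJ.zj_le _ _).trans hD.1)
    refine hasNormalPComplement_of_le (L := (normalizer (w : Set X)).map f) ?_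
      (hasNormalPComplement_of_surjective _ (f.subgroupMap_surjective _) hN)
    intro y hy
    obtain ⟨g, rfl⟩ := QuotientGroup.mk'_surjective _ y
    haveI := hwp.isNilpotent
    obtain ⟨m, hm, hmg⟩ := exists_mul_of_map_eq (pPrimeCore p X) w inferInstance
      (coprime_card_of_isPGroup hwp (card_pPrimeCore_coprime p X)) hy
    refine ⟨_, hmg, ?_⟩
    rw [map_mul, map_inv, show f m = 1 from (QuotientGroup.eq_one_iff m).mpr hm, inv_one, one_mul]
  have hsub : ∀ H : Subgroup X, H ≠ ⊤ → (S : Subgroup X) ≤ H → HasNormalPComplement p H := by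
    intro H hH hSH
    have hlt : Nat.card H < Nat.card X :=
      lt_of_le_of_ne (card_le_card_group _) fun h => hH (eq_top_of_card_eq _ h)
    exact ih H (by omega) (S.subtype hSH) _ (closed_of_le S hD hSH)
      (npc_closed_subgroup H (hD.1.trans hSH) hN)
  -- the `p`-core is nontrivial
  have hU : pCore p X ≠ ⊥ := by
    intro hbot
    set bad := {V : Subgroup X | IsPGroup p V ∧ V ≠ ⊥ ∧
      ¬ HasNormalPComplement p (normalizer (V : Set X))} with hbad
    have hne : bad.Nonempty := by
      by_contra hempty
      refine hcon (hasNormalPComplement_iff_normalizer.mpr fun V hV hV1 => ?_)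
      by_contra hV2
      exact hempty ⟨V, hV, hV1, hV2⟩
    let pf : Subgroup X → ℕ := fun V => (Nat.card V).factorization p
    obtain ⟨V0, ⟨hV0p, hV01, hV0b⟩, hmax⟩ :=
      Set.exists_max_image bad (fun V => pf (normalizer (V : Set X))) (Set.toFinite _) hne
    -- move a maximal bad subgroup so that a Sylow subgroup of its normalizer lies in `S`
    obtain ⟨R1⟩ : Nonempty (Sylow p (normalizer (V0 : Set X))) := inferInstance
    obtain ⟨P, hP⟩ := (R1.isPGroup'.map (normalizer (V0 : Set X)).subtype).exists_le_sylow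
    obtain ⟨g, hg⟩ := MulAction.exists_smul_eq X P S
    set V := V0.map (MulAut.conj g).toMonoidHom with hVdef
    have hHmap : (normalizer (V0 : Set X)).map (MulAut.conj g).toMonoidHom = normalizer (V : Set X) :=
      map_equiv_normalizer_eq V0 (MulAut.conj g)
    set H := normalizer (V : Set X) with hH
    have hcardH : Nat.card H = Nat.card (normalizer (V0 : Set X)) := by
      rw [← hHmap]; exact card_map_of_injective (MulAut.conj g).injective
    have hVp : IsPGroup p V := hV0p.map _
    have hV1 : V ≠ ⊥ := fun h => hV01 ((map_eq_bot_iff_of_injective _ (MulAut.conj g).injective).1 h)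
    have hVb : ¬ HasNormalPComplement p H := fun h => hV0b (hasNormalPComplement_of_injective
      (((MulAut.conj g).toMonoidHom.comp (normalizer (V0 : Set X)).subtype).codRestrict H fun x =>
        hHmap.le ⟨x, x.2, rfl⟩)
      (fun a b hab => Subtype.ext ((MulAut.conj g).injective (Subtype.ext_iff.mp hab :))) h)
    set R0 := ((R1 : Subgroup (normalizer (V0 : Set X))).map (normalizer (V0 : Set X)).subtype).map
      (MulAut.conj g).toMonoidHom with hR0
    have hR0S : R0 ≤ (S : Subgroup X) := by
      rw [← hg]; exact map_mono hP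
    have hR0H : R0 ≤ H := hHmap ▸ map_mono (map_subtype_le _)
    have hR0p : IsPGroup p R0 := (R1.isPGroup'.map _).map _
    have hR0c : Nat.card R0 = p ^ pf H := by
      rw [hR0, card_map_of_injective (MulAut.conj g).injective, card_map_subtype, R1.card_eq_multiplicity]
      simp only [pf, hcardH]
    have hR0idx : ¬ p ∣ R0.relIndex H := by
      intro hd
      have h2 := (R0.subgroupOf H).card_mul_index
      rw [card_subgroupOf hR0H, hR0c] at h2
      have h3 : p ^ (pf H + 1) ∣ Nat.card H := by
        rw [← h2, pow_succ]; exact mul_dvd_mul_left _ hd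
      have h4 := ((Fact.out : p.Prime).pow_dvd_iff_le_factorization Nat.card_pos.ne').mp h3
      simp only [pf] at h4
      omega
    have hHne : H ≠ ⊤ := fun h => hV1 (le_bot_iff.mp (hbot ▸
      (haveI := normalizer_eq_top_iff.mp h; le_pCore hVp)))
    have hlt : Nat.card H < Nat.card X :=
      lt_of_le_of_ne (card_le_card_group _) fun h => hHne (eq_top_of_card_eq _ h)
    rcases eq_or_lt_of_le hR0S with heq | hltS
    · exact hVb (hsub H hHne (heq ▸ hR0H))
    let RS : Sylow p H := hR0p.comap_subtype.toSylow hR0idx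
    have hVR : V ≤ R0 := by
      haveI : (V.subgroupOf H).Normal := normal_subgroupOf_of_le_normalizer le_rfl
      have hle := IsPGroup.le_sylow_of_normal (N := V.subgroupOf H) hVp.comap_subtype RS
      exact fun x hx => hle (show (⟨x, le_normalizer hx⟩ : H) ∈ V.subgroupOf H from hx)
    have hR0eq : R0 = (S : Subgroup X) ⊓ H := by
      refine Local.eq_of_isPGroup_of_le (H := H) (le_inf hR0S hR0H) inf_le_right (S.isPGroup'.to_le inf_le_left) hR0idx
    set E := D ⊓ R0 with hE
    have hEH : D ⊓ H = E := by rw [hE, hR0eq, ← inf_assoc, inf_eq_left.2 hD.1]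
    have hE0 : E ≠ ⊥ := by
      rw [hE, hR0eq]
      exact inf_normalizer_ne_bot S hD hD0 (hVR.trans hR0S)
    refine hVb (ih H (by omega) RS (E.subgroupOf H) ?_ ?_)
    · rw [← hEH]
      have h0 := closed_inf S hD H
      rw [← hR0eq] at h0
      exact h0
    refine npc_closed_subgroup H (inf_le_right.trans hR0H) ?_
    by_contra hb
    have h1 : pf (normalizer ((ZJ.zj e E : Subgroup X) : Set X)) ≤ pf H := by
      refine (hmax _ ⟨hR0p.to_le ((ZJ.zj_le _ _).trans inf_le_right),
        ZJ.zj_ne_bot_aux (hR0p.to_le inf_le_right) he hE0, hb⟩).trans ?_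
      simp only [pf, hcardH, le_refl]
    have hlt1 := Local.lt_sylow_inf_normalizer S hltS
    have hle : (S : Subgroup X) ⊓ normalizer (R0 : Set X) ≤ normalizer (ZJ.zj e E : Set X) := by
      intro u hu
      refine ZJ.normalizer_le_zj _ ?_
      rw [mem_normalizer_iff_map_conj_eq, hE, map_inf_eq _ _ _ (MulAut.conj u).injective,
        mem_normalizer_iff_map_conj_eq.1 (ZJ.le_normalizer_closed S hD hu.1),
        mem_normalizer_iff_map_conj_eq.1 hu.2]
    obtain ⟨k, hk⟩ := IsPGroup.iff_card.mp (S.isPGroup'.to_le (inf_le_left : (S : Subgroup X) ⊓ normalizer (R0 : Set X) ≤ S))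
    have hp := (Fact.out : p.Prime)
    have h2 : k ≤ pf (normalizer ((ZJ.zj e E : Subgroup X) : Set X)) :=
      (hp.pow_dvd_iff_le_factorization Nat.card_pos.ne').mp (hk ▸ card_dvd_of_le hle)
    have h3 : Nat.card R0 < Nat.card ↥((S : Subgroup X) ⊓ normalizer (R0 : Set X)) :=
      lt_of_le_of_ne (card_le_of_le hlt1.le) fun h => hlt1.ne (eq_of_le_of_card_ge hlt1.le h.ge)
    rw [hk, hR0c, Nat.pow_lt_pow_iff_right hp.one_lt] at h3
    omega
  set U := pCore p X with hUdef
  haveI : U.Normal := by
    haveI := pCore_characteristic p X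
    infer_instance
  have hUS : U ≤ (S : Subgroup X) := pCore_le_sylow S
  -- the quotient by the `p`-core
  have hQ : HasNormalPComplement p (X ⧸ U) := by
    set f := QuotientGroup.mk' U with hf
    have hfs := QuotientGroup.mk'_surjective U
    have hlt : Nat.card (X ⧸ U) < Nat.card X := by
      rw [card_eq_card_quotient_mul_card_subgroup U]
      exact lt_mul_of_one_lt_right Nat.card_pos ((one_lt_card_iff_ne_bot _).mpr hU)
    by_cases hDU : D ≤ U
    · exfalso
      haveI := zj_normal_of_le_normal (e := e) S hD U hUS hDU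
      exact hcon (hasNormalPComplement_of_mulEquiv topEquiv (by rwa [normalizer_eq_top] at hN))
    refine ih _ (by omega) (S.mapSurjective hfs) _ (closed_map S hD f hfs) ?_
    set N1 := (normalizer (ZJ.zj e (D.map f) : Set (X ⧸ U))).comap f with hN1def
    have hN1 : N1 ≠ ⊤ := by
      intro htop
      haveI : (ZJ.zj e (D.map f)).Normal := by
        rw [← normalizer_eq_top_iff, eq_top_iff]
        intro z _
        obtain ⟨x, rfl⟩ := hfs z
        exact htop.ge (mem_top x)
      refine ZJ.zj_ne_bot_aux ((S.isPGroup'.to_le hD.1).map f) he (fun h => hDU (by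
        rw [Subgroup.map_eq_bot_iff, hf, QuotientGroup.ker_mk'] at h; exact h)) (le_bot_iff.1 ?_)
      exact (le_pCore (((S.isPGroup'.to_le hD.1).map f).to_le (ZJ.zj_le _ _))).trans (pCore_quotient_pCore p X).le
    have hSle : (S : Subgroup X) ≤ N1 := fun x hx => ZJ.normalizer_le_zj _
      (le_normalizer_map f ⟨x, ZJ.le_normalizer_closed S hD hx, rfl⟩)
    refine hasNormalPComplement_of_le (L := N1.map f) (fun y hy => ?_)
      (hasNormalPComplement_of_surjective _ (f.subgroupMap_surjective _) (hsub _ hN1 hSle))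
    obtain ⟨x, rfl⟩ := hfs y
    exact ⟨x, hy, rfl⟩
  -- the group is constrained
  have hsolv : IsPSolvable p X := by
    refine isPSolvable_of_extension U (isPSolvable_of_isPGroup (isPGroup_pCore p X)) ?_
    refine isPSolvable_of_extension (pPrimeCore p (X ⧸ U))
      (isPSolvable_of_coprime (card_pPrimeCore_coprime p _)) (isPSolvable_of_isPGroup ?_)
    obtain ⟨k, hk⟩ := hasNormalPComplement_iff_index.mp hQ
    exact IsPGroup.of_card (n := k) (by rw [← index_eq_card, hk])
  have hC : centralizer (pCore p X : Set X) ≤ pCore p X := centralizer_pCore_le_of_isPSolvable hsolv hO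
  -- the Sylow subgroup is maximal
  have hco : IsCoatom (S : Subgroup X) := by
    refine ⟨fun h => hcon (hasNormalPComplement_of_isPGroup ?_), fun H hH => ?_⟩
    · exact (h ▸ S.isPGroup' : IsPGroup p (⊤ : Subgroup X)).of_equiv topEquiv
    by_contra hne
    have hnpc := hsub H hne hH.le
    set R := (pPrimeCore p H).map H.subtype with hR
    have hRc : (Nat.card R).Coprime p := by
      rw [hR, card_map_subtype]; exact card_pPrimeCore_coprime p H
    have hUR : U ⊓ R = ⊥ := inf_eq_bot_of_isPGroup (isPGroup_pCore p X) hRc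
    have hR1 : R = ⊥ := by
      refine le_bot_iff.mp (hUR ▸ le_inf (le_trans ?_ hC) le_rfl)
      intro r hr
      rw [mem_centralizer_iff]
      intro u hu
      have h1 : ⁅u, r⁆ ∈ U ⊓ R := by
        refine ⟨(?_ : ⁅u, r⁆ ∈ U), (?_ : ⁅u, r⁆ ∈ R)⟩
        · rw [commutatorElement_def, show u * r * u⁻¹ * r⁻¹ = u * (r * u⁻¹ * r⁻¹) by group]
          exact mul_mem hu (‹U.Normal›.conj_mem _ (inv_mem hu) r)
        · rw [commutatorElement_def]
          refine mul_mem ?_ (inv_mem hr)
          obtain ⟨r', hr', rfl⟩ := hr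
          exact ⟨⟨u, (hUS.trans hH.le) hu⟩ * r' * ⟨u, (hUS.trans hH.le) hu⟩⁻¹,
            (inferInstance : (pPrimeCore p H).Normal).conj_mem r' hr' _, rfl⟩
      rw [hUR, mem_bot, commutatorElement_eq_one_iff_mul_comm] at h1
      exact h1
    have h2 := isComplement'_pPrimeCore hnpc (S.subtype hH.le)
    rw [(map_eq_bot_iff_of_injective _ H.subtype_injective).mp hR1, isComplement'_bot_left,
      Sylow.coe_subtype, subgroupOf_eq_top] at h2
    exact hH.not_ge h2
  exact hcon (hasNormalPComplement_of_mulEquiv topEquiv (by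
    haveI := ZJ.zj_normal_of_closed (e := e) hp2 (ZJ.stab_of_coatom hp2 hQ S hco) hC S hD
    rwa [normalizer_eq_top] at hN))

end Cfsg.Agent.Solv.ClosedFusion
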