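import Cfsg.Prelude.Def_SolvableStructure
import Cfsg.Agent.Lib.Solv.Coprime
import Cfsg.Agent.Lib.Solv.Misc
import Mathlib.FieldTheory.Finite.Basic
import Mathlib.Algebra.Module.ZMod
import Mathlib.GroupTheory.SchurZassenhaus

/-!
Supersolvable groups: chain calculus, Huppert's prime-index criterion, and consequences.
-/

set_option autoImplicit false
set_option linter.style.haveILetI false

namespace Cfsg.Agent.Solv

open Subgroup
open scoped Pointwise commutatorElement

universe u

variable {G : Type u} [Group G]

/-- Subgroups reached from `⊥` by a normal series with cyclic steps. -/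
inductive SSChain {G : Type u} [Group G] : Subgroup G → Prop
  | bot : SSChain ⊥
  | step {A B : Subgroup G} (hA : SSChain A) (hB : B.Normal) (g : G) (h : B = A ⊔ zpowers g) :
      SSChain B

theorem SSChain.normal {A : Subgroup G} (h : SSChain A) : A.Normal := by
  cases h with
  | bot => infer_instance
  | step hA hB g h => exact hB

theorem isSupersolvable_iff : Cfsg.IsSupersolvable G ↔ SSChain (⊤ : Subgroup G) := by
  constructor
  · rintro ⟨n, H, h0, hl, hn, hs⟩
    have : ∀ i, SSChain (H i) := by
      intro i
      induction i using Fin.induction with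
      | zero => rw [h0]; exact .bot
      | succ i ih => obtain ⟨g, hg⟩ := hs i; exact .step ih (hn _) g hg
    exact hl ▸ this _
  · intro h
    suffices ∀ A : Subgroup G, SSChain A → ∃ (n : ℕ) (H : Fin (n + 1) → Subgroup G),
        H 0 = ⊥ ∧ H (Fin.last n) = A ∧ (∀ i, (H i).Normal) ∧
          ∀ i : Fin n, ∃ g : G, H i.succ = H i.castSucc ⊔ zpowers g from this ⊤ h
    intro A hA
    induction hA with
    | bot => exact ⟨0, fun _ => ⊥, rfl, rfl, fun _ => inferInstance, fun i => i.elim0⟩
    | @step A B hA hB g h ih =>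
      obtain ⟨n, H, h0, hl, hn, hs⟩ := ih
      refine ⟨n + 1, Fin.snoc H B, ?_, by simp, ?_, ?_⟩
      · rw [← h0, ← Fin.castSucc_zero, Fin.snoc_castSucc]
      · intro i
        induction i using Fin.lastCases with
        | last => simpa using hB
        | cast i => simpa using hn i
      · intro i
        induction i using Fin.lastCases with
        | last => exact ⟨g, by rw [Fin.succ_last, Fin.snoc_last, Fin.snoc_castSucc, hl]; exact h⟩
        | cast i =>
          obtain ⟨x, hx⟩ := hs i
          exact ⟨x, by rw [← Fin.castSucc_succ, Fin.snoc_castSucc, Fin.snoc_castSucc]; exact hx⟩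

theorem isSupersolvable_of_subsingleton [Subsingleton G] : Cfsg.IsSupersolvable G := by
  rw [isSupersolvable_iff, Subsingleton.elim (⊤ : Subgroup G) ⊥]
  exact .bot

theorem exists_zpowers_step_inf (A : Subgroup G) [A.Normal] (g : G) (K : Subgroup G) :
    ∃ g' ∈ K, (A ⊔ zpowers g) ⊓ K = (A ⊓ K) ⊔ zpowers g' := by
  set f := QuotientGroup.mk' A with hf
  set Q := ((A ⊔ zpowers g) ⊓ K).map f
  have hQ : Q ≤ zpowers (f g) := by
    refine (map_mono inf_le_left).trans ?_
    rw [Subgroup.map_sup, MonoidHom.map_zpowers, hf, QuotientGroup.map_mk'_self, bot_sup_eq]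
  haveI := Subgroup.isCyclic_of_le hQ
  obtain ⟨y, hy⟩ := (isCyclic_iff_exists_zpowers_eq_top (α := Q)).mp inferInstance
  obtain ⟨g', hg', hg''⟩ := y.2
  refine ⟨g', hg'.2, le_antisymm ?_ (sup_le (inf_le_inf_right K le_sup_left) (by simpa using hg'))⟩
  intro x hx
  obtain ⟨m, hm⟩ := mem_zpowers_iff.mp (hy ▸ mem_top (⟨f x, mem_map_of_mem f hx⟩ : Q))
  have hm' : f g' ^ m = f x := by
    rw [hg'']
    simpa using congrArg Subtype.val hm
  have : x * (g' ^ m)⁻¹ ∈ A ⊓ K := by
    refine ⟨?_, K.mul_mem hx.2 (K.inv_mem (K.zpow_mem hg'.2 m))⟩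
    change x * (g' ^ m)⁻¹ ∈ A
    rw [← QuotientGroup.eq_one_iff, ← QuotientGroup.mk'_apply, ← hf, map_mul, map_inv, map_zpow,
      hm', mul_inv_cancel]
  simpa using mul_mem_sup this (zpow_mem (mem_zpowers g') m)

theorem SSChain.inf {A N : Subgroup G} (h : SSChain A) [N.Normal] : SSChain (A ⊓ N) := by
  induction h with
  | bot => rw [bot_inf_eq]; exact .bot
  | @step A B hA hB g h ih =>
    haveI := hA.normal
    haveI := hB
    obtain ⟨g', -, hg'⟩ := exists_zpowers_step_inf A g N
    exact .step ih inferInstance g' (h ▸ hg')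

theorem SSChain.map {G' : Type*} [Group G'] {f : G →* G'} (hf : Function.Surjective f)
    {A : Subgroup G} (h : SSChain A) : SSChain (A.map f) := by
  induction h with
  | bot => rw [Subgroup.map_bot]; exact .bot
  | @step A B hA hB g h ih =>
    exact .step ih (hB.map f hf) (f g) (by rw [h, Subgroup.map_sup, MonoidHom.map_zpowers])

theorem SSChain.comap {G' : Type*} [Group G'] {f : G' →* G} (hf : Function.Injective f)
    {A : Subgroup G} (h : SSChain A) : SSChain (A.comap f) := by
  induction h with
  | bot => rw [MonoidHom.comap_bot, (MonoidHom.ker_eq_bot_iff f).mpr hf]; exact .bot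
  | @step A B hA hB g h ih =>
    haveI := hA.normal
    obtain ⟨g', hg'r, hg'⟩ := exists_zpowers_step_inf A g f.range
    obtain ⟨x, rfl⟩ := hg'r
    refine .step ih (hB.comap f) x ?_
    apply map_injective hf
    rw [Subgroup.map_sup, MonoidHom.map_zpowers, map_comap_eq, map_comap_eq, inf_comm _ B,
      inf_comm _ A, h]
    exact hg'

theorem SSChain.extend {N : Subgroup G} [N.Normal] (hN : SSChain N) {A : Subgroup (G ⧸ N)}
    (h : SSChain A) : SSChain (A.comap (QuotientGroup.mk' N)) := by
  induction h with
  | bot => rw [MonoidHom.comap_bot, QuotientGroup.ker_mk']; exact hN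
  | @step A B hA hB y h ih =>
    obtain ⟨g, rfl⟩ := QuotientGroup.mk'_surjective N y
    refine .step ih (hB.comap _) g ?_
    rw [← comap_map_eq_self (H := A.comap (QuotientGroup.mk' N) ⊔ zpowers g)
      (le_sup_of_le_left (Subgroup.ker_le_comap _ _)),
      Subgroup.map_sup, map_comap_eq_self_of_surjective (QuotientGroup.mk'_surjective N),
      MonoidHom.map_zpowers, h]

theorem isSupersolvable_of_surjective {G' : Type*} [Group G'] (f : G →* G')
    (hf : Function.Surjective f) (h : Cfsg.IsSupersolvable G) : Cfsg.IsSupersolvable G' := by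
  rw [isSupersolvable_iff] at h ⊢
  simpa [map_top_of_surjective f hf] using h.map hf

theorem isSupersolvable_of_injective {G' : Type*} [Group G'] (f : G' →* G)
    (hf : Function.Injective f) (h : Cfsg.IsSupersolvable G) : Cfsg.IsSupersolvable G' := by
  rw [isSupersolvable_iff] at h ⊢
  simpa using h.comap hf

theorem isSupersolvable_of_chain {N : Subgroup G} [N.Normal] (hN : SSChain N)
    (h : Cfsg.IsSupersolvable (G ⧸ N)) : Cfsg.IsSupersolvable G := by
  rw [isSupersolvable_iff] at h ⊢
  simpa using hN.extend h

theorem sschain_of_isCyclic (N : Subgroup G) [N.Normal] [IsCyclic N] : SSChain N := by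
  obtain ⟨g, hg⟩ := Subgroup.isCyclic_iff_exists_zpowers_eq_top N |>.mp inferInstance
  exact .step .bot inferInstance g (by rw [bot_sup_eq, hg])

theorem isSupersolvable_of_cyclic_normal (N : Subgroup G) [N.Normal] [IsCyclic N]
    (h : Cfsg.IsSupersolvable (G ⧸ N)) : Cfsg.IsSupersolvable G :=
  isSupersolvable_of_chain (sschain_of_isCyclic N) h

theorem isSupersolvable_of_prime_normal (N : Subgroup G) [N.Normal] (hN : (Nat.card N).Prime)
    (h : Cfsg.IsSupersolvable (G ⧸ N)) : Cfsg.IsSupersolvable G :=
  haveI := Fact.mk hN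
  haveI : IsCyclic N := isCyclic_of_prime_card (p := Nat.card N) rfl
  isSupersolvable_of_cyclic_normal N h

theorem isSupersolvable_of_inf_eq_bot (N₁ N₂ : Subgroup G) [N₁.Normal] [N₂.Normal]
    (h : N₁ ⊓ N₂ = ⊥) (h₁ : Cfsg.IsSupersolvable (G ⧸ N₁)) (h₂ : Cfsg.IsSupersolvable (G ⧸ N₂)) :
    Cfsg.IsSupersolvable G := by
  refine isSupersolvable_of_chain ?_ h₁
  suffices ∀ A : Subgroup (G ⧸ N₂), SSChain A →
      SSChain (A.comap (QuotientGroup.mk' N₂) ⊓ N₁) by
    simpa using this ⊤ (isSupersolvable_iff.mp h₂)
  intro A hA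
  induction hA with
  | bot => rw [MonoidHom.comap_bot, QuotientGroup.ker_mk', inf_comm, h]; exact .bot
  | @step A B hA hB y hy ih =>
    obtain ⟨g, rfl⟩ := QuotientGroup.mk'_surjective N₂ y
    haveI := hA.normal
    haveI := hB
    have hker : (QuotientGroup.mk' N₂).ker ≤ A.comap (QuotientGroup.mk' N₂) :=
      Subgroup.ker_le_comap _ _
    have hB' : B.comap (QuotientGroup.mk' N₂) = A.comap (QuotientGroup.mk' N₂) ⊔ zpowers g := by
      rw [← comap_map_eq_self (H := A.comap (QuotientGroup.mk' N₂) ⊔ zpowers g)
        (le_sup_of_le_left hker), Subgroup.map_sup,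
        map_comap_eq_self_of_surjective (QuotientGroup.mk'_surjective N₂), MonoidHom.map_zpowers,
        hy]
    obtain ⟨g', -, hg'⟩ := exists_zpowers_step_inf (A.comap (QuotientGroup.mk' N₂)) g N₁
    exact .step ih inferInstance g' (hB' ▸ hg')

theorem normal_zpowers_pow {g : G} (hg : (zpowers g).Normal) (k : ℕ) :
    (zpowers (g ^ k)).Normal := by
  refine ⟨fun x hx y => ?_⟩
  obtain ⟨i, rfl⟩ := mem_zpowers_iff.mp hx
  obtain ⟨m, hm⟩ := mem_zpowers_iff.mp (hg.conj_mem g (mem_zpowers g) y)
  refine mem_zpowers_iff.mpr ⟨m * i, ?_⟩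
  rw [← conj_zpow, ← conj_pow, ← hm, ← zpow_natCast, ← zpow_natCast, ← zpow_mul, ← zpow_mul,
    ← zpow_mul]
  ring_nf

theorem SSChain.exists_prime_normal [Finite G] {A : Subgroup G} (h : SSChain A) (hA : A ≠ ⊥) :
    ∃ N : Subgroup G, N.Normal ∧ N ≤ A ∧ (Nat.card N).Prime := by
  induction h with
  | bot => exact absurd rfl hA
  | @step A B _ hB g h ih =>
    by_cases hA' : A = ⊥
    · subst hA'
      rw [bot_sup_eq] at h
      subst h
      have hg : orderOf g ≠ 1 := fun e => hA (by rw [orderOf_eq_one_iff.mp e, zpowers_one_eq_bot])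
      obtain ⟨p, hp, hpd⟩ := Nat.exists_prime_and_dvd hg
      refine ⟨zpowers (g ^ (orderOf g / p)), normal_zpowers_pow hB _,
        zpowers_le.mpr (pow_mem (mem_zpowers g) _), ?_⟩
      rw [Nat.card_zpowers, orderOf_pow_orderOf_div (orderOf_pos g).ne' hpd]
      exact hp
    · obtain ⟨N, hN, hle, hp⟩ := ih hA'
      exact ⟨N, hN, hle.trans (h ▸ le_sup_left), hp⟩

theorem exists_prime_normal_le [Finite G] (hG : Cfsg.IsSupersolvable G) {N : Subgroup G}
    [N.Normal] (hN : N ≠ ⊥) : ∃ M : Subgroup G, M.Normal ∧ M ≤ N ∧ (Nat.card M).Prime := by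
  have := (isSupersolvable_iff.mp hG).inf (N := N)
  rw [top_inf_eq] at this
  exact this.exists_prime_normal hN

theorem card_quotient_lt [Finite G] {N : Subgroup G} [N.Normal] (hN : N ≠ ⊥) :
    Nat.card (G ⧸ N) < Nat.card G := by
  rw [card_eq_card_quotient_mul_card_subgroup N]
  exact lt_mul_of_one_lt_right Nat.card_pos ((one_lt_card_iff_ne_bot N).mpr hN)

theorem index_prime_of_isSupersolvable_aux : ∀ (n : ℕ) (G : Type u) [Group G] [Finite G],
    Nat.card G ≤ n → Cfsg.IsSupersolvable G → ∀ M : Subgroup G, IsCoatom M → M.index.Prime := by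
  intro n
  induction n with
  | zero => intro G _ _ hn; exact absurd hn (not_le.mpr Nat.card_pos)
  | succ n ih =>
    intro G _ _ hn hG M hM
    haveI : Nontrivial G := by
      by_contra h
      rw [not_nontrivial_iff_subsingleton] at h
      exact hM.1 (Subsingleton.elim _ _)
    obtain ⟨N, hN, -, hp⟩ := exists_prime_normal_le hG (N := (⊤ : Subgroup G))
      (fun h => bot_ne_top h.symm)
    haveI := hN
    have hNb : N ≠ ⊥ := fun h => Nat.not_prime_one (by rwa [h, card_bot] at hp)
    set f := QuotientGroup.mk' N with hf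
    by_cases hle : N ≤ M
    · have hs : Function.Surjective f := QuotientGroup.mk'_surjective N
      rw [← index_map_eq M hs (by rwa [hf, QuotientGroup.ker_mk'])]
      refine ih _ (by have := card_quotient_lt hNb; omega) (isSupersolvable_of_surjective f hs hG) _
        ⟨fun h => hM.1 ?_, fun X hX => ?_⟩
      · rw [← comap_map_eq_self (H := M) (f := f) (by rwa [hf, QuotientGroup.ker_mk']), h,
          comap_top]
      · have hMX : M < X.comap f := by
          rw [← comap_map_eq_self (H := M) (f := f) (by rwa [hf, QuotientGroup.ker_mk'])]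
          exact (comap_lt_comap_of_surjective hs).mpr hX
        exact comap_injective hs ((hM.2 _ hMX).trans (comap_top f).symm)
    · have htop : N ⊔ M = ⊤ := hM.2 _ (lt_of_le_of_ne le_sup_right fun h => hle (h ▸ le_sup_left))
      have h := card_sup_mul_card_inf N M le_normalizer_of_normal
      have hb : N ⊓ M = ⊥ := by
        have hd := hp.eq_one_or_self_of_dvd _ (card_dvd_of_le (inf_le_left : N ⊓ M ≤ N))
        rcases hd with hd | hd
        · exact Subgroup.card_eq_one.mp hd
        · exact absurd ((eq_of_le_of_card_ge inf_le_left hd.ge).symm.le.trans inf_le_right) hle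
      rw [htop, card_top, hb, card_bot, mul_one, ← index_mul_card M] at h
      have : M.index = Nat.card N := Nat.eq_of_mul_eq_mul_right Nat.card_pos h
      rwa [this]

theorem index_prime_of_isSupersolvable [Finite G] (hG : Cfsg.IsSupersolvable G) (M : Subgroup G)
    (hM : IsCoatom M) : M.index.Prime :=
  index_prime_of_isSupersolvable_aux _ G le_rfl hG M hM

theorem isSupersolvable_of_isPGroup_aux {p : ℕ} [Fact p.Prime] :
    ∀ (n : ℕ) (G : Type u) [Group G] [Finite G], Nat.card G ≤ n → IsPGroup p G →
      Cfsg.IsSupersolvable G := by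
  intro n
  induction n with
  | zero => intro G _ _ hn; exact absurd hn (not_le.mpr Nat.card_pos)
  | succ n ih =>
    intro G _ _ hn hG
    rcases subsingleton_or_nontrivial G with h | h
    · exact isSupersolvable_of_subsingleton
    haveI := IsPGroup.center_nontrivial hG
    obtain ⟨k, hk⟩ := IsPGroup.iff_card.mp (hG.to_subgroup (center G))
    have hpd : p ∣ Nat.card (center G) := by
      rcases k with _ | k
      · rw [pow_zero] at hk
        exact absurd hk Finite.one_lt_card.ne'
      · rw [hk]; exact dvd_pow_self p k.succ_ne_zero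
    obtain ⟨z, hz⟩ := exists_prime_orderOf_dvd_card' p hpd
    have hcard : Nat.card (zpowers (z : G)) = p := by
      rw [Nat.card_zpowers, Subgroup.orderOf_coe, hz]
    haveI : (zpowers (z : G)).Normal := by
      refine ⟨fun x hx y => ?_⟩
      have : x ∈ center G := zpowers_le.mpr z.2 hx
      rw [mem_center_iff.mp this y, mul_inv_cancel_right]; exact hx
    refine isSupersolvable_of_prime_normal (zpowers (z : G)) (hcard ▸ Fact.out)
      (ih _ ?_ (hG.to_quotient _))
    have := card_quotient_lt (N := zpowers (z : G)) fun h => by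
      rw [h, card_bot] at hcard; exact (Fact.out : p.Prime).one_lt.ne hcard
    omega

theorem isSupersolvable_of_isPGroup [Finite G] {p : ℕ} [Fact p.Prime] (hG : IsPGroup p G) :
    Cfsg.IsSupersolvable G :=
  isSupersolvable_of_isPGroup_aux _ G le_rfl hG

/-- If all maximal subgroups have prime index, the Sylow subgroup of the largest prime is normal. -/
theorem sylow_normal_of_prime_index [Finite G] (h : ∀ M : Subgroup G, IsCoatom M → M.index.Prime)
    {p : ℕ} [Fact p.Prime] (hmax : ∀ q : ℕ, q.Prime → q ∣ Nat.card G → q ≤ p) (P : Sylow p G) :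
    (P : Subgroup G).Normal := by
  have hp : p.Prime := Fact.out
  by_contra hn
  obtain ⟨M, hM, hle⟩ := exists_coatom_ge
    (fun e => hn (normalizer_eq_top_iff.mp e) : normalizer ((P : Subgroup G) : Set G) ≠ ⊤)
  have hq := h M hM
  have hPM : (P : Subgroup G) ≤ M := le_normalizer.trans hle
  have h1 : (normalizer ((P : Subgroup G) : Set G)).index ≡ 1 [MOD p] := by
    have := card_sylow_modEq_one p G
    rwa [P.card_eq_index_normalizer] at this
  have h2 : (normalizer ((P : Subgroup G) : Set G)).relIndex M ≡ 1 [MOD p] := by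
    have := card_sylow_modEq_one p M
    rw [(P.subtype hPM).card_eq_index_normalizer] at this
    rw [relIndex, subgroupOf_normalizer_eq hPM]
    exact this
  rw [← relIndex_mul_index hle] at h1
  have h3 : M.index ≡ 1 [MOD p] := by
    have h4 := ((h2.mul_right M.index).symm.trans h1)
    rwa [one_mul] at h4
  rcases (hmax _ hq M.index_dvd_card).lt_or_eq with hlt | heq
  · rw [Nat.ModEq, Nat.mod_eq_of_lt hlt, Nat.mod_eq_of_lt hp.one_lt] at h3
    exact hq.one_lt.ne' h3
  · rw [heq, Nat.ModEq, Nat.mod_self, Nat.mod_eq_of_lt hp.one_lt] at h3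
    exact one_ne_zero h3.symm

theorem exists_max_prime [Finite G] [Nontrivial G] :
    ∃ p : ℕ, p.Prime ∧ p ∣ Nat.card G ∧ ∀ q : ℕ, q.Prime → q ∣ Nat.card G → q ≤ p := by
  have hne : (Nat.card G).primeFactors.Nonempty :=
    Nat.nonempty_primeFactors.mpr Finite.one_lt_card
  refine ⟨_, Nat.prime_of_mem_primeFactors (Finset.max'_mem _ hne),
    Nat.dvd_of_mem_primeFactors (Finset.max'_mem _ hne), fun q hq hqd =>
      Finset.le_max' _ _ (Nat.mem_primeFactors.mpr ⟨hq, hqd, Nat.card_pos.ne'⟩)⟩

/-- An automorphism of order dividing `p - 1` of an elementary abelian `p`-group has an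
eigenvector. -/
theorem exists_eigenvector {p : ℕ} [Fact p.Prime] {V : Type*} [AddCommGroup V] [Module (ZMod p) V]
    [Nontrivial V] (a : Module.End (ZMod p) V) (ha : a ^ (p - 1) = 1) :
    ∃ c : ZMod p, ∃ v : V, v ≠ 0 ∧ a v = c • v := by
  classical
  have hp : p.Prime := Fact.out
  have hprod : ∏ c : ZMod p, (Polynomial.X - Polynomial.C c) =
      (Polynomial.X ^ p - Polynomial.X : Polynomial (ZMod p)) := by
    have hm : (Polynomial.X ^ p - Polynomial.X : Polynomial (ZMod p)).Monic :=
      Polynomial.monic_X_pow_sub (by rw [Polynomial.degree_X]; exact_mod_cast hp.one_lt)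
    have hr := FiniteField.roots_X_pow_card_sub_X (ZMod p)
    rw [ZMod.card] at hr
    have := Polynomial.prod_multiset_X_sub_C_of_monic_of_roots_card_eq hm (by
      rw [hr, FiniteField.X_pow_card_sub_X_natDegree_eq (ZMod p) hp.one_lt]
      simp [ZMod.card])
    rwa [hr] at this
  obtain ⟨v₀, hv₀⟩ := exists_ne (0 : V)
  have hz : Polynomial.aeval a (∏ c : ZMod p, (Polynomial.X - Polynomial.C c)) v₀ = 0 := by
    have hap : a ^ p = a := by
      have := pow_succ a (p - 1)
      rwa [Nat.sub_add_cancel hp.one_le, ha, one_mul] at this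
    rw [hprod, map_sub, map_pow, Polynomial.aeval_X, hap, sub_self]
    rfl
  revert hz
  induction (Finset.univ : Finset (ZMod p)) using Finset.induction with
  | empty => intro hz; exact absurd (by simpa using hz) hv₀
  | @insert c s hc ih =>
    intro hz
    rw [Finset.prod_insert hc, map_mul, Module.End.mul_apply] at hz
    by_cases h0 : Polynomial.aeval a (∏ x ∈ s, (Polynomial.X - Polynomial.C x)) v₀ = 0
    · exact ih h0
    · refine ⟨c, _, h0, ?_⟩
      rw [map_sub, Polynomial.aeval_X, Polynomial.aeval_C, LinearMap.sub_apply,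
        Module.algebraMap_end_apply, sub_eq_zero] at hz
      exact hz

theorem exists_eigenvector_hom {p : ℕ} [Fact p.Prime] {V : Type*} [AddCommGroup V]
    [Module (ZMod p) V] [Nontrivial V] (f : V →+ V) (hf : ∀ x, f^[p - 1] x = x) :
    ∃ c : ZMod p, ∃ v : V, v ≠ 0 ∧ f v = c • v := by
  refine exists_eigenvector (f.toZModLinearMap p) (LinearMap.ext fun x => ?_)
  rw [Module.End.pow_apply]
  exact hf x

theorem exists_conj_eq_pow [Finite G] {p : ℕ} [Fact p.Prime] (N : Subgroup G) (hN : N ≠ ⊥)
    (hab : IsMulCommutative N) (hexp : ∀ x ∈ N, x ^ p = 1) {k : G}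
    (hk : ∀ x ∈ N, k * x * k⁻¹ ∈ N)
    (hk1 : ∀ x ∈ N, k ^ (p - 1) * x * (k ^ (p - 1))⁻¹ = x) :
    ∃ n ∈ N, n ≠ 1 ∧ ∃ m : ℕ, k * n * k⁻¹ = n ^ m := by
  letI : CommGroup N := { (inferInstance : Group N) with mul_comm := fun a b => hab.is_comm.comm a b }
  have hz : ∀ x : Additive N, p • x = 0 := fun x => by
    have : (Additive.toMul x) ^ p = (1 : N) := Subtype.ext (hexp _ (Additive.toMul x).2)
    rw [← ofMul_toMul x, ← ofMul_pow, this, ofMul_one]
  letI : Module (ZMod p) (Additive N) := AddCommGroup.zmodModule hz
  haveI : Nontrivial N := (nontrivial_iff_ne_bot _).mpr hN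
  let f : N →* N :=
    { toFun := fun x => ⟨k * x * k⁻¹, hk x x.2⟩
      map_one' := Subtype.ext (by simp)
      map_mul' := fun x y => Subtype.ext (by simp [mul_assoc]) }
  have hiter : ∀ (i : ℕ) (x : N), ((f^[i] x : N) : G) = k ^ i * x * (k ^ i)⁻¹ := by
    intro i x
    induction i with
    | zero => simp
    | succ i ih =>
      rw [Function.iterate_succ_apply']
      change k * ((f^[i] x : N) : G) * k⁻¹ = _
      rw [ih, pow_succ']; group
  obtain ⟨c, v, hv, hav⟩ := exists_eigenvector_hom (p := p) (MonoidHom.toAdditive f) (fun x => by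
    have : ∀ i : ℕ, (MonoidHom.toAdditive f)^[i] x = Additive.ofMul (f^[i] (Additive.toMul x)) := by
      intro i
      induction i with
      | zero => rfl
      | succ i ih => rw [Function.iterate_succ_apply', Function.iterate_succ_apply', ih]; rfl
    rw [this]
    exact Subtype.ext (by
      change ((f^[p - 1] (Additive.toMul x) : N) : G) = _
      rw [hiter]; exact hk1 _ (Additive.toMul x).2))
  refine ⟨(Additive.toMul v : N), (Additive.toMul v).2, fun h => hv ?_, c.val, ?_⟩
  · exact Additive.toMul.injective (Subtype.ext (h.trans (by simp)))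
  · rw [← ZMod.natCast_zmod_val c, Nat.cast_smul_eq_nsmul] at hav
    exact congrArg (fun w : Additive N => ((Additive.toMul w : N) : G)) hav

theorem isSupersolvable_of_prime_index_aux : ∀ (n : ℕ) (G : Type u) [Group G] [Finite G],
    Nat.card G ≤ n → (∀ M : Subgroup G, IsCoatom M → M.index.Prime) → Cfsg.IsSupersolvable G := by
  intro n
  induction n with
  | zero => intro G _ _ hn; exact absurd hn (not_le.mpr Nat.card_pos)
  | succ n ih =>
    intro G _ _ hn h
    rcases subsingleton_or_nontrivial G with hG | hG
    · exact isSupersolvable_of_subsingleton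
    -- proper quotients are supersolvable
    have hquot : ∀ (X : Subgroup G) [X.Normal], X ≠ ⊥ → Cfsg.IsSupersolvable (G ⧸ X) := by
      intro X _ hX
      refine ih _ (by have := card_quotient_lt hX; omega) fun M hM => ?_
      have hs := QuotientGroup.mk'_surjective X
      rw [← index_comap_of_surjective M hs]
      refine h _ ⟨fun e => hM.1 (comap_injective hs (e.trans (comap_top _).symm)), fun Y hY => ?_⟩
      have hker : (QuotientGroup.mk' X).ker ≤ Y := (ker_le_comap _ _).trans hY.le
      rw [← comap_map_eq_self hker, hM.2 (Y.map (QuotientGroup.mk' X)) ?_, comap_top]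
      rwa [← comap_lt_comap_of_surjective hs, comap_map_eq_self hker]
    obtain ⟨p, hp, hpd, hmax⟩ := exists_max_prime (G := G)
    haveI := Fact.mk hp
    obtain ⟨P⟩ : Nonempty (Sylow p G) := inferInstance
    haveI hPn := sylow_normal_of_prime_index h hmax P
    have hPb : (P : Subgroup G) ≠ ⊥ := P.ne_bot_of_dvd_card hpd
    obtain ⟨N, hN, hNP, hNb, hNmin⟩ := exists_minimal_normal_le hPb
    haveI := hN
    have hNp : IsPGroup p N := P.isPGroup'.to_le hNP
    -- `P` centralises `N`
    have hPN : (P : Subgroup G) ≤ centralizer (N : Set G) := by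
      haveI : Group.IsNilpotent (P : Subgroup G) := P.isPGroup'.isNilpotent
      have h1 := inf_center_ne_bot (N.subgroupOf (P : Subgroup G))
        (fun e => hNb (by rw [← map_subgroupOf_eq_of_le hNP, e, Subgroup.map_bot]))
      haveI : (centralizer ((P : Subgroup G) : Set G)).Normal := inferInstance
      rcases hNmin (N ⊓ centralizer ((P : Subgroup G) : Set G)) inferInstance inf_le_left with e | e
      · refine absurd (eq_bot_iff.mpr fun x hx => ?_) h1
        have hx' : (x : G) ∈ N ⊓ centralizer ((P : Subgroup G) : Set G) :=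
          ⟨hx.1, fun y hy => congrArg Subtype.val (mem_center_iff.mp hx.2 ⟨y, hy⟩)⟩
        rw [e, mem_bot] at hx'
        exact mem_bot.mpr (Subtype.ext hx')
      · exact le_centralizer_iff.mp (inf_eq_left.mp e)
    have hNab : IsMulCommutative N :=
      ⟨⟨fun a b => Subtype.ext (mem_centralizer_iff.mp (hPN (hNP b.2)) a a.2)⟩⟩
    haveI := hNab
    by_cases hfr : ∃ M : Subgroup G, IsCoatom M ∧ ¬ N ≤ M
    · obtain ⟨M, hM, hle⟩ := hfr
      have htop : N ⊔ M = ⊤ := hM.2 _ (lt_of_le_of_ne le_sup_right fun e => hle (e ▸ le_sup_left))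
      have hnorm : (N ⊓ M).Normal := by
        refine normalizer_eq_top_iff.mp (top_le_iff.mp ?_)
        rw [← htop]
        refine sup_le ?_ (le_normalizer_inf (le_normalizer_of_normal) le_normalizer)
        exact (centralizer_le_normalizer _).trans' (fun x hx => fun y hy =>
          congrArg Subtype.val (hNab.is_comm.comm (⟨y, hy.1⟩ : N) ⟨x, hx⟩))
      have hb : N ⊓ M = ⊥ := (hNmin _ hnorm inf_le_left).resolve_right
        (fun e => hle (inf_eq_left.mp e))
      refine isSupersolvable_of_prime_normal N ?_ (hquot N hNb)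
      have hc := card_sup_mul_card_inf N M le_normalizer_of_normal
      rw [htop, card_top, hb, card_bot, mul_one, ← index_mul_card M] at hc
      have : M.index = Nat.card N := Nat.eq_of_mul_eq_mul_right Nat.card_pos hc
      exact this ▸ h M hM
    push Not at hfr
    obtain ⟨K, hK⟩ := exists_right_complement'_of_coprime (N := (P : Subgroup G)) P.card_coprime_index
    have hKcard : Nat.card K = (P : Subgroup G).index := hK.symm.index_eq_card.symm
    have hKcop : (Nat.card K).Coprime p := by
      rw [hKcard]
      exact (hp.coprime_iff_not_dvd.mpr P.not_dvd_index).symm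
    have hkord : ∀ k ∈ K, (orderOf k).Coprime p := fun k hk =>
      hKcop.coprime_dvd_left (K.orderOf_dvd_natCard hk)
    set f := QuotientGroup.mk' N with hfdef
    set S : Set G := {x | (∃ a ∈ K, ∃ b ∈ K, x = a * b * a⁻¹ * b⁻¹) ∨ ∃ a ∈ K, x = a ^ (p - 1)}
    set W := closure S with hW
    have hSK : ∀ x ∈ S, x ∈ K := by
      rintro x (⟨a, ha, b, hb, rfl⟩ | ⟨a, ha, rfl⟩)
      · exact K.mul_mem (K.mul_mem (K.mul_mem ha hb) (K.inv_mem ha)) (K.inv_mem hb)
      · exact K.pow_mem ha _
    have hWK : W ≤ K := (closure_le _).mpr hSK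
    have hWn : K ≤ normalizer (W : Set G) := by
      refine le_normalizer_of_conj_mem fun g hg x hx => ?_
      induction hx using closure_induction with
      | mem y hy =>
        refine subset_closure ?_
        rcases hy with ⟨a, ha, b, hb, rfl⟩ | ⟨a, ha, rfl⟩
        · exact Or.inl ⟨g * a * g⁻¹, K.mul_mem (K.mul_mem hg ha) (K.inv_mem hg),
            g * b * g⁻¹, K.mul_mem (K.mul_mem hg hb) (K.inv_mem hg), by group⟩
        · exact Or.inr ⟨g * a * g⁻¹, K.mul_mem (K.mul_mem hg ha) (K.inv_mem hg), conj_pow.symm⟩
      | one => simpa using one_mem W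
      | mul a b _ _ iha ihb =>
        rw [show g * (a * b) * g⁻¹ = (g * a * g⁻¹) * (g * b * g⁻¹) by group]
        exact mul_mem iha ihb
      | inv a _ iha =>
        rw [show g * a⁻¹ * g⁻¹ = (g * a * g⁻¹)⁻¹ by group]
        exact inv_mem iha
    -- generators of `W` centralise `P` modulo `N`
    have hcen : ∀ a ∈ (P : Subgroup G), ∀ w ∈ W, w * a * w⁻¹ * a⁻¹ ∈ N := by
      have key : ∀ A : Subgroup (G ⧸ N), SSChain A → ∀ x ∈ A ⊓ (P : Subgroup G).map f,
          ∀ w ∈ S, Commute (f w) x := by
        intro A hA
        induction hA with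
        | bot => intro x hx w _; rw [mem_bot.mp hx.1]; exact Commute.one_right _
        | @step A B hA hB g hg ihA =>
          haveI := hA.normal
          haveI := hB
          haveI : ((P : Subgroup G).map f).Normal := hPn.map f (QuotientGroup.mk'_surjective N)
          set P' := (P : Subgroup G).map f
          obtain ⟨g', hg'P, hg'⟩ := exists_zpowers_step_inf A g P'
          rw [← hg] at hg'
          have hg'B : g' ∈ B ⊓ P' := hg' ▸ mem_sup_right (mem_zpowers g')
          set π := QuotientGroup.mk' (A ⊓ P')
          have hy : ∀ z : G ⧸ N, ∃ m : ℤ, π z * π g' * (π z)⁻¹ = π g' ^ m := by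
            intro z
            have h1 : z * g' * z⁻¹ ∈ B ⊓ P' := Normal.conj_mem inferInstance g' hg'B z
            rw [hg'] at h1
            obtain ⟨a, ha, b, hb, hab⟩ := mem_sup_of_normal_left.mp h1
            obtain ⟨m, rfl⟩ := mem_zpowers_iff.mp hb
            refine ⟨m, ?_⟩
            have hπa : π a = 1 := (QuotientGroup.eq_one_iff a).mpr ha
            rw [← map_inv, ← map_mul, ← map_mul, ← hab, map_mul, hπa, one_mul, map_zpow]
          have hfix : ∀ w ∈ S, π (f w) * π g' * (π (f w))⁻¹ = π g' := by
            intro w hw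
            rcases hw with ⟨a, ha, b, hb, rfl⟩ | ⟨a, ha, rfl⟩
            · simp only [map_mul, map_inv]
              obtain ⟨m, hm⟩ := hy (f a)⁻¹
              obtain ⟨l, hl⟩ := hy (f b)⁻¹
              rw [map_inv] at hm hl
              generalize π (f a) = x at hm ⊢
              generalize π (f b) = y at hl ⊢
              generalize π g' = t at hm hl ⊢
              have e1 : (x⁻¹ * y⁻¹) * t * (x⁻¹ * y⁻¹)⁻¹ = (y⁻¹ * x⁻¹) * t * (y⁻¹ * x⁻¹)⁻¹ := by
                calc (x⁻¹ * y⁻¹) * t * (x⁻¹ * y⁻¹)⁻¹
                    = x⁻¹ * (y⁻¹ * t * y⁻¹⁻¹) * x⁻¹⁻¹ := by group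
                  _ = t ^ (m * l) := by rw [hl, ← conj_zpow, hm, ← zpow_mul]
                  _ = y⁻¹ * (x⁻¹ * t * x⁻¹⁻¹) * y⁻¹⁻¹ := by
                    rw [hm, ← conj_zpow, hl, ← zpow_mul, mul_comm]
                  _ = (y⁻¹ * x⁻¹) * t * (y⁻¹ * x⁻¹)⁻¹ := by group
              calc x * y * x⁻¹ * y⁻¹ * t * (x * y * x⁻¹ * y⁻¹)⁻¹
                  = x * y * ((x⁻¹ * y⁻¹) * t * (x⁻¹ * y⁻¹)⁻¹) * (x * y)⁻¹ := by group
                _ = x * y * ((y⁻¹ * x⁻¹) * t * (y⁻¹ * x⁻¹)⁻¹) * (x * y)⁻¹ := by rw [e1]
                _ = t := by group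
            · obtain ⟨m, hm⟩ := hy (f a)
              obtain ⟨e, he⟩ : ∃ e, orderOf (π g') = p ^ e :=
                IsPGroup.iff_orderOf.mp ((P.isPGroup'.map f).map π) ⟨π g', mem_map_of_mem π hg'P⟩
                  |>.imp fun e he => by rwa [← Subgroup.orderOf_coe] at he
              rw [map_pow, map_pow]
              generalize hx : π (f a) = x at hm ⊢
              generalize π g' = t at hm he ⊢
              have hit : ∀ i : ℕ, x ^ i * t * (x ^ i)⁻¹ = t ^ (m ^ i) := by
                intro i
                induction i with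
                | zero => simp
                | succ i ihi =>
                  rw [pow_succ', show x * x ^ i * t * (x * x ^ i)⁻¹ = x * (x ^ i * t * (x ^ i)⁻¹) * x⁻¹
                    by group, ihi, ← conj_zpow, hm, ← zpow_mul, ← pow_succ']
              rw [hit]
              set r := orderOf x with hr
              have hrp : r.Coprime p := by
                rw [hr, ← hx]
                exact (hkord a ha).coprime_dvd_left
                  ((orderOf_map_dvd π _).trans (orderOf_map_dvd f _))
              have h1 : t ^ (m ^ r) = t ^ (1 : ℤ) := by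
                rw [← hit, hr, pow_orderOf_eq_one]; simp
              rw [zpow_eq_zpow_iff_modEq, he, ← ZMod.intCast_eq_intCast_iff] at h1
              conv_rhs => rw [← zpow_one t]
              rw [zpow_eq_zpow_iff_modEq, he, ← ZMod.intCast_eq_intCast_iff]
              push_cast at h1 ⊢
              rcases e with _ | e
              · exact @Subsingleton.elim _ (by rw [pow_zero]; infer_instance) _ _
              let v : (ZMod (p ^ (e + 1)))ˣ :=
                Units.ofPowEqOne (m : ZMod (p ^ (e + 1))) r h1 (by
                  intro h0; rw [h0, Nat.coprime_zero_left] at hrp; exact hp.one_lt.ne' hrp)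
              have hv : v ^ r = 1 := Units.pow_ofPowEqOne _ _
              have hv2 : v ^ (p ^ e * (p - 1)) = 1 := by
                have := ZMod.pow_totient v
                rwa [Nat.totient_prime_pow_succ hp] at this
              have hv3 : v ^ (p - 1) = 1 :=
                orderOf_dvd_iff_pow_eq_one.mp ((Nat.Coprime.dvd_mul_left
                  ((hrp.pow_right e).coprime_dvd_left (orderOf_dvd_of_pow_eq_one hv))).mp
                  (orderOf_dvd_of_pow_eq_one hv2))
              exact congrArg Units.val hv3
          intro x hx w hw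
          rw [hg'] at hx
          obtain ⟨a, ha, b, hb, rfl⟩ := mem_sup_of_normal_left.mp hx
          obtain ⟨i, rfl⟩ := mem_zpowers_iff.mp hb
          refine (ihA a ha w hw).mul_right (Commute.zpow_right ?_ i)
          set d := f w * g' * (f w)⁻¹ * g'⁻¹ with hd
          have hdA : d ∈ A ⊓ P' := by
            rw [← QuotientGroup.eq_one_iff]
            change π d = 1
            rw [hd, map_mul, map_mul, map_mul, map_inv, map_inv, hfix w hw, mul_inv_cancel]
          have hwd := ihA d hdA w hw
          have hit : ∀ i : ℕ, f w ^ i * g' * (f w ^ i)⁻¹ = d ^ i * g' := by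
            intro i
            induction i with
            | zero => simp
            | succ i ihi =>
              rw [pow_succ', show f w * f w ^ i * g' * (f w * f w ^ i)⁻¹ =
                f w * (f w ^ i * g' * (f w ^ i)⁻¹) * (f w)⁻¹ by group, ihi,
                ← mul_assoc (f w) (d ^ i) g', (hwd.pow_right i).eq, pow_succ, hd]
              group
          have h1 := hit (orderOf (f w))
          rw [pow_orderOf_eq_one, one_mul, inv_one, mul_one, eq_comm, mul_eq_right] at h1
          have hd1 : d = 1 := by
            obtain ⟨k, hk⟩ := IsPGroup.iff_orderOf.mp (P.isPGroup'.map f) ⟨d, hdA.2⟩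
            rw [← Subgroup.orderOf_coe] at hk
            refine orderOf_eq_one_iff.mp (Nat.dvd_one.mp ?_)
            rw [← Nat.Coprime.gcd_eq_one (m := orderOf (f w)) (n := orderOf d) ?_]
            · exact Nat.dvd_gcd (orderOf_dvd_of_pow_eq_one h1) dvd_rfl
            · rw [show orderOf d = p ^ k from hk]
              exact ((hkord w (hSK w hw)).coprime_dvd_left (orderOf_map_dvd f w)).pow_right k
          rw [hd, mul_inv_eq_one, mul_inv_eq_iff_eq_mul] at hd1
          exact hd1
      intro a ha w hw
      have hle : W ≤ (centralizer ((P : Subgroup G).map f : Set (G ⧸ N))).comap f := by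
        refine (closure_le _).mpr fun x hx => ?_
        intro y hy
        exact (key ⊤ (isSupersolvable_iff.mp (hquot N hNb)) y ⟨mem_top y, hy⟩ x hx).eq.symm
      have := hle hw (f a) (mem_map_of_mem f ha)
      rw [← QuotientGroup.eq_one_iff]
      change f (w * a * w⁻¹ * a⁻¹) = 1
      rw [map_mul, map_mul, map_mul, map_inv, map_inv, ← this]
      group
    have hWnormal : W.Normal := by
      refine normalizer_eq_top_iff.mp ?_
      by_contra hne
      obtain ⟨M, hM, hle⟩ := exists_coatom_ge hne
      refine hM.1 (top_le_iff.mp ?_)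
      rw [← hK.sup_eq_top]
      refine sup_le (fun a ha => ?_) (hWn.trans hle)
      obtain ⟨c, hc, hcn⟩ := exists_centralizer_lift W (P : Subgroup G) le_normalizer_of_normal
        (by
          obtain ⟨i, hi⟩ := IsPGroup.iff_card.mp P.isPGroup'
          rw [hi]
          exact (hKcop.coprime_dvd_left (card_dvd_of_le hWK)).pow_right i)
        (Or.inr (haveI := P.isPGroup'.isNilpotent; inferInstance)) N hNP le_normalizer_of_normal
        le_normalizer_of_normal a ha (fun w hw => hcen a ha w hw)
      have hcM : c ∈ M := hle (centralizer_le_normalizer _ hc.2)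
      have := M.mul_mem hcM (M.inv_mem (hfr M hM hcn))
      simpa using this
    haveI := hWnormal
    rcases eq_or_ne W ⊥ with hWb | hWb
    swap
    · refine isSupersolvable_of_inf_eq_bot N W ?_ (hquot N hNb) (hquot W hWb)
      refine inf_eq_bot_of_coprime_card N W ?_
      obtain ⟨i, hi⟩ := IsPGroup.iff_card.mp hNp
      rw [hi]
      exact ((hKcop.coprime_dvd_left (card_dvd_of_le hWK)).symm).pow_left i
    -- `K` is abelian of exponent dividing `p - 1`
    have hS1 : ∀ x ∈ S, x = 1 := fun x hx => mem_bot.mp (hWb ▸ subset_closure hx)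
    have hKab : ∀ a ∈ K, ∀ b ∈ K, a * b = b * a := fun a ha b hb => by
      have := hS1 _ (Or.inl ⟨a, ha, b, hb, rfl⟩)
      rwa [mul_inv_eq_one, mul_inv_eq_iff_eq_mul] at this
    have hexp : ∀ x ∈ N, x ^ p = 1 := by
      haveI : Group.IsSolvable N := haveI := hNp.isNilpotent; inferInstance
      obtain ⟨-, q, hq, hqe⟩ := minimal_normal_elementary N hNb hNmin
      intro x hx
      by_cases hx1 : x = 1
      · simp [hx1]
      obtain ⟨i, hi⟩ := IsPGroup.iff_orderOf.mp hNp ⟨x, hx⟩
      rw [← Subgroup.orderOf_coe] at hi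
      have h1 := @orderOf_eq_prime G _ x q ⟨hq⟩ (hqe x hx) hx1
      have : q = p := by
        rw [show orderOf x = p ^ i from hi] at h1
        exact ((Nat.prime_dvd_prime_iff_eq hq hp).mp (hq.dvd_of_dvd_pow (dvd_of_eq h1.symm)))
      exact this ▸ hqe x hx
    have hpow : ∀ k ∈ K, ∃ m : ℕ, ∀ x ∈ N, k * x * k⁻¹ = x ^ m := by
      intro k hk
      have hk1 : k ^ (p - 1) = 1 := hS1 _ (Or.inr ⟨k, hk, rfl⟩)
      obtain ⟨n₀, hn₀, hn₁, m, hm⟩ := exists_conj_eq_pow N hNb hNab hexp (k := k)
        (fun x hx => Normal.conj_mem inferInstance x hx k) (fun x _ => by rw [hk1]; group)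
      let E : Subgroup G :=
        { carrier := {x | x ∈ N ∧ k * x * k⁻¹ = x ^ m}
          one_mem' := ⟨one_mem N, by simp⟩
          mul_mem' := by
            rintro a b ⟨ha, ha'⟩ ⟨hb, hb'⟩
            refine ⟨mul_mem ha hb, ?_⟩
            have hab : Commute a b := congrArg Subtype.val (hNab.is_comm.comm (⟨a, ha⟩ : N) ⟨b, hb⟩)
            rw [hab.mul_pow, ← ha', ← hb']; group
          inv_mem' := by
            rintro a ⟨ha, ha'⟩
            refine ⟨inv_mem ha, ?_⟩
            rw [inv_pow, ← ha']; group }
      have hEn : E.Normal := by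
        refine normalizer_eq_top_iff.mp (top_le_iff.mp ?_)
        rw [← hK.sup_eq_top]
        refine sup_le (fun y hy => centralizer_le_normalizer _ ?_) ?_
        · exact fun x hx => (mem_centralizer_iff.mp (hPN hy) x hx.1)
        · refine le_normalizer_of_conj_mem fun y hy x hx => ⟨Normal.conj_mem inferInstance x hx.1 y, ?_⟩
          rw [conj_pow, ← hx.2, show k * (y * x * y⁻¹) * k⁻¹ = (k * y) * x * (k * y)⁻¹ by group,
            hKab k hk y hy]
          group
      have hE : E = N := (hNmin E hEn fun x hx => hx.1).resolve_left fun e =>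
        hn₁ (mem_bot.mp (e ▸ (⟨hn₀, hm⟩ : n₀ ∈ E)))
      exact ⟨m, fun x hx => ((hE.symm ▸ hx : x ∈ E)).2⟩
    haveI : Nontrivial N := (nontrivial_iff_ne_bot _).mpr hNb
    obtain ⟨⟨n₀, hn₀⟩, hn₀'⟩ := exists_ne (1 : N)
    have hn1 : n₀ ≠ 1 := fun e => hn₀' (Subtype.ext e)
    have hZ : (zpowers n₀).Normal := by
      refine normalizer_eq_top_iff.mp (top_le_iff.mp ?_)
      rw [← hK.sup_eq_top]
      refine sup_le (fun y hy => centralizer_le_normalizer _ ?_) ?_
      · exact fun x hx => mem_centralizer_iff.mp (hPN hy) x (zpowers_le.mpr hn₀ hx)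
      · refine le_normalizer_of_conj_mem fun y hy x hx => ?_
        obtain ⟨m, hm⟩ := hpow y hy
        rw [hm x (zpowers_le.mpr hn₀ hx)]
        exact pow_mem hx m
    haveI := hZ
    have hZN : zpowers n₀ = N := (hNmin _ hZ (zpowers_le.mpr hn₀)).resolve_left
      (by rwa [zpowers_eq_bot])
    refine isSupersolvable_of_prime_normal N ?_ (hquot N hNb)
    rw [← hZN, Nat.card_zpowers, orderOf_eq_prime (hexp n₀ hn₀) hn1]
    exact hp

/-- **Huppert's criterion**. -/
theorem isSupersolvable_of_prime_index [Finite G]
    (h : ∀ M : Subgroup G, IsCoatom M → M.index.Prime) : Cfsg.IsSupersolvable G :=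
  isSupersolvable_of_prime_index_aux _ G le_rfl h

theorem clt_subgroup {H : Subgroup G} (h : ∀ H : Subgroup G, Cfsg.HasSubgroupOfEveryOrder H)
    (K : Subgroup H) : Cfsg.HasSubgroupOfEveryOrder K := by
  intro d hd
  obtain ⟨Y, hY⟩ := h (K.map H.subtype) d (by rwa [card_map_subtype])
  exact ⟨Y.map (K.equivMapOfInjective H.subtype H.subtype_injective).symm.toMonoidHom,
    (card_map_equiv (K.equivMapOfInjective H.subtype H.subtype_injective).symm Y).trans hY⟩

theorem sylow_normal_of_clt_aux {p : ℕ} [Fact p.Prime] : ∀ (n : ℕ) (G : Type u) [Group G] [Finite G],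
    Nat.card G ≤ n → (∀ H : Subgroup G, Cfsg.HasSubgroupOfEveryOrder H) →
    (∀ q : ℕ, q.Prime → q ∣ Nat.card G → q ≤ p) → ∀ P : Sylow p G, (P : Subgroup G).Normal := by
  intro n
  induction n with
  | zero => intro G _ _ hn; exact absurd hn (not_le.mpr Nat.card_pos)
  | succ n ih =>
    intro G _ _ hn h hmax P
    have hp : p.Prime := Fact.out
    by_cases h1 : Nat.card G = 1
    · haveI : Subsingleton G := (Nat.card_eq_one_iff_unique.mp h1).1
      rw [Subsingleton.elim (P : Subgroup G) ⊥]; infer_instance
    set q := (Nat.card G).minFac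
    have hq : q.Prime := Nat.minFac_prime h1
    rcases (hmax q hq (Nat.minFac_dvd _)).lt_or_eq with hlt | heq
    · obtain ⟨X, hX⟩ := h ⊤ (Nat.card G / q) (by rw [card_top]; exact Nat.div_dvd_of_dvd (Nat.minFac_dvd _))
      set H := X.map (⊤ : Subgroup G).subtype
      have hHc : Nat.card H = Nat.card G / q := by
        rw [← hX]; exact card_map_subtype _ X
      have hHi : H.index = q := by
        have := H.index_mul_card
        rw [hHc] at this
        apply Nat.eq_of_mul_eq_mul_right (Nat.div_pos (Nat.le_of_dvd Nat.card_pos (Nat.minFac_dvd _)) hq.pos)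
        rw [this, Nat.mul_div_cancel' (Nat.minFac_dvd _)]
      haveI : H.Normal := normal_of_index_eq_minFac_card hHi
      have hPH : (P : Subgroup G) ≤ H := by
        refine le_of_coprime_index H ?_
        obtain ⟨i, hi⟩ := IsPGroup.iff_card.mp P.isPGroup'
        rw [hi, hHi]
        exact Nat.Coprime.pow_left i ((Nat.coprime_primes hp hq).mpr (Ne.symm hlt.ne))
      have hHlt : Nat.card H < Nat.card G := by
        rw [hHc]; exact Nat.div_lt_self Nat.card_pos hq.one_lt
      have hsub : ∀ K : Subgroup H, Cfsg.HasSubgroupOfEveryOrder K := clt_subgroup h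
      have hn' := ih H (by omega) hsub
        (fun r hr hrd => hmax r hr (hrd.trans (card_subgroup_dvd_card H))) (P.subtype hPH)
      haveI := Sylow.characteristic_of_normal (P.subtype hPH) hn'
      have e : ((P.subtype hPH : Sylow p H) : Subgroup H).map H.subtype = (P : Subgroup G) := by
        rw [Sylow.coe_subtype, map_subgroupOf_eq_of_le hPH]
      rw [← e]; infer_instance
    · have hall : IsPGroup p G := by
        refine IsPGroup.of_card (n := (Nat.card G).factorization p) ?_
        have h2 := Nat.eq_prime_pow_of_unique_prime_dvd (n := Nat.card G) (p := p) Nat.card_pos.ne'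
          (fun {d} hd hdd => le_antisymm (hmax d hd hdd)
            (heq ▸ Nat.minFac_le_of_dvd hd.two_le hdd))
        conv_rhs => rw [h2]
        rw [hp.factorization_pow, Finsupp.single_eq_same, ← h2]
      rw [show (P : Subgroup G) = ⊤ from (P.is_maximal' (hall.to_subgroup ⊤) le_top).symm]
      infer_instance

theorem relIndex_eq_index_of_mul [Finite G] {M H : Subgroup G}
    (h : ∀ g : G, ∃ x ∈ H, ∃ y ∈ M, g = x * y) : M.relIndex H = M.index := by
  haveI : MulAction.IsPretransitive H (G ⧸ M) := by
    refine MulAction.IsPretransitive.mk fun a b => ?_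
    obtain ⟨g, rfl⟩ := QuotientGroup.mk_surjective a
    obtain ⟨g', rfl⟩ := QuotientGroup.mk_surjective b
    obtain ⟨x, hx, y, hy, he⟩ := h g
    obtain ⟨x', hx', y', hy', he'⟩ := h g'
    refine ⟨⟨x' * x⁻¹, H.mul_mem hx' (H.inv_mem hx)⟩, ?_⟩
    change ((x' * x⁻¹ * g : G) : G ⧸ M) = _
    rw [QuotientGroup.eq, he, he',
      show (x' * x⁻¹ * (x * y))⁻¹ * (x' * y') = y⁻¹ * y' by group]
    exact M.mul_mem (M.inv_mem hy) hy'
  have h1 := MulAction.index_stabilizer_of_transitive H ((1 : G) : G ⧸ M)
  have hst : MulAction.stabilizer H ((1 : G) : G ⧸ M) = M.subgroupOf H := by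
    ext x
    rw [MulAction.mem_stabilizer_iff, mem_subgroupOf]
    change (((x : G) * 1 : G) : G ⧸ M) = _ ↔ _
    rw [mul_one, QuotientGroup.eq]; simp
  rwa [hst, ← index_eq_card] at h1

theorem isSupersolvable_of_clt_aux : ∀ (n : ℕ) (G : Type u) [Group G] [Finite G],
    Nat.card G ≤ n → (∀ H : Subgroup G, Cfsg.HasSubgroupOfEveryOrder H) →
    Cfsg.IsSupersolvable G := by
  intro n
  induction n with
  | zero => intro G _ _ hn; exact absurd hn (not_le.mpr Nat.card_pos)
  | succ n ih =>
    intro G _ _ hn h
    rcases subsingleton_or_nontrivial G with hG | hG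
    · exact isSupersolvable_of_subsingleton
    have hsub : ∀ H : Subgroup G, H ≠ ⊤ → Cfsg.IsSupersolvable H := by
      intro H hH
      have : Nat.card H < Nat.card G :=
        lt_of_le_of_ne (card_le_card_group _) fun e => hH (eq_top_of_card_eq _ e)
      exact ih H (by omega) (clt_subgroup h)
    obtain ⟨p, hp, hpd, hmax⟩ := exists_max_prime (G := G)
    haveI := Fact.mk hp
    obtain ⟨P⟩ : Nonempty (Sylow p G) := inferInstance
    haveI hPn := sylow_normal_of_clt_aux (n + 1) G hn h hmax P
    obtain ⟨X, hX⟩ := h ⊤ (Nat.card G / p) (by rw [card_top]; exact Nat.div_dvd_of_dvd hpd)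
    set H := X.map (⊤ : Subgroup G).subtype
    have hHc : Nat.card H = Nat.card G / p := by rw [← hX]; exact card_map_subtype _ X
    have hHi : H.index = p := by
      have := H.index_mul_card
      rw [hHc] at this
      apply Nat.eq_of_mul_eq_mul_right (Nat.div_pos (Nat.le_of_dvd Nat.card_pos hpd) hp.pos)
      rw [this, Nat.mul_div_cancel' hpd]
    have hHtop : H ≠ ⊤ := fun e => hp.one_lt.ne' (by rw [← hHi, e, index_top])
    obtain ⟨K, hK⟩ := exists_right_complement'_of_coprime (N := (P : Subgroup G)) P.card_coprime_index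
    have hKcard : Nat.card K = (P : Subgroup G).index := hK.symm.index_eq_card.symm
    have hKcop : (Nat.card (P : Subgroup G)).Coprime (Nat.card K) := hKcard ▸ P.card_coprime_index
    refine isSupersolvable_of_prime_index fun M hM => ?_
    by_cases hPM : (P : Subgroup G) ≤ M
    · set f := QuotientGroup.mk' (P : Subgroup G) with hf
      have hs : Function.Surjective (f.comp K.subtype) := by
        intro x
        obtain ⟨g, rfl⟩ := QuotientGroup.mk'_surjective _ x
        obtain ⟨a, ha, k, hk, rfl⟩ := mem_sup_of_normal_left.mp (hK.sup_eq_top ▸ mem_top g)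
        refine ⟨⟨k, hk⟩, ?_⟩
        rw [map_mul, hf, show QuotientGroup.mk' (P : Subgroup G) a = 1 from
          (QuotientGroup.eq_one_iff a).mpr ha, one_mul]
        rfl
      by_cases hKt : K = ⊤
      · have : (P : Subgroup G) = ⊥ := by
          rw [hKt, card_top] at hKcard
          have := (P : Subgroup G).index_mul_card
          rw [← hKcard] at this
          exact Subgroup.card_eq_one.mp
            (Nat.eq_of_mul_eq_mul_left Nat.card_pos (this.trans (mul_one _).symm))
        exact absurd this (P.ne_bot_of_dvd_card hpd)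
      have hss := isSupersolvable_of_surjective _ hs (hsub K hKt)
      have hker : f.ker ≤ M := by rwa [hf, QuotientGroup.ker_mk']
      have hfs : Function.Surjective f := QuotientGroup.mk'_surjective _
      rw [← index_map_eq M hfs hker]
      refine index_prime_of_isSupersolvable hss _ ⟨fun e => hM.1 ?_, fun X hX => ?_⟩
      · rw [← comap_map_eq_self hker, e, comap_top]
      · have hMX : M < X.comap f := by
          rw [← comap_map_eq_self hker]
          exact (comap_lt_comap_of_surjective hfs).mpr hX
        exact comap_injective hfs ((hM.2 _ hMX).trans (comap_top f).symm)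
    · have htop : (P : Subgroup G) ⊔ M = ⊤ :=
        hM.2 _ (lt_of_le_of_ne le_sup_right fun e => hPM (e ▸ le_sup_left))
      set R := M ⊓ (P : Subgroup G) with hR
      have hRP : R < (P : Subgroup G) := lt_of_le_of_ne inf_le_right fun e => hPM (inf_eq_right.mp e)
      haveI : Group.IsNilpotent (P : Subgroup G) := P.isPGroup'.isNilpotent
      haveI hRn : R.Normal := by
        refine normalizer_eq_top_iff.mp ?_
        by_contra hne
        have hle : M ≤ normalizer (R : Set G) := le_normalizer_inf le_normalizer le_normalizer_of_normal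
        have heq : normalizer (R : Set G) = M :=
          (hle.lt_or_eq.resolve_left fun hlt => hne (hM.2 _ hlt)).symm
        have hnc := Group.normalizerCondition_of_isNilpotent (R.subgroupOf (P : Subgroup G))
          (lt_top_iff_ne_top.mpr fun e => hRP.ne (le_antisymm hRP.le (subgroupOf_eq_top.mp e)))
        rw [← subgroupOf_normalizer_eq hRP.le, heq, hR, inf_comm, inf_subgroupOf_left] at hnc
        exact lt_irrefl _ hnc
      have hcomm : ⁅(P : Subgroup G), (P : Subgroup G)⁆ ≤ R := by
        by_contra hle
        set D := ⁅(P : Subgroup G), (P : Subgroup G)⁆ ⊔ R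
        have hDM : ¬ D ≤ M := fun e => hle (le_inf (le_sup_left.trans e) (commutator_le_self _))
        have hD : D ⊔ M = ⊤ := hM.2 _ (lt_of_le_of_ne le_sup_right fun e => hDM (e ▸ le_sup_left))
        obtain ⟨Y, hY, hRY⟩ := exists_coatom_ge (H := R.subgroupOf (P : Subgroup G))
          (fun e => hRP.ne (le_antisymm hRP.le (subgroupOf_eq_top.mp e)))
        haveI := coatom_normal_of_isNilpotent inferInstance Y hY
        haveI := Fact.mk (prime_index_of_coatom_normal Y hY)
        haveI : IsCyclic ((P : Subgroup G) ⧸ Y) :=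
          isCyclic_of_prime_card (p := Y.index) (index_eq_card Y).symm
        have hcY : commutator (P : Subgroup G) ≤ Y := by
          rw [commutator_def, commutator_le]
          intro a _ b _
          rw [← QuotientGroup.eq_one_iff]
          change QuotientGroup.mk' Y ⁅a, b⁆ = 1
          rw [map_commutatorElement, commutatorElement_eq_one_iff_mul_comm]
          exact (IsCyclic.commGroup (α := (P : Subgroup G) ⧸ Y)).mul_comm _ _
        have hDY : D ≤ Y.map (P : Subgroup G).subtype := by
          refine sup_le ?_ ?_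
          · rw [← map_subtype_commutator]; exact map_mono hcY
          · rw [← map_subgroupOf_eq_of_le hRP.le]; exact map_mono hRY
        refine hY.1 (eq_top_iff.mpr fun x _ => ?_)
        haveI : D.Normal := inferInstance
        obtain ⟨d, hd, m, hm, hx⟩ := mem_sup_of_normal_left.mp (hD ▸ mem_top (x : G))
        have hmP : m ∈ (P : Subgroup G) := by
          have hdP : d ∈ (P : Subgroup G) := map_subtype_le _ (hDY hd)
          have := mul_mem (inv_mem hdP) x.2
          rwa [← hx, inv_mul_cancel_left] at this
        have hxD : (x : G) ∈ Y.map (P : Subgroup G).subtype :=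
          hx ▸ mul_mem (hDY hd) (hDY (mem_sup_right ⟨hm, hmP⟩))
        obtain ⟨y, hy, hyx⟩ := hxD
        exact (Subtype.ext hyx : y = x) ▸ hy
      -- move `K` into `H`
      have hHP : H ⊔ (P : Subgroup G) = ⊤ := by
        by_contra hne
        have h1 : (H ⊔ (P : Subgroup G)).index ∣ p := by
          have h0 := index_dvd_of_le (le_sup_left : H ≤ H ⊔ (P : Subgroup G))
          rwa [hHi] at h0
        rcases (Nat.dvd_prime hp).mp h1 with h2 | h2
        · exact hne (index_eq_one.mp h2)
        · have h0 := index_dvd_of_le (le_sup_right : (P : Subgroup G) ≤ H ⊔ (P : Subgroup G))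
          rw [h2] at h0
          exact P.not_dvd_index h0
      obtain ⟨KM, hKM, hKMc⟩ : ∃ Y : Subgroup G, Y ≤ M ∧ Nat.card Y = Nat.card K := by
        obtain ⟨Y, hY⟩ := exists_right_complement'_of_coprime
          (N := (P : Subgroup G).subgroupOf M) (by
            refine Nat.Coprime.coprime_dvd_left ?_ (Nat.Coprime.coprime_dvd_right ?_ P.card_coprime_index)
            · rw [← card_map_subtype]; exact card_dvd_of_le (subgroupOf_map_subtype _ M ▸ inf_le_left)
            · exact dvd_of_eq (relIndex_eq_index_of_mul fun g => by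
                obtain ⟨a, ha, b, hb, rfl⟩ := mem_sup_of_normal_left.mp (htop ▸ mem_top g)
                exact ⟨b, hb, b⁻¹ * a * b,
                  by simpa using hPn.conj_mem a ha b⁻¹, by group⟩))
        refine ⟨Y.map M.subtype, map_subtype_le _, ?_⟩
        rw [card_map_subtype, hY.symm.index_eq_card.symm, hKcard]
        exact relIndex_eq_index_of_mul fun g => by
          obtain ⟨a, ha, b, hb, rfl⟩ := mem_sup_of_normal_left.mp (htop ▸ mem_top g)
          exact ⟨b, hb, b⁻¹ * a * b, by simpa using hPn.conj_mem a ha b⁻¹, by group⟩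
      obtain ⟨KH, hKH, hKHc⟩ : ∃ Y : Subgroup G, Y ≤ H ∧ Nat.card Y = Nat.card K := by
        have hr : (P : Subgroup G).relIndex H = (P : Subgroup G).index :=
          relIndex_eq_index_of_mul fun g => by
            obtain ⟨a, ha, b, hb, rfl⟩ := mem_sup_of_normal_left.mp
              ((sup_comm H _).symm.trans hHP ▸ mem_top g : g ∈ (P : Subgroup G) ⊔ H)
            exact ⟨b, hb, b⁻¹ * a * b, by simpa using hPn.conj_mem a ha b⁻¹, by group⟩
        obtain ⟨Y, hY⟩ := exists_right_complement'_of_coprime
          (N := (P : Subgroup G).subgroupOf H) (by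
            refine Nat.Coprime.coprime_dvd_left ?_ (Nat.Coprime.coprime_dvd_right (dvd_of_eq hr) P.card_coprime_index)
            rw [← card_map_subtype]; exact card_dvd_of_le (subgroupOf_map_subtype _ H ▸ inf_le_left))
        refine ⟨Y.map H.subtype, map_subtype_le _, ?_⟩
        rw [card_map_subtype, hY.symm.index_eq_card.symm, hKcard]
        exact hr
      have hcompl : ∀ Y : Subgroup G, Nat.card Y = Nat.card K → IsComplement' (P : Subgroup G) Y :=
        fun Y hY => isComplement'_of_card_mul_and_disjoint
          (by rw [hY, hKcard]; exact (P : Subgroup G).card_mul_index)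
          (disjoint_iff.mpr (inf_eq_bot_of_coprime_card _ _ (hY.symm ▸ hKcop)))
      obtain ⟨g, hg⟩ : ∃ g : G, MulAut.conj g • KH = KM := by
        obtain ⟨m, -, hm⟩ := conj_of_card_eq (P : Subgroup G) KH KM
          (Or.inl inferInstance) le_normalizer_of_normal
          (by rw [(hcompl KH hKHc).sup_eq_top]; exact le_top) (hKMc.trans hKHc.symm)
          (hKHc.symm ▸ hKcop)
        exact ⟨m, hm⟩
      set H' := MulAut.conj g • H
      have hH'c : Nat.card H' = Nat.card H := card_conj_smul g H
      have hH'top : H' ≠ ⊤ := fun e => hHtop (eq_top_of_card_eq _ (by rw [← hH'c, e, card_top]))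
      have hKH' : KM ≤ H' := hg ▸ pointwise_smul_le_pointwise_smul_iff.mpr hKH
      by_cases hHM : H' ≤ M
      · have h1 : M.index ∣ p := by
          have := index_dvd_of_le hHM
          have hi : H'.index = p := by
            apply Nat.eq_of_mul_eq_mul_right (Nat.card_pos (α := H'))
            rw [index_mul_card, hH'c, ← hHi, index_mul_card]
          rwa [hi] at this
        rcases (Nat.dvd_prime hp).mp h1 with h2 | h2
        · exact absurd (index_eq_one.mp h2) hM.1
        · exact h2 ▸ hp
      obtain ⟨Z, hZ, hLZ⟩ := exists_coatom_ge (H := M.subgroupOf H')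
        (fun e => hHM (subgroupOf_eq_top.mp e))
      have hZi := index_prime_of_isSupersolvable (hsub H' hH'top) Z hZ
      set X := Z.map H'.subtype
      have hKX : KM ≤ X := fun x hx => ⟨⟨x, hKH' hx⟩, hLZ (hKM hx), rfl⟩
      set T := X ⊓ (P : Subgroup G)
      have hX' : ∀ x ∈ X, ∃ t ∈ T, ∃ k ∈ KM, x = t * k := by
        intro x hx
        obtain ⟨a, ha, k, hk, he⟩ := mem_sup_of_normal_left.mp
          ((hcompl KM hKMc).sup_eq_top ▸ mem_top x)
        refine ⟨a, ⟨?_, ha⟩, k, hk, he.symm⟩
        have := mul_mem hx (inv_mem (hKX hk))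
        rwa [← he, mul_inv_cancel_right] at this
      by_cases hT : T ≤ M
      · have hZe : Z = M.subgroupOf H' := by
          refine le_antisymm (fun z hz => ?_) hLZ
          obtain ⟨t, ht, k, hk, he⟩ := hX' z ⟨z, hz, rfl⟩
          rw [mem_subgroupOf, he]
          exact mul_mem (hT ht) (hKM hk)
        rw [← relIndex_eq_index_of_mul (M := M) (H := H'), relIndex, ← hZe]
        · exact hZi
        have hH'P : ∀ g : G, ∃ x ∈ H', ∃ a ∈ (P : Subgroup G), g = x * a := by
          intro g
          obtain ⟨a, ha, k, hk, he⟩ := mem_sup_of_normal_left.mp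
            ((hcompl KM hKMc).sup_eq_top ▸ mem_top g)
          exact ⟨k, hKH' hk, k⁻¹ * a * k, by simpa using hPn.conj_mem a ha k⁻¹, by rw [← he]; group⟩
        intro g
        -- `P ≤ H' M`
        have hHR : H' ⊔ R = ⊤ := by
          by_contra hne
          have hi : H'.index = p := by
            apply Nat.eq_of_mul_eq_mul_right (Nat.card_pos (α := H'))
            rw [index_mul_card, hH'c, ← hHi, index_mul_card]
          have h1 : (H' ⊔ R).index ∣ p := by
            have h0 := index_dvd_of_le (le_sup_left : H' ≤ H' ⊔ R)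
            rwa [hi] at h0
          rcases (Nat.dvd_prime hp).mp h1 with h2 | h2
          · exact hne (index_eq_one.mp h2)
          have hRH : R ≤ H' := by
            have : H' = H' ⊔ R := eq_of_le_of_card_ge le_sup_left (by
              apply le_of_eq
              apply Nat.eq_of_mul_eq_mul_left hp.pos
              conv_lhs => rw [← h2, index_mul_card]
              rw [← hi, index_mul_card])
            exact this ▸ le_sup_right
          refine hHM ?_
          have hMH : M ≤ H' := by
            intro x hx
            obtain ⟨a, ha, k, hk, he⟩ := mem_sup_of_normal_left.mp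
              ((hcompl KM hKMc).sup_eq_top ▸ mem_top x)
            rw [← he]
            refine mul_mem (hRH ⟨?_, ha⟩) (hKH' hk)
            have := mul_mem hx (inv_mem (hKM hk))
            rwa [← he, mul_inv_cancel_right] at this
          exact (hMH.lt_or_eq.resolve_left fun hlt => hH'top (hM.2 _ hlt)).ge
        obtain ⟨r, hr, x, hx, he⟩ := mem_sup_of_normal_left.mp ((sup_comm H' R).symm.trans hHR ▸ mem_top g : g ∈ R ⊔ H')
        exact ⟨x, hx, x⁻¹ * r * x, (by simpa using hRn.conj_mem r hr x⁻¹ : x⁻¹ * r * x ∈ R).1,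
          by rw [← he]; group⟩
      · exfalso
        have hTR : (T ⊔ R).Normal := by
          refine normalizer_eq_top_iff.mp (top_le_iff.mp ?_)
          rw [← (hcompl KM hKMc).sup_eq_top]
          refine sup_le (le_normalizer_of_conj_mem fun a ha x hx => ?_) ?_
          · have hxP : x ∈ (P : Subgroup G) := (sup_le inf_le_right inf_le_right : T ⊔ R ≤ _) hx
            have hc : a * x * a⁻¹ * x⁻¹ ∈ R := hcomm (commutator_mem_commutator ha hxP)
            have := mul_mem (mem_sup_right hc : _ ∈ T ⊔ R) hx
            simpa using this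
          · exact (le_inf (le_normalizer_inf (hKX.trans le_normalizer) le_normalizer_of_normal)
              le_normalizer_of_normal).trans (normalizer_inf_le_normalizer_sup T R)
        haveI := hTR
        have hTRM : ¬ T ⊔ R ≤ M := fun e => hT (le_sup_left.trans e)
        have htop' : (T ⊔ R) ⊔ M = ⊤ :=
          hM.2 _ (lt_of_le_of_ne le_sup_right fun e => hTRM (e ▸ le_sup_left))
        refine hZ.1 (eq_top_iff.mpr fun x _ => ?_)
        obtain ⟨u, hu, m, hm, he⟩ := mem_sup_of_normal_left.mp (htop' ▸ mem_top (x : G))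
        obtain ⟨a, ha, k, hk, he'⟩ := mem_sup_of_normal_left.mp
          ((hcompl KM hKMc).sup_eq_top ▸ mem_top m)
        have haR : a ∈ R := by
          refine ⟨?_, ha⟩
          have := mul_mem hm (inv_mem (hKM hk))
          rwa [← he', mul_inv_cancel_right] at this
        obtain ⟨t, ht, r, hr, he2⟩ := mem_sup_of_normal_right.mp hu
        have hx : (x : G) = t * (r * a) * k := by rw [← he, ← he2, ← he']; group
        have hra : r * a ∈ X := by
          have hin : r * a ∈ H' := by
            have := mul_mem (mul_mem (inv_mem (map_subtype_le _ ht.1)) x.2) (inv_mem (hKH' hk))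
            rwa [hx, show t⁻¹ * (t * (r * a) * k) * k⁻¹ = r * a by group] at this
          exact ⟨⟨r * a, hin⟩, hLZ (mul_mem hr.1 haR.1), rfl⟩
        have hxX : (x : G) ∈ X := hx ▸ mul_mem (mul_mem ht.1 hra) (hKX hk)
        obtain ⟨z, hz, hzx⟩ := hxX
        exact (Subtype.ext hzx : z = x) ▸ hz

end Cfsg.Agent.Solv
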