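import Cfsg.Agent.Lib.Solv.Misc
import Cfsg.Agent.Lib.Solv.Supersolvable

/-!
Products of two abelian subgroups: Itô's theorems.
-/

set_option autoImplicit false
set_option linter.style.haveILetI false

namespace Cfsg.Agent.Solv

open Subgroup
open scoped Pointwise commutatorElement

universe u

variable {G : Type u} [Group G]

theorem abelian_factor_swap {A B : Subgroup G} (hAB : ∀ g : G, ∃ a ∈ A, ∃ b ∈ B, g = a * b) :
    ∀ g : G, ∃ b ∈ B, ∃ a ∈ A, g = b * a := by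
  intro g
  obtain ⟨a, ha, b, hb, h⟩ := hAB g⁻¹
  exact ⟨b⁻¹, inv_mem hb, a⁻¹, inv_mem ha, by rw [← inv_inv g, h, mul_inv_rev]⟩

/-- **Itô's theorem**: a product of two abelian groups is metabelian. -/
theorem ito_commute (A B : Subgroup G) (hA : ∀ x ∈ A, ∀ y ∈ A, x * y = y * x)
    (hB : ∀ x ∈ B, ∀ y ∈ B, x * y = y * x) (hAB : ∀ g : G, ∃ a ∈ A, ∃ b ∈ B, g = a * b) :
    ∀ x ∈ commutator G, ∀ y ∈ commutator G, x * y = y * x := by
  set S : Set G := {x | ∃ a ∈ A, ∃ b ∈ B, x = ⁅a, b⁆} with hS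
  have hswap := abelian_factor_swap hAB
  have hconjA : ∀ a₁ ∈ A, ∀ b ∈ B, ∃ b₂ ∈ B, ∀ a ∈ A,
      a₁ * ⁅a, b⁆ * a₁⁻¹ = ⁅a, b₂⁆ := by
    intro a₁ ha₁ b hb
    obtain ⟨b₂, hb₂, a₂, ha₂, e⟩ := hswap (a₁ * b * a₁⁻¹)
    refine ⟨b₂, hb₂, fun a ha => ?_⟩
    have h1 : a₁ * ⁅a, b⁆ * a₁⁻¹ = ⁅a₁ * a * a₁⁻¹, a₁ * b * a₁⁻¹⁆ := by
      simp only [commutatorElement_def]; group
    rw [h1, e, hA a₁ ha₁ a ha, mul_inv_cancel_right]
    calc ⁅a, b₂ * a₂⁆ = a * b₂ * (a₂ * a⁻¹) * a₂⁻¹ * b₂⁻¹ := by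
          simp only [commutatorElement_def]; group
      _ = ⁅a, b₂⁆ := by
          rw [hA a₂ ha₂ a⁻¹ (inv_mem ha)]; simp only [commutatorElement_def]; group
  have hconjB : ∀ b₁ ∈ B, ∀ a ∈ A, ∃ a₃ ∈ A, ∀ b ∈ B,
      b₁ * ⁅a, b⁆ * b₁⁻¹ = ⁅a₃, b⁆ := by
    intro b₁ hb₁ a ha
    obtain ⟨a₃, ha₃, b₃, hb₃, e⟩ := hAB (b₁ * a * b₁⁻¹)
    refine ⟨a₃, ha₃, fun b hb => ?_⟩
    have h1 : b₁ * ⁅a, b⁆ * b₁⁻¹ = ⁅b₁ * a * b₁⁻¹, b₁ * b * b₁⁻¹⁆ := by
      simp only [commutatorElement_def]; group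
    rw [h1, e, hB b₁ hb₁ b hb, mul_inv_cancel_right]
    calc ⁅a₃ * b₃, b⁆ = a₃ * (b₃ * b) * b₃⁻¹ * a₃⁻¹ * b⁻¹ := by
          simp only [commutatorElement_def]; group
      _ = ⁅a₃, b⁆ := by rw [hB b₃ hb₃ b hb]; simp only [commutatorElement_def]; group
  have hSS : ∀ s ∈ S, ∀ t ∈ S, s * t = t * s := by
    rintro _ ⟨a₁, ha₁, b₁, hb₁, rfl⟩ _ ⟨a, ha, b, hb, rfl⟩
    obtain ⟨b₂, hb₂, hβ⟩ := hconjA a₁⁻¹ (inv_mem ha₁) b hb
    obtain ⟨a₃, ha₃, hα⟩ := hconjB b₁⁻¹ (inv_mem hb₁) a ha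
    have e1 : a₁⁻¹ * (b₁⁻¹ * ⁅a, b⁆ * b₁⁻¹⁻¹) * a₁⁻¹⁻¹ = ⁅a₃, b₂⁆ := by
      rw [hα b hb, hβ a₃ ha₃]
    have e2 : b₁⁻¹ * (a₁⁻¹ * ⁅a, b⁆ * a₁⁻¹⁻¹) * b₁⁻¹⁻¹ = ⁅a₃, b₂⁆ := by
      rw [hβ a ha, hα b₂ hb₂]
    have e3 : ⁅a₁, b₁⁆ * ⁅a, b⁆ * ⁅a₁, b₁⁆⁻¹ = ⁅a, b⁆ := by
      calc ⁅a₁, b₁⁆ * ⁅a, b⁆ * ⁅a₁, b₁⁆⁻¹
          = a₁ * b₁ * (a₁⁻¹ * (b₁⁻¹ * ⁅a, b⁆ * b₁⁻¹⁻¹) * a₁⁻¹⁻¹) * (a₁ * b₁)⁻¹ := by
            simp only [commutatorElement_def]; group
        _ = a₁ * b₁ * (b₁⁻¹ * (a₁⁻¹ * ⁅a, b⁆ * a₁⁻¹⁻¹) * b₁⁻¹⁻¹) * (a₁ * b₁)⁻¹ := by rw [e1, e2]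
        _ = ⁅a, b⁆ := by group
    exact mul_inv_eq_iff_eq_mul.mp e3
  haveI hSn : (closure S).Normal := by
    refine ⟨fun x hx g => ?_⟩
    induction hx using closure_induction with
    | mem s hs =>
      obtain ⟨a, ha, b, hb, rfl⟩ := hs
      obtain ⟨x, hx, y, hy, rfl⟩ := hAB g
      obtain ⟨a₃, ha₃, hα⟩ := hconjB y hy a ha
      obtain ⟨b₂, hb₂, hβ⟩ := hconjA x hx b hb
      refine subset_closure ⟨a₃, ha₃, b₂, hb₂, ?_⟩
      rw [← hβ a₃ ha₃, ← hα b hb]; group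
    | one => simpa using one_mem (closure S)
    | mul s t _ _ ihs iht =>
      rw [show g * (s * t) * g⁻¹ = (g * s * g⁻¹) * (g * t * g⁻¹) by group]
      exact mul_mem ihs iht
    | inv s _ ihs =>
      rw [show g * s⁻¹ * g⁻¹ = (g * s * g⁻¹)⁻¹ by group]
      exact inv_mem ihs
  have hle : commutator G ≤ closure S := by
    rw [commutator_def, commutator_le]
    intro g _ h _
    rw [← QuotientGroup.eq_one_iff]
    change QuotientGroup.mk' (closure S) ⁅g, h⁆ = 1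
    rw [map_commutatorElement, commutatorElement_eq_one_iff_mul_comm]
    set f := QuotientGroup.mk' (closure S)
    have hab : ∀ a ∈ A, ∀ b ∈ B, Commute (f a) (f b) := by
      intro a ha b hb
      refine commutatorElement_eq_one_iff_mul_comm.mp ?_
      rw [← map_commutatorElement]
      exact (QuotientGroup.eq_one_iff _).mpr (subset_closure ⟨a, ha, b, hb, rfl⟩)
    obtain ⟨a, ha, b, hb, rfl⟩ := hAB g
    obtain ⟨a', ha', b', hb', rfl⟩ := hAB h
    rw [map_mul, map_mul]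
    have h1 : Commute (f a) (f a') := by
      rw [Commute, SemiconjBy, ← map_mul, ← map_mul, hA a ha a' ha']
    have h2 : Commute (f b) (f b') := by
      rw [Commute, SemiconjBy, ← map_mul, ← map_mul, hB b hb b' hb']
    exact ((h1.mul_right (hab a ha b' hb')).mul_left ((hab a' ha' b hb).symm.mul_right h2)).eq
  intro x hx y hy
  have h1 : closure S ≤ centralizer (closure S : Set G) := by
    rw [centralizer_closure, Subgroup.closure_le]
    exact fun s hs t ht => hSS t ht s hs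
  exact mem_centralizer_iff.mp (h1 (hle hy)) x (hle hx)

theorem exists_normal_le_factor [Finite G] [Nontrivial G] (A B : Subgroup G)
    [hA' : IsMulCommutative A] [hB' : IsMulCommutative B]
    (hAB : ∀ g : G, ∃ a ∈ A, ∃ b ∈ B, g = a * b) :
    ∃ N : Subgroup G, N.Normal ∧ N ≠ ⊥ ∧ (N ≤ A ∨ N ≤ B) := by
  have hA : ∀ x ∈ A, ∀ y ∈ A, x * y = y * x := fun x hx y hy =>
    congrArg Subtype.val (hA'.is_comm.comm ⟨x, hx⟩ ⟨y, hy⟩)
  have hB : ∀ x ∈ B, ∀ y ∈ B, x * y = y * x := fun x hx y hy =>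
    congrArg Subtype.val (hB'.is_comm.comm ⟨x, hx⟩ ⟨y, hy⟩)
  by_contra hno
  push Not at hno
  have hcom := ito_commute A B hA hB hAB
  -- central elements in a factor are trivial
  have hcen : ∀ z : G, (∀ a ∈ A, a * z = z * a) → (∀ b ∈ B, b * z = z * b) → z ∈ A ∨ z ∈ B → z = 1 := by
    intro z hzA hzB hz
    have hzc : z ∈ center G := by
      rw [mem_center_iff]
      intro g
      obtain ⟨a, ha, b, hb, rfl⟩ := hAB g
      rw [mul_assoc, hzB b hb, ← mul_assoc, hzA a ha, mul_assoc]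
    by_contra hz1
    have hn : (zpowers z).Normal := ⟨fun x hx y => by
      rwa [mem_center_iff.mp (zpowers_le.mpr hzc hx) y, mul_inv_cancel_right]⟩
    obtain ⟨h1, h2⟩ := hno _ hn (by rwa [Ne, zpowers_eq_bot])
    rcases hz with hz | hz
    · exact h1 (zpowers_le.mpr hz)
    · exact h2 (zpowers_le.mpr hz)
  have hABi : A ⊓ B = ⊥ := eq_bot_iff.mpr fun z hz => mem_bot.mpr
    (hcen z (fun a ha => hA a ha z hz.1) (fun b hb => hB b hb z hz.2) (Or.inl hz.1))
  have hG' : commutator G ≠ ⊥ := by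
    intro h
    have hall : ∀ g k : G, g * k = k * g := fun g k => by
      rw [← commutatorElement_eq_one_iff_mul_comm, ← mem_bot, ← h, commutator_def]
      exact commutator_mem_commutator (mem_top g) (mem_top k)
    obtain ⟨g, hg⟩ := exists_ne (1 : G)
    obtain ⟨a, ha, b, hb, rfl⟩ := hAB g
    refine hg ?_
    rw [hcen a (fun _ _ => hall _ _) (fun _ _ => hall _ _) (Or.inl ha),
      hcen b (fun _ _ => hall _ _) (fun _ _ => hall _ _) (Or.inr hb), one_mul]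
  obtain ⟨N, hN, hNle, hNb, hNmin⟩ := exists_minimal_normal_le hG'
  haveI := hN
  haveI : Group.IsSolvable N := Group.isSolvable_of_comm fun x y =>
    Subtype.ext (hcom x (hNle x.2) y (hNle y.2))
  obtain ⟨hNab, p, hp, hexp⟩ := minimal_normal_elementary N hNb hNmin
  haveI := Fact.mk hp
  have hconjfix : ∀ y ∈ N, ∀ g x : G, x * y = y * x → (g * x * g⁻¹) * y = y * (g * x * g⁻¹) := by
    intro y hy g x hxy
    have hc : ⁅g, x⁆ * y = y * ⁅g, x⁆ := hcom _ (by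
      rw [commutator_def]; exact commutator_mem_commutator (mem_top g) (mem_top x)) y (hNle hy)
    rw [show g * x * g⁻¹ = ⁅g, x⁆ * x by simp only [commutatorElement_def]; group, mul_assoc, hxy,
      ← mul_assoc, hc, mul_assoc]
  -- centralisers of the factors meet `N` trivially
  have hCN : ∀ (A B : Subgroup G), (∀ x ∈ A, ∀ y ∈ A, x * y = y * x) →
      (∀ x ∈ B, ∀ y ∈ B, x * y = y * x) → (∀ g : G, ∃ a ∈ A, ∃ b ∈ B, g = a * b) →
      (∀ z : G, (∀ a ∈ A, a * z = z * a) → (∀ b ∈ B, b * z = z * b) → z ∈ A ∨ z ∈ B → z = 1) →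
      (¬ N ≤ A) → N ⊓ centralizer (A : Set G) = ⊥ := by
    intro A B hA hB hAB hcen hNA
    have hleA : N ⊓ centralizer (A : Set G) ≤ A := by
      intro x hx
      obtain ⟨a, ha, b, hb, rfl⟩ := hAB x
      have hb1 : b = 1 := by
        refine hcen b (fun a' ha' => ?_) (fun b' hb' => hB b' hb' b hb) (Or.inr hb)
        have h1 := mem_centralizer_iff.mp hx.2 a' ha'
        calc a' * b = a⁻¹ * (a' * (a * b)) := by
              rw [← mul_assoc a', hA a' ha' a ha, mul_assoc a, inv_mul_cancel_left]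
          _ = b * a' := by rw [h1, ← mul_assoc, inv_mul_cancel_left]
      rwa [hb1, mul_one]
    haveI : (N ⊓ centralizer (A : Set G)).Normal := by
      refine ⟨fun y hy g => ⟨hN.conj_mem y hy.1 g, ?_⟩⟩
      change g * y * g⁻¹ ∈ centralizer (A : Set G)
      rw [mem_centralizer_iff]
      intro a ha
      have h1 := hconjfix y hy.1 g⁻¹ a (mem_centralizer_iff.mp hy.2 a ha)
      rw [inv_inv] at h1
      calc a * (g * y * g⁻¹) = g * ((g⁻¹ * a * g) * y) * g⁻¹ := by group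
        _ = (g * y * g⁻¹) * a := by rw [h1]; group
    rcases hNmin (N ⊓ centralizer (A : Set G)) inferInstance inf_le_left with h | h
    · exact h
    · exact absurd (h.ge.trans hleA) hNA
  have hcenB : ∀ z : G, (∀ b ∈ B, b * z = z * b) → (∀ a ∈ A, a * z = z * a) → z ∈ B ∨ z ∈ A → z = 1 :=
    fun z hzB hzA hz => hcen z hzA hzB hz.symm
  have hCA := hCN A B hA hB hAB hcen (hno N hN hNb).1
  have hswap := abelian_factor_swap hAB
  have hCB := hCN B A hB hA hswap hcenB (hno N hN hNb).2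
  have hNA : N ⊓ A = ⊥ := eq_bot_iff.mpr (hCA ▸ inf_le_inf_left N
    (le_centralizer_iff_isMulCommutative.mpr hA'))
  have hNB : N ⊓ B = ⊥ := eq_bot_iff.mpr (hCB ▸ inf_le_inf_left N
    (le_centralizer_iff_isMulCommutative.mpr hB'))
  set A₂ := A ⊓ (B ⊔ N)
  set B₂ := B ⊓ (A ⊔ N)
  set X := (A ⊔ N) ⊓ (B ⊔ N)
  have hXA : X = N ⊔ A₂ := by
    have h := dedekind_normal N A (B ⊔ N) le_sup_right
    rw [sup_comm N A, inf_comm (B ⊔ N), inf_comm (B ⊔ N) A] at h
    exact h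
  have hXB : X = N ⊔ B₂ := by
    have h := dedekind_normal N B (A ⊔ N) le_sup_right
    rw [sup_comm N B, inf_comm (A ⊔ N) B] at h
    exact h
  haveI hXn : X.Normal := by
    refine normalizer_eq_top_iff.mp (top_le_iff.mp fun g _ => ?_)
    obtain ⟨a, ha, b, hb, rfl⟩ := hAB g
    have key : ∀ (C C₂ : Subgroup G), (∀ x ∈ C, ∀ y ∈ C, x * y = y * x) → C₂ ≤ C → X = N ⊔ C₂ →
        C ≤ normalizer (X : Set G) := by
      intro C C₂ hC hle h
      rw [h]
      refine (le_inf le_normalizer_of_normal (le_trans ?_ (centralizer_le_normalizer _))).trans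
        (normalizer_inf_le_normalizer_sup N C₂)
      exact fun x hx y hy => hC y (hle hy) x hx
    exact mul_mem (key A A₂ hA inf_le_left hXA ha) (key B B₂ hB inf_le_left hXB hb)
  have hmem : ∀ x ∈ X, ∃ a ∈ A₂, ∃ b ∈ B₂, x = a * b := by
    intro x hx
    obtain ⟨a, ha, b, hb, rfl⟩ := hAB x
    refine ⟨a, ⟨ha, ?_⟩, b, ⟨hb, ?_⟩, rfl⟩
    · have := mul_mem hx.2 (mem_sup_left (T := N) (inv_mem hb) : b⁻¹ ∈ B ⊔ N)
      simpa using this
    · have := mul_mem (mem_sup_left (T := N) (inv_mem ha) : a⁻¹ ∈ A ⊔ N) hx.1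
      simpa using this
  have hA2X : A₂ ≤ X := hXA ▸ le_sup_right
  have hB2X : B₂ ≤ X := hXB ▸ le_sup_right
  have hcX : Nat.card X = Nat.card N * Nat.card A₂ ∧ Nat.card X = Nat.card N * Nat.card B₂ := by
    constructor
    · have h := card_sup_mul_card_inf N A₂ le_normalizer_of_normal
      rwa [← hXA, show N ⊓ A₂ = ⊥ from eq_bot_iff.mpr (hNA ▸ inf_le_inf_left N inf_le_left),
        card_bot, mul_one] at h
    · have h := card_sup_mul_card_inf N B₂ le_normalizer_of_normal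
      rwa [← hXB, show N ⊓ B₂ = ⊥ from eq_bot_iff.mpr (hNB ▸ inf_le_inf_left N inf_le_left),
        card_bot, mul_one] at h
  have hcX2 : Nat.card X = Nat.card A₂ * Nat.card B₂ := by
    rw [← Nat.card_prod]
    refine (Nat.card_eq_of_bijective
      (fun ab : A₂ × B₂ => (⟨ab.1 * ab.2, mul_mem (hA2X ab.1.2) (hB2X ab.2.2)⟩ : X)) ⟨?_, ?_⟩).symm
    · rintro ⟨a, b⟩ ⟨a', b'⟩ h
      have h' : (a : G) * b = a' * b' := congrArg Subtype.val h
      have h1 : (a' : G)⁻¹ * a ∈ A ⊓ B := by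
        refine ⟨A.mul_mem (A.inv_mem a'.2.1) a.2.1, ?_⟩
        change (a' : G)⁻¹ * a ∈ B
        rw [show (a' : G)⁻¹ * a = (b' : G) * (b : G)⁻¹ by
          calc (a' : G)⁻¹ * a = (a' : G)⁻¹ * ((a : G) * b) * (b : G)⁻¹ := by group
            _ = _ := by rw [h']; group]
        exact B.mul_mem b'.2.1 (B.inv_mem b.2.1)
      rw [hABi, mem_bot, inv_mul_eq_one] at h1
      rw [h1] at h'
      exact Prod.ext (Subtype.ext h1.symm) (Subtype.ext (mul_left_cancel h'))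
    · rintro ⟨x, hx⟩
      obtain ⟨a, ha, b, hb, rfl⟩ := hmem x hx
      exact ⟨(⟨a, ha⟩, ⟨b, hb⟩), rfl⟩
  have hA2card : Nat.card A₂ = Nat.card N := by
    have h := hcX.2.symm.trans hcX2
    exact (Nat.eq_of_mul_eq_mul_right Nat.card_pos h).symm
  have hNp : IsPGroup p N := fun x => ⟨1, by rw [pow_one]; exact Subtype.ext (hexp x x.2)⟩
  obtain ⟨i, hi⟩ := IsPGroup.iff_card.mp hNp
  have hXp : IsPGroup p X :=
    IsPGroup.of_card (n := i + i) (by rw [hcX.1, hA2card, hi, pow_add])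
  have hNX : N ≤ X := hXA ▸ le_sup_left
  -- `p`-elements centralise `N`
  have hpN : ∀ g : G, (∃ k : ℕ, orderOf g = p ^ k) → ∀ y ∈ N, g * y = y * g := by
    intro g hg
    have hEn : (N ⊓ centralizer ({g} : Set G)).Normal := by
      refine ⟨fun y hy h => ⟨hN.conj_mem y hy.1 h, ?_⟩⟩
      change h * y * h⁻¹ ∈ centralizer ({g} : Set G)
      rw [mem_centralizer_singleton_iff]
      have h0 : g * y = y * g := (mem_centralizer_singleton_iff.mp hy.2).symm
      have h1 := hconjfix y hy.1 h⁻¹ g h0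
      rw [inv_inv] at h1
      calc h * y * h⁻¹ * g = h * (y * (h⁻¹ * g * h)) * h⁻¹ := by group
        _ = g * (h * y * h⁻¹) := by rw [← h1]; group
    obtain ⟨k, hk⟩ := hg
    have hP : IsPGroup p ↥(N ⊔ zpowers g) :=
      IsPGroup.to_sup_of_normal_left hNp (IsPGroup.of_card (n := k) (by rw [Nat.card_zpowers, hk]))
    haveI := hP.isNilpotent
    have h1 := inf_center_ne_bot (N.subgroupOf (N ⊔ zpowers g))
      (fun e => hNb (by rw [← map_subgroupOf_eq_of_le (le_sup_left : N ≤ N ⊔ zpowers g), e,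
        Subgroup.map_bot]))
    rcases hNmin _ hEn inf_le_left with e | e
    · refine absurd (eq_bot_iff.mpr fun x hx => ?_) h1
      have hx' : (x : G) ∈ N ⊓ centralizer ({g} : Set G) := by
        refine ⟨hx.1, mem_centralizer_singleton_iff.mpr ?_⟩
        exact (congrArg Subtype.val
          (mem_center_iff.mp hx.2 ⟨g, mem_sup_right (mem_zpowers g)⟩)).symm
      rw [e, mem_bot] at hx'
      exact mem_bot.mpr (Subtype.ext hx')
    · exact fun y hy => (mem_centralizer_singleton_iff.mp (e.ge hy).2).symm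
  have hXN : ∀ x ∈ X, ∀ y ∈ N, x * y = y * x := fun x hx => hpN x (by
    obtain ⟨k, hk⟩ := IsPGroup.iff_orderOf.mp hXp ⟨x, hx⟩
    exact ⟨k, by rwa [← Subgroup.orderOf_coe] at hk⟩)
  have hXab : ∀ x ∈ X, ∀ y ∈ X, x * y = y * x := by
    intro x hx y hy
    obtain ⟨n, hn, a, ha, rfl⟩ := mem_sup_of_normal_left.mp (hXA ▸ hx)
    obtain ⟨m, hm, c, hc, rfl⟩ := mem_sup_of_normal_left.mp (hXA ▸ hy)
    have h1 : Commute n m := hXN n (hNX hn) m hm
    have h2 : Commute n c := (hXN c (hA2X hc) n hn).symm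
    have h3 : Commute a m := hXN a (hA2X ha) m hm
    have h4 : Commute a c := hA a ha.1 c hc.1
    exact ((h1.mul_right h2).mul_left (h3.mul_right h4)).eq
  -- the image of `G` on `X` is a `p'`-group
  set C := centralizer (X : Set G)
  set f := QuotientGroup.mk' C with hf
  have hcop : ∀ (A A₂ : Subgroup G), (∀ x ∈ A, ∀ y ∈ A, x * y = y * x) → A₂ ≤ A → X = N ⊔ A₂ →
      (Nat.card (A.map f)).Coprime p := by
    intro A A₂ hA hle h
    by_contra hnc
    have hd : p ∣ Nat.card (A.map f) := by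
      by_contra hd; exact hnc (hp.coprime_iff_not_dvd.mpr hd).symm
    obtain ⟨⟨y, hy⟩, hy'⟩ := exists_prime_orderOf_dvd_card' p hd
    obtain ⟨a, ha, rfl⟩ := hy
    rw [← Subgroup.orderOf_coe] at hy'
    obtain ⟨m, hm, hm'⟩ : ∃ m, ¬ p ∣ m ∧ ∃ k, orderOf a = p ^ k * m := by
      obtain ⟨k, m, hm, e⟩ := Nat.exists_eq_pow_mul_and_not_dvd (orderOf_pos a).ne' p hp.ne_one
      exact ⟨m, hm, k, e⟩
    obtain ⟨k, hk⟩ := hm'
    have hk' : orderOf (a ^ m) = p ^ k := by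
      rw [orderOf_pow' a (fun e : m = 0 => hm (by rw [e]; exact dvd_zero p)), hk, Nat.gcd_mul_left_left,
        Nat.mul_div_cancel _ (Nat.pos_of_ne_zero fun e : m = 0 => hm (by rw [e]; exact dvd_zero p))]
    have haC : a ^ m ∈ C := by
      rw [mem_centralizer_iff]
      intro x hx
      obtain ⟨n, hn, c, hc, rfl⟩ := mem_sup_of_normal_left.mp (h ▸ (hx : x ∈ X) : x ∈ N ⊔ A₂)
      have h1 : Commute (a ^ m) n := hpN _ ⟨k, hk'⟩ n hn
      have h2 : Commute (a ^ m) c := hA _ (pow_mem ha m) c (hle hc)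
      exact (h1.mul_right h2).eq.symm
    refine hm ((dvd_of_eq (show p = orderOf (f a) from hy'.symm)).trans (orderOf_dvd_of_pow_eq_one ?_))
    rw [← map_pow]
    exact (QuotientGroup.eq_one_iff _).mpr haC
  have hQ : (Nat.card (G ⧸ C)).Coprime p := by
    have hprod : ∀ z : G ⧸ C, ∃ x ∈ A.map f, ∃ y ∈ B.map f, z = x * y := by
      intro z
      obtain ⟨g, rfl⟩ := QuotientGroup.mk'_surjective C z
      obtain ⟨a, ha, b, hb, rfl⟩ := hAB g
      exact ⟨f a, mem_map_of_mem f ha, f b, mem_map_of_mem f hb, map_mul f a b⟩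
    have h := relIndex_eq_index_of_mul hprod
    have hdvd : Nat.card (G ⧸ C) ∣ Nat.card (A.map f) * Nat.card (B.map f) := by
      rw [← (B.map f).index_mul_card]
      exact Nat.mul_dvd_mul (h ▸ relIndex_dvd_card (B.map f) (A.map f)) dvd_rfl
    exact Nat.Coprime.coprime_dvd_left hdvd
      ((hcop A A₂ hA inf_le_left hXA).mul_left (hcop B B₂ hB inf_le_left hXB))
  have hcomC : ∀ a ∈ A, ∀ b ∈ B, ⁅a, b⁆ ∈ C := by
    intro a ha b hb
    rw [mem_centralizer_iff]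
    intro x hx
    set c := ⁅a, b⁆
    have hcG : c ∈ commutator G := by
      rw [_root_.commutator_def]; exact commutator_mem_commutator (mem_top a) (mem_top b)
    obtain ⟨n, hn, a₂, ha₂, hxe⟩ := mem_sup_of_normal_left.mp (hXA ▸ (hx : x ∈ X) : x ∈ N ⊔ A₂)
    have hAN : ∀ y ∈ X, ∀ a' ∈ A, a' * y * a'⁻¹ * y⁻¹ ∈ N := by
      intro y hy a' ha'
      obtain ⟨n, hn, a₂, ha₂, rfl⟩ := mem_sup_of_normal_left.mp (hXA ▸ hy)
      have : a' * (n * a₂) * a'⁻¹ * (n * a₂)⁻¹ = a' * n * a'⁻¹ * n⁻¹ := by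
        calc a' * (n * a₂) * a'⁻¹ * (n * a₂)⁻¹ = a' * n * (a₂ * a'⁻¹) * a₂⁻¹ * n⁻¹ := by group
          _ = _ := by rw [hA a₂ ha₂.1 a'⁻¹ (inv_mem ha')]; group
      rw [this]
      exact mul_mem (hN.conj_mem n hn a') (inv_mem hn)
    have hBN : ∀ y ∈ X, ∀ b' ∈ B, b' * y * b'⁻¹ * y⁻¹ ∈ N := by
      intro y hy b' hb'
      obtain ⟨n, hn, b₂, hb₂, rfl⟩ := mem_sup_of_normal_left.mp (hXB ▸ hy)
      have : b' * (n * b₂) * b'⁻¹ * (n * b₂)⁻¹ = b' * n * b'⁻¹ * n⁻¹ := by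
        calc b' * (n * b₂) * b'⁻¹ * (n * b₂)⁻¹ = b' * n * (b₂ * b'⁻¹) * b₂⁻¹ * n⁻¹ := by group
          _ = _ := by rw [hB b₂ hb₂.1 b'⁻¹ (inv_mem hb')]; group
      rw [this]
      exact mul_mem (hN.conj_mem n hn b') (inv_mem hn)
    set d := c * x * c⁻¹ * x⁻¹
    have hdN : d ∈ N := by
      rw [← QuotientGroup.eq_one_iff]
      change QuotientGroup.mk' N d = 1
      have e : ∀ y ∈ X, ∀ g : G, g * y * g⁻¹ * y⁻¹ ∈ N →
          Commute (QuotientGroup.mk' N g) (QuotientGroup.mk' N y) := by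
        intro y _ g hg
        refine commutatorElement_eq_one_iff_mul_comm.mp ?_
        rw [← map_commutatorElement]
        exact (QuotientGroup.eq_one_iff _).mpr hg
      have e1 := e x hx a (hAN x hx a ha)
      have e2 := e x hx b (hBN x hx b hb)
      have e3 : Commute (QuotientGroup.mk' N c) (QuotientGroup.mk' N x) := by
        change Commute (QuotientGroup.mk' N ⁅a, b⁆) _
        rw [map_commutatorElement, commutatorElement_def]
        exact ((e1.mul_left e2).mul_left e1.inv_left).mul_left e2.inv_left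
      rw [map_mul, map_mul, map_mul, map_inv, map_inv, e3.eq]
      group
    have hcd : Commute c d := hcom c hcG d (hNle hdN)
    have hit : ∀ j : ℕ, c ^ j * x * (c ^ j)⁻¹ = d ^ j * x := by
      intro j
      induction j with
      | zero => simp
      | succ j ih =>
        rw [pow_succ', show c * c ^ j * x * (c * c ^ j)⁻¹ = c * (c ^ j * x * (c ^ j)⁻¹) * c⁻¹ by group,
          ih, ← mul_assoc c (d ^ j) x, (hcd.pow_right j).eq, pow_succ]
        simp only [d]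
        group
    have hcC : c ^ Nat.card (G ⧸ C) ∈ C := by
      rw [← QuotientGroup.eq_one_iff]
      change f (c ^ Nat.card (G ⧸ C)) = 1
      rw [map_pow, pow_card_eq_one']
    have h1 := hit (Nat.card (G ⧸ C))
    rw [← mem_centralizer_iff.mp hcC x hx, mul_inv_cancel_right, eq_comm, mul_eq_right] at h1
    have hd1 : d = 1 := orderOf_eq_one_iff.mp (Nat.eq_one_of_dvd_coprimes hQ
      (orderOf_dvd_of_pow_eq_one h1) (orderOf_dvd_of_pow_eq_one (hexp d hdN)))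
    simp only [d] at hd1
    rw [mul_inv_eq_one, mul_inv_eq_iff_eq_mul] at hd1
    exact hd1.symm
  -- so `A₂` is normal
  have hA2n : A₂.Normal := by
    refine normalizer_eq_top_iff.mp (top_le_iff.mp fun g _ => ?_)
    obtain ⟨a, ha, b, hb, rfl⟩ := hAB g
    refine mul_mem (centralizer_le_normalizer _ (fun x hx => hA x hx.1 a ha) : a ∈ _) ?_
    have key : B ≤ normalizer (A₂ : Set G) := by
      refine le_normalizer_of_conj_mem fun b hb y hy => ?_
      have hyX : b * y * b⁻¹ ∈ X := hXn.conj_mem y (hA2X hy) b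
      obtain ⟨n, hn, a₂, ha₂, e⟩ := mem_sup_of_normal_left.mp (hXA ▸ hyX)
      have hn1 : n ∈ N ⊓ centralizer (A : Set G) := by
        refine ⟨hn, ?_⟩
        change n ∈ centralizer (A : Set G)
        rw [mem_centralizer_iff]
        intro a' ha'
        have hc : ⁅a'⁻¹, b⁻¹⁆ ∈ C := hcomC a'⁻¹ (inv_mem ha') b⁻¹ (inv_mem hb)
        have h1 : a' * (b * y * b⁻¹) * a'⁻¹ = b * y * b⁻¹ := by
          calc a' * (b * y * b⁻¹) * a'⁻¹
              = b * (a' * (⁅a'⁻¹, b⁻¹⁆ * y * ⁅a'⁻¹, b⁻¹⁆⁻¹) * a'⁻¹) * b⁻¹ := by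
                simp only [commutatorElement_def]; group
            _ = b * (a' * y * a'⁻¹) * b⁻¹ := by
                rw [← mem_centralizer_iff.mp hc y (hA2X hy), mul_inv_cancel_right]
            _ = b * y * b⁻¹ := by rw [hA a' ha' y hy.1, mul_inv_cancel_right]
        have h2 : a' * (n * a₂) = (n * a₂) * a' := by rw [e]; exact mul_inv_eq_iff_eq_mul.mp h1
        calc a' * n = a' * (n * a₂) * a₂⁻¹ := by group
          _ = n * a' := by rw [h2, mul_assoc n, hA a₂ ha₂.1 a' ha']; group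
      rw [hCA, mem_bot] at hn1
      rw [← e, hn1, one_mul]
      exact ha₂
    exact key hb
  exact (hno A₂ hA2n (fun e => by
    have h := hA2card
    rw [e, card_bot] at h
    exact hNb (Subgroup.card_eq_one.mp h.symm))).1 inf_le_left

end Cfsg.Agent.Solv
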