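import Cfsg.Agent.Lib.Solv.Supersolvable
import Cfsg.Agent.Lib.Solv.ProductAbelian

/-!
Products of two cyclic subgroups are supersolvable.
-/

set_option autoImplicit false
set_option linter.style.haveILetI false

namespace Cfsg.Agent.Solv

open Subgroup

universe u

theorem isSupersolvable_of_cyclic_factors_aux : ∀ (n : ℕ) (G : Type u) [Group G] [Finite G],
    Nat.card G ≤ n → ∀ A B : Subgroup G, IsCyclic A → IsCyclic B →
      (∀ g : G, ∃ a ∈ A, ∃ b ∈ B, g = a * b) → Cfsg.IsSupersolvable G := by
  intro n
  induction n with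
  | zero => intro G _ _ hn; exact absurd hn (not_le.mpr Nat.card_pos)
  | succ n ih =>
    intro G _ _ hn A B hA hB hAB
    rcases subsingleton_or_nontrivial G with h | h
    · exact isSupersolvable_of_subsingleton
    haveI := hA
    haveI := hB
    haveI : IsMulCommutative A := ⟨⟨fun a b => IsCyclic.commGroup.mul_comm a b⟩⟩
    haveI : IsMulCommutative B := ⟨⟨fun a b => IsCyclic.commGroup.mul_comm a b⟩⟩
    obtain ⟨N, hN, hNb, hle⟩ := exists_normal_le_factor A B hAB
    haveI : IsCyclic N := by
      rcases hle with h | h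
      · exact isCyclic_of_injective (inclusion h) (inclusion_injective h)
      · exact isCyclic_of_injective (inclusion h) (inclusion_injective h)
    set f := QuotientGroup.mk' N
    refine isSupersolvable_of_cyclic_normal N (ih (G ⧸ N) ?_ (A.map f) (B.map f) ?_ ?_ ?_)
    · have := card_quotient_lt (N := N) hNb
      omega
    · exact isCyclic_of_surjective _ (f.subgroupMap_surjective A)
    · exact isCyclic_of_surjective _ (f.subgroupMap_surjective B)
    · intro y
      obtain ⟨g, rfl⟩ := QuotientGroup.mk'_surjective N y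
      obtain ⟨a, ha, b, hb, rfl⟩ := hAB g
      exact ⟨_, mem_map_of_mem f ha, _, mem_map_of_mem f hb, map_mul f a b⟩

theorem isSupersolvable_of_cyclic_factors {G : Type u} [Group G] [Finite G] (A B : Subgroup G)
    [hA : IsCyclic A] [hB : IsCyclic B] (hAB : ∀ g : G, ∃ a ∈ A, ∃ b ∈ B, g = a * b) :
    Cfsg.IsSupersolvable G :=
  isSupersolvable_of_cyclic_factors_aux _ G le_rfl A B hA hB hAB

end Cfsg.Agent.Solv
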