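import Cfsg.Agent.Lib.Solv.PSolvable
import Cfsg.Agent.Lib.Solv.NormalPComplement
import Cfsg.Agent.Lib.Block.PPart

/-!
Groups with a cyclic Sylow subgroup.
-/

set_option autoImplicit false

namespace Cfsg.Agent.Solv.CycSyl

open Subgroup

variable {G : Type*} [Group G] [Finite G] {p : ℕ} [hp : Fact p.Prime]

theorem commute_of_pow_conj {g y : G} {n : ℕ} {r : ℤ} (hg : orderOf g = p ^ n)
    (hy : y * g * y⁻¹ = g ^ r) (hyo : (orderOf y).Coprime p) (hr : (p : ℤ) ∣ r - 1) : Commute y g := by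
  have key : ∀ j : ℕ, y ^ j * g * (y ^ j)⁻¹ = g ^ (r ^ j) := by
    intro j
    induction j with
    | zero => simp
    | succ j ih =>
      rw [pow_succ' r j, zpow_mul, ← hy, conj_zpow, ← ih, pow_succ']
      group
  have h1 : Commute (y ^ p ^ n) g := by
    have h2 : (p : ℤ) ^ (n + 1) ∣ r ^ p ^ n - 1 := by
      have := dvd_sub_pow_of_dvd_sub (R := ℤ) (p := p) (a := r) (b := 1) hr n
      simpa using this
    have h3 : g ^ (r ^ p ^ n) = g := by
      have h4 : (orderOf g : ℤ) ∣ r ^ p ^ n - 1 := by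
        rw [hg, Nat.cast_pow]; exact (pow_dvd_pow _ (Nat.le_succ n)).trans h2
      rw [orderOf_dvd_iff_zpow_eq_one, zpow_sub, zpow_one, mul_inv_eq_one] at h4
      exact h4
    have h5 := key (p ^ n)
    rw [h3] at h5
    exact mul_inv_eq_iff_eq_mul.1 h5
  obtain ⟨u, v, huv⟩ := Nat.Coprime.isCoprime (hyo.pow_right n)
  have h6 : y = (y ^ p ^ n) ^ v := by
    rw [← zpow_natCast, ← zpow_mul, mul_comm, show v * ((p ^ n : ℕ) : ℤ) = 1 - u * orderOf y by linarith,
      zpow_sub, zpow_one, mul_comm u, zpow_mul, zpow_natCast, pow_orderOf_eq_one, one_zpow, inv_one, mul_one]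
  rw [h6]
  exact h1.zpow_left v

/-- With a cyclic Sylow subgroup, the centraliser of a nontrivial `p`-subgroup is `p`-nilpotent. -/
theorem npc_centralizer (P : Sylow p G) (hP : IsCyclic (P : Subgroup G)) (P₀ : Subgroup G)
    (h₀ : P₀ ≤ (P : Subgroup G)) (h₁ : P₀ ≠ ⊥) :
    Cfsg.HasNormalPComplement p (centralizer (P₀ : Set G)) := by
  set C := centralizer (P₀ : Set G) with hC
  obtain ⟨g, hg⟩ := Subgroup.isCyclic_iff_exists_zpowers_eq_top (P : Subgroup G) |>.1 hP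
  have hgP : g ∈ (P : Subgroup G) := hg ▸ mem_zpowers g
  have hPC : (P : Subgroup G) ≤ C := by
    intro x hx
    rw [hC, mem_centralizer_iff]
    intro z hz
    exact congrArg Subtype.val (mul_comm' (⟨z, h₀ hz⟩ : (P : Subgroup G)) ⟨x, hx⟩)
  refine Cfsg.Agent.Solv.hasNormalPComplement_of_burnside (P.subtype hPC) fun y hy => ?_
  have hyP : (y : G) ∈ normalizer ((P : Subgroup G) : Set G) := by
    rw [Sylow.coe_subtype, ← subgroupOf_normalizer_eq hPC] at hy
    exact hy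
  suffices hcomm : Commute (y : G) g by
    rw [mem_centralizer_iff]
    rintro x hx
    have hx' : (x : G) ∈ zpowers g := hg.symm ▸ hx
    obtain ⟨i, hi⟩ := mem_zpowers_iff.1 hx'
    exact Subtype.ext (show (x : G) * y = y * x from hi ▸ (hcomm.zpow_right i).symm.eq)
  obtain ⟨u, w, huw, -, ⟨i, hu⟩, hw, huy, hwy⟩ := Cfsg.Agent.Block.exists_isPPart hp.out (y : G)
  have huP : u ∈ (P : Subgroup G) := by
    have h2 : zpowers u ⊓ normalizer ((P : Subgroup G) : Set G) = zpowers u ⊓ (P : Subgroup G) :=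
      (IsPGroup.of_card (n := i) ((Nat.card_zpowers u).trans hu)).inf_normalizer_sylow P
    exact (h2.le ⟨mem_zpowers u, zpowers_le.2 hyP huy⟩).2
  have hcu : Commute u g := congrArg Subtype.val (mul_comm' (⟨u, huP⟩ : (P : Subgroup G)) ⟨g, hgP⟩)
  rw [← huw]
  refine hcu.mul_left ?_
  have hwN : w ∈ normalizer ((P : Subgroup G) : Set G) := zpowers_le.2 hyP hwy
  have hwC : w ∈ C := zpowers_le.2 y.2 hwy
  obtain ⟨r, hr⟩ := mem_zpowers_iff.1 (hg.symm ▸ (mem_normalizer_iff.1 hwN g).1 hgP)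
  obtain ⟨n, hn⟩ := IsPGroup.iff_orderOf.1 P.isPGroup' ⟨g, hgP⟩
  rw [Subgroup.orderOf_mk] at hn
  refine commute_of_pow_conj hn hr.symm ((hp.out.coprime_iff_not_dvd.2 hw).symm) ?_
  obtain ⟨x, hx, hx1⟩ := P₀.ne_bot_iff_exists_ne_one.1 h₁ |> fun ⟨x, hx⟩ => (⟨(x : G), x.2, fun e => hx (Subtype.ext e)⟩ : ∃ x, x ∈ P₀ ∧ x ≠ 1)
  obtain ⟨j, rfl⟩ := mem_zpowers_iff.1 (hg.symm ▸ h₀ hx)
  have h4 : g ^ (r * j) = g ^ j := by
    rw [zpow_mul, hr, conj_zpow, ← mem_centralizer_iff.1 hwC _ hx, mul_inv_cancel_right]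
  rw [← mul_inv_eq_one, ← zpow_sub, ← orderOf_dvd_iff_zpow_eq_one, hn, show r * j - j = (r - 1) * j by ring] at h4
  by_contra hd
  have h5 : IsCoprime ((p : ℤ) ^ n) (r - 1) :=
    ((Nat.prime_iff_prime_int.1 hp.out).coprime_iff_not_dvd.2 hd).pow_left
  have h6 := h5.dvd_of_dvd_mul_left (by exact_mod_cast h4)
  exact hx1 (orderOf_dvd_iff_zpow_eq_one.1 (by rw [hn]; exact_mod_cast h6))

theorem isPSolvable_of_npc (h : Cfsg.HasNormalPComplement p G) : Cfsg.IsPSolvable p G := by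
  obtain ⟨k, hk⟩ := Cfsg.Agent.Solv.hasNormalPComplement_iff_index.1 h
  exact Cfsg.Agent.Solv.isPSolvable_of_extension (Cfsg.pPrimeCore p G)
    (Cfsg.Agent.Solv.isPSolvable_of_coprime (Cfsg.Agent.Solv.card_pPrimeCore_coprime p G))
    (Cfsg.Agent.Solv.isPSolvable_of_isPGroup (IsPGroup.of_card (n := k) (by rw [← index_eq_card, hk])))

theorem isPSolvable_of_normal_pSubgroup (P : Sylow p G) (hP : IsCyclic (P : Subgroup G)) (P₀ : Subgroup G)
    [P₀.Normal] (h₀ : P₀ ≤ (P : Subgroup G)) (h₁ : P₀ ≠ ⊥) : Cfsg.IsPSolvable p G := by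
  haveI : (centralizer (P₀ : Set G)).Normal := normal_centralizer
  refine Cfsg.Agent.Solv.isPSolvable_of_extension (centralizer (P₀ : Set G))
    (isPSolvable_of_npc (npc_centralizer P hP P₀ h₀ h₁)) (Cfsg.Agent.Solv.isPSolvable_of_coprime ?_)
  rw [← index_eq_card]
  refine (hp.out.coprime_iff_not_dvd.2 fun hd => P.not_dvd_index (hd.trans (index_dvd_of_le ?_))).symm
  intro x hx
  rw [mem_centralizer_iff]
  intro z hz
  exact congrArg Subtype.val (mul_comm' (⟨z, h₀ hz⟩ : (P : Subgroup G)) ⟨x, hx⟩)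

end Cfsg.Agent.Solv.CycSyl
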