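import Mathlib

/-!
The subgroup generated by the derangements of a transitive permutation group.
-/

set_option autoImplicit false
set_option linter.style.haveILetI false
set_option linter.unusedSectionVars false

namespace Cfsg.Agent.Solv.DerangementSubgroup

open MulAction
open scoped Pointwise

variable (G Ω : Type*) [Group G] [Finite G] [MulAction G Ω] [Finite Ω]

/-- The subgroup generated by the derangements. -/
def der : Subgroup G := Subgroup.closure {g : G | ∀ ω : Ω, g • ω ≠ ω}

theorem sum_fixed (H : Type*) [Group H] [Fintype H] (X : Type*) [MulAction H X] [Finite X] :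
    ∑ g : H, Nat.card (fixedBy X g) = Nat.card (orbitRel.Quotient H X) * Nat.card H := by
  classical
  haveI := Fintype.ofFinite X
  haveI := Fintype.ofFinite (orbitRel.Quotient H X)
  have h := sum_card_fixedBy_eq_card_orbits_mul_card_group H X
  simp only [Nat.card_eq_fintype_card]
  exact h

theorem card_fixed_prod {H : Type*} [Group H] (X : Type*) [MulAction H X] (g : H) :
    Nat.card (fixedBy (X × X) g) = Nat.card (fixedBy X g) ^ 2 := by
  rw [pow_two, ← Nat.card_prod]
  exact Nat.card_congr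
    { toFun := fun x => (⟨x.1.1, congrArg Prod.fst x.2⟩, ⟨x.1.2, congrArg Prod.snd x.2⟩)
      invFun := fun x => ⟨(x.1, x.2), Prod.ext x.1.2 x.2.2⟩
      left_inv := fun x => rfl
      right_inv := fun x => rfl }

theorem sum_mem_subgroup [Fintype G] (D : Subgroup G) [DecidablePred (· ∈ D)] (f : G → ℕ) :
    ∑ g ∈ Finset.univ.filter (· ∈ D), f g = ∑ g : D, f g :=
  Finset.sum_subtype _ (fun x => by simp) f

theorem one_le_fixed {g : G} (hg : g ∉ der G Ω) : 1 ≤ Nat.card (fixedBy Ω g) := by
  have h : ¬ ∀ ω : Ω, g • ω ≠ ω := fun h => hg (Subgroup.subset_closure h)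
  push Not at h
  obtain ⟨ω, hω⟩ := h
  haveI : Nonempty (fixedBy Ω g) := ⟨⟨ω, hω⟩⟩
  exact Nat.card_pos

theorem der_facts [IsPretransitive G Ω] :
    IsPretransitive (der G Ω) Ω ∧ ∀ g : G, Nat.card (fixedBy Ω g) ≠ 1 → g ∈ der G Ω := by
  classical
  rcases isEmpty_or_nonempty Ω with hΩ | hΩ
  · exact ⟨⟨fun x => isEmptyElim x⟩, fun g _ => Subgroup.subset_closure fun ω => isEmptyElim ω⟩
  haveI := Fintype.ofFinite G
  set D := der G Ω
  have hG : Nat.card (orbitRel.Quotient G Ω) = 1 := by
    haveI : Subsingleton (orbitRel.Quotient G Ω) := (pretransitive_iff_subsingleton_quotient G Ω).1 inferInstance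
    haveI : Nonempty (orbitRel.Quotient G Ω) := ⟨Quotient.mk _ (Classical.arbitrary Ω)⟩
    exact Nat.card_of_subsingleton (Classical.arbitrary _)
  haveI : Nonempty (orbitRel.Quotient D Ω) := ⟨Quotient.mk _ (Classical.arbitrary Ω)⟩
  have hk : 1 ≤ Nat.card (orbitRel.Quotient D Ω) := Nat.card_pos
  have h1 := Finset.sum_filter_add_sum_filter_not Finset.univ (· ∈ D) fun g : G => Nat.card (fixedBy Ω g)
  rw [sum_fixed G Ω, hG, one_mul, sum_mem_subgroup G D] at h1
  have h2 : ∑ g : D, Nat.card (fixedBy Ω (g : G)) = Nat.card (orbitRel.Quotient D Ω) * Nat.card D :=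
    sum_fixed D Ω
  rw [h2] at h1
  have h3 := Finset.sum_filter_add_sum_filter_not Finset.univ (· ∈ D) fun _ : G => 1
  rw [sum_mem_subgroup G D] at h3
  simp only [Finset.sum_const, smul_eq_mul, mul_one, Finset.card_univ, ← Nat.card_eq_fintype_card] at h3
  have hle : ∀ g ∈ Finset.univ.filter (fun g : G => ¬ g ∈ D), 1 ≤ Nat.card (fixedBy Ω g) := fun g hg =>
    one_le_fixed G Ω (Finset.mem_filter.1 hg).2
  have hsum : ∑ g ∈ Finset.univ.filter (fun g : G => ¬ g ∈ D), 1 ≤ ∑ g ∈ Finset.univ.filter (fun g : G => ¬ g ∈ D), Nat.card (fixedBy Ω g) :=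
    Finset.sum_le_sum hle
  have hD : Nat.card D ≤ Nat.card (orbitRel.Quotient D Ω) * Nat.card D := Nat.le_mul_of_pos_left _ hk
  have hkD : Nat.card (orbitRel.Quotient D Ω) * Nat.card D = Nat.card D := by
    simp only [Finset.sum_const, smul_eq_mul, mul_one] at hsum h3
    omega
  have hk1 : Nat.card (orbitRel.Quotient D Ω) = 1 := (Nat.mul_eq_right Nat.card_pos.ne').1 hkD
  refine ⟨(pretransitive_iff_subsingleton_quotient D Ω).2 (Nat.card_eq_one_iff_unique.1 hk1).1, fun g hg => ?_⟩
  by_contra hgD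
  rw [hkD] at h1
  have heq := (Finset.sum_eq_sum_iff_of_le hle).1 (by
    simp only [Finset.sum_const, smul_eq_mul, mul_one] at h3 ⊢
    omega) g (Finset.mem_filter.2 ⟨Finset.mem_univ _, hgD⟩)
  exact hg heq.symm

theorem rank_formula [IsPretransitive G Ω] :
    Nat.card (orbitRel.Quotient (der G Ω) (Ω × Ω)) - 1 =
      (Nat.card (orbitRel.Quotient G (Ω × Ω)) - 1) * (der G Ω).index := by
  classical
  rcases isEmpty_or_nonempty Ω with hΩ | hΩ
  · haveI : IsEmpty (orbitRel.Quotient (der G Ω) (Ω × Ω)) := ⟨fun q => Quotient.inductionOn q fun x => isEmptyElim x.1⟩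
    haveI : IsEmpty (orbitRel.Quotient G (Ω × Ω)) := ⟨fun q => Quotient.inductionOn q fun x => isEmptyElim x.1⟩
    simp
  haveI := Fintype.ofFinite G
  set D := der G Ω
  set r := Nat.card (orbitRel.Quotient G (Ω × Ω))
  set r' := Nat.card (orbitRel.Quotient D (Ω × Ω))
  have h1 := Finset.sum_filter_add_sum_filter_not Finset.univ (· ∈ D) fun g : G => Nat.card (fixedBy (Ω × Ω) g)
  rw [sum_fixed G (Ω × Ω), sum_mem_subgroup G D] at h1
  have h2 : ∑ g : D, Nat.card (fixedBy (Ω × Ω) (g : G)) = r' * Nat.card D := sum_fixed D (Ω × Ω)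
  rw [h2] at h1
  have h3 := Finset.sum_filter_add_sum_filter_not Finset.univ (· ∈ D) fun _ : G => 1
  rw [sum_mem_subgroup G D] at h3
  simp only [Finset.sum_const, smul_eq_mul, mul_one, Finset.card_univ, ← Nat.card_eq_fintype_card] at h3
  have h4 : ∑ g ∈ Finset.univ.filter (fun g : G => ¬ g ∈ D), Nat.card (fixedBy (Ω × Ω) g) =
      ∑ g ∈ Finset.univ.filter (fun g : G => ¬ g ∈ D), 1 := Finset.sum_congr rfl fun g hg => by
    rw [card_fixed_prod]
    have : Nat.card (fixedBy Ω g) = 1 := by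
      by_contra h
      exact (Finset.mem_filter.1 hg).2 ((der_facts G Ω).2 g h)
    rw [this, one_pow]
  rw [h4, Finset.sum_const, smul_eq_mul, mul_one] at h1
  haveI : Nonempty (orbitRel.Quotient G (Ω × Ω)) := ⟨Quotient.mk _ (Classical.arbitrary _)⟩
  have hr : 1 ≤ r := Nat.card_pos
  have hmul : Nat.card D * D.index = Nat.card G := D.card_mul_index
  have hs : (Finset.univ.filter fun g : G => ¬ g ∈ D).card = Nat.card G - Nat.card D := by omega
  have hle : Nat.card D ≤ Nat.card G := Subgroup.card_le_card_group D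
  have key : (r' * Nat.card D + Nat.card G) = r * Nat.card G + Nat.card D := by rw [← h1, hs]; omega
  refine Nat.eq_of_mul_eq_mul_left (Nat.card_pos (α := D)) ?_
  rw [Nat.mul_sub, mul_one, mul_comm (Nat.card D) ((r - 1) * D.index), Nat.sub_mul, one_mul, Nat.sub_mul, mul_assoc,
    mul_comm D.index, hmul, mul_comm (Nat.card D) r']
  omega

theorem stab_index [IsPretransitive G Ω] (a : Ω) :
    ((der G Ω).subgroupOf (stabilizer G a)).index = (der G Ω).index := by
  haveI := (der_facts G Ω).1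
  set D := der G Ω
  set H := stabilizer G a
  have h1 : (stabilizer D a).index = Nat.card Ω := index_stabilizer_of_transitive D a
  have h2 : H.index = Nat.card Ω := index_stabilizer_of_transitive G a
  have h3 : stabilizer D a = H.subgroupOf D := by ext x; rfl
  rw [h3] at h1
  have h4 : Nat.card (H.subgroupOf D) = Nat.card (D.subgroupOf H) := by
    exact Nat.card_congr
      { toFun := fun x => ⟨⟨x.1.1, x.2⟩, x.1.2⟩
        invFun := fun x => ⟨⟨x.1.1, x.2⟩, x.1.2⟩
        left_inv := fun x => rfl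
        right_inv := fun x => rfl }
  have e1 := (H.subgroupOf D).card_mul_index
  have e2 := (D.subgroupOf H).card_mul_index
  have e3 := H.card_mul_index
  have e4 := D.card_mul_index
  rw [h1] at e1
  rw [h2] at e3
  rw [← h4] at e2
  haveI : Nonempty Ω := ⟨a⟩
  refine Nat.eq_of_mul_eq_mul_left (Nat.mul_pos (Nat.card_pos (α := H.subgroupOf D)) (Nat.card_pos (α := Ω))) ?_
  calc Nat.card (H.subgroupOf D) * Nat.card Ω * (D.subgroupOf H).index
      = (Nat.card (H.subgroupOf D) * (D.subgroupOf H).index) * Nat.card Ω := by ring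
    _ = Nat.card G := by rw [e2, e3]
    _ = _ := by rw [e1, e4]

theorem two_fixed [IsPretransitive G Ω] {a b : Ω} (hab : a ≠ b) {g : G} (ha : g • a = a) (hb : g • b = b) :
    g ∈ der G Ω := by
  refine (der_facts G Ω).2 g fun h => hab ?_
  haveI := (Nat.card_eq_one_iff_unique.1 h).1
  exact congrArg Subtype.val (Subsingleton.elim (⟨a, ha⟩ : fixedBy Ω g) ⟨b, hb⟩)

/-- The index divides the size of every set invariant under a point stabilizer and avoiding the point. -/
theorem index_dvd [IsPretransitive G Ω] (a : Ω) (S : Set Ω) (hS : a ∉ S)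
    (hinv : ∀ h ∈ stabilizer G a, ∀ b ∈ S, h • b ∈ S) : (der G Ω).index ∣ Nat.card S := by
  classical
  let M : SubMulAction (stabilizer G a) Ω := ⟨S, fun h {b} hb => hinv h h.2 b hb⟩
  haveI := Fintype.ofFinite M
  haveI := Fintype.ofFinite (orbitRel.Quotient (stabilizer G a) M)
  show _ ∣ Nat.card M
  rw [Nat.card_congr (selfEquivSigmaOrbits (stabilizer G a) M), Nat.card_sigma]
  refine Finset.dvd_sum fun q _ => ?_
  rw [Nat.card_coe_set_eq, ← index_stabilizer, ← stab_index G Ω a]
  refine Subgroup.index_dvd_of_le fun h hh => ?_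
  exact two_fixed G Ω (fun e => hS (by rw [e]; exact q.out.2)) h.2 (congrArg Subtype.val hh)

theorem dvd_card_sub_one [IsPretransitive G Ω] (hΩ : 2 ≤ Nat.card Ω) : (der G Ω).index ∣ Nat.card Ω - 1 := by
  haveI : Nonempty Ω := (Nat.card_pos_iff.1 (by omega)).1
  let a : Ω := Classical.arbitrary Ω
  have h := index_dvd G Ω a {b | b ≠ a} (fun h => h rfl) fun g hg b hb e => hb (MulAction.injective g (e.trans hg.symm))
  have e : Nat.card ({b | b ≠ a} : Set Ω) = Nat.card Ω - 1 := by
    rw [Nat.card_coe_set_eq, show ({b | b ≠ a} : Set Ω) = {a}ᶜ from rfl, Set.ncard_compl, Set.ncard_singleton]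
  rwa [e] at h

theorem prime_pow_of_eq [FaithfulSMul G Ω] [IsPretransitive G Ω] (hΩ : 2 ≤ Nat.card Ω)
    (he : (der G Ω).index = Nat.card Ω - 1) : IsPrimePow (Nat.card Ω) := by
  classical
  haveI : Nonempty Ω := (Nat.card_pos_iff.1 (by omega)).1
  let a : Ω := Classical.arbitrary Ω
  set H := stabilizer G a
  set D := der G Ω
  have hd := stab_index G Ω a
  -- each orbit of the stabilizer is everything else
  have horb : ∀ b, b ≠ a → stabilizer H b = D.subgroupOf H ∧ orbit H b = {a}ᶜ := by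
    intro b hb
    have hle : stabilizer H b ≤ D.subgroupOf H := fun h hh => two_fixed G Ω hb.symm h.2 hh
    have hsub : orbit H b ⊆ {a}ᶜ := by
      rintro _ ⟨h, rfl⟩ e
      exact hb (MulAction.injective (h : G) ((Set.mem_singleton_iff.1 e).trans h.2.symm))
    have h1 : (orbit H b).ncard ≤ Nat.card Ω - 1 := by
      have := Set.ncard_le_ncard hsub
      rwa [Set.ncard_compl, Set.ncard_singleton] at this
    have h2 : Nat.card Ω - 1 ≤ (stabilizer H b).index := by
      rw [← he, ← hd]
      exact Nat.le_of_dvd (Nat.pos_of_ne_zero Subgroup.index_ne_zero_of_finite) (Subgroup.index_dvd_of_le hle)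
    rw [index_stabilizer] at h2
    refine ⟨?_, Set.eq_of_subset_of_ncard_le hsub (by rw [Set.ncard_compl, Set.ncard_singleton]; omega)⟩
    refine Subgroup.eq_of_le_of_card_ge hle (Nat.le_of_eq ?_)
    have e1 := (stabilizer H b).card_mul_index
    have e2 := (D.subgroupOf H).card_mul_index
    rw [index_stabilizer, show (orbit H b).ncard = Nat.card Ω - 1 by omega] at e1
    rw [hd, he] at e2
    exact Nat.eq_of_mul_eq_mul_right (by omega) (e2.trans e1.symm)
  have hfree : ∀ d ∈ D, d • a = a → d = 1 := by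
    intro d hd' hda
    refine FaithfulSMul.eq_of_smul_eq_smul (α := Ω) fun b => ?_
    rw [one_smul]
    by_cases hb : b = a
    · rw [hb, hda]
    · exact (horb b hb).1.ge (show (⟨d, hda⟩ : H) ∈ D.subgroupOf H from hd')
  haveI := (der_facts G Ω).1
  have hbij : Function.Bijective fun d : D => (d : G) • a := by
    refine ⟨fun d e h => ?_, fun b => exists_smul_eq D a b⟩
    have := hfree ((e⁻¹ * d : D) : G) (e⁻¹ * d).2 (by
      show ((e : G)⁻¹ * d) • a = a
      rw [mul_smul, show (d : G) • a = (e : G) • a from h, inv_smul_smul])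
    exact (inv_mul_eq_one.1 (Subtype.ext this : e⁻¹ * d = 1)).symm
  have hcard : Nat.card D = Nat.card Ω := Nat.card_congr (Equiv.ofBijective _ hbij)
  obtain ⟨p, hp, hpd⟩ := Nat.exists_prime_and_dvd (show Nat.card D ≠ 1 by omega)
  haveI := Fact.mk hp
  obtain ⟨x, hx⟩ := exists_prime_orderOf_dvd_card' p hpd
  have hx1 : (x : G) • a ≠ a := fun e => by
    rw [show x = 1 from Subtype.ext (hfree x x.2 e), orderOf_one] at hx
    exact hp.ne_one hx.symm
  have hN : ∀ h : G, h • a = a → ∀ d ∈ D, h * d * h⁻¹ ∈ D := fun h _ d hd' => by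
    refine Subgroup.closure_induction (p := fun d _ => h * d * h⁻¹ ∈ D) ?_ ?_ ?_ ?_ hd'
    · exact fun y hy => Subgroup.subset_closure fun ω e => hy (h⁻¹ • ω) (by
        conv_rhs => rw [← e]
        simp [mul_smul])
    · simp
    · intro u v _ _ hu hv
      rw [show h * (u * v) * h⁻¹ = (h * u * h⁻¹) * (h * v * h⁻¹) by group]
      exact mul_mem hu hv
    · intro u _ hu
      rw [show h * u⁻¹ * h⁻¹ = (h * u * h⁻¹)⁻¹ by group]
      exact inv_mem hu
  have hP : IsPGroup p D := by
    intro y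
    by_cases hy : y = 1
    · exact ⟨0, by rw [hy, one_pow]⟩
    have hy1 : (y : G) • a ≠ a := fun e => hy (Subtype.ext (hfree y y.2 e))
    obtain ⟨⟨h, hh⟩, hhx⟩ : ((y : G) • a) ∈ orbit H ((x : G) • a) := by rw [(horb _ hx1).2]; exact hy1
    have hconj : (⟨h * x * h⁻¹, hN h hh x x.2⟩ : D) = y := hbij.1 (by
      show (h * (x : G) * h⁻¹) • a = (y : G) • a
      rw [mul_smul, inv_smul_eq_iff.2 (show a = h • a from hh.symm), mul_smul]
      exact hhx)
    refine ⟨1, ?_⟩
    rw [← hconj, pow_one]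
    refine Subtype.ext ?_
    show (h * (x : G) * h⁻¹) ^ p = 1
    rw [conj_pow, show (x : G) ^ p = 1 by rw [← hx, ← Subgroup.orderOf_coe x]; exact pow_orderOf_eq_one _]
    group
  obtain ⟨k, hk⟩ := IsPGroup.iff_card.1 hP
  rw [← hcard, hk]
  refine (Nat.Prime.isPrimePow hp).pow ?_
  rintro rfl
  rw [pow_zero] at hk
  omega

theorem index_le_sqrt [IsPretransitive G Ω] (himp : ¬ IsPreprimitive G Ω) :
    ((der G Ω).index : ℝ) ≤ Real.sqrt (Nat.card Ω) - 1 := by
  classical
  obtain ⟨B, hB, hnt⟩ : ∃ B : Set Ω, IsBlock G B ∧ ¬ IsTrivialBlock B := by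
    by_contra hn
    push Not at hn
    exact himp { toIsPretransitive := inferInstance, isTrivialBlock_of_isBlock := fun {B} hB => hn B hB }
  rw [IsTrivialBlock] at hnt
  push Not at hnt
  obtain ⟨hs, hu⟩ := hnt
  obtain ⟨a, ha, c, hc, hac⟩ := hs
  have hBne : B.Nonempty := ⟨a, ha⟩
  have hmul := hB.ncard_block_mul_ncard_orbit_eq hBne
  set b := B.ncard
  set m := (orbit G B).ncard
  have hb2 : 2 ≤ b := (Set.one_lt_ncard).2 ⟨a, ha, c, hc, hac⟩
  have hbn : b < Nat.card Ω := by
    rw [← Set.ncard_univ]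
    exact Set.ncard_lt_ncard ⟨Set.subset_univ B, fun h => hu (Set.eq_univ_of_univ_subset h)⟩
  have d1 : (der G Ω).index ∣ b - 1 := by
    have := index_dvd G Ω a (B \ {a}) (fun h => h.2 rfl) fun g hg x hx => ⟨?_, fun e => hx.2
      (MulAction.injective g ((Set.mem_singleton_iff.1 e).trans hg.symm))⟩
    · rwa [Nat.card_coe_set_eq, Set.ncard_diff_singleton_of_mem ha] at this
    · have : g • B = B := hB.smul_eq_of_nonempty ⟨a, ⟨a, ha, hg⟩, ha⟩
      rw [← this]
      exact Set.smul_mem_smul_set hx.1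
  have d2 : (der G Ω).index ∣ Nat.card Ω - 1 := dvd_card_sub_one G Ω (by omega)
  set d := (der G Ω).index
  have hm2 : 2 ≤ m := by
    by_contra hm
    interval_cases m <;> omega
  have d3 : d ∣ m - 1 := by
    have e : Nat.card Ω - 1 = b * (m - 1) + (b - 1) := by
      rw [← hmul, Nat.mul_sub, mul_one]
      have : b ≤ b * m := Nat.le_mul_of_pos_right b (by omega)
      omega
    rw [e] at d2
    have h4 : d ∣ b * (m - 1) := (Nat.dvd_add_left d1).1 d2
    have hco : Nat.Coprime d b := by
      refine Nat.Coprime.coprime_dvd_left d1 ?_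
      have := Nat.coprime_self_sub_left (m := 1) (n := b) (by omega)
      exact this.mpr (Nat.coprime_one_left b)
    exact hco.dvd_of_dvd_mul_left h4
  have l1 : d + 1 ≤ b := by have := Nat.le_of_dvd (by omega) d1; omega
  have l2 : d + 1 ≤ m := by have := Nat.le_of_dvd (by omega) d3; omega
  have l3 : (d + 1) ^ 2 ≤ Nat.card Ω := by rw [pow_two, ← hmul]; exact Nat.mul_le_mul l1 l2
  rw [le_sub_iff_add_le]
  refine Real.le_sqrt_of_sq_le ?_
  exact_mod_cast l3

end Cfsg.Agent.Solv.DerangementSubgroup
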