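import Mathlib.GroupTheory.Sylow
import Mathlib.GroupTheory.SchurZassenhaus
import Mathlib.GroupTheory.Subgroup.Centralizer
import Cfsg.Agent.Lib.Solv.Basic
import Cfsg.Agent.Lib.Perm.ConjCount
import Cfsg.Agent.Lib.Solv.SchurZassenhaus

/-!
The counting argument of Dickson for finite groups of `2 × 2` matrices of determinant one,
in an axiomatic form.
-/

set_option autoImplicit false
set_option linter.style.haveILetI false
set_option linter.unusedSectionVars false

namespace Cfsg.Agent.Solv.Dickson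

open Subgroup
open scoped Pointwise

variable {G : Type*} [Group G]

/-- Elements which are neither `±` unipotent. -/
def Ss (p : ℕ) (ζ x : G) : Prop := x ^ p ≠ 1 ∧ (ζ * x) ^ p ≠ 1

/-- The properties of a subgroup of `SL(2, F)` containing `-1` used by the counting. -/
structure Axioms (p : ℕ) (ζ : G) : Prop where
  central : ∀ g : G, Commute ζ g
  sq : ζ * ζ = 1
  ne_one : ζ ≠ 1
  unique_inv : ∀ g : G, g * g = 1 → g = 1 ∨ g = ζ
  trans : ∀ {x a b : G}, x ≠ 1 → x ≠ ζ → Commute x a → Commute x b → Commute a b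
  unip : ∀ {x y : G}, x ≠ 1 → x ^ p = 1 → Commute x y → y ^ p = 1 ∨ (ζ * y) ^ p = 1
  inv : ∀ {x h : G}, Ss p ζ x → Commute x (h * x * h⁻¹) → h * x * h⁻¹ = x ∨ h * x * h⁻¹ = x⁻¹
  line : ∀ {x y h : G}, x ≠ 1 → x ^ p = 1 → Ss p ζ y → Commute x (y * x * y⁻¹) → Commute y h →
    Commute x (h * x * h⁻¹)
  borel : ∀ {x a b : G}, x ≠ 1 → x ^ p = 1 → Commute x (a * x * a⁻¹) → Commute x (b * x * b⁻¹) →
    (a * b * a⁻¹ * b⁻¹) ^ p = 1

/-- The centralizer of an element. -/
abbrev cent (x : G) : Subgroup G := centralizer ({x} : Set G)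

theorem mem_cent {x y : G} : y ∈ cent x ↔ Commute x y := by
  rw [mem_centralizer_iff]
  simp [Commute, SemiconjBy]

theorem conj_smul_cent (g x : G) : MulAut.conj g • cent x = cent (g * x * g⁻¹) := by
  ext y
  rw [Subgroup.mem_pointwise_smul_iff_inv_smul_mem, mem_cent, mem_cent]
  have e : (MulAut.conj g)⁻¹ • y = g⁻¹ * y * g := by simp [MulAut.smul_def]
  rw [e]
  constructor <;> intro h
  · have := h.map (MulAut.conj g).toMonoidHom
    simpa [mul_assoc] using this
  · have := h.map (MulAut.conj g⁻¹).toMonoidHom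
    simpa [mul_assoc] using this

theorem mem_normalizer_iff_smul {g : G} {A : Subgroup G} :
    g ∈ normalizer (A : Set G) ↔ MulAut.conj g • A = A :=
  mem_normalizer_iff_map_conj_eq

variable {p : ℕ} {ζ : G}

theorem Axioms.ss_ne (H : Axioms p ζ) {x : G} (hx : Ss p ζ x) : x ≠ 1 ∧ x ≠ ζ := by
  refine ⟨fun h => hx.1 (by rw [h, one_pow]), fun h => hx.2 ?_⟩
  rw [h, H.sq, one_pow]

theorem Axioms.pow_ne_zeta (H : Axioms p ζ) (hodd : Odd p) {x : G} (hx : x ^ p = 1) : x ≠ ζ := by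
  rintro rfl
  obtain ⟨k, rfl⟩ := hodd
  rw [pow_succ, pow_mul, pow_two, H.sq, one_pow, one_mul] at hx
  exact H.ne_one hx

theorem Axioms.cent_eq (H : Axioms p ζ) {x y : G} (hx1 : x ≠ 1) (hxζ : x ≠ ζ) (hy1 : y ≠ 1)
    (hyζ : y ≠ ζ) (h : Commute x y) : cent x = cent y := by
  ext z
  rw [mem_cent, mem_cent]
  exact ⟨fun hz => H.trans hx1 hxζ h hz, fun hz => H.trans hy1 hyζ h.symm hz⟩

theorem Axioms.cent_zeta_mul (H : Axioms p ζ) (x : G) : cent (ζ * x) = cent x := by
  ext z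
  rw [mem_cent, mem_cent]
  constructor <;> intro h
  · have := (H.central z).mul_left h
    rwa [← mul_assoc, H.sq, one_mul] at this
  · exact (H.central z).mul_left h

/-- The elements of order dividing `p` commuting with `x`. -/
def unipGroup (H : Axioms p ζ) (x : G) (hx1 : x ≠ 1) (hxζ : x ≠ ζ) : Subgroup G where
  carrier := {z | Commute x z ∧ z ^ p = 1}
  one_mem' := ⟨Commute.one_right x, one_pow p⟩
  mul_mem' := fun {a b} ha hb => ⟨ha.1.mul_right hb.1, by
    rw [(H.trans hx1 hxζ ha.1 hb.1).mul_pow, ha.2, hb.2, one_mul]⟩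
  inv_mem' := fun {a} ha => ⟨ha.1.inv_right, by rw [inv_pow, ha.2, inv_one]⟩

theorem mem_unipGroup (H : Axioms p ζ) {x : G} (hx1 : x ≠ 1) (hxζ : x ≠ ζ) {z : G} :
    z ∈ unipGroup H x hx1 hxζ ↔ Commute x z ∧ z ^ p = 1 := Iff.rfl

section Finite

variable [Finite G] [hp : Fact p.Prime]

/-- A Sylow subgroup containing an element `x` of order `p` consists of the unipotents commuting with `x`. -/
theorem sylow_eq_unipGroup (H : Axioms p ζ) (hodd : Odd p) {x : G} (hx1 : x ≠ 1) (hx : x ^ p = 1)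
    (P : Sylow p G) (hxP : x ∈ P) :
    (P : Subgroup G) = unipGroup H x hx1 (H.pow_ne_zeta hodd hx) := by
  have hxζ := H.pow_ne_zeta hodd hx
  haveI : Nontrivial (P : Subgroup G) :=
    ⟨⟨⟨x, hxP⟩, 1, fun h => hx1 (congrArg Subtype.val h)⟩⟩
  haveI := P.isPGroup'.center_nontrivial
  obtain ⟨⟨c, hc⟩, hc1⟩ := exists_ne (1 : Subgroup.center (P : Subgroup G))
  set z : G := (c : G) with hz
  have hz1 : z ≠ 1 := fun h => hc1 (Subtype.ext (Subtype.ext h))
  have hzc : ∀ y ∈ (P : Subgroup G), Commute z y := fun y hy =>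
    (congrArg Subtype.val (mem_center_iff.mp hc ⟨y, hy⟩)).symm
  have hzζ : z ≠ ζ := by
    intro h
    obtain ⟨k, hk⟩ := IsPGroup.iff_orderOf.mp P.isPGroup' c
    rw [← Subgroup.orderOf_coe, ← hz, h] at hk
    have h2 : orderOf ζ = 2 := orderOf_eq_prime (by rw [pow_two, H.sq]) H.ne_one
    rw [h2] at hk
    have h3 : Odd (p ^ k) := hodd.pow
    rw [← hk] at h3
    exact absurd h3 (by decide)
  have hle : unipGroup H x hx1 hxζ ≥ (P : Subgroup G) := by
    intro y hy
    have hxy : Commute x y := H.trans hz1 hzζ (hzc x hxP) (hzc y hy)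
    refine ⟨hxy, ?_⟩
    rcases H.unip hx1 hx hxy with h | h
    · exact h
    · obtain ⟨k, hk⟩ := IsPGroup.iff_orderOf.mp P.isPGroup' ⟨y, hy⟩
      rw [← Subgroup.orderOf_coe] at hk
      rw [(H.central y).mul_pow] at h
      have hζp : ζ ^ p = ζ := by
        obtain ⟨j, rfl⟩ := hodd
        rw [pow_succ, pow_mul, pow_two, H.sq, one_pow, one_mul]
      rw [hζp] at h
      exfalso
      have hyp : y ^ p = ζ := by
        calc y ^ p = ζ * (ζ * y ^ p) := by rw [← mul_assoc, H.sq, one_mul]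
          _ = ζ := by rw [h, mul_one]
      have h2 : ζ ^ (p ^ k) = 1 := by
        rw [← hyp, ← pow_mul, mul_comm, pow_mul, show y ^ p ^ k = 1 by
          rw [show p ^ k = orderOf y from hk.symm, pow_orderOf_eq_one], one_pow]
      obtain ⟨j, hj⟩ := hodd.pow (n := k)
      rw [hj, pow_succ, pow_mul, pow_two, H.sq, one_pow, one_mul] at h2
      exact H.ne_one h2
  refine (P.is_maximal' ?_ hle).symm
  exact fun y => ⟨1, by rw [pow_one]; exact Subtype.ext y.2.2⟩

theorem exists_sylow_unipGroup (H : Axioms p ζ) (hodd : Odd p) {x : G} (hx1 : x ≠ 1)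
    (hx : x ^ p = 1) :
    ∃ P : Sylow p G, x ∈ P ∧ (P : Subgroup G) = unipGroup H x hx1 (H.pow_ne_zeta hodd hx) := by
  have hU : IsPGroup p (unipGroup H x hx1 (H.pow_ne_zeta hodd hx)) :=
    fun y => ⟨1, by rw [pow_one]; exact Subtype.ext y.2.2⟩
  obtain ⟨P, hP⟩ := hU.exists_le_sylow
  have hxP : x ∈ P := hP ⟨Commute.refl x, hx⟩
  exact ⟨P, hxP, sylow_eq_unipGroup H hodd hx1 hx P hxP⟩

/-- The elements conjugate into `cent x`. -/
def Orb (ζ x : G) : Set G := {z | z ≠ 1 ∧ z ≠ ζ ∧ ∃ g : G, cent z = MulAut.conj g • cent x}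

theorem card_orb_mul (H : Axioms p ζ) {x : G} (hx1 : x ≠ 1) (hxζ : x ≠ ζ) :
    Nat.card (Orb ζ x) * Nat.card (normalizer (cent x : Set G)) =
      Nat.card G * (Nat.card (cent x) - 2) := by
  classical
  haveI := Fintype.ofFinite G
  set A := cent x
  have hζA : ζ ∈ A := mem_cent.mpr (H.central x).symm
  have hA : Nat.card {a : G // a ∈ A ∧ a ≠ 1 ∧ a ≠ ζ} = Nat.card A - 2 := by
    have e : {a : G | a ∈ A ∧ a ≠ 1 ∧ a ≠ ζ} = (A : Set G) \ {1, ζ} := by
      ext a; simp [not_or]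
    rw [show Nat.card {a : G // a ∈ A ∧ a ≠ 1 ∧ a ≠ ζ} = {a : G | a ∈ A ∧ a ≠ 1 ∧ a ≠ ζ}.ncard from
      Nat.card_coe_set_eq _, e, Set.ncard_sdiff (by
        intro a ha; rcases ha with rfl | rfl
        · exact A.one_mem
        · exact hζA), Set.ncard_pair (Ne.symm H.ne_one)]
    rfl
  rw [← hA, ← Nat.card_prod, ← Nat.card_prod]
  choose gz hgz using fun z : Orb ζ x => z.2.2.2
  refine (Nat.card_congr ?_).symm
  have hcent : ∀ (g a : G), a ∈ A → a ≠ 1 → a ≠ ζ →
      g * a * g⁻¹ ∈ Orb ζ x ∧ cent (g * a * g⁻¹) = MulAut.conj g • A := by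
    intro g a ha ha1 haζ
    have h1 : cent (g * a * g⁻¹) = MulAut.conj g • A := by
      rw [← conj_smul_cent, ← H.cent_eq hx1 hxζ ha1 haζ (mem_cent.mp ha)]
    refine ⟨⟨fun h => ha1 (conj_eq_one_iff.mp h), fun h => haζ ?_, g, h1⟩, h1⟩
    have h2 : g⁻¹ * (g * a * g⁻¹) * g = g⁻¹ * ζ * g := by rw [h]
    rw [show g⁻¹ * ζ * g = ζ by rw [mul_assoc, (H.central g).eq, inv_mul_cancel_left]] at h2
    simpa [mul_assoc] using h2
  refine Equiv.ofBijective (fun q =>
    let z : Orb ζ x := ⟨q.1 * q.2.1 * q.1⁻¹, (hcent q.1 q.2.1 q.2.2.1 q.2.2.2.1 q.2.2.2.2).1⟩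
    (z, ⟨(gz z)⁻¹ * q.1, by
      rw [mem_normalizer_iff_smul, map_mul, mul_smul,
        ← (hcent q.1 q.2.1 q.2.2.1 q.2.2.2.1 q.2.2.2.2).2, hgz z, ← mul_smul, ← map_mul,
        inv_mul_cancel, map_one, one_smul]⟩)) ⟨?_, ?_⟩
  · rintro ⟨g, a, ha⟩ ⟨g', a', ha'⟩ h
    have h1 := congrArg Prod.fst h
    have h2 := congrArg (fun t => (t.2 : G)) h
    simp only at h2
    simp only at h1
    rw [h1] at h2
    obtain rfl := mul_left_cancel h2
    have h3 := congrArg Subtype.val h1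
    simp only [mul_left_inj, mul_right_inj] at h3
    subst h3
    rfl
  · rintro ⟨⟨z, hz⟩, ⟨n, hn⟩⟩
    have h0 : gz ⟨z, hz⟩ * n * ((gz ⟨z, hz⟩ * n)⁻¹ * z * (gz ⟨z, hz⟩ * n)) *
        (gz ⟨z, hz⟩ * n)⁻¹ = z := by group
    have hmem : (gz ⟨z, hz⟩ * n)⁻¹ * z * (gz ⟨z, hz⟩ * n) ∈ A := by
      have h1 : z ∈ MulAut.conj (gz ⟨z, hz⟩ * n) • A := by
        rw [map_mul, mul_smul, mem_normalizer_iff_smul.mp hn, ← hgz ⟨z, hz⟩]
        exact mem_cent.mpr (Commute.refl _)
      rw [Subgroup.mem_pointwise_smul_iff_inv_smul_mem] at h1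
      simpa [MulAut.smul_def, mul_assoc] using h1
    have hne : ∀ w : G, (∀ v : G, v * w * v⁻¹ = w) → z ≠ w →
        (gz ⟨z, hz⟩ * n)⁻¹ * z * (gz ⟨z, hz⟩ * n) ≠ w := fun w hw hzw h =>
      hzw (by rw [← h0, h, hw])
    have hw1 := hne 1 (fun v => by group) hz.1
    have hwζ := hne ζ (fun v => by rw [← (H.central v).eq, mul_inv_cancel_right]) hz.2.1
    refine ⟨(gz ⟨z, hz⟩ * n, ⟨_, hmem, hw1, hwζ⟩), ?_⟩
    refine Prod.ext (Subtype.ext h0) (Subtype.ext ?_)
    simp only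
    rw [show (⟨_, (hcent (gz ⟨z, hz⟩ * n) _ hmem hw1 hwζ).1⟩ : Orb ζ x) = ⟨z, hz⟩ from Subtype.ext h0,
      inv_mul_cancel_left]

theorem orb_subset_of_mem {x z : G} (hz : z ∈ Orb ζ x) : Orb ζ z = Orb ζ x := by
  obtain ⟨g, hg⟩ := hz.2.2
  ext w
  constructor
  · rintro ⟨h1, h2, a, ha⟩
    exact ⟨h1, h2, a * g, by rw [ha, hg, map_mul, mul_smul]⟩
  · rintro ⟨h1, h2, a, ha⟩
    exact ⟨h1, h2, a * g⁻¹, by rw [ha, hg, map_mul, mul_smul, ← mul_smul (MulAut.conj g⁻¹),
      ← map_mul, inv_mul_cancel, map_one, one_smul]⟩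

theorem card_cent_ss_ge (H : Axioms p ζ) {x : G} (hx : Ss p ζ x) :
    4 ≤ Nat.card (cent x) ∧ Even (Nat.card (cent x)) := by
  obtain ⟨hx1, hxζ⟩ := H.ss_ne hx
  have hζ : ζ ∈ cent x := mem_cent.mpr (H.central x).symm
  have h2 : orderOf ζ = 2 := orderOf_eq_prime (by rw [pow_two, H.sq]) H.ne_one
  have heven : Even (Nat.card (cent x)) := by
    rw [even_iff_two_dvd, ← h2]; exact Subgroup.orderOf_dvd_natCard _ hζ
  have h3 : 3 ≤ Nat.card (cent x) := by
    have hsub : ({1, ζ, x} : Set G) ⊆ cent x := by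
      intro a ha
      rcases ha with rfl | rfl | rfl
      · exact (cent x).one_mem
      · exact hζ
      · exact mem_cent.mpr (Commute.refl _)
    have h := Set.ncard_le_ncard hsub
    rw [Set.ncard_eq_three.mpr ⟨1, ζ, x, Ne.symm H.ne_one, Ne.symm hx1, Ne.symm hxζ, rfl⟩,
      ← Nat.card_coe_set_eq] at h
    exact h
  obtain ⟨k, hk⟩ := heven
  exact ⟨by omega, ⟨k, hk⟩⟩

theorem normalizer_cent_index (H : Axioms p ζ) {x : G} (hx : Ss p ζ x) :
    ∃ s, (s = 1 ∨ s = 2) ∧ Nat.card (normalizer (cent x : Set G)) = s * Nat.card (cent x) := by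
  obtain ⟨hx1, hxζ⟩ := H.ss_ne hx
  set A := cent x
  set N := normalizer (A : Set G)
  have hAN : A ≤ N := le_normalizer
  refine ⟨A.relIndex N, ?_, ?_⟩
  swap
  · have h := (A.subgroupOf N).card_mul_index
    rw [card_subgroupOf hAN] at h
    rw [mul_comm]
    exact h.symm
  by_cases hall : N ≤ A
  · exact Or.inl (relIndex_eq_one.mpr hall)
  refine Or.inr (index_eq_two_iff.mpr ?_)
  obtain ⟨h₀, hh₀, hh₀A⟩ := SetLike.not_le_iff_exists.mp hall
  have key : ∀ h ∈ N, h ∉ A → h * x * h⁻¹ = x⁻¹ := by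
    intro h hh hA
    have hc : Commute x (h * x * h⁻¹) :=
      mem_cent.mp ((mem_normalizer_iff.mp hh x).mp (mem_cent.mpr (Commute.refl x)))
    rcases H.inv hx hc with e | e
    · exfalso
      exact hA (mem_cent.mpr (mul_inv_eq_iff_eq_mul.mp e).symm)
    · exact e
  refine ⟨⟨h₀, hh₀⟩, fun b => ?_⟩
  by_cases hb : (b : G) ∈ A
  · refine Or.inr ⟨hb, fun hmem => hh₀A ?_⟩
    have hmem' : (b : G) * h₀ ∈ A := hmem
    simpa using A.mul_mem (A.inv_mem hb) hmem'
  · refine Or.inl ⟨?_, hb⟩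
    change (b : G) * h₀ ∈ A
    refine mem_cent.mpr (mul_inv_eq_iff_eq_mul.mp ?_).symm
    have h1 := key h₀ hh₀ hh₀A
    have h2 := key b b.2 hb
    rw [show (b : G) * h₀ * x * ((b : G) * h₀)⁻¹ = (b : G) * (h₀ * x * h₀⁻¹) * (b : G)⁻¹ by group,
      h1, show (b : G) * x⁻¹ * (b : G)⁻¹ = ((b : G) * x * (b : G)⁻¹)⁻¹ by group, h2, inv_inv]

theorem orb_ss (H : Axioms p ζ) {x z : G} (hx : Ss p ζ x) (hz : z ∈ Orb ζ x) : Ss p ζ z := by
  obtain ⟨hx1, hxζ⟩ := H.ss_ne hx
  obtain ⟨g, hg⟩ := hz.2.2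
  have hc : Commute z (g * x * g⁻¹) := by
    rw [← mem_cent, hg, conj_smul_cent]
    exact mem_cent.mpr (Commute.refl _)
  have hss : ∀ w : G, w ≠ 1 → w ^ p = 1 → Commute w (g * x * g⁻¹) → False := by
    intro w hw1 hw hwc
    rcases H.unip hw1 hw hwc with h | h
    · rw [conj_pow, conj_eq_one_iff] at h
      exact hx.1 h
    · rw [show ζ * (g * x * g⁻¹) = g * (ζ * x) * g⁻¹ by
        rw [← mul_assoc, ← mul_assoc, (H.central g).eq, mul_assoc g ζ x], conj_pow, conj_eq_one_iff] at h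
      exact hx.2 h
  refine ⟨fun h => hss z hz.1 h hc, fun h => hss (ζ * z) (fun e => hz.2.1 ?_) h
    ((H.central _).mul_left hc)⟩
  calc z = ζ * (ζ * z) := by rw [← mul_assoc, H.sq, one_mul]
    _ = ζ := by rw [e, mul_one]

/-- Lower bounds for a class of semisimple elements. -/
theorem orb_bound (H : Axioms p ζ) {x : G} (hx : Ss p ζ x) :
    ∃ a s, 4 ≤ a ∧ Even a ∧ (s = 1 ∨ s = 2) ∧
      Nat.card (Orb ζ x) * s * a = Nat.card G * (a - 2) ∧
      Nat.card G ≤ 2 * s * Nat.card (Orb ζ x) := by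
  obtain ⟨hx1, hxζ⟩ := H.ss_ne hx
  obtain ⟨s, hs, hN⟩ := normalizer_cent_index H hx
  obtain ⟨ha, he⟩ := card_cent_ss_ge H hx
  have h := card_orb_mul H hx1 hxζ
  rw [hN, ← mul_assoc] at h
  refine ⟨_, s, ha, he, hs, h, ?_⟩
  have h1 : Nat.card G * Nat.card (cent x) ≤ Nat.card G * (2 * (Nat.card (cent x) - 2)) :=
    Nat.mul_le_mul_left _ (by omega)
  refine Nat.le_of_mul_le_mul_right (h1.trans (le_of_eq ?_)) (by omega : 0 < Nat.card (cent x))
  calc Nat.card G * (2 * (Nat.card (cent x) - 2))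
      = 2 * (Nat.card G * (Nat.card (cent x) - 2)) := by ring
    _ = 2 * s * Nat.card (Orb ζ x) * Nat.card (cent x) := by rw [← h]; ring

theorem card_orb_diff {x : G} {R : Set G} (hR : Orb ζ x ⊆ R) :
    Nat.card R = Nat.card (Orb ζ x) + Nat.card ↥(R \ Orb ζ x) := by
  rw [Nat.card_coe_set_eq, Nat.card_coe_set_eq, Nat.card_coe_set_eq,
    ← Set.ncard_sdiff_add_ncard_of_subset hR, add_comm]

theorem orb_disjoint {x z : G} (hz : z ∈ Orb ζ x → False) (hz1 : z ≠ 1) (hzζ : z ≠ ζ) :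
    ∀ w ∈ Orb ζ z, w ∉ Orb ζ x := by
  intro w hw hwx
  have h1 : z ∈ Orb ζ w := by
    obtain ⟨g, hg⟩ := hw.2.2
    exact ⟨hz1, hzζ, g⁻¹, by rw [hg, ← mul_smul, ← map_mul, inv_mul_cancel, map_one, one_smul]⟩
  rw [orb_subset_of_mem hwx] at h1
  exact hz h1

/-- The number of Sylow `p`-subgroups is `1` modulo their order. -/
theorem dvd_card_sylow_sub_one (H : Axioms p ζ) (hodd : Odd p) (P : Sylow p G) :
    ∃ k, Nat.card (Sylow p G) = 1 + k * Nat.card P := by
  classical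
  haveI := Fintype.ofFinite G
  have hTI : ∀ Q : Sylow p G, ∀ z ∈ (P : Subgroup G), z • Q = Q → z ≠ 1 → Q = P := by
    intro Q z hz hzQ hz1
    have hzp : IsPGroup p (zpowers z) := P.isPGroup'.to_le (zpowers_le.mpr hz)
    have hzN : z ∈ normalizer ((Q : Subgroup G) : Set G) := Sylow.smul_eq_iff_mem_normalizer.mp hzQ
    have hsup := Q.is_maximal' (hzp.to_sup_of_normal_right' Q.isPGroup' (zpowers_le.mpr hzN))
      le_sup_right
    have hzQ' : z ∈ (Q : Subgroup G) := by
      have h2 : z ∈ zpowers z ⊔ (Q : Subgroup G) := mem_sup_left (mem_zpowers z)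
      rwa [hsup] at h2
    have hzpp : z ^ p = 1 := by
      obtain ⟨k, hk⟩ := IsPGroup.iff_card.mp P.isPGroup'
      rcases k with _ | k
      · rw [pow_zero] at hk
        rw [(Subgroup.card_eq_one.mp hk)] at hz
        exact absurd (mem_bot.mp hz) hz1
      obtain ⟨⟨c, hc⟩, hco⟩ := exists_prime_orderOf_dvd_card' (G := (P : Subgroup G)) p
        (by rw [hk]; exact dvd_pow_self p k.succ_ne_zero)
      rw [Subgroup.orderOf_mk] at hco
      have hc1 : c ≠ 1 := fun h => by rw [h, orderOf_one] at hco; exact hp.out.one_lt.ne hco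
      rw [sylow_eq_unipGroup H hodd hc1 (by rw [← hco, pow_orderOf_eq_one]) P hc] at hz
      exact hz.2
    apply Sylow.ext
    rw [sylow_eq_unipGroup H hodd hz1 hzpp P hz, sylow_eq_unipGroup H hodd hz1 hzpp Q hzQ']
  let X := {Q : Sylow p G // Q ≠ P}
  letI : MulAction (P : Subgroup G) X :=
    { smul := fun g Q => ⟨(g : G) • Q.1, fun h => Q.2 (by
        have h1 : (g : G) • P = P := Sylow.smul_eq_iff_mem_normalizer.mpr (le_normalizer g.2)
        exact smul_left_cancel (g : G) (h.trans h1.symm))⟩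
      one_smul := fun Q => Subtype.ext (one_smul G Q.1)
      mul_smul := fun a b Q => Subtype.ext (mul_smul (a : G) (b : G) Q.1) }
  have hst : ∀ Q : X, MulAction.stabilizer (P : Subgroup G) Q = ⊥ := fun Q => by
    refine eq_bot_iff.mpr fun z hz => ?_
    by_contra hz1
    refine Q.2 (hTI Q.1 z z.2 (congrArg Subtype.val hz) fun h => hz1 ?_)
    exact mem_bot.mpr (Subtype.ext h)
  refine ⟨Nat.card (Quotient (MulAction.orbitRel (P : Subgroup G) X)), ?_⟩
  have h := Nat.card_congr (MulAction.selfEquivOrbitsQuotientProd hst)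
  rw [Nat.card_prod] at h
  rw [← h, ← Nat.card_congr (Equiv.optionSubtypeNe P), Finite.card_option, add_comm]

theorem rest_empty (H : Axioms p ζ) {R : Set G} (hR : ∀ z ∈ R, Ss p ζ z)
    (hcl : ∀ z ∈ R, Orb ζ z ⊆ R) (hb : 4 * Nat.card R < Nat.card G) : Nat.card R = 0 := by
  rcases R.eq_empty_or_nonempty with rfl | ⟨z, hz⟩
  · simp
  exfalso
  obtain ⟨a, s, -, -, hs, -, h⟩ := orb_bound H (hR z hz)
  have h1 := card_orb_diff (hcl z hz)
  rcases hs with rfl | rfl <;> omega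

set_option maxHeartbeats 1000000 in
theorem exists_proper_of_exceptional (H : Axioms p ζ) (hp3 : p = 3) (hD : Nat.card G = 120)
    {y : G} (hy : Ss p ζ y) (hA : Nat.card (cent y) = 4)
    (hN : Nat.card (normalizer (cent y : Set G)) = 8)
    (hcents : ∀ z, Ss p ζ z → z ∈ Orb ζ y ∨ Nat.card (cent z) = 10)
    (hU : ∀ z : G, z ≠ 1 → z ^ p = 1 → Nat.card (normalizer (cent z : Set G)) = 12) :
    ∃ J : Subgroup G, J ≠ ⊤ ∧ ζ ∈ J ∧ ∃ a ∈ J, ∃ b ∈ J, a ^ p = 1 ∧ b ^ p = 1 ∧ ¬ Commute a b := by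
  classical
  set Q := normalizer (cent y : Set G)
  have hζQ : ζ ∈ Q := le_normalizer (mem_cent.mpr (H.central y).symm)
  have hQord : ∀ w ∈ Q, orderOf w ∣ 8 := fun w hw => hN ▸ Subgroup.orderOf_dvd_natCard _ hw
  have hQss : ∀ w ∈ Q, w ≠ 1 → w ≠ ζ → Ss p ζ w := by
    intro w hw hw1 hwζ
    have key : ∀ v ∈ Q, v ^ p = 1 → v = 1 := fun v hv h => by
      rw [← orderOf_eq_one_iff]
      exact Nat.eq_one_of_dvd_coprimes (by rw [hp3]; norm_num) (orderOf_dvd_of_pow_eq_one h)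
        (hQord v hv)
    refine ⟨fun h => hw1 (key w hw h), fun h => hwζ ?_⟩
    calc w = ζ * (ζ * w) := by rw [← mul_assoc, H.sq, one_mul]
      _ = ζ := by rw [key _ (Q.mul_mem hζQ hw) h, mul_one]
  have hcentQ : ∀ w ∈ Q, w ≠ 1 → w ≠ ζ → w ∈ Orb ζ y ∧ cent w ≤ Q ∧ Nat.card (cent w) = 4 ∧
      Q = normalizer (cent w : Set G) := by
    intro w hw hw1 hwζ
    have h4 : ¬ orderOf w ∣ 2 := fun h => by
      have h' := orderOf_dvd_iff_pow_eq_one.mp h
      rw [pow_two] at h'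
      exact (H.unique_inv w h').elim hw1 hwζ
    have hO : w ∈ Orb ζ y := by
      refine (hcents w (hQss w hw hw1 hwζ)).resolve_right fun h10 => h4 ?_
      have h1 := Nat.dvd_gcd (hQord w hw)
        (h10 ▸ Subgroup.orderOf_dvd_natCard _ (mem_cent.mpr (Commute.refl w)))
      exact h1
    obtain ⟨g, hg⟩ := hO.2.2
    have hc4 : Nat.card (cent w) = 4 := by rw [hg, card_conj_smul, hA]
    have hwo : 4 ∣ orderOf w := by
      have hdvd : orderOf w ∣ 4 := hc4 ▸ Subgroup.orderOf_dvd_natCard _ (mem_cent.mpr (Commute.refl w))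
      have hpos := Nat.le_of_dvd (by norm_num) hdvd
      interval_cases h : orderOf w <;> simp_all
    have hle : zpowers w = cent w := Subgroup.eq_of_le_of_card_ge
      (zpowers_le.mpr (mem_cent.mpr (Commute.refl w)))
      (by rw [hc4, Nat.card_zpowers]; exact Nat.le_of_dvd (orderOf_pos w) hwo)
    have hsub : cent w ≤ Q := hle ▸ zpowers_le.mpr hw
    refine ⟨hO, hsub, hc4, ?_⟩
    have hidx : ((cent w).subgroupOf Q).index = 2 := by
      have h := ((cent w).subgroupOf Q).card_mul_index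
      rw [card_subgroupOf hsub, hc4, hN] at h
      omega
    haveI := normal_of_index_eq_two hidx
    have hQle : Q ≤ normalizer (cent w : Set G) :=
      normal_subgroupOf_iff_le_normalizer hsub |>.mp inferInstance
    refine Subgroup.eq_of_le_of_card_ge hQle (le_of_eq ?_)
    have e : normalizer (cent w : Set G) = MulAut.conj g • Q := by
      ext x
      rw [mem_normalizer_iff_smul, hg, Subgroup.mem_pointwise_smul_iff_inv_smul_mem,
        show ((MulAut.conj g)⁻¹ • x ∈ Q) ↔ _ from mem_normalizer_iff_smul,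
        show (MulAut.conj g)⁻¹ • x = g⁻¹ * x * g by simp [MulAut.smul_def], map_mul, map_mul,
        mul_smul, mul_smul, map_inv]
      constructor
      · intro h
        rw [h, inv_smul_smul]
      · intro h
        exact inv_smul_eq_iff.mp h
    rw [e, card_conj_smul]
  -- the normalizer of `Q` is larger than `Q`
  obtain ⟨w, hwQ, hwA⟩ : ∃ w ∈ Q, w ∉ cent y := by
    by_contra hno
    push Not at hno
    have := Subgroup.card_le_of_le (hno : Q ≤ cent y)
    omega
  have hw1 : w ≠ 1 := fun h => hwA (h ▸ (cent y).one_mem)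
  have hwζ : w ≠ ζ := fun h => hwA (h ▸ mem_cent.mpr (H.central y).symm)
  obtain ⟨⟨-, -, g, hg⟩, -, -, hQw⟩ := hcentQ w hwQ hw1 hwζ
  have hgN : g ∈ normalizer (Q : Set G) := by
    rw [mem_normalizer_iff_smul]
    conv_rhs => rw [hQw, hg]
    ext x
    rw [Subgroup.mem_pointwise_smul_iff_inv_smul_mem,
      show ((MulAut.conj g)⁻¹ • x ∈ Q) ↔ _ from mem_normalizer_iff_smul, mem_normalizer_iff_smul,
      show (MulAut.conj g)⁻¹ • x = g⁻¹ * x * g by simp [MulAut.smul_def], map_mul, map_mul,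
      mul_smul, mul_smul, map_inv]
    constructor
    · intro h
      exact inv_smul_eq_iff.mp h
    · intro h
      rw [h, inv_smul_smul]
  have hgQ : g ∉ Q := fun h => hwA (by
    rw [← mem_normalizer_iff_smul.mp h, ← hg]; exact mem_cent.mpr (Commute.refl w))
  set J := normalizer (Q : Set G)
  have hQJ : Q ≤ J := le_normalizer
  have hJd : Nat.card J ∣ 120 := hD ▸ card_subgroup_dvd_card _
  have h8 : 8 ∣ Nat.card J := hN ▸ card_dvd_of_le hQJ
  have hne8 : Nat.card J ≠ 8 := fun h =>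
    hgQ (Subgroup.eq_of_le_of_card_ge hQJ (by rw [h, hN]) ▸ hgN)
  have h5 : ¬ 5 ∣ Nat.card J := by
    intro hd
    haveI : Fact (Nat.Prime 5) := ⟨by norm_num⟩
    obtain ⟨⟨e, heJ⟩, he⟩ := exists_prime_orderOf_dvd_card' (G := J) 5 hd
    rw [Subgroup.orderOf_mk] at he
    have he5 : e ^ 5 = 1 := by rw [← he, pow_orderOf_eq_one]
    -- `e` moves at most three subgroups
    set f : Fin 5 → {B : Subgroup G // ∃ z ∈ Q, z ≠ 1 ∧ z ≠ ζ ∧ B = cent z} := fun i =>
      ⟨MulAut.conj (e ^ (i : ℕ)) • cent y, by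
        have hy' : y ∈ Q := le_normalizer (mem_cent.mpr (Commute.refl y))
        obtain ⟨hy1, hyζ⟩ := H.ss_ne hy
        refine ⟨e ^ (i : ℕ) * y * (e ^ (i : ℕ))⁻¹,
          (mem_normalizer_iff.mp (J.pow_mem heJ i) y).mp hy', fun h => hy1 (conj_eq_one_iff.mp h),
          fun h => hyζ ?_, conj_smul_cent _ _⟩
        have h2 : (e ^ (i : ℕ))⁻¹ * (e ^ (i : ℕ) * y * (e ^ (i : ℕ))⁻¹) * e ^ (i : ℕ) =
            (e ^ (i : ℕ))⁻¹ * ζ * e ^ (i : ℕ) := by rw [h]
        rw [show (e ^ (i : ℕ))⁻¹ * ζ * e ^ (i : ℕ) = ζ by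
          rw [mul_assoc, (H.central _).eq, inv_mul_cancel_left]] at h2
        simpa [mul_assoc] using h2⟩
    by_cases hinj : Function.Injective f
    · -- five such subgroups do not fit into `Q`
      choose z hzQ hz1 hzζ hzB using fun B : {B : Subgroup G // ∃ z ∈ Q, z ≠ 1 ∧ z ≠ ζ ∧ B = cent z} => B.2
      let emb : Fin 5 × Bool → Q := fun ib => if ib.2 then ⟨ζ * z (f ib.1), Q.mul_mem hζQ (hzQ _)⟩
        else ⟨z (f ib.1), hzQ _⟩
      have hemb : Function.Injective emb := by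
        have hcz : ∀ i, cent (ζ * z (f i)) = (f i : Subgroup G) ∧ cent (z (f i)) = (f i : Subgroup G) :=
          fun i => ⟨(H.cent_zeta_mul _).trans (hzB (f i)).symm, (hzB (f i)).symm⟩
        rintro ⟨i, a⟩ ⟨j, b⟩ h
        have hij : i = j := by
          refine hinj (Subtype.ext ?_)
          cases a <;> cases b <;> simp only [emb, if_true, Bool.false_eq_true, if_false,
            Subtype.mk.injEq] at h
          · rw [← (hcz i).2, h, (hcz j).2]
          · rw [← (hcz i).2, h, (hcz j).1]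
          · rw [← (hcz i).1, h, (hcz j).2]
          · rw [← (hcz i).1, h, (hcz j).1]
        subst hij
        cases a <;> cases b <;> simp [emb, H.ne_one] at h ⊢
      have := Nat.card_le_card_of_injective emb hemb
      rw [hN, Nat.card_prod, Nat.card_fin, Nat.card_eq_fintype_card, Fintype.card_bool] at this
      omega
    · -- otherwise `e` normalizes `cent y`
      rw [Function.not_injective_iff] at hinj
      obtain ⟨i, j, hij, hne⟩ := hinj
      wlog hlt : i < j generalizing i j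
      · exact this j i hij.symm (Ne.symm hne) (lt_of_le_of_ne (not_lt.mp hlt) (Ne.symm hne))
      have h1 : e ^ ((j : ℕ) - i) ∈ Q := by
        rw [mem_normalizer_iff_smul]
        have h2 := congrArg Subtype.val hij
        simp only [f] at h2
        apply MulAction.injective (MulAut.conj (e ^ (i : ℕ)))
        simp only
        rw [← mul_smul, ← map_mul, ← pow_add, Nat.add_sub_cancel' (le_of_lt (Fin.lt_def.mp hlt)), h2]
      have h2 : orderOf (e ^ ((j : ℕ) - i)) ∣ 5 := (orderOf_pow_dvd _).trans he.dvd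
      have h3 := orderOf_eq_one_iff.mp
        (Nat.eq_one_of_dvd_coprimes (by norm_num) h2 (hQord _ h1))
      have h4 : 5 ∣ (j : ℕ) - i := he.symm.dvd.trans (orderOf_dvd_of_pow_eq_one h3)
      have := Nat.le_of_dvd (by have := Fin.lt_def.mp hlt; omega) h4
      omega
  have h24 : Nat.card J = 24 := by
    obtain ⟨k, hk⟩ := h8
    have hk15 : k ∣ 15 := Nat.dvd_of_mul_dvd_mul_left (by norm_num : 0 < 8) (by rwa [← hk])
    have hmem : k ∈ Nat.divisors 15 := Nat.mem_divisors.mpr ⟨hk15, by norm_num⟩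
    rw [show Nat.divisors 15 = {1, 3, 5, 15} from by decide] at hmem
    simp only [Finset.mem_insert, Finset.mem_singleton] at hmem
    omega
  haveI : Fact (Nat.Prime 3) := ⟨by norm_num⟩
  obtain ⟨⟨x, hxJ⟩, hx⟩ := exists_prime_orderOf_dvd_card' (G := J) 3 (by rw [h24]; norm_num)
  rw [Subgroup.orderOf_mk] at hx
  have hx3 : x ^ p = 1 := by rw [hp3, ← hx, pow_orderOf_eq_one]
  have hx1 : x ≠ 1 := fun h => by rw [h, orderOf_one] at hx; omega
  refine ⟨J, fun h => ?_, hQJ hζQ, ?_⟩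
  · rw [h, card_top, hD] at h24; omega
  by_contra hno
  push Not at hno
  have hle : J ≤ normalizer (cent x : Set G) := fun h hh => by
    rw [mem_normalizer_iff_smul, conj_smul_cent]
    refine H.cent_eq (fun e => hx1 (conj_eq_one_iff.mp e)) ?_ hx1
      (H.pow_ne_zeta (by rw [hp3]; decide) hx3)
      (hno _ (J.mul_mem (J.mul_mem hh hxJ) (J.inv_mem hh)) _ hxJ
        (by rw [conj_pow, hx3, mul_one, mul_inv_cancel]) hx3)
    exact H.pow_ne_zeta (by rw [hp3]; decide) (by rw [conj_pow, hx3, mul_one, mul_inv_cancel])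
  have := Subgroup.card_le_of_le hle
  rw [h24, hU x hx1 hx3] at this
  omega

set_option maxHeartbeats 2000000 in
/-- Dickson's count: either there are `|P| + 1` Sylow `p`-subgroups, or we are in the exceptional
case and there is a smaller subgroup of the same kind. -/
theorem count_main (H : Axioms p ζ) (hodd : Odd p) {x₀ x₁ : G} (h₀ : x₀ ^ p = 1)
    (h₁ : x₁ ^ p = 1) (hnc : ¬ Commute x₀ x₁) :
    (∀ P : Sylow p G, Nat.card (Sylow p G) = Nat.card P + 1) ∨
      ∃ J : Subgroup G, J ≠ ⊤ ∧ ζ ∈ J ∧ ∃ a ∈ J, ∃ b ∈ J, a ^ p = 1 ∧ b ^ p = 1 ∧ ¬ Commute a b := by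
  classical
  haveI := Fintype.ofFinite G
  have hζo : orderOf ζ = 2 := orderOf_eq_prime (by rw [pow_two, H.sq]) H.ne_one
  have hx0 : x₀ ≠ 1 := fun h => hnc (h ▸ Commute.one_left _)
  have hxζ := H.pow_ne_zeta hodd h₀
  have hp2 : p ≠ 2 := by rintro rfl; exact absurd hodd (by decide)
  have hp3le : 3 ≤ p := by have := hp.out.two_le; omega
  obtain ⟨P, hxP, hPeq⟩ := exists_sylow_unipGroup H hodd hx0 h₀
  set u := Nat.card P with hu
  set n := Nat.card (Sylow p G) with hn
  set B := normalizer ((P : Subgroup G) : Set G) with hB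
  have hnB : n * Nat.card B = Nat.card G := by
    rw [hn, P.card_eq_index_normalizer]; exact index_mul_card _
  -- `n ≠ 1`
  obtain ⟨k, hk⟩ := dvd_card_sylow_sub_one H hodd P
  have hk0 : k ≠ 0 := by
    intro h0
    rw [h0, zero_mul, add_zero] at hk
    have hsub : Subsingleton (Sylow p G) := (Nat.card_eq_one_iff_unique.mp hk).1
    obtain ⟨P₁, hP₁, -⟩ := exists_sylow_unipGroup H hodd (x := x₁)
      (fun h => hnc (h ▸ Commute.one_right _)) h₁
    rw [Subsingleton.elim P₁ P, ← SetLike.mem_coe] at hP₁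
    have h2 : x₁ ∈ (P : Subgroup G) := hP₁
    rw [hPeq] at h2
    exact hnc h2.1
  -- the centralizer of `x₀`
  have hA0 : Nat.card (cent x₀) = 2 * u := by
    have hmem : ∀ z, z ∈ cent x₀ ↔ ∃ v ∈ (P : Subgroup G), z = v ∨ z = ζ * v := by
      intro z
      rw [mem_cent]
      constructor
      · intro hz
        rcases H.unip hx0 h₀ hz with h | h
        · exact ⟨z, by rw [hPeq]; exact ⟨hz, h⟩, Or.inl rfl⟩
        · exact ⟨ζ * z, by rw [hPeq]; exact ⟨(H.central x₀).symm.mul_right hz, h⟩,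
            Or.inr (by rw [← mul_assoc, H.sq, one_mul])⟩
      · rintro ⟨v, hv, rfl | rfl⟩
        · rw [hPeq] at hv; exact hv.1
        · rw [hPeq] at hv; exact (H.central x₀).symm.mul_right hv.1
    have hd : ∀ v ∈ (P : Subgroup G), ∀ w ∈ (P : Subgroup G), v ≠ ζ * w := by
      intro v hv w hw h
      have h1 : ζ ∈ (P : Subgroup G) := by
        rw [show ζ = v * w⁻¹ by rw [h, mul_inv_cancel_right]]
        exact P.mul_mem hv (P.inv_mem hw)
      rw [hPeq] at h1
      exact H.pow_ne_zeta hodd h1.2 rfl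
    let e : Bool × (P : Subgroup G) → cent x₀ := fun bv =>
      if bv.1 then ⟨ζ * bv.2, (hmem _).mpr ⟨bv.2, bv.2.2, Or.inr rfl⟩⟩
      else ⟨bv.2, (hmem _).mpr ⟨bv.2, bv.2.2, Or.inl rfl⟩⟩
    have he : Function.Bijective e := by
      constructor
      · rintro ⟨a, v⟩ ⟨b, w⟩ h
        cases a <;> cases b <;> simp [e] at h
        · rw [h]
        · exact absurd h (hd v v.2 w w.2)
        · exact absurd h.symm (hd w w.2 v v.2)
        · rw [h]
      · rintro ⟨z, hz⟩
        obtain ⟨v, hv, he' | he'⟩ := (hmem z).mp hz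
        · exact ⟨(false, ⟨v, hv⟩), Subtype.ext he'.symm⟩
        · exact ⟨(true, ⟨v, hv⟩), Subtype.ext he'.symm⟩
    rw [← Nat.card_congr (Equiv.ofBijective e he), Nat.card_prod, Nat.card_eq_fintype_card,
      Fintype.card_bool]
  have hNA : normalizer (cent x₀ : Set G) = B := by
    ext g
    rw [mem_normalizer_iff_smul, conj_smul_cent, hB, show g ∈ normalizer ((P : Subgroup G) : Set G) ↔ g • P = P from
      Sylow.smul_eq_iff_mem_normalizer.symm]
    constructor
    · intro h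
      have hc : Commute (g * x₀ * g⁻¹) x₀ := mem_cent.mp (h.symm ▸ mem_cent.mpr (Commute.refl x₀))
      have hgp : (g * x₀ * g⁻¹) ^ p = 1 := by rw [conj_pow, h₀, mul_one, mul_inv_cancel]
      have h2 : g * x₀ * g⁻¹ ∈ (g • P : Sylow p G) :=
        ⟨x₀, hxP, rfl⟩
      have h3 : g * x₀ * g⁻¹ ∈ (P : Subgroup G) := by rw [hPeq]; exact ⟨hc.symm, hgp⟩
      apply Sylow.ext
      rw [sylow_eq_unipGroup H hodd (fun e => hx0 (conj_eq_one_iff.mp e)) hgp _ h2,
        sylow_eq_unipGroup H hodd (fun e => hx0 (conj_eq_one_iff.mp e)) hgp P h3]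
    · intro h
      have h2 : g * x₀ * g⁻¹ ∈ (g • P : Sylow p G) := ⟨x₀, hxP, rfl⟩
      rw [h] at h2
      have h3 : g * x₀ * g⁻¹ ∈ unipGroup H x₀ hx0 hxζ := hPeq ▸ h2
      exact H.cent_eq (fun e => hx0 (conj_eq_one_iff.mp e))
        (H.pow_ne_zeta hodd h3.2) hx0 hxζ h3.1.symm
  -- the unipotent class
  set R : Set G := {z | Ss p ζ z}
  have hO0 : Orb ζ x₀ = {z | z ≠ 1 ∧ z ≠ ζ ∧ ¬ Ss p ζ z} := by
    ext z
    constructor
    · intro hz
      refine ⟨hz.1, hz.2.1, fun hss => ?_⟩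
      obtain ⟨g, hg⟩ := hz.2.2
      have h1 : x₀ ∈ Orb ζ z := ⟨hx0, hxζ, g⁻¹, by
        rw [hg, ← mul_smul, ← map_mul, inv_mul_cancel, map_one, one_smul]⟩
      exact (orb_ss H hss h1).1 h₀
    · rintro ⟨h1, hζ', hns⟩
      have key : ∀ w : G, w ≠ 1 → w ^ p = 1 → ∃ g : G, cent w = MulAut.conj g • cent x₀ := by
        intro w hw1 hw
        obtain ⟨Pw, hwP, -⟩ := exists_sylow_unipGroup H hodd hw1 hw
        obtain ⟨g, hg⟩ := MulAction.exists_smul_eq G P Pw
        refine ⟨g, ?_⟩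
        have h2 : g * x₀ * g⁻¹ ∈ (Pw : Subgroup G) := hg ▸ (⟨x₀, hxP, rfl⟩ : g * x₀ * g⁻¹ ∈ (g • P : Sylow p G))
        rw [sylow_eq_unipGroup H hodd hw1 hw Pw hwP] at h2
        rw [conj_smul_cent]
        exact H.cent_eq hw1 (H.pow_ne_zeta hodd hw) (fun e => hx0 (conj_eq_one_iff.mp e))
          (H.pow_ne_zeta hodd h2.2) h2.1
      refine ⟨h1, hζ', ?_⟩
      by_cases hp1 : z ^ p = 1
      · exact key z h1 hp1
      · have hp2' : (ζ * z) ^ p = 1 := by
          by_contra h; exact hns ⟨hp1, h⟩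
        have hne : ζ * z ≠ 1 := fun e => hζ' (by
          calc z = ζ * (ζ * z) := by rw [← mul_assoc, H.sq, one_mul]
            _ = ζ := by rw [e, mul_one])
        obtain ⟨g, hg⟩ := key _ hne hp2'
        exact ⟨g, (H.cent_zeta_mul z).symm.trans hg⟩
  have hcard0 : Nat.card (Orb ζ x₀) * Nat.card B = Nat.card G * (2 * u - 2) := by
    have := card_orb_mul H hx0 hxζ
    rwa [hA0, hNA] at this
  have hO0n : Nat.card (Orb ζ x₀) = n * (2 * u - 2) := by
    rw [← hnB, mul_assoc, mul_comm (Nat.card B) (2 * u - 2), ← mul_assoc] at hcard0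
    exact Nat.eq_of_mul_eq_mul_right Nat.card_pos hcard0
  have htot : Nat.card G = 2 + n * (2 * u - 2) + Nat.card R := by
    rw [← hO0n, hO0, Nat.card_coe_set_eq, Nat.card_coe_set_eq, ← Set.ncard_univ]
    have hu1 : (Set.univ : Set G) = ({1, ζ} ∪ {z | z ≠ 1 ∧ z ≠ ζ ∧ ¬ Ss p ζ z}) ∪ R := by
      ext z
      simp only [R, Set.mem_univ, Set.mem_union, Set.mem_insert_iff, Set.mem_singleton_iff,
        Set.mem_setOf_eq, true_iff]
      tauto
    rw [hu1, Set.ncard_union_eq ?_ (Set.toFinite _) (Set.toFinite _),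
      Set.ncard_union_eq ?_ (Set.toFinite _) (Set.toFinite _), Set.ncard_pair (Ne.symm H.ne_one)]
    · rw [Set.disjoint_left]
      rintro z (rfl | rfl) h
      · exact h.1 rfl
      · exact h.2.1 rfl
    · rw [Set.disjoint_left]
      rintro z ((rfl | rfl) | h) hss
      · exact (H.ss_ne hss).1 rfl
      · exact (H.ss_ne hss).2 rfl
      · exact h.2.2 hss
  -- the Borel subgroup
  have huB : (P : Subgroup G) ≤ B := le_normalizer
  have hA0B : cent x₀ ≤ B := hNA ▸ le_normalizer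
  obtain ⟨c, hc⟩ : 2 * u ∣ Nat.card B := hA0 ▸ card_dvd_of_le hA0B
  have hD : Nat.card G = 2 * (u * c * n) := by rw [← hnB, hc]; ring
  have hu3 : 3 ≤ u := by
    have : p ∣ u := (orderOf_eq_prime h₀ hx0) ▸ Subgroup.orderOf_dvd_natCard _ hxP
    have := Nat.le_of_dvd Nat.card_pos this
    omega
  have hn1 : n = 1 + k * u := hk
  have hn4 : 4 ≤ n := by
    have : 1 * u ≤ k * u := Nat.mul_le_mul_right u (Nat.one_le_iff_ne_zero.mpr hk0)
    omega
  suffices h : k = 1 ∨ ∃ J : Subgroup G, J ≠ ⊤ ∧ ζ ∈ J ∧ ∃ a ∈ J, ∃ b ∈ J,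
      a ^ p = 1 ∧ b ^ p = 1 ∧ ¬ Commute a b by
    rcases h with h | h
    · refine Or.inl fun P' => ?_
      rw [show Nat.card P' = u from P'.card_eq_multiplicity.trans P.card_eq_multiplicity.symm,
        hn1, h, one_mul, add_comm]
    · exact Or.inr h
  have hRcl : ∀ z ∈ R, Orb ζ z ⊆ R := fun z hz w hw => orb_ss H hz hw
  have hc0 : c ≠ 0 := fun h => by rw [h, mul_zero] at hc; exact Nat.card_pos.ne' hc
  have hcast : ((2 * u - 2 : ℕ) : ℤ) = 2 * u - 2 := by omega
  have hRz : (Nat.card R : ℤ) = 2 * (u * c * n) - 2 - n * (2 * u - 2) := by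
    have h := congrArg (Nat.cast : ℕ → ℤ) (hD.symm.trans htot)
    push_cast at h
    rw [hcast] at h
    linarith
  by_cases hc1 : c = 1
  · -- no torus in the Borel subgroup
    subst hc1
    have hR : (Nat.card R : ℤ) = 2 * n - 2 := by rw [hRz]; push_cast; ring
    rw [mul_one] at hD
    obtain ⟨z, hz⟩ : R.Nonempty := by
      rcases R.eq_empty_or_nonempty with h | h
      · rw [h] at hR; simp at hR; omega
      · exact h
    obtain ⟨a, s, ha, hae, hs, heq, hle⟩ := orb_bound H hz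
    have hO := card_orb_diff (hRcl z hz)
    rw [hD] at heq hle
    have h3n : 3 * n ≤ u * n := Nat.mul_le_mul_right n hu3
    rcases hs with rfl | rfl
    · exfalso
      rw [mul_one] at hle
      omega
    · have hrest : Nat.card ↥(R \ Orb ζ z) = 0 := by
        refine rest_empty H (fun w hw => hw.1) (fun w hw v hv => ⟨hRcl w hw.1 hv, ?_⟩) ?_
        · exact orb_disjoint hw.2 (H.ss_ne hw.1).1 (H.ss_ne hw.1).2 v hv
        · rw [hD]; omega
      left
      have hOz : (Nat.card (Orb ζ z) : ℤ) = 2 * n - 2 := by omega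
      have heqz : (Nat.card (Orb ζ z) : ℤ) * 2 * a = 2 * (u * 1 * n) * (a - 2) := by
        have h := congrArg (Nat.cast : ℕ → ℤ) heq
        push_cast [Nat.cast_sub (show 2 ≤ a by omega)] at h
        rw [mul_one]
        exact_mod_cast h
      rw [hOz] at heqz
      obtain ⟨a', rfl⟩ := hae
      -- now `(n - 1) a = n u (a - 2) / 2`
      have hnk : (n : ℤ) = 1 + k * u := by exact_mod_cast hn1
      have hz1 : (3 : ℤ) ≤ u := by exact_mod_cast hu3
      have hz2 : (1 : ℤ) ≤ k := by exact_mod_cast Nat.one_le_iff_ne_zero.mpr hk0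
      have hz3 : (2 : ℤ) ≤ a' := by omega
      push_cast at heqz
      have heq2 : 2 * ((n : ℤ) - 1) * a' = u * n * (a' - 1) := by linarith
      have ha2 : (a' : ℤ) = 2 := by
        by_contra hne
        have h3 : (3 : ℤ) ≤ a' := by omega
        have h5 : 3 * (n : ℤ) * (a' - 1) ≤ u * n * (a' - 1) :=
          mul_le_mul_of_nonneg_right (mul_le_mul_of_nonneg_right hz1 (by omega)) (by omega)
        have h6 : 3 * ((n : ℤ) + 2) ≤ a' * (n + 2) := mul_le_mul_of_nonneg_right h3 (by omega)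
        linarith
      rw [ha2] at heq2
      have hu4 : (u : ℤ) = 3 := by
        by_contra hne
        have h5 : 4 * (n : ℤ) ≤ u * n := mul_le_mul_of_nonneg_right (by omega) (by omega)
        linarith
      rw [hu4] at heq2 hnk
      omega
  -- a torus in the Borel subgroup
  have hc2 : 2 ≤ c := by omega
  have hBcard := (P : Subgroup G).subgroupOf B |>.card_mul_index
  rw [card_subgroupOf huB, hc, ← hu] at hBcard
  have hidx : ((P : Subgroup G).subgroupOf B).index = 2 * c :=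
    Nat.eq_of_mul_eq_mul_left (by omega : 0 < u) (by rw [hBcard]; ring)
  haveI : ((P : Subgroup G).subgroupOf B).Normal := normal_subgroupOf_of_le_normalizer le_rfl
  have hpc : ¬ p ∣ 2 * c := fun hd => P.not_dvd_index (hd.trans (hidx ▸ relIndex_dvd_index_of_le huB))
  have hucop : u.Coprime (2 * c) := by
    obtain ⟨i, hi⟩ := IsPGroup.iff_card.mp P.isPGroup'
    rw [hu, hi]
    exact Nat.Coprime.pow_left _ (hp.out.coprime_iff_not_dvd.mpr hpc)
  obtain ⟨C₀, hC₀⟩ := exists_left_complement'_of_coprime (N := (P : Subgroup G).subgroupOf B)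
    (by rw [card_subgroupOf huB, hidx]; exact hucop)
  set C := C₀.map B.subtype with hCdef
  have hCcard : Nat.card C = 2 * c := by
    rw [hCdef, card_map_subtype, ← hC₀.index_eq_card, hidx]
  have hCB : C ≤ B := map_subtype_le _
  have hζC : ζ ∈ C := by
    obtain ⟨g, hg⟩ := exists_prime_orderOf_dvd_card' (G := C) 2 (by rw [hCcard]; exact dvd_mul_right 2 c)
    rw [← Subgroup.orderOf_coe] at hg
    have h2 : (g : G) * g = 1 := by rw [← pow_two, ← hg, pow_orderOf_eq_one]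
    rcases H.unique_inv _ h2 with h | h
    · rw [h, orderOf_one] at hg; omega
    · exact h ▸ g.2
  have hCss : ∀ w ∈ C, w ≠ 1 → w ≠ ζ → Ss p ζ w := by
    intro w hw hw1 hwζ
    have key : ∀ v ∈ C, v ^ p = 1 → v = 1 := fun v hv h => by
      rw [← orderOf_eq_one_iff]
      exact Nat.eq_one_of_dvd_coprimes (hp.out.coprime_iff_not_dvd.mpr hpc)
        (orderOf_dvd_of_pow_eq_one h) (hCcard ▸ Subgroup.orderOf_dvd_natCard _ hv)
    refine ⟨fun h => hw1 (key w hw h), fun h => hwζ ?_⟩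
    calc w = ζ * (ζ * w) := by rw [← mul_assoc, H.sq, one_mul]
      _ = ζ := by rw [key _ (C.mul_mem hζC hw) h, mul_one]
  -- `c ≤ u - 1`
  have hcu : c ≤ u - 1 := by
    have h := Cfsg.Agent.Perm.card_conjugates_mul C x₀
    have hcap : C ⊓ cent x₀ = zpowers ζ := by
      refine le_antisymm (fun w hw => ?_) (zpowers_le.mpr ⟨hζC, mem_cent.mpr (H.central x₀).symm⟩)
      by_cases hw1 : w = 1
      · rw [hw1]; exact one_mem _
      by_cases hwζ : w = ζ
      · rw [hwζ]; exact mem_zpowers ζ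
      exfalso
      rcases H.unip hx0 h₀ (mem_cent.mp hw.2) with e | e
      · exact (hCss w hw.1 hw1 hwζ).1 e
      · exact (hCss w hw.1 hw1 hwζ).2 e
    rw [show C ⊓ centralizer ({x₀} : Set G) = zpowers ζ from hcap, Nat.card_zpowers, hζo,
      hCcard] at h
    have hle : Nat.card {z : G // ∃ y ∈ C, y * x₀ * y⁻¹ = z} ≤ u - 1 := by
      rw [hu, ← Nat.card_congr (Equiv.optionSubtypeNe (1 : (P : Subgroup G))), Finite.card_option,
        Nat.add_sub_cancel]
      refine Nat.card_le_card_of_injective (fun z => ⟨⟨z.1, ?_⟩, ?_⟩)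
        (fun a b hab => Subtype.ext (congrArg (fun t => (t.1 : G)) hab))
      · obtain ⟨y, hy, hyz⟩ := z.2
        exact hyz ▸ (mem_normalizer_iff.mp (hCB hy) x₀).mp hxP
      · intro e
        obtain ⟨y, -, hyz⟩ := z.2
        exact hx0 (conj_eq_one_iff.mp (hyz.trans (congrArg Subtype.val e)))
    omega
  obtain ⟨y, hyC, hy1, hyζ⟩ : ∃ y ∈ C, y ≠ 1 ∧ y ≠ ζ := by
    by_contra hno
    push Not at hno
    have : (C : Set G) ⊆ {1, ζ} := fun w hw => by
      by_cases h : w = 1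
      · exact Or.inl h
      · exact Or.inr (hno w hw h)
    have h := Set.ncard_le_ncard this
    rw [Set.ncard_pair (Ne.symm H.ne_one), ← Nat.card_coe_set_eq] at h
    change Nat.card C ≤ 2 at h
    omega
  have hy := hCss y hyC hy1 hyζ
  have hAy : Nat.card (cent y) = 2 * c := by
    have hBy : cent y ≤ B := by
      intro h hh
      rw [← hNA, mem_normalizer_iff_smul, conj_smul_cent]
      have hyx : Commute x₀ (y * x₀ * y⁻¹) := by
        have := (mem_normalizer_iff.mp (hCB hyC) x₀).mp hxP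
        rw [hPeq] at this
        exact this.1
      have h1 := H.line hx0 h₀ hy hyx (mem_cent.mp hh)
      exact H.cent_eq (fun e => hx0 (conj_eq_one_iff.mp e))
        (H.pow_ne_zeta hodd (by rw [conj_pow, h₀, mul_one, mul_inv_cancel])) hx0 hxζ h1.symm
    have hd1 : Nat.card (cent y) ∣ 2 * u * c := hc ▸ card_dvd_of_le hBy
    have hcop : (Nat.card (cent y)).Coprime u := by
      obtain ⟨i, hi⟩ := IsPGroup.iff_card.mp P.isPGroup'
      rw [hu, hi]
      refine Nat.Coprime.pow_right _ (hp.out.coprime_iff_not_dvd.mpr fun hd => ?_).symm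
      obtain ⟨g, hg⟩ := exists_prime_orderOf_dvd_card' (G := cent y) p hd
      rw [← Subgroup.orderOf_coe] at hg
      have hg1 : (g : G) ≠ 1 := fun e => by rw [e, orderOf_one] at hg; omega
      rcases H.unip hg1 (by rw [← hg, pow_orderOf_eq_one]) (mem_cent.mp g.2).symm with e | e
      · exact hy.1 e
      · exact hy.2 e
    rw [show 2 * u * c = u * (2 * c) by ring] at hd1
    have hle : C ≤ cent y := by
      intro h hh
      rw [mem_cent]
      have hn' : ∀ w ∈ C, Commute x₀ (w * x₀ * w⁻¹) := fun w hw => by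
        have := (mem_normalizer_iff.mp (hCB hw) x₀).mp hxP
        rw [hPeq] at this
        exact this.1
      have hcomm := H.borel hx0 h₀ (hn' y hyC) (hn' h hh)
      have hmemC : y * h * y⁻¹ * h⁻¹ ∈ C :=
        C.mul_mem (C.mul_mem (C.mul_mem hyC hh) (C.inv_mem hyC)) (C.inv_mem hh)
      have h1 : y * h * y⁻¹ * h⁻¹ = 1 := by
        rw [← orderOf_eq_one_iff]
        exact Nat.eq_one_of_dvd_coprimes (hp.out.coprime_iff_not_dvd.mpr hpc)
          (orderOf_dvd_of_pow_eq_one hcomm) (hCcard ▸ Subgroup.orderOf_dvd_natCard _ hmemC)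
      exact commutatorElement_eq_one_iff_mul_comm.mp (by rw [commutatorElement_def]; exact h1)
    refine Nat.dvd_antisymm (hcop.dvd_of_dvd_mul_left hd1) ?_
    exact hCcard ▸ card_dvd_of_le hle
  have horb : ∀ z, Ss p ζ z → ∀ v ∈ Orb ζ z, z ∉ Orb ζ y → v ∉ Orb ζ y := fun z hz v hv hzy =>
    orb_disjoint hzy (H.ss_ne hz).1 (H.ss_ne hz).2 v hv
  obtain ⟨s₀, hs₀, hN₀⟩ := normalizer_cent_index H hy
  rw [hAy] at hN₀
  have heq₀ := card_orb_mul H hy1 hyζ
  rw [hN₀, hAy, hD] at heq₀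
  have hO0y := card_orb_diff (hRcl y hy)
  set r₀ := Nat.card (Orb ζ y) with hr₀
  set R' := R \ Orb ζ y with hR'
  have hR'cl : ∀ z ∈ R', Orb ζ z ⊆ R' := fun z hz v hv =>
    ⟨hRcl z hz.1 hv, horb z hz.1 v hv hz.2⟩
  have hnk : (n : ℤ) = 1 + k * u := by exact_mod_cast hn1
  have h3n : 3 * n ≤ u * n := Nat.mul_le_mul_right n hu3
  have h2u : 2 * (u * n) ≤ u * c * n := by
    calc 2 * (u * n) ≤ c * (u * n) := Nat.mul_le_mul_right _ hc2
      _ = u * c * n := by ring
  have hr₀z : (r₀ : ℤ) * s₀ = u * n * (2 * c - 2) := by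
    have h := congrArg (Nat.cast : ℕ → ℤ) heq₀
    push_cast [Nat.cast_sub (show 2 ≤ 2 * c by omega)] at h
    have hcz : (2 * (c : ℤ)) ≠ 0 := by omega
    refine mul_right_cancel₀ hcz ?_
    linarith
  have hR'z : (Nat.card R' : ℤ) = 2 * (u * c * n) - 2 - n * (2 * u - 2) - r₀ := by
    rw [← hRz, hO0y]; push_cast; ring
  rcases hs₀ with rfl | rfl
  · -- the torus is self-normalising: impossible
    exfalso
    have h1 : (Nat.card R' : ℤ) = 2 * n - 2 := by push_cast at hr₀z; linarith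
    have h2 := rest_empty H (R := R') (fun w hw => hw.1) hR'cl (by rw [hD]; omega)
    omega
  have hr : (r₀ : ℤ) = u * n * (c - 1) := by push_cast at hr₀z; linarith
  have hR'v : (Nat.card R' : ℤ) = u * c * n - u * n + 2 * n - 2 := by rw [hR'z, hr]; ring
  obtain ⟨z, hz⟩ : R'.Nonempty := by
    rcases R'.eq_empty_or_nonempty with h | h
    · have h0 : (0 : ℤ) = u * c * n - u * n + 2 * n - 2 := by rw [← hR'v, h]; simp
      have : ((2 : ℤ) * (u * n)) ≤ u * c * n := by exact_mod_cast h2u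
      omega
    · exact h
  obtain ⟨s, hs, hNz⟩ := normalizer_cent_index H hz.1
  obtain ⟨ha, a', ha'⟩ := card_cent_ss_ge H hz.1
  have heq := card_orb_mul H (H.ss_ne hz.1).1 (H.ss_ne hz.1).2
  rw [hNz, hD] at heq
  have hle : Nat.card G ≤ 2 * s * Nat.card (Orb ζ z) := by
    have h1 : 2 * (u * c * n) * Nat.card (cent z) ≤ 2 * (u * c * n) * (2 * (Nat.card (cent z) - 2)) :=
      Nat.mul_le_mul_left _ (by omega)
    rw [hD]
    refine Nat.le_of_mul_le_mul_right (h1.trans (le_of_eq ?_)) (by omega : 0 < Nat.card (cent z))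
    calc _ = 2 * (2 * (u * c * n) * (Nat.card (cent z) - 2)) := by ring
      _ = _ := by rw [← heq]; ring
  have hOz := card_orb_diff (hR'cl z hz)
  rcases hs with rfl | rfl
  · exfalso
    rw [hD] at hle
    have : ((3 : ℤ) * n) ≤ u * n := by exact_mod_cast h3n
    have hle' : (2 : ℤ) * (u * c * n) ≤ 2 * 1 * (Nat.card (Orb ζ z) : ℤ) := by exact_mod_cast hle
    have hOle : (Nat.card (Orb ζ z) : ℤ) ≤ Nat.card R' := by omega
    linarith
  have hrest : Nat.card ↥(R' \ Orb ζ z) = 0 := by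
    refine rest_empty H (fun w hw => hw.1.1) (fun w hw v hv => ⟨hR'cl w hw.1 hv, ?_⟩) ?_
    · exact orb_disjoint hw.2 (H.ss_ne hw.1.1).1 (H.ss_ne hw.1.1).2 v hv
    · rw [hD] at hle ⊢
      have : ((3 : ℤ) * n) ≤ u * n := by exact_mod_cast h3n
      have hle' : (2 : ℤ) * (u * c * n) ≤ 2 * 2 * (Nat.card (Orb ζ z) : ℤ) := by exact_mod_cast hle
      have hsplit : (Nat.card R' : ℤ) = Nat.card (Orb ζ z) + Nat.card ↥(R' \ Orb ζ z) := by
        exact_mod_cast hOz
      have : (4 : ℤ) * Nat.card ↥(R' \ Orb ζ z) < 2 * (u * c * n) := by linarith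
      exact_mod_cast this
  rw [hrest, add_zero] at hOz
  rw [← hOz] at heq
  -- the main equation `2 c n = a' e`
  set a := Nat.card (cent z) with hadef
  have hE : 2 * ((c : ℤ) * n) * u = (a : ℤ) * (u * n - 2 * n + 2) := by
    have h := congrArg (Nat.cast : ℕ → ℤ) heq
    push_cast [Nat.cast_sub (show 2 ≤ a by omega)] at h
    rw [hR'v] at h
    linarith
  have hE2 : (c : ℤ) * n = a' * (1 + k * (u - 2)) := by
    have haz : (a : ℤ) = 2 * a' := by rw [ha']; push_cast; ring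
    have h0 : ((u : ℤ) * n - 2 * n + 2) = u * (1 + k * (u - 2)) := by rw [hnk]; ring
    rw [h0, haz] at hE
    refine mul_right_cancel₀ (show (2 * (u : ℤ)) ≠ 0 by omega) ?_
    linarith
  by_cases hk1 : k = 1
  · exact Or.inl hk1
  right
  have hku : 2 * k ≤ k * u := by rw [mul_comm 2 k]; exact Nat.mul_le_mul_left k (by omega)
  set e := 1 + k * u - 2 * k with he
  have hez : (e : ℤ) = 1 + k * (u - 2) := by rw [he, Nat.cast_sub (by omega)]; push_cast; ring
  have hecn : c * n = a' * e := by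
    have : ((c * n : ℕ) : ℤ) = ((a' * e : ℕ) : ℤ) := by push_cast; rw [hez, hE2]
    exact_mod_cast this
  -- `e ∣ 2 c`
  have hek : Nat.Coprime e k := by
    rw [he, show 1 + k * u - 2 * k = 1 + (u - 2) * k by
      have h9 := hku
      rw [Nat.sub_mul]
      rw [mul_comm k u] at h9 ⊢
      omega]
    exact (Nat.coprime_add_mul_right_left 1 k (u - 2)).mpr (Nat.coprime_one_left k)
  have hedvd : e ∣ 2 * c := by
    refine hek.dvd_of_dvd_mul_right ?_
    have h1 : e ∣ c * n := ⟨a', by rw [hecn, mul_comm]⟩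
    have h2 : c * n = c * e + 2 * c * k := by
      have hne : n = e + 2 * k := by rw [he, hn1]; omega
      rw [hne, mul_add]; ring
    rw [h2] at h1
    exact (Nat.dvd_add_right (dvd_mul_left e c)).mp h1
  have hele := Nat.le_of_dvd (by omega) hedvd
  have hk2 : k = 3 ∧ u = 3 ∧ c = 2 := by
    have hk4 : k ≤ 3 := by
      by_contra h
      have h4 : 4 * (u - 2) ≤ k * (u - 2) := Nat.mul_le_mul_right _ (by omega)
      have h5 : k * (u - 2) = k * u - 2 * k := by rw [Nat.mul_sub, mul_comm k 2]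
      omega
    interval_cases k
    · omega
    · omega
    · -- `k = 2`: `e` is odd
      exfalso
      have hodd' : Nat.Coprime e 2 := hek
      have h1 : e ≤ c := Nat.le_of_dvd (by omega) (hodd'.dvd_of_dvd_mul_left hedvd)
      omega
    · exact ⟨rfl, by omega, by omega⟩
  obtain ⟨rfl, hu3', rfl⟩ := hk2
  have hn10 : n = 10 := by omega
  have hp3 : p = 3 := by
    have h1 : p ∣ 3 := hu3' ▸ (orderOf_eq_prime h₀ hx0) ▸ Subgroup.orderOf_dvd_natCard _ hxP
    exact (Nat.prime_dvd_prime_iff_eq hp.out Nat.prime_three).mp h1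
  rw [hu3', hn10] at hD
  have ha5 : a' = 5 := by
    have he4 : e = 4 := by rw [he, hu3']
    rw [hn10, he4] at hecn
    omega
  refine exists_proper_of_exceptional H hp3 (by rw [hD]) hy (by rw [hAy]) (by rw [hN₀])
    (fun w hw => ?_) (fun w hw1 hw => ?_)
  · by_cases hwy : w ∈ Orb ζ y
    · exact Or.inl hwy
    right
    have hwR : w ∈ R' := ⟨hw, hwy⟩
    have hwz : w ∈ Orb ζ z := by
      by_contra hno
      have h0 : R' \ Orb ζ z = ∅ := by
        rwa [Nat.card_coe_set_eq, Set.ncard_eq_zero (Set.toFinite _)] at hrest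
      exact (h0 ▸ (⟨hwR, hno⟩ : w ∈ R' \ Orb ζ z) : w ∈ (∅ : Set G))
    obtain ⟨g, hg⟩ := hwz.2.2
    rw [hg, card_conj_smul, ← hadef, ha', ha5]
  · obtain ⟨Pw, hwP, -⟩ := exists_sylow_unipGroup H hodd hw1 hw
    have hwO : w ∈ Orb ζ x₀ := by
      rw [hO0]; exact ⟨hw1, H.pow_ne_zeta hodd hw, fun hs => hs.1 hw⟩
    obtain ⟨g, hg⟩ := hwO.2.2
    have e : normalizer (cent w : Set G) = MulAut.conj g • B := by
      ext x
      rw [← hNA, mem_normalizer_iff_smul, hg, Subgroup.mem_pointwise_smul_iff_inv_smul_mem,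
        show ((MulAut.conj g)⁻¹ • x ∈ normalizer (cent x₀ : Set G)) ↔ _ from mem_normalizer_iff_smul,
        show (MulAut.conj g)⁻¹ • x = g⁻¹ * x * g by simp [MulAut.smul_def], map_mul, map_mul,
        mul_smul, mul_smul, map_inv]
      constructor
      · intro h
        rw [h, inv_smul_smul]
      · intro h
        exact inv_smul_eq_iff.mp h
    rw [e, card_conj_smul, hc, hu3']

end Finite

end Cfsg.Agent.Solv.Dickson
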