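import Mathlib.LinearAlgebra.Matrix.SpecialLinearGroup
import Mathlib.Algebra.CharP.Lemmas
import Mathlib.Data.ZMod.Basic
import Cfsg.Agent.Lib.Classical.SL2
import Cfsg.Agent.Lib.Solv.DicksonCount

/-!
Two non-commuting unipotent elements of `SL(2, F)` generate a group containing a copy of
`SL(2, p)`, for `F` a finite field of odd characteristic `p`.
-/

set_option autoImplicit false
set_option linter.style.haveILetI false
set_option linter.unusedSectionVars false

open Matrix
open scoped MatrixGroups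

namespace Cfsg.Agent.Solv.Dickson

open Cfsg.Agent.Classical (SL2.coord SL2.exists_affine SL2.coe_mul' SL2.inv_eq SL2.sq_eq SL2.coe_pow')

variable {F : Type*} [Field F] {p : ℕ} [Fact p.Prime] [CharP F p]

local notation "M2" => Matrix (Fin 2) (Fin 2) F
local notation "S2" => SpecialLinearGroup (Fin 2) F

/-- `-1`. -/
def negI : S2 := ⟨-1, by simp [Matrix.det_neg]⟩

theorem negI_coe : ((negI : S2) : M2) = -1 := rfl

/-- Upper unitriangular matrices. -/
def up (s : F) : S2 := ⟨!![1, s; 0, 1], by simp [Matrix.det_fin_two]⟩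

/-- Lower unitriangular matrices. -/
def low (s : F) : S2 := ⟨!![1, 0; s, 1], by simp [Matrix.det_fin_two]⟩

@[simp] theorem up_coe (s : F) : ((up s : S2) : M2) = !![1, s; 0, 1] := rfl

@[simp] theorem low_coe (s : F) : ((low s : S2) : M2) = !![1, 0; s, 1] := rfl

theorem sl_ext {a b : S2} (h : (a : M2) = b) : a = b := Subtype.ext h

@[simp] theorem val_mul (a b : S2) : ((a * b : S2) : M2) = (a : M2) * (b : M2) := rfl

@[simp] theorem val_one : ((1 : S2) : M2) = 1 := rfl

@[simp] theorem val_inv (a : S2) : ((a⁻¹ : S2) : M2) = Matrix.adjugate (a : M2) := rfl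

@[simp] theorem val_pow (a : S2) (k : ℕ) : ((a ^ k : S2) : M2) = (a : M2) ^ k := SL2.coe_pow' a k

theorem up_mul (s t : F) : up s * up t = up (s + t) := by
  apply sl_ext
  rw [val_mul]
  apply SL2.coord <;> simp [Matrix.mul_apply, Fin.sum_univ_two, add_comm]

theorem low_mul (s t : F) : low s * low t = low (s + t) := by
  apply sl_ext
  rw [val_mul]
  apply SL2.coord <;> simp [Matrix.mul_apply, Fin.sum_univ_two, add_comm]

theorem up_pow (s : F) (n : ℕ) : up s ^ n = up ((n : F) * s) := by
  induction n with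
  | zero => apply sl_ext; apply SL2.coord <;> simp
  | succ n ih => rw [pow_succ, ih, up_mul]; congr 1; push_cast; ring

theorem low_pow (s : F) (n : ℕ) : low s ^ n = low ((n : F) * s) := by
  induction n with
  | zero => apply sl_ext; apply SL2.coord <;> simp
  | succ n ih => rw [pow_succ, ih, low_mul]; congr 1; push_cast; ring

theorem trace_eq (g : S2) : (g : M2).trace = (g : M2) 0 0 + (g : M2) 1 1 := by
  simp [Matrix.trace, Fin.sum_univ_two]

theorem det_eq (g : S2) : (g : M2) 0 0 * (g : M2) 1 1 - (g : M2) 0 1 * (g : M2) 1 0 = 1 := by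
  have := g.2
  rwa [Matrix.det_fin_two] at this

theorem sub_one_sq (g : S2) :
    ((g : M2) - 1) ^ 2 = ((g : M2).trace - 2) • (g : M2) := by
  have h := det_eq g
  rw [trace_eq, pow_two]
  apply SL2.coord <;>
    simp [Matrix.mul_apply, Fin.sum_univ_two, Matrix.sub_apply] <;>
    first | linear_combination (0 : F) * h | linear_combination h | linear_combination -h

theorem pow_p_eq_one_iff (hp2 : p ≠ 2) (g : S2) : g ^ p = 1 ↔ (g : M2).trace = 2 := by
  have hp := (Fact.out : p.Prime)
  constructor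
  · intro h
    have h1 : (g : M2) ^ p = 1 := by rw [← val_pow, h]; rfl
    have h2 : ((g : M2) - 1) ^ p = 0 := by
      rw [sub_pow_char_of_commute p (Commute.one_right _), h1, one_pow, sub_self]
    have h3 : (((g : M2).trace - 2) ^ p) • ((g : M2) ^ p) = 0 := by
      rw [← _root_.smul_pow, ← sub_one_sq, ← pow_mul, mul_comm, pow_mul, h2, zero_pow two_ne_zero]
    rw [h1] at h3
    have h4 := congrFun (congrFun h3 0) 0
    simp at h4
    exact sub_eq_zero.mp h4.1
  · intro h
    have h2 : ((g : M2) - 1) ^ 2 = 0 := by rw [sub_one_sq, h, sub_self, zero_smul]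
    have h3 : ((g : M2) - 1) ^ p = 0 := pow_eq_zero_of_le hp.two_le h2
    rw [sub_pow_char_of_commute p (Commute.one_right _), one_pow, sub_eq_zero] at h3
    apply sl_ext
    rw [val_pow, h3]
    rfl

theorem up_pow_p (hp2 : p ≠ 2) (s : F) : up s ^ p = 1 := by
  rw [pow_p_eq_one_iff hp2, trace_eq]; simp; norm_num

theorem neg_coe (g : S2) : ((negI * g : S2) : M2) = -(g : M2) := by
  rw [val_mul, negI_coe, neg_one_mul]

theorem two_ne (hp2 : p ≠ 2) : (2 : F) ≠ 0 := by
  intro h
  have h' : ((2 : ℕ) : F) = 0 := by exact_mod_cast h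
  rw [CharP.cast_eq_zero_iff F p] at h'
  exact hp2 ((Nat.prime_dvd_prime_iff_eq Fact.out Nat.prime_two).mp h')

theorem ss_iff (hp2 : p ≠ 2) (g : S2) :
    Ss p (negI : S2) g ↔ (g : M2).trace ≠ 2 ∧ (g : M2).trace ≠ -2 := by
  unfold Ss
  rw [ne_eq, pow_p_eq_one_iff hp2, ne_eq, pow_p_eq_one_iff hp2, neg_coe, Matrix.trace_neg, neg_eq_iff_eq_neg]

theorem not_scalar {g : S2} (h1 : g ≠ 1) (h2 : g ≠ negI) : ¬ ∃ a : F, (g : M2) = a • 1 := by
  rintro ⟨a, ha⟩
  have h := g.2
  rw [ha, Matrix.det_smul, Fintype.card_fin, Matrix.det_one, mul_one, sq_eq_one_iff] at h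
  rcases h with rfl | rfl
  · exact h1 (sl_ext (by rw [ha, one_smul]; rfl))
  · exact h2 (sl_ext (by rw [ha, neg_smul, one_smul, negI_coe]))

theorem exists_affine' {g h : S2} (h1 : g ≠ 1) (h2 : g ≠ negI) (hc : Commute g h) :
    ∃ a b : F, (h : M2) = a • (1 : M2) + b • (g : M2) := by
  refine SL2.exists_affine (not_scalar h1 h2) ?_
  rw [← val_mul, ← val_mul, hc.eq]

/-- Conjugation by an invertible matrix. -/
noncomputable def conjGL (g : M2) (hg : g.det ≠ 0) : S2 →* S2 where
  toFun A := ⟨g * (A : M2) * g⁻¹, by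
    rw [det_mul, det_mul, A.2, mul_one, Matrix.det_nonsing_inv, Ring.inverse_eq_inv',
      mul_inv_cancel₀ hg]⟩
  map_one' := Subtype.ext (by
    change g * ((1 : S2) : M2) * g⁻¹ = 1
    rw [val_one, mul_one, Matrix.mul_nonsing_inv _ (isUnit_iff_ne_zero.mpr hg)])
  map_mul' A B := Subtype.ext (by
    change g * ((A * B : S2) : M2) * g⁻¹ = (g * (A : M2) * g⁻¹) * (g * (B : M2) * g⁻¹)
    rw [val_mul]
    simp only [mul_assoc]
    rw [← mul_assoc g⁻¹ g, Matrix.nonsing_inv_mul _ (isUnit_iff_ne_zero.mpr hg), one_mul])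

theorem conjGL_coe (g : M2) (hg : g.det ≠ 0) (A : S2) :
    ((conjGL g hg A : S2) : M2) = g * (A : M2) * g⁻¹ := rfl

theorem conjGL_injective (g : M2) (hg : g.det ≠ 0) : Function.Injective (conjGL g hg) := by
  intro A B h
  have h1 := congrArg (fun X : S2 => g⁻¹ * (X : M2) * g) h
  simp only [conjGL_coe, mul_assoc] at h1
  rw [Matrix.nonsing_inv_mul _ (isUnit_iff_ne_zero.mpr hg)] at h1
  simp only [← mul_assoc, Matrix.nonsing_inv_mul _ (isUnit_iff_ne_zero.mpr hg), one_mul, mul_one] at h1
  exact sl_ext h1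

theorem conjGL_eq_of (g : M2) (hg : g.det ≠ 0) {A B : S2} (h : g * (A : M2) = (B : M2) * g) :
    conjGL g hg A = B := by
  apply sl_ext
  rw [conjGL_coe, h, mul_assoc, Matrix.mul_nonsing_inv _ (isUnit_iff_ne_zero.mpr hg), mul_one]

theorem conjGL_trace (g : M2) (hg : g.det ≠ 0) (A : S2) :
    ((conjGL g hg A : S2) : M2).trace = (A : M2).trace := by
  rw [conjGL_coe, Matrix.trace_mul_cycle, Matrix.nonsing_inv_mul _ (isUnit_iff_ne_zero.mpr hg),
    one_mul]

/-- Every nontrivial unipotent element is conjugate to `up 1`. -/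
theorem exists_conj_up (hp2 : p ≠ 2) {x : S2} (hx1 : x ≠ 1) (hx : x ^ p = 1) :
    ∃ (g : M2) (hg : g.det ≠ 0), conjGL g hg x = up 1 := by
  have ht := (pow_p_eq_one_iff hp2 x).mp hx
  have hd := det_eq x
  rw [trace_eq] at ht
  by_cases hr : (x : M2) 1 0 = 0
  · have ha : (x : M2) 0 0 = 1 := by
      have h : ((x : M2) 0 0 - 1) ^ 2 = 0 := by
        rw [hr] at hd; linear_combination -hd + (x : M2) 0 0 * ht
      exact sub_eq_zero.mp (pow_eq_zero_iff two_ne_zero |>.mp h)
    have hd' : (x : M2) 1 1 = 1 := by linear_combination ht - ha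
    have hq : (x : M2) 0 1 ≠ 0 := fun h => hx1 (sl_ext (by
      rw [val_one]; apply SL2.coord <;> simp [hr, ha, hd', h]))
    refine ⟨!![1, 0; 0, (x : M2) 0 1], by simp [Matrix.det_fin_two, hq], conjGL_eq_of _ _ ?_⟩
    apply SL2.coord <;> simp [Matrix.mul_apply, Fin.sum_univ_two, hr, ha, hd']
  · refine ⟨!![0, 1; (x : M2) 1 0, (x : M2) 1 1 - 1], by simp [Matrix.det_fin_two, hr],
      conjGL_eq_of _ _ ?_⟩
    apply SL2.coord <;> simp [Matrix.mul_apply, Fin.sum_univ_two] <;>
      first
        | linear_combination (0 : F) * ht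
        | linear_combination -hd + (x : M2) 1 1 * ht
        | linear_combination hd - (x : M2) 1 1 * ht
        | linear_combination (x : M2) 1 0 * ht
        | linear_combination -((x : M2) 1 0) * ht

/-- The normalizer of an upper unitriangular matrix consists of upper triangular matrices. -/
theorem upper_of_normalizes {a : S2} (h : Commute (up (1 : F)) (a * up 1 * a⁻¹)) :
    (a : M2) 1 0 = 0 := by
  have h' := congrArg (fun X : S2 => (X : M2) 0 0) h.eq
  simp [val_inv, Matrix.adjugate_fin_two, Matrix.mul_apply,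
    Fin.sum_univ_two] at h'
  have h2 : (a : M2) 1 0 ^ 2 = 0 := by linear_combination -h'
  exact (pow_eq_zero_iff two_ne_zero).mp h2

theorem commute_up_of_upper {h : S2} (h10 : (h : M2) 1 0 = 0) :
    Commute (up (1 : F)) (h * up 1 * h⁻¹) := by
  apply sl_ext
  apply SL2.coord <;>
    simp [val_inv, Matrix.adjugate_fin_two, Matrix.mul_apply,
      Fin.sum_univ_two, h10] <;> ring

theorem commute_conjGL {g : M2} {hg : g.det ≠ 0} {A B : S2}
    (h : Commute A B) : Commute (conjGL g hg A) (conjGL g hg B) := h.map (conjGL g hg)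

/-- The axioms of the counting hold for subgroups containing `-1`. -/
theorem axioms (hp2 : p ≠ 2) (I : Subgroup S2) (hI : negI ∈ I) :
    Axioms p (⟨negI, hI⟩ : I) := by
  have hc : ∀ g : S2, Commute negI g := fun g => sl_ext (by
    rw [neg_coe, val_mul, negI_coe, mul_neg_one])
  have hsq : negI * negI = (1 : S2) := sl_ext (by rw [neg_coe, negI_coe, neg_neg]; rfl)
  have hcoe : ∀ {x : I}, x ≠ 1 → (x : S2) ≠ 1 := fun h e => h (Subtype.ext e)
  have hpow : ∀ {x : I}, x ^ p = 1 → (x : S2) ^ p = 1 := fun h => by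
    rw [← Subgroup.coe_pow, h, Subgroup.coe_one]
  have hneZ : ∀ {x : S2}, x ^ p = 1 → x ≠ negI := fun {x} h e => by
    rw [e, pow_p_eq_one_iff hp2, negI_coe, Matrix.trace_neg, Matrix.trace_one, Fintype.card_fin] at h
    exact two_ne (F := F) hp2 (by
      have h4 : (2 : F) * 2 = 0 := by push_cast at h; linear_combination -h
      exact (mul_self_eq_zero.mp h4))
  refine ⟨fun g => Subtype.ext (hc g), Subtype.ext hsq, ?_, ?_, ?_, ?_, ?_, ?_, ?_⟩
  · intro h
    have h' := congrArg (fun X : I => ((X : S2) : M2) 0 0) h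
    simp [negI] at h'
    exact two_ne (F := F) hp2 (by linear_combination -h')
  · intro g hg
    have hg' : (g : S2) * g = 1 := congrArg Subtype.val hg
    by_contra hno
    push Not at hno
    have hns := not_scalar (hcoe hno.1) (fun e => hno.2 (Subtype.ext e))
    have h1 := SL2.sq_eq ((g : S2) : M2)
    rw [← val_mul, hg', val_one, (g : S2).2, one_smul] at h1
    by_cases ht : ((g : S2) : M2).trace = 0
    · rw [ht, zero_smul, zero_sub] at h1
      have := congrFun (congrFun h1 0) 0
      simp at this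
      exact two_ne (F := F) hp2 (by linear_combination this)
    · exact hns ⟨2 / ((g : S2) : M2).trace, by
        rw [div_eq_inv_mul, mul_smul]
        have : ((g : S2) : M2).trace • ((g : S2) : M2) = (2 : F) • (1 : M2) := by
          rw [two_smul]; exact (eq_add_of_sub_eq h1.symm)
        rw [← this, inv_smul_smul₀ ht]⟩
  · intro x a b hx1 hxz ha hb
    obtain ⟨u, v, hu⟩ := exists_affine' (hcoe hx1) (fun e => hxz (Subtype.ext e))
      (congrArg Subtype.val ha : (x : S2) * a = a * x)
    obtain ⟨u', v', hu'⟩ := exists_affine' (hcoe hx1) (fun e => hxz (Subtype.ext e))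
      (congrArg Subtype.val hb : (x : S2) * b = b * x)
    refine Subtype.ext (sl_ext ?_)
    simp only [Subgroup.coe_mul, val_mul, hu, hu']
    simp [mul_add, add_mul, smul_smul, mul_comm u' u, mul_comm v' v, mul_comm v' u, mul_comm u' v]
    abel
  · intro x y hx1 hx hxy
    obtain ⟨u, v, hu⟩ := exists_affine' (hcoe hx1) (hneZ (hpow hx))
      (congrArg Subtype.val hxy : (x : S2) * y = y * x)
    have htx := (pow_p_eq_one_iff hp2 _).mp (hpow hx)
    rw [trace_eq] at htx
    have hd := det_eq (y : S2)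
    have hdx := det_eq (x : S2)
    rw [hu] at hd
    simp at hd
    have huv : (u + v) * (u + v) = 1 := by linear_combination hd - u * v * htx - v ^ 2 * hdx
    have hty : ((y : S2) : M2).trace = 2 * (u + v) := by
      rw [trace_eq, hu]; simp; linear_combination v * htx
    rcases mul_self_eq_one_iff.mp huv with e | e
    · left
      refine Subtype.ext ?_
      rw [Subgroup.coe_pow, Subgroup.coe_one, pow_p_eq_one_iff hp2, hty, e, mul_one]
    · right
      refine Subtype.ext ?_
      rw [Subgroup.coe_pow, Subgroup.coe_mul, Subgroup.coe_one, pow_p_eq_one_iff hp2, neg_coe,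
        Matrix.trace_neg, hty, e]
      ring
  · intro x h hx hc'
    have hss : (((x : S2) : M2).trace ≠ 2 ∧ ((x : S2) : M2).trace ≠ -2) :=
      (ss_iff hp2 _).mp ⟨fun e => hx.1 (Subtype.ext (by rw [Subgroup.coe_pow]; exact e)),
        fun e => hx.2 (Subtype.ext (by rw [Subgroup.coe_pow, Subgroup.coe_mul]; exact e))⟩
    have hx1 : (x : S2) ≠ 1 := fun e => hss.1 (by
      rw [e, val_one, Matrix.trace_one, Fintype.card_fin]; norm_num)
    have hxz : (x : S2) ≠ negI := fun e => hss.2 (by
      rw [e, negI_coe, Matrix.trace_neg, Matrix.trace_one, Fintype.card_fin]; norm_num)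
    set y := (h : S2) * x * (h : S2)⁻¹ with hy
    obtain ⟨u, v, hu⟩ := exists_affine' (h := y) hx1 hxz (congrArg Subtype.val hc' : (x : S2) * y = y * x)
    have hty : (y : M2).trace = ((x : S2) : M2).trace := by
      rw [hy, val_mul, val_mul, Matrix.trace_mul_cycle, ← val_mul,
        inv_mul_cancel, val_one, one_mul]
    have hd := det_eq y
    have hdx := det_eq (x : S2)
    rw [trace_eq, trace_eq, hu] at hty
    simp at hty
    rw [hu] at hd
    simp at hd
    set t := ((x : S2) : M2).trace with ht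
    rw [trace_eq] at ht
    have h1 : 2 * u + v * t = t := by rw [ht]; linear_combination hty
    have h2 : u ^ 2 + u * v * t + v ^ 2 = 1 := by
      rw [ht]; linear_combination hd - v ^ 2 * hdx
    have h3 : (v - 1) * (v + 1) * ((2 - t) * (2 + t)) = 0 := by
      linear_combination 4 * h2 - (2 * u + v * t + t) * h1
    have h4 : (2 - t) * (2 + t) ≠ 0 :=
      mul_ne_zero (sub_ne_zero.mpr (Ne.symm hss.1)) (fun e => hss.2 (by linear_combination e))
    rcases mul_eq_zero.mp ((mul_eq_zero.mp h3).resolve_right h4) with e | e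
    · left
      have hv : v = 1 := sub_eq_zero.mp e
      have hu0 : u = 0 := by
        have : 2 * u = 0 := by rw [hv] at h1; linear_combination h1
        exact (mul_eq_zero.mp this).resolve_left (two_ne hp2)
      refine Subtype.ext (sl_ext ?_)
      change (y : M2) = _
      rw [hu, hv, hu0, zero_smul, zero_add, one_smul]
    · right
      have hv : v = -1 := eq_neg_of_add_eq_zero_left e
      have hut : u = t := by
        have : 2 * u = 2 * t := by rw [hv] at h1; linear_combination h1
        exact mul_left_cancel₀ (two_ne hp2) this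
      refine Subtype.ext (sl_ext ?_)
      change (y : M2) = (((x : S2)⁻¹ : S2) : M2)
      rw [SL2.inv_eq, hu, hv, hut, neg_smul, one_smul, ← sub_eq_add_neg]
  · intro x y h hx1 hx hy hcy hyh
    obtain ⟨g, hg, hgx⟩ := exists_conj_up hp2 (hcoe hx1) (hpow hx)
    set φ := (conjGL g hg).comp I.subtype with hφ
    have hgx' : φ x = up 1 := hgx
    have h1 : (φ y : M2) 1 0 = 0 := upper_of_normalizes (by
      have := hcy.map φ
      rwa [map_mul, map_mul, map_inv, hgx'] at this)
    have hyt := (ss_iff hp2 (y : S2)).mp ⟨fun e => hy.1 (Subtype.ext (by rw [Subgroup.coe_pow]; exact e)),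
      fun e => hy.2 (Subtype.ext (by rw [Subgroup.coe_pow, Subgroup.coe_mul]; exact e))⟩
    have hyt' : (φ y : M2).trace = ((y : S2) : M2).trace := conjGL_trace g hg _
    have hne1 : φ y ≠ 1 := fun e => hyt.1 (by
      rw [← hyt', e, val_one, Matrix.trace_one, Fintype.card_fin]; norm_num)
    have hnez : φ y ≠ negI := fun e => hyt.2 (by
      rw [← hyt', e, negI_coe, Matrix.trace_neg, Matrix.trace_one, Fintype.card_fin]; norm_num)
    obtain ⟨u, v, hu⟩ := exists_affine' hne1 hnez (hyh.map φ)
    have h2 : (φ h : M2) 1 0 = 0 := by rw [hu]; simp [h1]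
    have h3 := commute_up_of_upper h2
    rw [← hgx', ← map_inv, ← map_mul, ← map_mul] at h3
    have h3' := congrArg Subtype.val h3.eq
    exact Subtype.ext (conjGL_injective g hg (by simpa [hφ] using h3.eq))
  · intro x a b hx1 hx ha hb
    obtain ⟨g, hg, hgx⟩ := exists_conj_up hp2 (hcoe hx1) (hpow hx)
    set φ := (conjGL g hg).comp I.subtype with hφ
    have hgx' : φ x = up 1 := hgx
    have h1 : (φ a : M2) 1 0 = 0 := upper_of_normalizes (by
      have := ha.map φ
      rwa [map_mul, map_mul, map_inv, hgx'] at this)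
    have h2 : (φ b : M2) 1 0 = 0 := upper_of_normalizes (by
      have := hb.map φ
      rwa [map_mul, map_mul, map_inv, hgx'] at this)
    have hinj : Function.Injective φ :=
      (conjGL_injective g hg).comp I.subtype_injective
    refine hinj ?_
    rw [map_pow, map_one, pow_p_eq_one_iff hp2, map_mul, map_mul, map_mul, map_inv, map_inv,
      trace_eq]
    have hda := det_eq (φ a)
    have hdb := det_eq (φ b)
    rw [h1] at hda
    rw [h2] at hdb
    simp [val_inv, Matrix.adjugate_fin_two, Matrix.mul_apply, Fin.sum_univ_two,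
      h1, h2]
    linear_combination 2 * hda + 2 * (φ a : M2) 0 0 * (φ a : M2) 1 1 * hdb

/-- The embedding of `SL(2, p)`. -/
def slMap : SpecialLinearGroup (Fin 2) (ZMod p) →* S2 :=
  SpecialLinearGroup.map (ZMod.castHom dvd_rfl F)

theorem slMap_injective : Function.Injective (slMap (F := F) (p := p)) := by
  intro a b h
  refine Subtype.ext (Matrix.ext fun i j => ZMod.castHom_injective F ?_)
  exact congrFun (congrFun (congrArg Subtype.val h) i) j

set_option maxHeartbeats 1000000 in
theorem slMap_range_le (I : Subgroup S2) (h1 : up 1 ∈ I) (h2 : low 1 ∈ I) :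
    (slMap (F := F) (p := p)).range ≤ I := by
  rintro _ ⟨A, rfl⟩
  suffices hK : ∀ B : SpecialLinearGroup (Fin 2) (ZMod p), B ∈ I.comap (slMap (F := F)) from hK A
  intro B
  clear A
  generalize hK : I.comap (slMap (F := F) (p := p)) = K
  refine Cfsg.Agent.Classical.SL_transvection_induction (F := ZMod p) (ι := Fin 2)
    (fun A => A ∈ K) ?_ (fun A B hA hB => K.mul_mem hA hB) B
  intro i j hij c
  have hcast : ZMod.castHom dvd_rfl F c = (c.val : F) := by simp [ZMod.natCast_val]
  have hm : ∀ B : SpecialLinearGroup (Fin 2) (ZMod p), ∀ k l : Fin 2,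
      ((slMap (F := F) B : S2) : M2) k l =
        ZMod.castHom dvd_rfl F ((B : Matrix (Fin 2) (Fin 2) (ZMod p)) k l) := fun _ _ _ => rfl
  have key : slMap (SpecialLinearGroup.transvection hij c) = up (c.val : F) ∨
      slMap (SpecialLinearGroup.transvection hij c) = low (c.val : F) := by
    have hi : (i = 0 ∧ j = 1) ∨ (i = 1 ∧ j = 0) := by omega
    rcases hi with ⟨rfl, rfl⟩ | ⟨rfl, rfl⟩
    · left
      refine sl_ext (SL2.coord ?_ ?_ ?_ ?_) <;>
        rw [hm, up_coe, SpecialLinearGroup.transvection_coe] <;>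
        simp [hcast]
    · right
      refine sl_ext (SL2.coord ?_ ?_ ?_ ?_) <;>
        rw [hm, low_coe, SpecialLinearGroup.transvection_coe] <;>
        simp [hcast]
  rw [← hK, Subgroup.mem_comap]
  rcases key with e | e <;> rw [e]
  · rw [← mul_one (c.val : F), ← up_pow]; exact I.pow_mem h1 _
  · rw [← mul_one (c.val : F), ← low_pow]; exact I.pow_mem h2 _

theorem closure_unipotent_zmod (J : Subgroup (SpecialLinearGroup (Fin 2) (ZMod p)))
    (h : ∀ g : SpecialLinearGroup (Fin 2) (ZMod p), g ^ p = 1 → g ∈ J) (hp2 : p ≠ 2) : J = ⊤ := by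
  rw [eq_top_iff]
  intro A _
  refine Cfsg.Agent.Classical.SL_transvection_induction (fun A => A ∈ J) ?_
    (fun A B hA hB => J.mul_mem hA hB) A
  intro i j hij c
  refine h _ ((pow_p_eq_one_iff hp2 _).mpr ?_)
  rw [SpecialLinearGroup.transvection_coe, Matrix.trace_add, Matrix.trace_one, Fintype.card_fin,
    Matrix.trace_single_eq_of_ne i j c hij]
  norm_num

variable [Fintype F]

set_option maxHeartbeats 1000000 in
/-- Dickson: subgroups containing `-1` and two non-commuting elements of order `p`. -/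
theorem exists_SL2_aux (hp2 : p ≠ 2) : ∀ (n : ℕ) (I : Subgroup S2), Nat.card I ≤ n → negI ∈ I →
    ∀ x ∈ I, ∀ y ∈ I, x ^ p = 1 → y ^ p = 1 → ¬ Commute x y →
    ∃ f : SpecialLinearGroup (Fin 2) (ZMod p) →* S2, Function.Injective f ∧ f.range ≤ I := by
  intro n
  induction n with
  | zero => intro I hn; exact absurd hn (not_le.mpr Nat.card_pos)
  | succ n ih =>
    intro I hn hI x hx y hy hxp hyp hnc
    classical
    have hodd : Odd p := (Fact.out : p.Prime).odd_of_ne_two hp2
    -- normalise: `x = up 1`, `y = low r`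
    obtain ⟨g₀, hg₀, hg₀x⟩ := exists_conj_up hp2 (fun e => hnc (by rw [e]; exact Commute.one_left y)) hxp
    set y₀ := conjGL g₀ hg₀ y with hy₀
    have hr : (y₀ : M2) 1 0 ≠ 0 := by
      intro h0
      refine hnc (conjGL_injective g₀ hg₀ ?_)
      rw [map_mul, map_mul, hg₀x, ← hy₀]
      have ht := (pow_p_eq_one_iff hp2 y₀).mp (by rw [hy₀, ← map_pow, hyp, map_one])
      have hd := det_eq y₀
      rw [trace_eq] at ht
      rw [h0, mul_zero, sub_zero] at hd
      have ha : (y₀ : M2) 0 0 = 1 := by
        have h : ((y₀ : M2) 0 0 - 1) ^ 2 = 0 := by linear_combination -hd + (y₀ : M2) 0 0 * ht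
        exact sub_eq_zero.mp (pow_eq_zero_iff two_ne_zero |>.mp h)
      apply sl_ext
      apply SL2.coord <;> simp [Matrix.mul_apply, Fin.sum_univ_two, h0, ha] <;>
        first | linear_combination ht - ha | linear_combination -(ht - ha) | ring
    set s := -(((y₀ : M2) 0 0 - 1) / (y₀ : M2) 1 0) with hs
    have hdet : ((up s : S2) : M2).det ≠ 0 := by rw [(up s : S2).2]; exact one_ne_zero
    set φ := (conjGL ((up s : S2) : M2) hdet).comp (conjGL g₀ hg₀) with hφ
    have hφinj : Function.Injective φ := fun a b h =>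
      conjGL_injective g₀ hg₀ (conjGL_injective ((up s : S2) : M2) hdet h)
    have hφx : φ x = up 1 := by
      rw [hφ, MonoidHom.comp_apply, hg₀x]
      refine conjGL_eq_of _ _ ?_
      rw [← val_mul, ← val_mul, up_mul, up_mul, add_comm]
    set r := (y₀ : M2) 1 0 with hrdef
    have hφy : φ y = low r := by
      rw [hφ, MonoidHom.comp_apply, ← hy₀]
      refine conjGL_eq_of _ _ ?_
      have ht := (pow_p_eq_one_iff hp2 y₀).mp (by rw [hy₀, ← map_pow, hyp, map_one])
      have hd := det_eq y₀
      rw [trace_eq] at ht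
      have hsr : s * r = 1 - (y₀ : M2) 0 0 := by
        rw [hs, neg_mul, div_mul_cancel₀ _ hr, neg_sub]
      apply SL2.coord <;> simp [Matrix.mul_apply, Fin.sum_univ_two, ← hrdef]
      · linear_combination hsr
      · apply mul_left_cancel₀ hr
        rw [← hrdef] at hd
        linear_combination ((y₀ : M2) 1 1 - 1) * hsr - hd + ht
      · linear_combination ht + hsr - 2 * hsr
    -- work inside `φ I`
    suffices h : ∃ f : SpecialLinearGroup (Fin 2) (ZMod p) →* S2,
        Function.Injective f ∧ f.range ≤ I.map φ by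
      obtain ⟨f, hf, hle⟩ := h
      let e := Subgroup.equivMapOfInjective I φ hφinj
      refine ⟨I.subtype.comp (e.symm.toMonoidHom.comp
        (f.codRestrict (I.map φ) fun a => hle ⟨a, rfl⟩)),
        I.subtype_injective.comp (e.symm.injective.comp
          (fun a b hab => hf (congrArg Subtype.val hab))), ?_⟩
      rintro _ ⟨a, rfl⟩
      exact SetLike.coe_mem _
    set J := I.map φ with hJ
    have hφneg : φ negI = negI := by
      rw [hφ, MonoidHom.comp_apply]
      have : ∀ (g : M2) (hg : g.det ≠ 0), conjGL g hg negI = negI := fun g hg =>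
        conjGL_eq_of g hg (by rw [negI_coe, mul_neg_one, neg_one_mul])
      rw [this, this]
    have hJn : negI ∈ J := hφneg ▸ Subgroup.mem_map_of_mem φ hI
    have hU : up 1 ∈ J := hφx ▸ Subgroup.mem_map_of_mem φ hx
    have hL : low r ∈ J := hφy ▸ Subgroup.mem_map_of_mem φ hy
    have hJcard : Nat.card J ≤ n + 1 := by
      rw [hJ, Nat.card_congr (Subgroup.equivMapOfInjective I φ hφinj).symm.toEquiv]; exact hn
    have H := axioms hp2 J hJn
    set U₁ : J := ⟨up 1, hU⟩
    set L₁ : J := ⟨low r, hL⟩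
    have hU₁ : U₁ ^ p = 1 := Subtype.ext (by rw [Subgroup.coe_pow]; exact up_pow_p hp2 1)
    have hlow : ∀ c : F, low c ^ p = 1 := fun c => by
      rw [pow_p_eq_one_iff hp2, trace_eq]; simp; norm_num
    have hL₁ : L₁ ^ p = 1 := Subtype.ext (by rw [Subgroup.coe_pow]; exact hlow r)
    have hnc₁ : ¬ Commute U₁ L₁ := by
      intro h
      have h' := congrArg (fun X : J => ((X : S2) : M2) 0 0) h.eq
      simp [U₁, L₁, Matrix.mul_apply, Fin.sum_univ_two] at h'
      exact hr h'
    rcases count_main H hodd hU₁ hL₁ hnc₁ with hcount | ⟨K, hK, hζK, a, ha, b, hb, hap, hbp, hab⟩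
    · -- `n = u + 1`
      refine ⟨slMap, slMap_injective, slMap_range_le J hU ?_⟩
      have hU1 : U₁ ≠ 1 := fun e => hnc₁ (e ▸ Commute.one_left _)
      have hL1 : L₁ ≠ 1 := fun e => hnc₁ (e ▸ Commute.one_right _)
      obtain ⟨P₁, hUP, hP₁⟩ := exists_sylow_unipGroup H hodd hU1 hU₁
      obtain ⟨P₀, hLP, hP₀⟩ := exists_sylow_unipGroup H hodd hL1 hL₁
      have hne : P₁ ≠ P₀ := fun e => by
        rw [e, ← SetLike.mem_coe] at hUP
        have h2 : U₁ ∈ (P₀ : Subgroup J) := hUP
        rw [hP₀] at h2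
        exact hnc₁ h2.1.symm
      have hfix : ∀ z ∈ (P₀ : Subgroup J), z • P₁ = P₁ → z = 1 := by
        intro z hz hzP
        by_contra hz1
        have hzp : IsPGroup p (Subgroup.zpowers z) := P₀.isPGroup'.to_le (Subgroup.zpowers_le.mpr hz)
        have hzN := Sylow.smul_eq_iff_mem_normalizer.mp hzP
        have hsup := P₁.is_maximal' (hzp.to_sup_of_normal_right' P₁.isPGroup'
          (Subgroup.zpowers_le.mpr hzN)) le_sup_right
        have hzP1 : z ∈ (P₁ : Subgroup J) := by
          have h2 : z ∈ Subgroup.zpowers z ⊔ (P₁ : Subgroup J) :=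
            Subgroup.mem_sup_left (Subgroup.mem_zpowers z)
          rwa [hsup] at h2
        rw [hP₀] at hz
        rw [hP₁] at hzP1
        exact hnc₁ (H.trans hz1 (H.pow_ne_zeta hodd hz.2) hzP1.1.symm hz.1.symm)
      set T := U₁ • P₀ with hT
      have hT0 : T ≠ P₀ := by
        intro e
        have hzN := Sylow.smul_eq_iff_mem_normalizer.mp e
        have hzp : IsPGroup p (Subgroup.zpowers U₁) :=
          P₁.isPGroup'.to_le (Subgroup.zpowers_le.mpr hUP)
        have hsup := P₀.is_maximal' (hzp.to_sup_of_normal_right' P₀.isPGroup'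
          (Subgroup.zpowers_le.mpr hzN)) le_sup_right
        have h2 : U₁ ∈ Subgroup.zpowers U₁ ⊔ (P₀ : Subgroup J) :=
          Subgroup.mem_sup_left (Subgroup.mem_zpowers _)
        rw [hsup, hP₀] at h2
        exact hnc₁ h2.1.symm
      -- the orbit of `P₁` under `P₀` is everything but `P₀`
      let orb : ↥(P₀ : Subgroup J) → {Q : Sylow p J // Q ≠ P₀} := fun z => ⟨(z : J) • P₁, fun e =>
        hne (by
          have h1 : (z : J) • P₀ = P₀ :=
            Sylow.smul_eq_iff_mem_normalizer.mpr (Subgroup.le_normalizer z.2)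
          exact smul_left_cancel (z : J) (e.trans h1.symm))⟩
      have horb : Function.Injective orb := fun a b hab => by
        have h1 := congrArg Subtype.val hab
        simp only [orb] at h1
        have h2 : ((a⁻¹ * b : (P₀ : Subgroup J)) : J) • P₁ = P₁ := by
          rw [Subgroup.coe_mul, mul_smul, ← h1, Subgroup.coe_inv, inv_smul_smul]
        exact inv_mul_eq_one.mp (Subtype.ext (hfix _ (a⁻¹ * b).2 h2))
      have hbij : Function.Bijective orb := by
        refine (Nat.bijective_iff_injective_and_card orb).mpr ⟨horb, ?_⟩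
        have h1 := hcount P₀
        rw [← Nat.card_congr (Equiv.optionSubtypeNe P₀), Finite.card_option] at h1
        exact (Nat.add_right_cancel h1).symm
      obtain ⟨z, hz⟩ := hbij.2 ⟨T, hT0⟩
      have hzT : (z : J) • P₁ = T := congrArg Subtype.val hz
      -- the two elements of `T` commute
      have h1 : (z : J) * U₁ * (z : J)⁻¹ ∈ T := hzT ▸ ⟨U₁, hUP, rfl⟩
      have h2 : U₁ * L₁ * U₁⁻¹ ∈ T := ⟨L₁, hLP, rfl⟩
      have hq1 : U₁ * L₁ * U₁⁻¹ ≠ 1 := fun e => hL1 (conj_eq_one_iff.mp e)
      have hqp : (U₁ * L₁ * U₁⁻¹) ^ p = 1 := by rw [conj_pow, hL₁, mul_one, mul_inv_cancel]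
      have h1' : (z : J) * U₁ * (z : J)⁻¹ ∈ (T : Subgroup J) := h1
      rw [sylow_eq_unipGroup H hodd hq1 hqp T h2] at h1'
      have hcomm := congrArg Subtype.val h1'.1.eq
      have hz' := (le_of_eq hP₀) z.2
      -- `z` is lower unitriangular
      have hzc := congrArg Subtype.val hz'.1.eq
      simp only [Subgroup.coe_mul, Subgroup.coe_inv, U₁, L₁] at hcomm hzc
      set Z : S2 := ((z : J) : S2) with hZ
      have hZp : Z ^ p = 1 := by rw [hZ, ← Subgroup.coe_pow, hz'.2, Subgroup.coe_one]
      have ht := (pow_p_eq_one_iff hp2 Z).mp hZp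
      rw [trace_eq] at ht
      have e00 := congrArg (fun X : S2 => (X : M2) 0 0) hzc
      have e10 := congrArg (fun X : S2 => (X : M2) 1 0) hzc
      simp [Matrix.mul_apply, Fin.sum_univ_two] at e00 e10
      have z01 : (Z : M2) 0 1 = 0 := by
        exact e00.resolve_right hr
      have zdiag : (Z : M2) 0 0 = (Z : M2) 1 1 := by
        have h : r * (Z : M2) 0 0 = r * (Z : M2) 1 1 := by linear_combination e10
        exact mul_left_cancel₀ hr h
      have z00 : (Z : M2) 0 0 = 1 := by
        have : 2 * (Z : M2) 0 0 = 2 * 1 := by linear_combination ht + zdiag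
        exact mul_left_cancel₀ (two_ne hp2) this
      have z11 : (Z : M2) 1 1 = 1 := zdiag ▸ z00
      have hZlow : Z = low ((Z : M2) 1 0) := by
        apply sl_ext; apply SL2.coord <;> simp [z00, z01, z11]
      rw [hZlow] at hcomm
      have e01 := congrArg (fun X : S2 => (X : M2) 0 1) hcomm
      simp [val_inv, Matrix.adjugate_fin_two, Matrix.mul_apply,
        Fin.sum_univ_two] at e01
      have hz1 : (Z : M2) 1 0 = 1 := by
        have h : 2 * r * ((Z : M2) 1 0 - 1) = 0 := by linear_combination -e01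
        exact sub_eq_zero.mp ((mul_eq_zero.mp h).resolve_left (mul_ne_zero (two_ne hp2) hr))
      rw [← hz1, ← hZlow]
      exact (z : J).2
    · -- a smaller group of the same kind
      have hlt : Nat.card (K.map J.subtype) < Nat.card J := by
        rw [Cfsg.Agent.Solv.card_map_subtype]
        exact lt_of_le_of_ne (Subgroup.card_le_card_group _) fun e => hK (Subgroup.eq_top_of_card_eq _ e)
      obtain ⟨f, hf, hle⟩ := ih (K.map J.subtype) (by omega) ⟨_, hζK, rfl⟩ a ⟨a, ha, rfl⟩ b
        ⟨b, hb, rfl⟩ (by rw [← Subgroup.coe_pow, hap]; rfl) (by rw [← Subgroup.coe_pow, hbp]; rfl)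
        (fun h => hab (Subtype.ext h.eq))
      exact ⟨f, hf, hle.trans (Subgroup.map_subtype_le _)⟩

/-- Two non-commuting elements of order `p` generate a group containing `SL(2, p)`. -/
theorem exists_SL2 (hp2 : p ≠ 2) (I : Subgroup S2) {x y : S2} (hx : x ∈ I) (hy : y ∈ I)
    (hxp : x ^ p = 1) (hyp : y ^ p = 1) (hnc : ¬ Commute x y) :
    ∃ f : SpecialLinearGroup (Fin 2) (ZMod p) →* S2, Function.Injective f ∧ f.range ≤ I := by
  have hc : ∀ g : S2, Commute negI g := fun g => sl_ext (by
    rw [neg_coe, val_mul, negI_coe, mul_neg_one])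
  set I' := I ⊔ Subgroup.zpowers negI
  obtain ⟨f, hf, hle⟩ := exists_SL2_aux hp2 _ I' le_rfl
    (Subgroup.mem_sup_right (Subgroup.mem_zpowers _)) x (Subgroup.mem_sup_left hx) y
    (Subgroup.mem_sup_left hy) hxp hyp hnc
  refine ⟨f, hf, ?_⟩
  have htop : I.comap f = ⊤ := closure_unipotent_zmod _ (fun g hg => ?_) hp2
  · rintro _ ⟨a, rfl⟩
    exact (htop ▸ Subgroup.mem_top a : a ∈ I.comap f)
  have hfg : f g ∈ I' := hle ⟨g, rfl⟩
  haveI : (Subgroup.zpowers (negI : S2)).Normal := ⟨fun w hw v => by
    obtain ⟨k, rfl⟩ := hw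
    rw [← ((hc v).zpow_left k).eq, mul_inv_cancel_right]
    exact Subgroup.zpow_mem _ (Subgroup.mem_zpowers _) k⟩
  obtain ⟨i, hi, w, hw, he⟩ := Subgroup.mem_sup_of_normal_right.mp hfg
  have hsq : negI * negI = (1 : S2) := sl_ext (by rw [neg_coe, negI_coe, neg_neg]; rfl)
  have hwp : w = 1 ∨ w = negI := by
    obtain ⟨k, rfl⟩ := Subgroup.mem_zpowers_iff.mp hw
    rcases Int.even_or_odd k with ⟨j, hj⟩ | ⟨j, hj⟩
    · exact Or.inl (by rw [hj, ← two_mul, _root_.zpow_mul, zpow_two, hsq, _root_.one_zpow])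
    · exact Or.inr (by rw [hj, _root_.zpow_add, _root_.zpow_mul, zpow_two, hsq, _root_.one_zpow, zpow_one, one_mul])
  rcases hwp with rfl | rfl
  · rw [mul_one] at he; rw [Subgroup.mem_comap, ← he]; exact hi
  · obtain ⟨m, hm⟩ := (Fact.out : p.Prime).odd_of_ne_two hp2
    have h1 : (i * negI) ^ p = 1 := by rw [he, ← map_pow, hg, map_one]
    rw [(hc i).symm.mul_pow, hm, pow_succ (negI : S2), pow_mul (negI : S2), pow_two, hsq, one_pow,
      one_mul, ← hm] at h1
    have h2 : i ^ p = negI := by
      calc i ^ p = i ^ p * negI * negI := by rw [mul_assoc, hsq, mul_one]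
        _ = negI := by rw [h1, one_mul]
    rw [Subgroup.mem_comap, ← he, ← h2]
    exact I.mul_mem hi (I.pow_mem hi p)

end Cfsg.Agent.Solv.Dickson
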