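import Cfsg.Agent.Lib.Solv.Coprime
import Cfsg.Agent.Lib.Solv.Subnormal
import Cfsg.Agent.Lib.Solv.Thompson

/-!
Pairs `(G, N)` whose outer cosets consist of elements of one order.
-/

set_option autoImplicit false

namespace Cfsg.Agent.Solv.EqualOrder

open Subgroup
open scoped commutatorElement

variable {G : Type*} [Group G] [Finite G]

theorem eq_one_of_commute {N : Subgroup G} (heq : ∀ x : G, x ∉ N → ∀ n ∈ N, orderOf (x * n) = orderOf x)
    {x n : G} (hx : x ∉ N) (hn : n ∈ N) (hc : Commute x n) (hco : (orderOf x).Coprime (orderOf n)) : n = 1 := by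
  have h := heq x hx n hn
  rw [hc.orderOf_mul_eq_mul_orderOf_of_coprime hco] at h
  exact orderOf_eq_one_iff.1 (Nat.eq_of_mul_eq_mul_left (orderOf_pos x) (h.trans (mul_one _).symm))

/-- If `O_q(G)` is not in `N`, then `N` is a `q`-group. -/
theorem isPGroup_of_pCore_not_le {N : Subgroup G} [N.Normal]
    (heq : ∀ x : G, x ∉ N → ∀ n ∈ N, orderOf (x * n) = orderOf x) {q : ℕ} [hq : Fact q.Prime]
    (hnle : ¬ Cfsg.pCore q G ≤ N) : IsPGroup q N := by
  obtain ⟨x, hx, hxN⟩ := SetLike.not_le_iff_exists.1 hnle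
  intro n
  obtain ⟨a, m, hm, he⟩ := Nat.exists_eq_pow_mul_and_not_dvd (orderOf_pos (n : G)).ne' q hq.out.one_lt.ne'
  set y := (n : G) ^ q ^ a with hy
  have hyN : y ∈ N := pow_mem n.2 _
  have hyo : (orderOf y).Coprime q := Nat.Coprime.coprime_dvd_left
    (orderOf_dvd_of_pow_eq_one (by rw [hy, ← pow_mul, ← he, pow_orderOf_eq_one]))
    (hq.out.coprime_iff_not_dvd.2 hm).symm
  suffices hy1 : y = 1 from ⟨a, Subtype.ext (by rw [SubmonoidClass.coe_pow]; exact hy1)⟩
  set O := Cfsg.pCore q G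
  have hO := isPGroup_pCore q G
  obtain ⟨k, hk⟩ := IsPGroup.iff_card.1 hO
  have hcop : (Nat.card (zpowers y)).Coprime (Nat.card (O ⊓ N : Subgroup G)) := by
    rw [Nat.card_zpowers]
    exact (hk ▸ hyo.pow_right k).coprime_dvd_right (card_dvd_of_le inf_le_left)
  haveI hON : (O ⊓ N).Normal := inferInstance
  have hAN : zpowers y ≤ normalizer ((O ⊓ N : Subgroup G) : Set G) := (normalizer_eq_top (O ⊓ N)).symm ▸ le_top
  haveI : Group.IsSolvable ↥(O ⊓ N) := by
    haveI := (hO.to_le (inf_le_left : O ⊓ N ≤ O)).isNilpotent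
    infer_instance
  haveI : Group.IsSolvable O := by haveI := hO.isNilpotent; infer_instance
  obtain ⟨c, hc, hcn⟩ := exists_centralizing_in_coset (zpowers y) O (O ⊓ N)
    ((normalizer_eq_top O).symm ▸ le_top)
    (inf_eq_bot_of_coprime_card (zpowers y) O (by rw [Nat.card_zpowers, hk]; exact hyo.pow_right k)) inf_le_left
    hAN hcop (Or.inr inferInstance) x hx (fun t ht => by
      have htN : t ∈ N := zpowers_le.2 hyN ht
      refine ⟨?_, ?_⟩
      · rw [show x⁻¹ * t * x * t⁻¹ = x⁻¹ * (t * x * t⁻¹) by group]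
        exact O.mul_mem (O.inv_mem hx) (Normal.conj_mem (inferInstance : O.Normal) x hx t)
      · refine N.mul_mem ?_ (N.inv_mem htN)
        simpa using Normal.conj_mem (inferInstance : N.Normal) t htN x⁻¹)
  have hcN : c ∉ N := fun h => hxN (by
    have := mul_mem h (inv_mem hcn.2)
    simpa [mul_assoc] using this)
  obtain ⟨j, hj⟩ := IsPGroup.iff_orderOf.1 hO ⟨c, hc.1⟩
  rw [Subgroup.orderOf_mk] at hj
  exact eq_one_of_commute heq hcN hyN (mem_centralizer_iff.1 hc.2 y (mem_zpowers y)).symm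
    (hj ▸ (hyo.symm.pow_left j))

theorem fitting_comparable {N : Subgroup G} [N.Normal]
    (heq : ∀ x : G, x ∉ N → ∀ n ∈ N, orderOf (x * n) = orderOf x) :
    (N ≤ Cfsg.fittingSubgroup G ∨ Cfsg.fittingSubgroup G ≤ N) := by
  by_cases h : ∀ q : Nat.Primes, Cfsg.pCore (q : ℕ) G ≤ N
  · exact Or.inr (by rw [fittingSubgroup_eq_iSup_pCore]; exact iSup_le h)
  push Not at h
  obtain ⟨q, hq⟩ := h
  haveI : Fact (q : ℕ).Prime := ⟨q.2⟩
  exact Or.inl (le_fittingSubgroup (isPGroup_of_pCore_not_le heq hq).isNilpotent)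

theorem isPrimePow_fitting {N : Subgroup G} [N.Normal] (hN : N ≠ ⊥)
    (heq : ∀ x : G, x ∉ N → ∀ n ∈ N, orderOf (x * n) = orderOf x) (hlt : N < Cfsg.fittingSubgroup G) :
    ∃ q : ℕ, q.Prime ∧ IsPGroup q (Cfsg.fittingSubgroup G) := by
  obtain ⟨q, hq⟩ : ∃ q : Nat.Primes, ¬ Cfsg.pCore (q : ℕ) G ≤ N := by
    by_contra h
    push Not at h
    exact hlt.not_ge (by rw [fittingSubgroup_eq_iSup_pCore]; exact iSup_le h)
  haveI : Fact (q : ℕ).Prime := ⟨q.2⟩
  have hNq := isPGroup_of_pCore_not_le heq hq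
  refine ⟨q, q.2, (isPGroup_pCore (q : ℕ) G).to_le ?_⟩
  rw [fittingSubgroup_eq_iSup_pCore]
  refine iSup_le fun r => ?_
  haveI : Fact (r : ℕ).Prime := ⟨r.2⟩
  by_cases hr : Cfsg.pCore (r : ℕ) G ≤ N
  · exact hr.trans (le_pCore hNq)
  · have hNr := isPGroup_of_pCore_not_le heq hr
    haveI : Nontrivial N := (nontrivial_iff_ne_bot N).2 hN
    obtain ⟨i, hi0, hi⟩ := hNq.nontrivial_iff_card.1 inferInstance
    obtain ⟨j, hj0, hj⟩ := hNr.nontrivial_iff_card.1 inferInstance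
    have : (r : ℕ) = q := (Nat.prime_dvd_prime_iff_eq r.2 q.2).1
      (r.2.dvd_of_dvd_pow (hi ▸ hj ▸ dvd_pow_self (r : ℕ) (by omega)))
    exact le_of_eq (by rw [this])

end Cfsg.Agent.Solv.EqualOrder
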