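import Cfsg.Agent.Lib.Struct.FrobeniusCount
import Cfsg.Agent.Lib.Solv.Basic

/-!
# Exactly `n` solutions of `x ^ n = 1` in a solvable group
-/

set_option autoImplicit false
open Subgroup
open scoped commutatorElement

universe u

namespace Cfsg.Agent.Solv.ExactCount

theorem exists_normal_exponent_prime {G : Type u} [Group G] [Finite G] [Group.IsSolvable G]
    [Nontrivial G] :
    ∃ (p : ℕ) (N : Subgroup G), p.Prime ∧ N.Normal ∧ N ≠ ⊥ ∧ (∀ x ∈ N, x ^ p = 1) ∧
      ∃ a, Nat.card N = p ^ a := by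
  classical
  obtain ⟨k, hk⟩ := (Group.isSolvable_def G).1 ‹_›
  have hex : ∃ k, derivedSeries G k = ⊥ := ⟨k, hk⟩
  obtain ⟨j, hj⟩ : ∃ j, Nat.find hex = j + 1 := by
    refine ⟨Nat.find hex - 1, ?_⟩
    rcases Nat.eq_zero_or_pos (Nat.find hex) with h | h
    · have h1 := Nat.find_spec hex
      rw [h, derivedSeries_zero] at h1
      exact absurd h1 top_ne_bot
    · omega
  set A := derivedSeries G j with hA
  have hA1 : A ≠ ⊥ := Nat.find_min hex (by omega)
  have hA2 : ⁅A, A⁆ = ⊥ := by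
    have := Nat.find_spec hex
    rwa [hj, derivedSeries_succ] at this
  have hAc : ∀ x ∈ A, ∀ y ∈ A, Commute x y := fun x hx y hy =>
    commutatorElement_eq_one_iff_mul_comm.1 (mem_bot.1 (hA2 ▸ commutator_mem_commutator hx hy))
  obtain ⟨p, hp, hd⟩ := Nat.exists_prime_and_dvd (n := Nat.card A) (fun e => hA1 (card_eq_one.1 e))
  haveI := Fact.mk hp
  obtain ⟨x, hx⟩ := exists_prime_orderOf_dvd_card' p hd
  let N : Subgroup G :=
    { carrier := {y | y ∈ A ∧ y ^ p = 1}
      one_mem' := ⟨one_mem _, one_pow p⟩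
      mul_mem' := fun {u v} hu hv => ⟨mul_mem hu.1 hv.1, by rw [(hAc u hu.1 v hv.1).mul_pow, hu.2, hv.2, one_mul]⟩
      inv_mem' := fun {u} hu => ⟨inv_mem hu.1, by rw [inv_pow, hu.2, inv_one]⟩ }
  haveI : A.Normal := derivedSeries_normal G j
  refine ⟨p, N, hp, ⟨fun u hu g => ⟨(inferInstance : A.Normal).conj_mem u hu.1 g,
    by rw [conj_pow, hu.2, mul_one, mul_inv_cancel]⟩⟩, fun h => ?_, fun y hy => hy.2, ?_⟩
  · have hxp : (x : G) ^ p = 1 := by rw [← SubgroupClass.coe_pow, ← hx, pow_orderOf_eq_one]; rfl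
    have := (h ▸ (⟨x.2, hxp⟩ : (x : G) ∈ N) : (x : G) ∈ (⊥ : Subgroup G))
    rw [mem_bot] at this
    rw [← orderOf_coe, this, orderOf_one] at hx
    exact hp.ne_one hx.symm
  · exact IsPGroup.iff_card.1 (fun y => ⟨1, Subtype.ext (by rw [pow_one]; exact y.2.2)⟩)

/-- The solutions form a normal subgroup when there are exactly `n` of them. -/
theorem main : ∀ (m : ℕ) (G : Type u) [Group G] [Finite G] [Group.IsSolvable G], Nat.card G = m →
    ∀ n : ℕ, n ∣ Nat.card G → Nat.card {x : G // x ^ n = 1} = n →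
      ∃ H : Subgroup G, H.Normal ∧ (H : Set G) = {x : G | x ^ n = 1} := by
  intro m
  induction m using Nat.strong_induction_on with
  | _ m ih =>
  intro G _ _ _ hm n hn hcount
  classical
  rcases subsingleton_or_nontrivial G with hs | hnt
  · exact ⟨⊤, inferInstance, Set.ext fun x => ⟨fun _ => Subsingleton.elim _ _, fun _ => mem_top x⟩⟩
  obtain ⟨p, N, hp, hNn, hN1, hexp, a, ha⟩ := exists_normal_exponent_prime (G := G)
  haveI := Fact.mk hp
  have ha1 : a ≠ 0 := fun e => hN1 (card_eq_one.1 (by rw [ha, e, pow_zero]))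
  have hn0 : n ≠ 0 := fun e => (Nat.card_pos (α := G)).ne' (Nat.eq_zero_of_zero_dvd (e ▸ hn))
  have hQlt : Nat.card (G ⧸ N) < m := by
    have h1 := N.card_mul_index
    rw [index_eq_card, hm] at h1
    have h2 : 2 ≤ Nat.card N := by
      haveI := (nontrivial_iff_ne_bot N).2 hN1
      exact Finite.one_lt_card
    have h3 : 0 < Nat.card (G ⧸ N) := Nat.card_pos
    nlinarith
  set π := QuotientGroup.mk' N with hπ
  have hπs : Function.Surjective π := QuotientGroup.mk'_surjective N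
  have hcardQ : Nat.card (G ⧸ N) * p ^ a = Nat.card G := by
    rw [← index_eq_card, ← ha, mul_comm, card_mul_index]
  -- normal subgroups lift
  have build : ∀ L : Subgroup G, (∀ x ∈ L, x ^ n = 1) → Nat.card L = n →
      ∃ H : Subgroup G, H.Normal ∧ (H : Set G) = {x : G | x ^ n = 1} := by
    intro L hL hLc
    have heq : (L : Set G) = {x : G | x ^ n = 1} := by
      refine Set.eq_of_subset_of_ncard_le (fun x hx => hL x hx) ?_ (Set.toFinite _)
      rw [← Nat.card_coe_set_eq, ← Nat.card_coe_set_eq]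
      exact le_of_eq (hcount.trans hLc.symm)
    refine ⟨L, ⟨fun x hx g => ?_⟩, heq⟩
    have h1 : g * x * g⁻¹ ∈ {x : G | x ^ n = 1} := by
      show _ = 1
      rw [conj_pow, hL x hx, mul_one, mul_inv_cancel]
    rwa [← heq] at h1
  by_cases hpn : p ∣ n
  · obtain ⟨b, m₀, hm₀, rfl⟩ := Nat.exists_eq_pow_mul_and_not_dvd hn0 p hp.ne_one
    have hb : b ≠ 0 := fun e => hm₀ (by rwa [e, pow_zero, one_mul] at hpn)
    -- the inverse image of a set of elements killed by `k`
    have lift : ∀ k : ℕ, k * p ∣ p ^ b * m₀ →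
        p ^ a * Nat.card {y : G ⧸ N // y ^ k = 1} ≤ p ^ b * m₀ := by
      intro k hk
      rw [← ha, ← Nat.card_prod]
      refine le_of_le_of_eq (Nat.card_le_card_of_injective (fun w : N × {y : G ⧸ N // y ^ k = 1} =>
        (⟨w.2.1.out * w.1.1, ?_⟩ : {x : G // x ^ (p ^ b * m₀) = 1})) ?_) hcount
      · obtain ⟨c, hc⟩ := hk
        have h1 : (w.2.1.out * w.1.1) ^ k ∈ N := by
          rw [← QuotientGroup.eq_one_iff, QuotientGroup.mk_pow, QuotientGroup.mk_mul,
            (QuotientGroup.eq_one_iff _).2 w.1.2, mul_one, QuotientGroup.out_eq']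
          exact w.2.2
        rw [hc, pow_mul, pow_mul, hexp _ h1, one_pow]
      · rintro ⟨u, y⟩ ⟨v, z⟩ e
        have e1 : y.1.out * u.1 = z.1.out * v.1 := congrArg Subtype.val e
        have e2 : y = z := by
          apply Subtype.ext
          have := congrArg (fun g : G => (g : G ⧸ N)) e1
          simpa [QuotientGroup.mk_mul, (QuotientGroup.eq_one_iff _).2 u.2, (QuotientGroup.eq_one_iff _).2 v.2] using this
        subst e2
        exact Prod.ext (Subtype.ext (mul_left_cancel e1)) rfl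
    have hdvdQ : ∀ k : ℕ, k * p ^ a ∣ Nat.card G → k ∣ Nat.card (G ⧸ N) := fun k hk => by
      rw [← hcardQ] at hk
      exact Nat.dvd_of_mul_dvd_mul_right (pow_pos hp.pos a) hk
    have hab : a ≤ b := by
      by_contra hab
      have hmQ : m₀ ∣ Nat.card (G ⧸ N) :=
        ((Nat.Coprime.pow_right a ((hp.coprime_iff_not_dvd.2 hm₀).symm))).dvd_of_dvd_mul_right
          (hcardQ.symm ▸ (dvd_mul_left m₀ _).trans hn)
      have h1 := Struct.FrobeniusCount.dvd_card_sol _ (G ⧸ N) rfl m₀ hmQ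
      have h2 : 0 < Nat.card {y : G ⧸ N // y ^ m₀ = 1} :=
        Nat.card_pos_iff.2 ⟨⟨⟨1, one_pow _⟩⟩, inferInstance⟩
      have h3 := lift m₀ (by rw [mul_comm]; exact mul_dvd_mul_right (dvd_pow_self p hb) m₀)
      have h4 := Nat.le_of_dvd h2 h1
      have h5 : p ^ (b + 1) ≤ p ^ a := Nat.pow_le_pow_right hp.pos (by omega)
      have h6 : p ^ b < p ^ (b + 1) := Nat.pow_lt_pow_right hp.one_lt (by omega)
      have : 0 < m₀ := Nat.pos_of_ne_zero fun e => hm₀ (e ▸ dvd_zero p)
      nlinarith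
    obtain ⟨c, rfl⟩ : ∃ c, b = a + c := ⟨b - a, by omega⟩
    set k := p ^ c * m₀ with hk
    have hkn : p ^ (a + c) * m₀ = k * p ^ a := by rw [hk, pow_add]; ring
    have hkQ : k ∣ Nat.card (G ⧸ N) := hdvdQ k (hkn ▸ hn)
    have h1 := lift k (by rw [hkn]; exact mul_dvd_mul_left k (dvd_pow_self p ha1))
    have h2 := Struct.FrobeniusCount.dvd_card_sol _ (G ⧸ N) rfl k hkQ
    have hcQ : Nat.card {y : G ⧸ N // y ^ k = 1} = k := by
      refine le_antisymm ?_ (Nat.le_of_dvd (Nat.card_pos_iff.2 ⟨⟨⟨1, one_pow _⟩⟩, inferInstance⟩) h2)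
      rw [hkn, mul_comm k] at h1
      exact Nat.le_of_mul_le_mul_left h1 (pow_pos hp.pos a)
    obtain ⟨Hb, -, hHb⟩ := ih _ hQlt (G ⧸ N) rfl k hkQ hcQ
    refine build (Hb.comap π) (fun x hx => ?_) ?_
    · have h3 : π x ∈ {y : G ⧸ N | y ^ k = 1} := by rw [← hHb]; exact hx
      have h4 : x ^ k ∈ N := (QuotientGroup.eq_one_iff _).1 ((map_pow π x k).trans h3)
      obtain ⟨t, ht⟩ := dvd_pow_self p ha1
      rw [hkn, pow_mul, ht, pow_mul, hexp _ h4, one_pow]
    · have h3 : Nat.card Hb = k := by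
        rw [← hcQ]
        exact Nat.card_congr (Equiv.setCongr hHb)
      rw [hkn, ← h3, ← ha]
      rw [card_comap_mk']; ring
  · have hcop : Nat.Coprime (p ^ a) n := Nat.Coprime.pow_left a (hp.coprime_iff_not_dvd.2 hpn)
    have hnQ : n ∣ Nat.card (G ⧸ N) := hcop.symm.dvd_of_dvd_mul_right (hcardQ.symm ▸ hn)
    obtain ⟨e, he1, he2⟩ := Nat.chineseRemainder (hp.coprime_iff_not_dvd.2 hpn) 0 1
    have hle : Nat.card {y : G ⧸ N // y ^ n = 1} ≤ n := by
      refine le_of_le_of_eq (Nat.card_le_card_of_injective (fun y : {y : G ⧸ N // y ^ n = 1} =>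
        (⟨y.1.out ^ e, ?_⟩ : {x : G // x ^ n = 1})) ?_) hcount
      · obtain ⟨t, ht⟩ := Nat.modEq_zero_iff_dvd.1 he1
        rw [← pow_mul, mul_comm, pow_mul, ht, pow_mul, hexp _ ?_, one_pow]
        rw [← QuotientGroup.eq_one_iff, QuotientGroup.mk_pow, QuotientGroup.out_eq']
        exact y.2
      · intro y z h
        have h1 : (y.1.out ^ e : G) = z.1.out ^ e := congrArg Subtype.val h
        have h2 := congrArg (fun g : G => (g : G ⧸ N)) h1
        simp only [QuotientGroup.mk_pow, QuotientGroup.out_eq'] at h2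
        apply Subtype.ext
        rwa [Struct.FrobeniusCount.pow_eq_pow_of_mod y.2 he2, pow_one,
          Struct.FrobeniusCount.pow_eq_pow_of_mod z.2 he2, pow_one] at h2
    have hcQ := le_antisymm hle (Nat.le_of_dvd (Nat.card_pos_iff.2 ⟨⟨⟨1, one_pow _⟩⟩, inferInstance⟩)
      (Struct.FrobeniusCount.dvd_card_sol _ (G ⧸ N) rfl n hnQ))
    obtain ⟨Hb, -, hHb⟩ := ih _ hQlt (G ⧸ N) rfl n hnQ hcQ
    set L := Hb.comap π with hL
    have hLc : Nat.card L = n * p ^ a := by
      rw [hL, card_comap_mk', ha, mul_comm]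
      congr 1
      rw [← hcQ]
      exact Nat.card_congr (Equiv.setCongr hHb)
    have hNL : N ≤ L := fun x hx => by
      show π x ∈ Hb
      rw [show π x = 1 from (QuotientGroup.eq_one_iff x).2 hx]
      exact one_mem Hb
    have hNc : Nat.card (N.subgroupOf L) = p ^ a :=
      (Nat.card_congr (subgroupOfEquivOfLe hNL).toEquiv).trans ha
    have hNi : (N.subgroupOf L).index = n := by
      have := (N.subgroupOf L).card_mul_index
      rw [hNc, hLc, mul_comm n] at this
      exact Nat.eq_of_mul_eq_mul_left (pow_pos hp.pos a) this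
    obtain ⟨K, hK⟩ := exists_right_complement'_of_coprime (N := N.subgroupOf L) (by rw [hNc, hNi]; exact hcop)
    have hKc : Nat.card K = n := by
      have := hK.card_mul
      rw [hNc, hLc, mul_comm n] at this
      exact Nat.eq_of_mul_eq_mul_left (pow_pos hp.pos a) this
    refine build (K.map L.subtype) ?_ (by rw [card_map_of_injective L.subtype_injective, hKc])
    rintro _ ⟨x, hx, rfl⟩
    have := pow_card_eq_one' (x := (⟨x, hx⟩ : K))
    rw [hKc] at this
    rw [← map_pow, show x ^ n = 1 from congrArg Subtype.val this, map_one]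

end Cfsg.Agent.Solv.ExactCount
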