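import Cfsg.Agent.Lib.Solv.PSolvable

/-!
`p`-length bounds: lifting through normal `p`- and `p'`-subgroups; length at most the class.
-/

set_option autoImplicit false
set_option linter.style.haveILetI false

namespace Cfsg.Agent.Solv

open Subgroup Cfsg

universe u

variable {G : Type u} [Group G] {p : ℕ}

theorem card_map_mk'_eq_relIndex (U B : Subgroup G) [U.Normal] :
    Nat.card (B.map (QuotientGroup.mk' U)) = U.relIndex B := by
  rw [← relIndex_ker, QuotientGroup.ker_mk']

theorem upperPSeries_comap_succ [Finite G] [Fact p.Prime] (N : Subgroup G) [N.Normal] {n m : ℕ}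
    (hpar : Even n ↔ Even m)
    (h : (upperPSeries p (G ⧸ N) n).1.comap (QuotientGroup.mk' N) ≤ (upperPSeries p G m).1) :
    (upperPSeries p (G ⧸ N) (n + 1)).1.comap (QuotientGroup.mk' N) ≤
      (upperPSeries p G (m + 1)).1 := by
  set f := QuotientGroup.mk' N
  set A := (upperPSeries p (G ⧸ N) n).1
  set B := (upperPSeries p (G ⧸ N) (n + 1)).1
  set U := (upperPSeries p G m).1
  have hd : Nat.card ((B.comap f).map (QuotientGroup.mk' U)) ∣ A.relIndex B := by
    rw [card_map_mk'_eq_relIndex]
    refine (relIndex_dvd_of_le_left _ h).trans (dvd_of_eq ?_)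
    rw [relIndex_comap, map_comap_eq_self_of_surjective (QuotientGroup.mk'_surjective N)]
  haveI : ((B.comap f).map (QuotientGroup.mk' U)).Normal :=
    Normal.map inferInstance _ (QuotientGroup.mk'_surjective U)
  rcases Nat.even_or_odd' n with ⟨j, rfl | rfl⟩
  · obtain ⟨i, rfl⟩ : ∃ i, m = 2 * i := (hpar.mp (even_two_mul j)).two_dvd
    rw [upperPSeries_odd p i G, ← map_le_iff_le_comap]
    refine le_pPrimeCore ((card_pPrimeCore_coprime p ((G ⧸ N) ⧸ A)).coprime_dvd_left ?_)
    refine hd.trans (dvd_of_eq ?_)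
    change A.relIndex (upperPSeries p (G ⧸ N) (2 * j + 1)).1 = _
    rw [upperPSeries_odd]
    exact relIndex_comap_mk' A _
  · obtain ⟨i, rfl⟩ : ∃ i, m = 2 * i + 1 := Nat.not_even_iff_odd.mp
      (fun hm => Nat.not_even_bit1 j (hpar.mpr hm))
    rw [upperPSeries_even p i G, ← map_le_iff_le_comap]
    refine le_pCore ?_
    obtain ⟨k, hk⟩ := IsPGroup.iff_card.mp (isPGroup_pCore p ((G ⧸ N) ⧸ A))
    have hd' : Nat.card ((B.comap f).map (QuotientGroup.mk' U)) ∣ p ^ k := by
      refine hd.trans (dvd_of_eq ?_)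
      change A.relIndex (upperPSeries p (G ⧸ N) (2 * j + 1 + 1)).1 = _
      rw [show 2 * j + 1 + 1 = 2 * j + 2 from rfl, upperPSeries_even, ← hk]
      exact relIndex_comap_mk' A _
    obtain ⟨l, -, hl⟩ := (Nat.dvd_prime_pow Fact.out).mp hd'
    exact IsPGroup.of_card hl

theorem upperPSeries_comap_add [Finite G] [Fact p.Prime] (N : Subgroup G) [N.Normal] {n m : ℕ}
    (hpar : Even n ↔ Even m)
    (h : (upperPSeries p (G ⧸ N) n).1.comap (QuotientGroup.mk' N) ≤ (upperPSeries p G m).1)
    (k : ℕ) :
    (upperPSeries p (G ⧸ N) (n + k)).1.comap (QuotientGroup.mk' N) ≤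
      (upperPSeries p G (m + k)).1 := by
  induction k with
  | zero => exact h
  | succ k ih =>
    exact upperPSeries_comap_succ N (show Even (n + k) ↔ Even (m + k) by
      rw [Nat.even_add, Nat.even_add, hpar]) ih

theorem pLengthLE_of_quotient_pCore [Finite G] [Fact p.Prime] (N : Subgroup G) [N.Normal]
    (hN : IsPGroup p N) {k : ℕ} (h : PLengthLE p k (G ⧸ N)) : PLengthLE p (k + 1) G := by
  have h0 : (upperPSeries p (G ⧸ N) 0).1.comap (QuotientGroup.mk' N) ≤
      (upperPSeries p G (2 * 0 + 2)).1 := by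
    rw [upperPSeries_zero, MonoidHom.comap_bot, QuotientGroup.ker_mk', upperPSeries_even,
      ← map_le_iff_le_comap]
    haveI : (N.map (QuotientGroup.mk' (upperPSeries p G (2 * 0 + 1)).1)).Normal :=
      Normal.map inferInstance _ (QuotientGroup.mk'_surjective _)
    exact le_pCore (hN.map _)
  have h1 := upperPSeries_comap_add N (by simp [parity_simps]) h0 (2 * k + 1)
  unfold PLengthLE at h ⊢
  rw [Nat.zero_add, h, comap_top, top_le_iff,
    show 2 * 0 + 2 + (2 * k + 1) = 2 * (k + 1) + 1 by ring] at h1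
  exact h1

theorem pLengthLE_of_quotient_pPrimeCore [Finite G] [Fact p.Prime] (N : Subgroup G) [N.Normal]
    (hN : (Nat.card N).Coprime p) {k : ℕ} (h : PLengthLE p k (G ⧸ N)) : PLengthLE p k G := by
  have h0 : (upperPSeries p (G ⧸ N) (2 * 0 + 1)).1.comap (QuotientGroup.mk' N) ≤
      (upperPSeries p G (2 * 0 + 1)).1 := by
    haveI : ((upperPSeries p (G ⧸ N) (2 * 0 + 1)).1.comap (QuotientGroup.mk' N)).Normal :=
      Normal.comap inferInstance _
    rw [upperPSeries_odd p 0 G, ← map_le_iff_le_comap]
    haveI : (((upperPSeries p (G ⧸ N) (2 * 0 + 1)).1.comap (QuotientGroup.mk' N)).map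
        (QuotientGroup.mk' (upperPSeries p G (2 * 0)).1)).Normal :=
      Normal.map inferInstance _ (QuotientGroup.mk'_surjective _)
    refine le_pPrimeCore (Nat.Coprime.coprime_dvd_left (card_map_dvd _ _) ?_)
    rw [card_comap_mk', upperPSeries_odd, card_comap_mk']
    have h1 : Nat.card (upperPSeries p (G ⧸ N) (2 * 0)).1 = 1 := by
      rw [show 2 * 0 = 0 from rfl, upperPSeries_zero, card_bot]
    rw [h1, one_mul]
    exact hN.mul_left (card_pPrimeCore_coprime p _)
  have h1 := upperPSeries_comap_add N Iff.rfl h0 (2 * k)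
  unfold PLengthLE at h ⊢
  rw [show 2 * 0 + 1 + 2 * k = 2 * k + 1 by ring, h, comap_top, top_le_iff] at h1
  exact h1

theorem pLengthLE_mono [Finite G] {k l : ℕ} (h : PLengthLE p k G) (hkl : k ≤ l) :
    PLengthLE p l G :=
  top_le_iff.mp (le_of_eq_of_le h.symm (upperPSeries_mono p G (by omega)))

theorem pLengthLE_zero_of_coprime [Finite G] (h : (Nat.card G).Coprime p) : PLengthLE p 0 G := by
  change (upperPSeries p G (2 * 0 + 1)).1 = ⊤
  rw [upperPSeries_odd, show pPrimeCore p (G ⧸ (upperPSeries p G (2 * 0)).1) = ⊤ from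
    top_le_iff.mp (le_pPrimeCore (N := ⊤)
      (by rw [card_top]; exact h.coprime_dvd_left (card_quotient_dvd_card _))), comap_top]

theorem pLengthLE_of_class_le_aux [Fact p.Prime] : ∀ (n : ℕ) (G : Type u) [Group G] [Finite G],
    Nat.card G ≤ n → IsPSolvable p G → ∀ (S : Sylow p G) (c : ℕ),
    Group.nilpotencyClass (S : Subgroup G) ≤ c → PLengthLE p c G := by
  intro n
  induction n with
  | zero => intro G _ _ hn; exact absurd hn (not_le.mpr Nat.card_pos)
  | succ n ih =>
    intro G _ _ hn hsol S c hc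
    haveI : Group.IsNilpotent (S : Subgroup G) := S.isPGroup'.isNilpotent
    rcases subsingleton_or_nontrivial (S : Subgroup G) with hS | hS
    · refine pLengthLE_mono (pLengthLE_zero_of_coprime ?_) (Nat.zero_le c)
      refine ((Fact.out : p.Prime).coprime_iff_not_dvd.mpr fun hd => ?_).symm
      exact S.ne_bot_of_dvd_card hd (S : Subgroup G).eq_bot_of_subsingleton
    have hlt : ∀ N : Subgroup G, [N.Normal] → N ≠ ⊥ → Nat.card (G ⧸ N) < Nat.card G := by
      intro N _ hN
      rw [card_eq_card_quotient_mul_card_subgroup N]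
      exact lt_mul_of_one_lt_right Nat.card_pos ((one_lt_card_iff_ne_bot N).mpr hN)
    by_cases hN : pPrimeCore p G = ⊥
    swap
    · refine pLengthLE_of_quotient_pPrimeCore _ (card_pPrimeCore_coprime p G) ?_
      refine ih _ (by have := hlt _ hN; omega) (isPSolvable_quotient hsol _)
        (S.mapSurjective (QuotientGroup.mk'_surjective _)) c (le_trans ?_ hc)
      rw [Sylow.coe_mapSurjective]
      exact Group.nilpotencyClass_le_of_surjective _
        ((QuotientGroup.mk' (pPrimeCore p G)).subgroupMap_surjective (S : Subgroup G))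
    set P := pCore p G
    set f := QuotientGroup.mk' P
    have hcP : centralizer (P : Set G) ≤ P := centralizer_pCore_le_of_isPSolvable hsol hN
    have hPS : P ≤ (S : Subgroup G) := pCore_le_sylow S
    have hPb : P ≠ ⊥ := fun e => by
      haveI : Nontrivial G :=
        Function.Injective.nontrivial (f := Subtype.val) (Subtype.val_injective (p := (· ∈ (S : Subgroup G))))
      exact (core_ne_bot_of_isPSolvable hsol).elim (fun h => h e) (fun h => h hN)
    have hZ : ∀ z ∈ center (S : Subgroup G), (f.subgroupMap (S : Subgroup G)) z = 1 := by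
      intro z hz
      refine Subtype.ext ((QuotientGroup.eq_one_iff (z : G)).mpr (hcP ?_))
      rw [mem_centralizer_iff]
      intro y hy
      exact congrArg Subtype.val (mem_center_iff.mp hz ⟨y, hPS hy⟩)
    have hc1 : Group.nilpotencyClass ((S.mapSurjective (f := f) (QuotientGroup.mk'_surjective P) :
        Sylow p _) : Subgroup (G ⧸ P)) ≤ c - 1 := by
      rw [Sylow.coe_mapSurjective]
      refine le_trans ?_ (Nat.sub_le_sub_right hc 1)
      rw [← Group.nilpotencyClass_quotient_center]
      refine Group.nilpotencyClass_le_of_surjective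
        (QuotientGroup.lift (center (S : Subgroup G)) (f.subgroupMap (S : Subgroup G))
          fun z hz => MonoidHom.mem_ker.mpr (hZ z hz)) ?_
      intro y
      obtain ⟨x, hx⟩ := f.subgroupMap_surjective (S : Subgroup G) y
      exact ⟨QuotientGroup.mk x, hx⟩
    have hc0 : 1 ≤ c := by
      refine le_trans ?_ hc
      by_contra h0
      rw [not_le, Nat.lt_one_iff, Group.nilpotencyClass_zero_iff_subsingleton] at h0
      exact not_subsingleton _ h0
    have h1 := ih _ (by have := hlt _ hPb; omega) (isPSolvable_quotient hsol P) _ (c - 1) hc1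
    have h2 := pLengthLE_of_quotient_pCore P (isPGroup_pCore p G) h1
    rwa [Nat.sub_add_cancel hc0] at h2

theorem pLengthLE_nilpotencyClass [Finite G] [Fact p.Prime] (hsol : IsPSolvable p G)
    (S : Sylow p G) : PLengthLE p (Group.nilpotencyClass (S : Subgroup G)) G :=
  pLengthLE_of_class_le_aux _ G le_rfl hsol S _ le_rfl

end Cfsg.Agent.Solv
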