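import Cfsg.Agent.Lib.Solv.QuadraticStable
import Cfsg.Agent.Lib.Solv.PLength
import Cfsg.Agent.Lib.Solv.PSolvable
import Cfsg.Agent.Lib.Solv.Coprime
import Cfsg.Agent.Lib.Solv.StructMisc

/-!
# Elements of order three in a group of exponent six act quadratically
-/

set_option autoImplicit false
open Subgroup
open scoped commutatorElement

universe u

namespace Cfsg.Agent.Solv.ExpSix

variable {X : Type u} [Group X] [Finite X]

/-- With `O_{3'} = 1`, exponent `6` and no `SL(2,3)` involved, the 3-length is at most one. -/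
theorem pLengthLE_one (h6 : ∀ x : X, x ^ 6 = 1) (hsol : Cfsg.IsPSolvable 3 X)
    (hO : Cfsg.pPrimeCore 3 X = ⊥) (hfree : ¬ Cfsg.Agent.Solv.Quad.InvSL 3 X) :
    Cfsg.PLengthLE 3 1 X := by
  haveI : Fact (Nat.Prime 3) := ⟨Nat.prime_three⟩
  haveI hQc := pCore_characteristic 3 X
  set Q := Cfsg.pCore 3 X with hQ
  have hQp : IsPGroup 3 ↥Q := isPGroup_pCore 3 X
  haveI := hQp.isNilpotent
  set N := (frattini ↥Q).map Q.subtype with hN
  haveI hNn : N.Normal := inferInstance
  set π := QuotientGroup.mk' N with hπ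
  haveI : (Q.map π).Normal := Subgroup.Normal.map inferInstance π (QuotientGroup.mk'_surjective N)
  set φ : X →* MulAut (Q.map π) := MulAut.conjNormal.comp π with hφ
  have hval : ∀ (g : X) (v : Q.map π), ((φ g v : Q.map π) : X ⧸ N) = π g * v * (π g)⁻¹ := fun g v => by
    simp [hφ]
  -- the kernel of the action lies in `Q`
  have hker : φ.ker ≤ Q := by
    have hp3 : IsPGroup 3 ↥φ.ker := by
      rw [IsPGroup.iff_card]
      refine ⟨_, Nat.eq_prime_pow_of_unique_prime_dvd Nat.card_pos.ne' fun {q} hq hd => ?_⟩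
      by_contra hqp
      haveI := Fact.mk hq
      obtain ⟨a, ha⟩ := exists_prime_orderOf_dvd_card' q hd
      have hA : zpowers (a : X) ≤ centralizer (Q : Set X) := by
        refine centralizes_of_trivial_on_frattini_quotient _ Q
          (by rw [normalizer_eq_top_iff.2 inferInstance]; exact le_top) ?_ fun b hb x hx => ?_
        · obtain ⟨n, hn⟩ := IsPGroup.iff_card.1 (hQp.to_subgroup (frattini ↥Q))
          rw [Nat.card_zpowers, orderOf_coe, ha, hn]
          exact Nat.Coprime.pow_right _ ((Nat.coprime_primes hq Nat.prime_three).2 hqp)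
        · have hb' : φ b = 1 := zpowers_le.2 a.2 hb
          have h1 := congrArg Subtype.val (DFunLike.congr_fun hb' ⟨π x, mem_map_of_mem π hx⟩)
          rw [hval] at h1
          show b * x * b⁻¹ * x⁻¹ ∈ N
          rw [← QuotientGroup.eq_one_iff]
          change π (b * x * b⁻¹ * x⁻¹) = 1
          rw [map_mul, map_mul, map_mul, map_inv, map_inv]
          simp only [MulAut.one_apply] at h1
          rw [h1, mul_inv_cancel]
      have h1 : (a : X) ∈ Q := centralizer_pCore_le_of_isPSolvable hsol hO (hA (mem_zpowers _))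
      obtain ⟨n, hn⟩ := IsPGroup.iff_orderOf.1 hQp ⟨_, h1⟩
      rw [orderOf_mk, orderOf_coe, ha] at hn
      exact hqp ((Nat.prime_dvd_prime_iff_eq hq Nat.prime_three).1 (hq.dvd_of_dvd_pow (dvd_of_eq hn)))
    exact le_pCore hp3
  have h3 : ∀ y : X, (∃ k, orderOf y = 3 ^ k) → y ^ 3 = 1 := fun y ⟨k, hk⟩ => by
    refine orderOf_dvd_iff_pow_eq_one.1 ?_
    have hc : Nat.Coprime (orderOf y) 2 := by
      rw [hk]; exact Nat.Coprime.pow_left k (by norm_num)
    exact hc.dvd_of_dvd_mul_right (show orderOf y ∣ 3 * 2 from orderOf_dvd_of_pow_eq_one (h6 y))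
  obtain ⟨S⟩ : Nonempty (Sylow 3 X) := inferInstance
  have hSQ : (S : Subgroup X) ≤ Q := by
    intro a ha
    have hq : Quad.QuadGrp φ a := by
      rintro ⟨v, hv⟩
      obtain ⟨x, hx, rfl⟩ := hv
      have hxS : x ∈ (S : Subgroup X) := pCore_le_sylow S hx
      have e1 : (x * a) ^ 3 = 1 := h3 _ (by
        obtain ⟨k, hk⟩ := IsPGroup.iff_orderOf.1 S.isPGroup' ⟨_, mul_mem hxS ha⟩
        exact ⟨k, by rwa [orderOf_mk] at hk⟩)
      have e2 : a ^ 3 = 1 := h3 _ (by
        obtain ⟨k, hk⟩ := IsPGroup.iff_orderOf.1 S.isPGroup' ⟨a, ha⟩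
        exact ⟨k, by rwa [orderOf_mk] at hk⟩)
      have hax : a * x * a⁻¹ ∈ Q := (inferInstance : Q.Normal).conj_mem x hx a
      have e3 : (a * x * a⁻¹) ^ 3 = 1 := h3 _ (by
        obtain ⟨k, hk⟩ := IsPGroup.iff_orderOf.1 hQp ⟨_, hax⟩
        exact ⟨k, by rwa [orderOf_mk] at hk⟩)
      have hc : Commute (π x) (π (a * x * a⁻¹)) := by
        rw [commute_iff_eq, ← map_mul, ← map_mul, hπ, QuotientGroup.mk'_apply, QuotientGroup.mk'_apply,
          QuotientGroup.eq]
        refine ⟨(⟨x, hx⟩ * ⟨_, hax⟩ : ↥Q)⁻¹ * (⟨_, hax⟩ * ⟨x, hx⟩), commutator_le_frattini ?_, rfl⟩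
        rw [show ((⟨x, hx⟩ * ⟨_, hax⟩ : ↥Q)⁻¹ * (⟨_, hax⟩ * ⟨x, hx⟩)) =
            ⁅(⟨_, hax⟩ : ↥Q)⁻¹, (⟨x, hx⟩ : ↥Q)⁻¹⁆ by rw [commutatorElement_def]; group,
          _root_.commutator_def]
        exact Subgroup.commutator_mem_commutator (mem_top _) (mem_top _)
      apply Subtype.ext
      simp only [hval, Subgroup.coe_mul, Subgroup.coe_inv]
      rw [← map_mul π, ← map_inv π, ← map_mul π]
      have ep : π x * π (a * x * a⁻¹) * π (a ^ 2 * x * (a ^ 2)⁻¹) = 1 := by
        rw [← map_mul, ← map_mul, ← map_one π]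
        congr 1
        calc x * (a * x * a⁻¹) * (a ^ 2 * x * (a ^ 2)⁻¹)
            = (x * a) ^ 3 * (a ^ 3)⁻¹ := by simp only [pow_succ, pow_zero, one_mul]; group
          _ = 1 := by rw [e1, e2]; group
      have ep2 : π (a ^ 2 * x * (a ^ 2)⁻¹) = (π x * π (a * x * a⁻¹))⁻¹ :=
        eq_inv_of_mul_eq_one_right ep
      have ecube : π (a * x * a⁻¹) ^ 3 = 1 := by rw [← map_pow, e3, map_one]
      set A := π (a * x * a⁻¹) with hA
      set V := π x with hV
      have eL : π a * (A * V⁻¹) * (π a)⁻¹ = π (a ^ 2 * x * (a ^ 2)⁻¹) * A⁻¹ := by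
        rw [hA, hV]
        simp only [map_mul, map_inv, map_pow, pow_two]
        group
      have eA : A⁻¹ * A⁻¹ = A := by
        rw [← mul_inv_rev, inv_eq_iff_mul_eq_one, ← sq, ← pow_succ]
        exact ecube
      rw [map_inv π, eL, ep2, mul_inv_rev, mul_assoc, (hc.inv_inv).eq, ← mul_assoc, eA]
    have h1 := Quad.mk_mem_pCore (p := 3) (by norm_num) hfree (hQp.map π) φ Q hker hq
    rw [pCore_quotient_pCore, mem_bot] at h1
    exact (QuotientGroup.eq_one_iff a).1 h1
  refine pLengthLE_of_quotient_pCore (k := 0) Q hQp (pLengthLE_zero_of_coprime ?_)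
  rw [← index_eq_card]
  refine Nat.Coprime.symm ((Nat.Prime.coprime_iff_not_dvd Nat.prime_three).2 ?_)
  exact fun hd => S.not_dvd_index (hd.trans (index_dvd_of_le hSQ))

end Cfsg.Agent.Solv.ExpSix
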