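import Cfsg.Prelude.Def_Transfer
import Cfsg.Agent.Lib.Struct.CoprimeMinimal
import Cfsg.Agent.Lib.Solv.Basic

/-!
Classification of extraspecial groups by hyperbolic decompositions.
-/

set_option autoImplicit false
set_option linter.style.haveILetI false
set_option linter.unusedSectionVars false

namespace Cfsg.Agent.Solv.ESClass

open Subgroup
open scoped commutatorElement

/-- The data of an extraspecial group. -/
structure ES (p : ℕ) (G : Type*) [Group G] where
  z : G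
  hz : orderOf z = p
  cent : ∀ g : G, z * g = g * z
  comm : ∀ x y : G, ⁅x, y⁆ ∈ zpowers z
  pw : ∀ x : G, x ^ p ∈ zpowers z
  nd : ∀ x : G, (∀ y, x * y = y * x) → x ∈ zpowers z

variable {p : ℕ} [hp : Fact p.Prime] {G : Type*} [Group G] [Finite G]

theorem ES.exists_of (hE : IsExtraspecial p G) : Nonempty (ES p G) := by
  obtain ⟨⟨hP, hfr, hcm⟩, hc⟩ := hE
  obtain ⟨z, hz⟩ := exists_prime_orderOf_dvd_card' (G := center G) p (by rw [hc])
  have htop : ∀ x ∈ center G, x ∈ zpowers (z : G) := by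
    intro x hx
    have h1 : zpowers (z : G) = center G := Subgroup.eq_of_le_of_card_ge (zpowers_le.mpr z.2)
      (by rw [hc, Nat.card_zpowers, Subgroup.orderOf_coe, hz])
    rwa [h1]
  exact ⟨{ z := z, hz := by rw [Subgroup.orderOf_coe, hz]
           cent := fun g => (mem_center_iff.mp z.2 g).symm
           comm := fun x y => htop _ (hcm.le (commutator_mem_commutator (mem_top x) (mem_top y)))
           pw := fun x => htop _ (hfr.le (Cfsg.Agent.Struct.CoprimeMinimal.pow_mem_frattini hP x))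
           nd := fun x h => htop x (mem_center_iff.mpr fun y => (h y).symm) }⟩

section Basic
variable (D : ES p G)
include D

theorem ES.comm_central (x y g : G) : ⁅x, y⁆ * g = g * ⁅x, y⁆ := by
  obtain ⟨k, hk⟩ := mem_zpowers_iff.mp (D.comm x y)
  rw [← hk]
  exact (Commute.zpow_left (D.cent g) k).eq

/-- Commutation with a fixed element. -/
def ES.c (x : G) : G →* G :=
  MonoidHom.mk' (fun y => ⁅x, y⁆) fun a b => by
    calc ⁅x, a * b⁆ = ⁅x, a⁆ * (a * ⁅x, b⁆ * a⁻¹) := by simp only [commutatorElement_def]; group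
      _ = ⁅x, a⁆ * ⁅x, b⁆ := by rw [← D.comm_central x b a, mul_inv_cancel_right]

@[simp] theorem ES.c_apply (x y : G) : D.c x y = ⁅x, y⁆ := rfl

theorem ES.c_pow (x y : G) (n : ℕ) : ⁅x, y ^ n⁆ = ⁅x, y⁆ ^ n := map_pow (D.c x) y n

theorem ES.c_zpow (x y : G) (n : ℤ) : ⁅x, y ^ n⁆ = ⁅x, y⁆ ^ n := map_zpow (D.c x) y n

theorem ES.c_mul (x a b : G) : ⁅x, a * b⁆ = ⁅x, a⁆ * ⁅x, b⁆ := map_mul (D.c x) a b

theorem ES.zpow_p (w : G) (hw : w ∈ zpowers D.z) : w ^ p = 1 := by
  obtain ⟨k, rfl⟩ := mem_zpowers_iff.mp hw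
  have h := pow_orderOf_eq_one D.z
  rw [D.hz] at h
  rw [← zpow_natCast, ← zpow_mul, mul_comm, zpow_mul, zpow_natCast, h, one_zpow]

theorem ES.exists_lt (w : G) (hw : w ∈ zpowers D.z) : ∃ i, i < p ∧ D.z ^ i = w := by
  obtain ⟨k, hk⟩ := mem_powers_iff_mem_zpowers.mpr hw
  refine ⟨k % p, Nat.mod_lt _ hp.out.pos, ?_⟩
  rw [show D.z ^ (k % p) = D.z ^ (k % orderOf D.z) by rw [D.hz], pow_mod_orderOf]
  exact hk

/-- Nondegenerate subgroups. -/
def ES.ND (K : Subgroup G) : Prop :=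
  zpowers D.z ≤ K ∧ ∀ x ∈ K, (∀ y ∈ K, x * y = y * x) → x ∈ zpowers D.z

theorem ES.nd_top : D.ND ⊤ := ⟨le_top, fun x _ h => D.nd x fun y => h y (mem_top y)⟩

/-- The part orthogonal to a pair. -/
def ES.perp (K : Subgroup G) (a b : G) : Subgroup G := K ⊓ (D.c a).ker ⊓ (D.c b).ker

theorem ES.mem_perp {K : Subgroup G} {a b k : G} :
    k ∈ D.perp K a b ↔ k ∈ K ∧ ⁅a, k⁆ = 1 ∧ ⁅b, k⁆ = 1 := by
  simp only [ES.perp, mem_inf, MonoidHom.mem_ker, ES.c_apply, and_assoc]

/-- A hyperbolic pair. -/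
structure ES.Pair (K : Subgroup G) (a b : G) : Prop where
  nd : D.ND K
  ha : a ∈ K
  hb : b ∈ K
  hab : ⁅a, b⁆ = D.z

theorem ES.exists_partner {K : Subgroup G} (hK : D.ND K) {a : G} (ha : a ∈ K)
    (haz : a ∉ zpowers D.z) : ∃ b, D.Pair K a b := by
  obtain ⟨y, hy, hne⟩ : ∃ y ∈ K, a * y ≠ y * a := by
    by_contra! h
    exact haz (hK.2 a ha h)
  have hne' : ⁅a, y⁆ ≠ 1 := fun e => hne (commutatorElement_eq_one_iff_mul_comm.mp e)
  obtain ⟨i, hi, he⟩ := D.exists_lt _ (D.comm a y)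
  have hco : i.Coprime (orderOf D.z) := by
    rw [D.hz]
    refine ((hp.out.coprime_iff_not_dvd).mpr fun hd => hne' ?_).symm
    rw [← he, Nat.eq_zero_of_dvd_of_lt hd hi, pow_zero]
  obtain ⟨m, hm⟩ := exists_pow_eq_self_of_coprime hco
  exact ⟨y ^ m, hK, ha, K.pow_mem hy m, by rw [D.c_pow, ← he, hm]⟩

end Basic

variable {D : ES p G} {K : Subgroup G} {a b : G}

theorem ES.Pair.hba (h : D.Pair K a b) : ⁅b, a⁆ = D.z⁻¹ := by rw [← commutatorElement_inv, h.hab]

theorem ES.Pair.coords (h : D.Pair K a b) (i j : ℕ) {k : G} (hk : k ∈ D.perp K a b) :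
    ⁅a, a ^ i * b ^ j * k⁆ = D.z ^ j ∧ ⁅b, a ^ i * b ^ j * k⁆ = (D.z⁻¹) ^ i := by
  obtain ⟨-, h1, h2⟩ := D.mem_perp.mp hk
  constructor
  · rw [D.c_mul, D.c_mul, D.c_pow, D.c_pow, commutatorElement_self, h.hab, h1, one_pow, one_mul, mul_one]
  · rw [D.c_mul, D.c_mul, D.c_pow, D.c_pow, commutatorElement_self, h.hba, h2, one_pow, mul_one, mul_one]

theorem ES.Pair.decomp (h : D.Pair K a b) {x : G} (hx : x ∈ K) :
    ∃ i j : ℕ, i < p ∧ j < p ∧ ∃ k ∈ D.perp K a b, x = a ^ i * b ^ j * k := by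
  obtain ⟨j, hj, hje⟩ := D.exists_lt _ (D.comm a x)
  obtain ⟨i, hi, hie⟩ := D.exists_lt _ (D.comm x b)
  refine ⟨i, j, hi, hj, (a ^ i * b ^ j)⁻¹ * x, D.mem_perp.mpr ⟨?_, ?_, ?_⟩, (mul_inv_cancel_left _ _).symm⟩
  · exact K.mul_mem (K.inv_mem (K.mul_mem (K.pow_mem h.ha i) (K.pow_mem h.hb j))) hx
  · rw [← D.c_apply, map_mul, map_inv, map_mul, map_pow, map_pow, D.c_apply, D.c_apply, D.c_apply,
      commutatorElement_self, h.hab, one_pow, one_mul, ← hje, inv_mul_cancel]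
  · rw [← D.c_apply, map_mul, map_inv, map_mul, map_pow, map_pow, D.c_apply, D.c_apply, D.c_apply,
      commutatorElement_self, h.hba, one_pow, mul_one, ← commutatorElement_inv x b, ← hie, inv_pow, inv_inv, mul_inv_cancel]

theorem ES.Pair.z_mem_perp (h : D.Pair K a b) : D.z ∈ D.perp K a b :=
  D.mem_perp.mpr ⟨h.nd.1 (mem_zpowers _), commutatorElement_eq_one_iff_mul_comm.mpr (D.cent a).symm,
    commutatorElement_eq_one_iff_mul_comm.mpr (D.cent b).symm⟩

theorem ES.Pair.perp_nd (h : D.Pair K a b) : D.ND (D.perp K a b) := by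
  refine ⟨zpowers_le.mpr h.z_mem_perp, fun x hx hc => ?_⟩
  obtain ⟨hxK, hxa, hxb⟩ := D.mem_perp.mp hx
  refine h.nd.2 x hxK fun y hy => ?_
  obtain ⟨i, j, -, -, k, hk, rfl⟩ := h.decomp hy
  have c1 : Commute x (a ^ i) := ((commutatorElement_eq_one_iff_commute.mp hxa).symm).pow_right i
  have c2 : Commute x (b ^ j) := ((commutatorElement_eq_one_iff_commute.mp hxb).symm).pow_right j
  exact ((c1.mul_right c2).mul_right (hc k hk)).eq

/-- Coordinates with respect to a hyperbolic pair. -/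
noncomputable def ES.Pair.equiv (h : D.Pair K a b) : (Fin p × Fin p) × D.perp K a b ≃ K :=
  Equiv.ofBijective (fun t => ⟨a ^ (t.1.1 : ℕ) * b ^ (t.1.2 : ℕ) * t.2,
      K.mul_mem (K.mul_mem (K.pow_mem h.ha _) (K.pow_mem h.hb _)) (D.mem_perp.mp t.2.2).1⟩)
    ⟨fun s t e => by
      have e' : a ^ (s.1.1 : ℕ) * b ^ (s.1.2 : ℕ) * s.2 = a ^ (t.1.1 : ℕ) * b ^ (t.1.2 : ℕ) * t.2 :=
        congrArg Subtype.val e
      obtain ⟨hs1, hs2⟩ := h.coords s.1.1 s.1.2 s.2.2
      obtain ⟨ht1, ht2⟩ := h.coords t.1.1 t.1.2 t.2.2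
      rw [e'] at hs1 hs2
      have o1 : ∀ u v : ℕ, u < p → v < p → D.z ^ u = D.z ^ v → u = v := fun u v hu hv huv =>
        pow_injOn_Iio_orderOf (by simpa [D.hz] using hu) (by simpa [D.hz] using hv) huv
      have ej : s.1.2 = t.1.2 := Fin.ext (o1 _ _ s.1.2.2 t.1.2.2 (hs1.symm.trans ht1))
      have ei : s.1.1 = t.1.1 := Fin.ext (o1 _ _ s.1.1.2 t.1.1.2 (by
        have := hs2.symm.trans ht2
        rwa [inv_pow, inv_pow, inv_inj] at this))
      rw [ei, ej] at e'
      exact Prod.ext (Prod.ext ei ej) (Subtype.ext (mul_left_cancel e')),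
    fun x => by
      obtain ⟨i, j, hi, hj, k, hk, e⟩ := h.decomp x.2
      exact ⟨((⟨i, hi⟩, ⟨j, hj⟩), ⟨k, hk⟩), Subtype.ext e.symm⟩⟩

theorem ES.Pair.card_eq (h : D.Pair K a b) : Nat.card K = p * p * Nat.card (D.perp K a b) := by
  rw [← Nat.card_congr h.equiv, Nat.card_prod, Nat.card_prod, Nat.card_fin]

theorem ES.Pair.card_lt (h : D.Pair K a b) : Nat.card (D.perp K a b) < Nat.card K := by
  rw [h.card_eq]
  have := hp.out.two_le
  exact lt_mul_of_one_lt_left Nat.card_pos (by nlinarith)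

theorem ES.eq_or_pair (hK : D.ND K) : K = zpowers D.z ∨ ∃ a b, D.Pair K a b := by
  by_cases h : K ≤ zpowers D.z
  · exact Or.inl (le_antisymm h hK.1)
  · obtain ⟨a, ha, ha'⟩ := SetLike.not_le_iff_exists.mp h
    obtain ⟨b, hb⟩ := D.exists_partner hK ha ha'
    exact Or.inr ⟨a, b, hb⟩

/-! ### Abelian subgroups -/

theorem ES.Pair.abelian_step (h : D.Pair K a b) {A : Subgroup G} (hA : A ≤ K) (haA : a ∈ A)
    (hc : ∀ x ∈ A, ∀ y ∈ A, x * y = y * x) :
    Nat.card A ≤ p * Nat.card (A ⊓ D.perp K a b : Subgroup G) := by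
  rw [show p * Nat.card (A ⊓ D.perp K a b : Subgroup G) =
    Nat.card (Fin p × ↥(A ⊓ D.perp K a b)) by rw [Nat.card_prod, Nat.card_fin]]
  refine Nat.card_le_card_of_surjective (fun t : Fin p × ↥(A ⊓ D.perp K a b) =>
    (⟨a ^ (t.1 : ℕ) * t.2, A.mul_mem (A.pow_mem haA _) t.2.2.1⟩ : A)) fun x => ?_
  obtain ⟨i, j, hi, hj, k, hk, e⟩ := h.decomp (hA x.2)
  have h1 : D.z ^ j = 1 := by
    rw [← (h.coords i j hk).1, ← e]
    exact commutatorElement_eq_one_iff_mul_comm.mpr (hc a haA x x.2)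
  have hj0 : j = 0 := pow_injOn_Iio_orderOf (x := D.z) (by simpa [D.hz] using hj) (by simp [D.hz, hp.out.pos])
    (by simpa using h1)
  subst hj0
  rw [pow_zero, mul_one] at e
  have hkA : k ∈ A := by
    have := A.mul_mem (A.inv_mem (A.pow_mem haA i)) x.2
    rwa [e, inv_mul_cancel_left] at this
  exact ⟨(⟨i, hi⟩, ⟨k, hkA, hk⟩), Subtype.ext e.symm⟩

theorem ES.abelian_le : ∀ (m : ℕ) (K : Subgroup G), D.ND K → Nat.card K = p ^ (2 * m + 1) →
    ∀ A : Subgroup G, A ≤ K → (∀ x ∈ A, ∀ y ∈ A, x * y = y * x) → Nat.card A ≤ p ^ (m + 1) := by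
  intro m
  induction m with
  | zero =>
    intro K _ hcard A hA _
    have := Subgroup.card_le_of_le hA
    simpa [hcard] using this
  | succ m ih =>
    intro K hK hcard A hA hc
    by_cases hAz : A ≤ zpowers D.z
    · have := Subgroup.card_le_of_le hAz
      rw [Nat.card_zpowers, D.hz] at this
      exact this.trans (Nat.le_self_pow (by omega) p)
    obtain ⟨a, ha, haz⟩ := SetLike.not_le_iff_exists.mp hAz
    obtain ⟨b, hb⟩ := D.exists_partner hK (hA ha) haz
    have h2 : Nat.card (D.perp K a b) = p ^ (2 * m + 1) := by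
      have := hb.card_eq
      rw [hcard, show 2 * (m + 1) + 1 = 2 + (2 * m + 1) by ring, pow_add, sq] at this
      exact (Nat.eq_of_mul_eq_mul_left (mul_pos hp.out.pos hp.out.pos) this).symm
    calc Nat.card A ≤ p * Nat.card (A ⊓ D.perp K a b : Subgroup G) := hb.abelian_step hA ha hc
      _ ≤ p * p ^ (m + 1) := Nat.mul_le_mul_left p (ih _ hb.perp_nd h2 _ inf_le_right
          fun x hx y hy => hc x hx.1 y hy.1)
      _ = p ^ (m + 1 + 1) := by rw [pow_succ' p (m + 1)]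

/-! ### Isomorphisms -/

variable {G' : Type*} [Group G'] [Finite G'] {D' : ES p G'}

/-- `R` is the graph of an isomorphism between `K` and `K'`. -/
structure Graph (D : ES p G) (D' : ES p G') (K : Subgroup G) (K' : Subgroup G') (R : Subgroup (G × G')) : Prop where
  sub : ∀ x ∈ R, x.1 ∈ K ∧ x.2 ∈ K'
  left : ∀ x ∈ K, ∃ y, (x, y) ∈ R
  right : ∀ y ∈ K', ∃ x, (x, y) ∈ R
  card : Nat.card R ≤ Nat.card K
  zmem : (D.z, D'.z) ∈ R

theorem card_adjoin {H : Subgroup (G × G')} {A : G × G'} (hA : A ∈ normalizer (H : Set (G × G')))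
    (hAp : A ^ p ∈ H) : Nat.card (H ⊔ zpowers A : Subgroup (G × G')) ≤ p * Nat.card H := by
  have h1 := Cfsg.Agent.Solv.card_sup_mul_card_inf H (zpowers A) (zpowers_le.mpr hA)
  have h2 : orderOf A ≤ p * orderOf (A ^ p) := Nat.le_of_dvd
    (mul_pos hp.out.pos (orderOf_pos _)) (orderOf_dvd_of_pow_eq_one (by rw [pow_mul, pow_orderOf_eq_one]))
  have h3 : orderOf (A ^ p) ≤ Nat.card (H ⊓ zpowers A : Subgroup (G × G')) := by
    rw [← Nat.card_zpowers]
    exact Subgroup.card_le_of_le (le_inf (zpowers_le.mpr hAp) (zpowers_le.mpr (pow_mem (mem_zpowers A) p)))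
  refine Nat.le_of_mul_le_mul_right ?_ (Nat.card_pos (α := (H ⊓ zpowers A : Subgroup (G × G'))))
  rw [h1, Nat.card_zpowers]
  calc Nat.card H * orderOf A ≤ Nat.card H * (p * Nat.card (H ⊓ zpowers A : Subgroup (G × G'))) :=
        Nat.mul_le_mul_left _ (h2.trans (Nat.mul_le_mul_left p h3))
    _ = _ := by ring

theorem graph_base : Graph D D' (zpowers D.z) (zpowers D'.z) (zpowers (D.z, D'.z)) where
  sub x hx := by
    obtain ⟨k, rfl⟩ := mem_zpowers_iff.mp hx
    exact ⟨⟨k, rfl⟩, ⟨k, rfl⟩⟩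
  left x hx := by
    obtain ⟨k, rfl⟩ := mem_zpowers_iff.mp hx
    exact ⟨D'.z ^ k, k, rfl⟩
  right y hy := by
    obtain ⟨k, rfl⟩ := mem_zpowers_iff.mp hy
    exact ⟨D.z ^ k, k, rfl⟩
  card := by
    rw [Nat.card_zpowers, Nat.card_zpowers, Prod.orderOf, D.hz, D'.hz, Nat.lcm_self]
  zmem := mem_zpowers _

theorem graph_step {K' : Subgroup G'} {a' b' : G'} (h : D.Pair K a b) (h' : D'.Pair K' a' b')
    {α β : ℕ} (ha : a ^ p = D.z ^ α) (ha' : a' ^ p = D'.z ^ α) (hb : b ^ p = D.z ^ β)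
    (hb' : b' ^ p = D'.z ^ β) {R : Subgroup (G × G')}
    (hR : Graph D D' (D.perp K a b) (D'.perp K' a' b') R) :
    ∃ S, Graph D D' K K' S := by
  have hz : ∀ n : ℕ, (D.z ^ n, D'.z ^ n) ∈ R := fun n => R.pow_mem hR.zmem n
  have hA : ∀ t : G × G', (t = (a, a') ∨ t = (b, b')) → t ∈ normalizer (R : Set (G × G')) := by
    intro t ht
    have key : ∀ r ∈ R, t * r = r * t := by
      intro r hr
      obtain ⟨h1, h2⟩ := hR.sub r hr
      obtain ⟨-, p1, q1⟩ := D.mem_perp.mp h1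
      obtain ⟨-, p2, q2⟩ := D'.mem_perp.mp h2
      rcases ht with rfl | rfl
      · exact Prod.ext (commutatorElement_eq_one_iff_mul_comm.mp p1) (commutatorElement_eq_one_iff_mul_comm.mp p2)
      · exact Prod.ext (commutatorElement_eq_one_iff_mul_comm.mp q1) (commutatorElement_eq_one_iff_mul_comm.mp q2)
    rw [mem_normalizer_iff]
    intro r
    refine ⟨fun hr => by rwa [key r hr, mul_inv_cancel_right], fun hr => ?_⟩
    have h9 := key _ hr
    rw [show t * (t * r * t⁻¹) = t * r * t⁻¹ * t ↔ t * r * t⁻¹ = r by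
      rw [inv_mul_cancel_right, mul_right_inj]] at h9
    rwa [h9] at hr
  set S1 := R ⊔ zpowers ((a, a') : G × G') with hS1
  have hc1 : Nat.card S1 ≤ p * Nat.card R := card_adjoin (hA _ (Or.inl rfl))
    (by rw [show ((a, a') : G × G') ^ p = (a ^ p, a' ^ p) from rfl, ha, ha']; exact hz α)
  have hB : ((b, b') : G × G') ∈ normalizer (S1 : Set (G × G')) := by
    have hBA : ((b, b') : G × G') * (a, a') * (b, b')⁻¹ = (D.z, D'.z)⁻¹ * (a, a') := by
      refine Prod.ext ?_ ?_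
      · show b * a * b⁻¹ = D.z⁻¹ * a
        rw [← h.hba, commutatorElement_def, inv_mul_cancel_right]
      · show b' * a' * b'⁻¹ = D'.z⁻¹ * a'
        rw [← h'.hba, commutatorElement_def, inv_mul_cancel_right]
    have hzc : ∀ x : G × G', (D.z, D'.z) * x = x * (D.z, D'.z) := fun x =>
      Prod.ext (D.cent x.1) (D'.cent x.2)
    have hnR := mem_normalizer_iff.mp (hA _ (Or.inr rfl))
    rw [mem_normalizer_iff_map_conj_eq]
    refine Subgroup.eq_of_le_of_card_ge ?_ (card_map_of_injective (MulAut.conj ((b, b') : G × G')).injective).ge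
    rw [hS1, Subgroup.map_sup]
    refine sup_le ?_ ?_
    · rintro _ ⟨r, hr, rfl⟩
      exact mem_sup_left ((hnR r).mp hr)
    · rw [MonoidHom.map_zpowers, zpowers_le]
      show ((b, b') : G × G') * (a, a') * (b, b')⁻¹ ∈ _
      rw [hBA]
      exact mul_mem (mem_sup_left (inv_mem hR.zmem)) (mem_sup_right (mem_zpowers _))
  refine ⟨S1 ⊔ zpowers ((b, b') : G × G'), ?_, ?_, ?_, ?_, mem_sup_left (mem_sup_left hR.zmem)⟩
  · have hle : S1 ⊔ zpowers ((b, b') : G × G') ≤ K.prod K' := by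
      refine sup_le (sup_le (fun r hr => ?_) (zpowers_le.mpr ⟨h.ha, h'.ha⟩)) (zpowers_le.mpr ⟨h.hb, h'.hb⟩)
      exact ⟨(D.mem_perp.mp (hR.sub r hr).1).1, (D'.mem_perp.mp (hR.sub r hr).2).1⟩
    exact fun x hx => hle hx
  · intro x hx
    obtain ⟨i, j, -, -, k, hk, rfl⟩ := h.decomp hx
    obtain ⟨k', hk'⟩ := hR.left k hk
    exact ⟨a' ^ i * b' ^ j * k', mul_mem (mul_mem (mem_sup_left (mem_sup_right (pow_mem (mem_zpowers ((a, a') : G × G')) i)))
      (mem_sup_right (pow_mem (mem_zpowers ((b, b') : G × G')) j))) (mem_sup_left (mem_sup_left hk'))⟩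
  · intro y hy
    obtain ⟨i, j, -, -, k', hk', rfl⟩ := h'.decomp hy
    obtain ⟨k, hk⟩ := hR.right k' hk'
    exact ⟨a ^ i * b ^ j * k, mul_mem (mul_mem (mem_sup_left (mem_sup_right (pow_mem (mem_zpowers ((a, a') : G × G')) i)))
      (mem_sup_right (pow_mem (mem_zpowers ((b, b') : G × G')) j))) (mem_sup_left (mem_sup_left hk))⟩
  · calc Nat.card (S1 ⊔ zpowers ((b, b') : G × G') : Subgroup (G × G'))
          ≤ p * Nat.card S1 := card_adjoin hB (by
            rw [show ((b, b') : G × G') ^ p = (b ^ p, b' ^ p) from rfl, hb, hb']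
            exact mem_sup_left (hz β))
      _ ≤ p * (p * Nat.card (D.perp K a b)) :=
          Nat.mul_le_mul_left p (hc1.trans (Nat.mul_le_mul_left p hR.card))
      _ = Nat.card K := by rw [h.card_eq, mul_assoc]

theorem iso_of_graph {R : Subgroup (G × G')} (hR : Graph D D' ⊤ ⊤ R) (hc : Nat.card G = Nat.card G') :
    Nonempty (G ≃* G') := by
  have hle : Nat.card R ≤ Nat.card G := by simpa using hR.card
  let f : R →* G := (MonoidHom.fst G G').comp R.subtype
  let g : R →* G' := (MonoidHom.snd G G').comp R.subtype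
  have hf : Function.Surjective f := fun x => by
    obtain ⟨y, hy⟩ := hR.left x (mem_top x); exact ⟨⟨(x, y), hy⟩, rfl⟩
  have hg : Function.Surjective g := fun y => by
    obtain ⟨x, hx⟩ := hR.right y (mem_top y); exact ⟨⟨(x, y), hx⟩, rfl⟩
  have h1 : Function.Bijective f := (Nat.bijective_iff_surjective_and_card f).mpr
    ⟨hf, le_antisymm hle (Nat.card_le_card_of_surjective f hf)⟩
  have h2 : Function.Bijective g := (Nat.bijective_iff_surjective_and_card g).mpr
    ⟨hg, le_antisymm (hc ▸ hle) (Nat.card_le_card_of_surjective g hg)⟩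
  exact ⟨(MulEquiv.ofBijective f h1).symm.trans (MulEquiv.ofBijective g h2)⟩

theorem graph_exponent : ∀ (n : ℕ) (K : Subgroup G) (K' : Subgroup G'), Nat.card K ≤ n →
    Nat.card K = Nat.card K' → D.ND K → D'.ND K' → (∀ x : G, x ^ p = 1) → (∀ x : G', x ^ p = 1) →
    ∃ R, Graph D D' K K' R := by
  intro n
  induction n with
  | zero => intro K K' hn; exact absurd hn (not_le.mpr Nat.card_pos)
  | succ n ih =>
    intro K K' hn hc hK hK' he he'
    rcases D.eq_or_pair hK with rfl | ⟨a, b, h⟩ <;> rcases D'.eq_or_pair hK' with rfl | ⟨a', b', h'⟩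
    · exact ⟨_, graph_base⟩
    · exfalso
      have := h'.card_lt
      have h2 := Subgroup.card_le_of_le h'.perp_nd.1
      rw [Nat.card_zpowers, D'.hz] at h2
      rw [Nat.card_zpowers, D.hz] at hc
      omega
    · exfalso
      have := h.card_lt
      have h2 := Subgroup.card_le_of_le h.perp_nd.1
      rw [Nat.card_zpowers, D.hz] at h2
      rw [Nat.card_zpowers, D'.hz] at hc
      omega
    · have := h.card_lt
      have hc' : Nat.card (D.perp K a b) = Nat.card (D'.perp K' a' b') := by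
        rw [h.card_eq, h'.card_eq] at hc
        exact Nat.eq_of_mul_eq_mul_left (mul_pos hp.out.pos hp.out.pos) hc
      obtain ⟨R, hR⟩ := ih _ _ (by omega) hc' h.perp_nd h'.perp_nd he he'
      exact graph_step h h' (α := 0) (β := 0) (by rw [he, pow_zero]) (by rw [he', pow_zero])
        (by rw [he, pow_zero]) (by rw [he', pow_zero]) hR

end Cfsg.Agent.Solv.ESClass
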