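import Cfsg.Agent.Lib.Solv.ExtraspecialTwo
import Cfsg.Agent.S0095
import Cfsg.Agent.Lib.Solv.Misc

/-!
`p`-groups with an extraspecial subgroup of index `p`.
-/

set_option autoImplicit false
set_option linter.style.haveILetI false

namespace Cfsg.Agent.Solv.ESClass.IndexP

open Subgroup Cfsg.Agent.Solv
open scoped commutatorElement

variable {S : Type*} [Group S] [Finite S] {p : ℕ} [Fact p.Prime]

theorem card_center (hS : IsPGroup p S) (Q : Subgroup S) (hQ : IsExtraspecial p Q) (hQi : Q.index = p) :
    Q.Normal ∧ Nat.card ((center Q).map Q.subtype : Subgroup S) = p ∧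
      (center Q).map Q.subtype ≤ center S := by
  haveI := hS.isNilpotent
  have hco : IsCoatom Q := by
    refine ⟨fun e => by rw [e, index_top] at hQi; exact (Fact.out : p.Prime).one_lt.ne hQi, fun B hB => ?_⟩
    have h1 := Subgroup.relIndex_mul_index hB.le
    rw [hQi] at h1
    rcases (Nat.dvd_prime (Fact.out : p.Prime)).mp (Dvd.intro_left _ h1) with h2 | h2
    · exact index_eq_one.mp h2
    · rw [h2] at h1
      exact absurd (relIndex_eq_one.mp (Nat.eq_of_mul_eq_mul_right (Fact.out : p.Prime).pos (h1.trans (one_mul p).symm))) hB.not_ge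
  have hQn : Q.Normal := coatom_normal_of_isNilpotent inferInstance Q hco
  have hc : Nat.card ((center Q).map Q.subtype : Subgroup S) = p := by
    rw [card_map_subtype]; exact hQ.2
  refine ⟨hQn, hc, ?_⟩
  haveI : ((center Q).map Q.subtype).Normal := by
    haveI := hQn
    infer_instance
  have h := inf_center_ne_bot (G := S) ((center Q).map Q.subtype) (fun e => by
    rw [e, card_bot] at hc; exact (Fact.out : p.Prime).one_lt.ne hc)
  have hle := card_dvd_of_le (inf_le_left : (center Q).map Q.subtype ⊓ center S ≤ (center Q).map Q.subtype)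
  rw [hc] at hle
  rcases (Nat.dvd_prime (Fact.out : p.Prime)).mp hle with h1 | h1
  · exact absurd (card_eq_one.mp h1) h
  · exact inf_eq_left.mp (eq_of_le_of_card_ge inf_le_left (by rw [hc, h1]))

theorem center_dichotomy (hS : IsPGroup p S) (Q : Subgroup S) (hQ : IsExtraspecial p Q) (hQi : Q.index = p) :
    center S = (center Q).map Q.subtype ∨ (Q ⊔ center S = ⊤ ∧ Nat.card (center S) = p ^ 2) := by
  obtain ⟨hQn, hc, hle⟩ := card_center hS Q hQ hQi
  have hinf : center S ⊓ Q = (center Q).map Q.subtype := by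
    refine le_antisymm (fun x hx => ⟨⟨x, hx.2⟩, mem_center_iff.mpr fun y => Subtype.ext (mem_center_iff.mp hx.1 y), rfl⟩)
      (le_inf hle (map_subtype_le _))
  by_cases h : center S ≤ Q
  · left; rw [← hinf, inf_eq_left.mpr h]
  right
  have htop : Q ⊔ center S = ⊤ := by
    have h1 := Subgroup.relIndex_mul_index (le_sup_left : Q ≤ Q ⊔ center S)
    rw [hQi] at h1
    rcases (Nat.dvd_prime (Fact.out : p.Prime)).mp (Dvd.intro_left _ h1) with h2 | h2
    · exact index_eq_one.mp h2
    · rw [h2] at h1
      exact absurd (le_sup_right.trans (relIndex_eq_one.mp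
        (Nat.eq_of_mul_eq_mul_right (Fact.out : p.Prime).pos (h1.trans (one_mul p).symm)))) h
  refine ⟨htop, ?_⟩
  have h3 := card_sup_mul_card_inf Q (center S) (by haveI := hQn; rw [normalizer_eq_top]; exact le_top)
  rw [htop, card_top, inf_comm, hinf, hc, ← Q.card_mul_index, hQi, mul_assoc] at h3
  rw [pow_two]
  exact (Nat.eq_of_mul_eq_mul_left Nat.card_pos h3).symm

theorem order_derived_exponent (hS : IsPGroup p S) (Q : Subgroup S) (hQ : IsExtraspecial p Q) (hQi : Q.index = p) :
    (∃ n : ℕ, 1 ≤ n ∧ Nat.card Q = p ^ (2 * n + 1) ∧ Nat.card S = p ^ (2 + 2 * n)) ∧ derivedSeries S 3 = ⊥ ∧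
      ∀ x : S, x ^ (p ^ 3) = 1 := by
  obtain ⟨hQn, hc, -⟩ := card_center hS Q hQ hQi
  refine ⟨?_, ?_, fun x => ?_⟩
  · obtain ⟨n, hn1, hn⟩ := Cfsg.Agent.S0095.result hQ
    exact ⟨n, hn1, hn, by rw [← Q.card_mul_index, hQi, hn]; ring⟩
  · haveI := hQn
    have h1 : derivedSeries S 1 ≤ Q := by
      rw [derivedSeries_one]
      haveI : IsCyclic (S ⧸ Q) := isCyclic_of_prime_card (p := p) (by rw [← index_eq_card, hQi])
      letI := IsCyclic.commGroup (α := S ⧸ Q)
      have := Abelianization.commutator_subset_ker (QuotientGroup.mk' Q)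
      rwa [QuotientGroup.ker_mk'] at this
    have h2 : derivedSeries S 2 ≤ (center Q).map Q.subtype := by
      rw [derivedSeries_succ]
      refine (commutator_mono h1 h1).trans ?_
      rw [← hQ.1.2.2, map_commutator_eq, Q.range_subtype]
    rw [derivedSeries_succ, eq_bot_iff]
    refine (commutator_mono h2 h2).trans ?_
    rw [commutator_le]
    rintro _ ⟨a, ha, rfl⟩ _ ⟨b, -, rfl⟩
    rw [mem_bot, ← map_commutatorElement, commutatorElement_eq_one_iff_mul_comm.mpr (mem_center_iff.mp ha b).symm, map_one]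
  · haveI := hQn
    obtain ⟨D⟩ := ES.exists_of hQ
    have hx : x ^ p ∈ Q := hQi ▸ pow_index_mem Q x
    have h2 := D.zpow_p _ (D.pw ⟨_, hx⟩)
    have h3 := congrArg Subtype.val h2
    simp only [SubmonoidClass.coe_pow, OneMemClass.coe_one] at h3
    rwa [← pow_mul, ← pow_mul, ← mul_assoc, show p * p * p = p ^ 3 by ring] at h3

theorem abelian_index_iff (hS : IsPGroup p S) (Q : Subgroup S) (hQ : IsExtraspecial p Q) (hQi : Q.index = p) :
    (∃ A : Subgroup S, IsMulCommutative A ∧ A.index = p) ↔ Nat.card S = p ^ 4 := by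
  obtain ⟨⟨n, hn1, hQc, hSc⟩, -, -⟩ := order_derived_exponent hS Q hQ hQi
  obtain ⟨hQn, hZc, hZle⟩ := card_center hS Q hQ hQi
  have hp := (Fact.out : p.Prime)
  obtain ⟨D⟩ := ES.exists_of hQ
  constructor
  · rintro ⟨A, hA, hAi⟩
    have h1 := ES.abelian_le (D := D) n ⊤ D.nd_top (by simpa using hQc) (A.subgroupOf Q) le_top
      fun x hx y hy => Subtype.ext (congrArg Subtype.val (hA.is_comm.comm ⟨(x : S), hx⟩ ⟨(y : S), hy⟩) :)
    have h2 : A.relIndex Q ≤ p := by
      rw [← hAi, ← relIndex_top_right (H := A)]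
      exact Nat.le_of_dvd (Nat.pos_of_ne_zero index_ne_zero_of_finite) (by
        haveI : A.Normal := by
          haveI := hS.isNilpotent
          refine coatom_normal_of_isNilpotent inferInstance A ⟨fun e => by
            rw [e, index_top] at hAi; exact hp.one_lt.ne hAi, fun B hB => ?_⟩
          have h1 := Subgroup.relIndex_mul_index hB.le
          rw [hAi] at h1
          rcases (Nat.dvd_prime hp).mp (Dvd.intro_left _ h1) with h2 | h2
          · exact index_eq_one.mp h2
          · rw [h2] at h1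
            exact absurd (relIndex_eq_one.mp (Nat.eq_of_mul_eq_mul_right hp.pos (h1.trans (one_mul p).symm))) hB.not_ge
        rw [relIndex_top_right]
        exact relIndex_dvd_index_of_normal A Q)
    have h3 := (A.subgroupOf Q).card_mul_index
    rw [hQc] at h3
    have h4 : p ^ (2 * n + 1) ≤ p ^ (n + 2) := by
      rw [← h3, pow_succ p (n + 1)]
      exact Nat.mul_le_mul h1 h2
    have h5 := (Nat.pow_le_pow_iff_right hp.one_lt).mp h4
    obtain rfl : n = 1 := by omega
    rw [hSc]
  · intro h4
    obtain rfl : n = 1 := by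
      have := Nat.pow_right_injective hp.two_le (hSc.symm.trans h4)
      omega
    haveI := hS.isNilpotent
    haveI := hQn
    set Z := (center Q).map Q.subtype with hZdef
    haveI : Z.Normal := by rw [hZdef]; infer_instance
    let π := QuotientGroup.mk' Z
    haveI : (Q.map π).Normal := Subgroup.Normal.map hQn π (QuotientGroup.mk'_surjective Z)
    haveI : Group.IsNilpotent (S ⧸ Z) := Group.nilpotent_of_surjective π (QuotientGroup.mk'_surjective Z)
    have hne : Q.map π ≠ ⊥ := fun e => by
      have h := Subgroup.card_le_of_le ((map_eq_bot_iff Q).mp e)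
      rw [QuotientGroup.ker_mk', hQc, hZc] at h
      exact absurd h (not_le.mpr (lt_self_pow₀ hp.one_lt (by omega)))
    obtain ⟨_, ⟨⟨u, hu, rfl⟩, hucen⟩, hu1⟩ := SetLike.exists_of_lt
      (bot_lt_iff_ne_bot.mpr (inf_center_ne_bot (G := S ⧸ Z) (Q.map π) hne))
    have huZ : u ∉ Z := fun h => hu1 (mem_bot.mpr ((QuotientGroup.eq_one_iff u).mpr h))
    have hcs : ∀ s : S, ⁅s, u⁆ ∈ Z := fun s => by
      rw [← QuotientGroup.eq_one_iff]
      show π (⁅s, u⁆ : S) = 1
      rw [map_commutatorElement]
      exact commutatorElement_eq_one_iff_mul_comm.mpr (mem_center_iff.mp hucen _)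
    let φ : S →* Z := MonoidHom.mk' (fun s => ⟨⁅s, u⁆, hcs s⟩) fun a b => Subtype.ext (by
      have hc := mem_center_iff.mp (hZle (hcs b)) a
      show ⁅a * b, u⁆ = ⁅a, u⁆ * ⁅b, u⁆
      rw [show ⁅a * b, u⁆ = a * ⁅b, u⁆ * a⁻¹ * ⁅a, u⁆ by simp only [commutatorElement_def]; group,
        hc, mul_inv_cancel_right]
      exact mem_center_iff.mp (hZle (hcs a)) _)
    have hker : φ.ker = centralizer ({u} : Set S) := by
      ext s
      rw [MonoidHom.mem_ker, mem_centralizer_singleton_iff]
      exact ⟨fun h => commutatorElement_eq_one_iff_mul_comm.mp (congrArg Subtype.val h),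
        fun h => Subtype.ext (commutatorElement_eq_one_iff_mul_comm.mpr h)⟩
    set C := centralizer ({u} : Set S)
    have hCi : C.index ∣ p := by
      rw [← hker, index_ker, ← hZc]
      exact card_subgroup_dvd_card _
    have hCp : C.index = p := by
      refine ((Nat.dvd_prime hp).mp hCi).resolve_left fun h => huZ ?_
      refine ⟨⟨u, hu⟩, mem_center_iff.mpr fun y => Subtype.ext ?_, rfl⟩
      have : (y : S) ∈ C := by rw [index_eq_one.mp h]; trivial
      exact mem_centralizer_singleton_iff.mp this
    refine ⟨C, ?_, hCp⟩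
    have hCc : Nat.card C = p ^ 3 := by
      have := C.card_mul_index
      rw [hCp, h4, pow_succ] at this
      exact Nat.eq_of_mul_eq_mul_right hp.pos this
    have hU : Z.subgroupOf C ⊔ zpowers (⟨u, mem_centralizer_singleton_iff.mpr rfl⟩ : C) ≤ center C := by
      refine sup_le (fun z hz => mem_center_iff.mpr fun y => Subtype.ext (mem_center_iff.mp (hZle hz) y))
        (zpowers_le.mpr (mem_center_iff.mpr fun y => Subtype.ext (mem_centralizer_singleton_iff.mp y.2)))
    have hZC : Z ≤ C := fun z hz => mem_centralizer_singleton_iff.mpr ((mem_center_iff.mp (hZle hz) u).symm)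
    set U := Z.subgroupOf C ⊔ zpowers (⟨u, mem_centralizer_singleton_iff.mpr rfl⟩ : C)
    obtain ⟨i, -, hi⟩ := (Nat.dvd_prime_pow hp).mp (hCc ▸ card_subgroup_dvd_card (center C))
    have hi2 : p ^ 2 ≤ p ^ i := by
      have hlt : Nat.card (Z.subgroupOf C) < Nat.card U :=
        lt_of_le_of_ne (Subgroup.card_le_of_le le_sup_left) fun e => huZ (mem_subgroupOf.mp
          ((eq_of_le_of_card_ge le_sup_left e.ge).ge (mem_sup_right (mem_zpowers _))))
      obtain ⟨j, -, hj⟩ := (Nat.dvd_prime_pow hp).mp (hCc ▸ card_subgroup_dvd_card U)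
      rw [card_subgroupOf hZC, hZc, hj] at hlt
      have hj2 : 2 ≤ j := by
        by_contra hlt2
        have : p ^ j ≤ p ^ 1 := Nat.pow_le_pow_right hp.pos (by omega)
        rw [pow_one] at this
        omega
      exact (Nat.pow_le_pow_right hp.pos hj2).trans (hi ▸ hj ▸ Subgroup.card_le_of_le hU)
    have hi' := (Nat.pow_le_pow_iff_right hp.one_lt).mp hi2
    haveI : IsCyclic (C ⧸ center C) := by
      have h5 := (center C).card_mul_index
      rw [hi, hCc] at h5
      rcases (Nat.dvd_prime hp).mp (show (center C).index ∣ p by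
        have h6 : p ^ i * (center C).index ∣ p ^ i * p := by
          rw [h5, ← pow_succ]; exact pow_dvd_pow p (by omega)
        exact Nat.dvd_of_mul_dvd_mul_left (pow_pos hp.pos _) h6) with h6 | h6
      · haveI : Subsingleton (C ⧸ center C) := by
          rw [index_eq_card] at h6; exact (Nat.card_eq_one_iff_unique.mp h6).1
        infer_instance
      · exact isCyclic_of_prime_card (p := p) ((index_eq_card _).symm.trans h6)
    letI := commGroupOfCyclicCenterQuotient (QuotientGroup.mk' (center C)) (by simp)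
    exact ⟨⟨fun a b => mul_comm a b⟩⟩

end Cfsg.Agent.Solv.ESClass.IndexP
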