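import Cfsg.Prelude.Def_FischerSpaces

/-!
The line maps of a Fischer space.
-/

set_option autoImplicit false

namespace Cfsg.Agent.Solv.FischerMaps

open Cfsg LineSystem

variable {X : Type*} {L : Set (Set X)}

theorem triple_eq {l : Set X} (hl : l.ncard = 3) {a b c : X} (ha : a ∈ l) (hb : b ∈ l) (hc : c ∈ l)
    (hab : a ≠ b) (hac : a ≠ c) (hbc : b ≠ c) : ({a, b, c} : Set X) = l := by
  refine Set.eq_of_subset_of_ncard_le ?_ ?_ (Set.finite_of_ncard_ne_zero (by omega))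
  · rintro u (rfl | rfl | rfl) <;> assumption
  · rw [hl, Set.ncard_eq_three.mpr ⟨a, b, c, hab, hac, hbc, rfl⟩]

variable (hP : IsPartialLinear L) (h3 : ∀ l ∈ L, l.ncard = 3)

include hP h3

theorem lineMap_line {x y z : X} {l : Set X} (hl : l ∈ L) (hx : x ∈ l) (hy : y ∈ l) (hz : z ∈ l)
    (hxy : x ≠ y) (hzx : z ≠ x) (hzy : z ≠ y) : lineMap L x y = z := by
  have e := triple_eq (h3 l hl) hx hy hz hxy hzx.symm hzy.symm
  have hex : ∃ z : X, z ≠ x ∧ z ≠ y ∧ x ≠ y ∧ ({x, y, z} : Set X) ∈ L := ⟨z, hzx, hzy, hxy, e ▸ hl⟩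
  rw [lineMap, dif_pos hex]
  obtain ⟨c1, c2, -, c4⟩ := hex.choose_spec
  have hm := hP _ c4 l hl x y hxy (by simp) (by simp) hx hy
  have : hex.choose ∈ ({x, y, z} : Set X) := by
    rw [e, ← hm]; simp
  rcases this with h | h | h
  exacts [absurd h c1, absurd h c2, h]

omit hP h3 in
theorem lineMap_fix {x y : X} (h : ∀ l ∈ L, x ∈ l → y ∈ l → x = y) : lineMap L x y = y := by
  rw [lineMap, dif_neg]
  rintro ⟨z, -, -, hxy, hl⟩
  exact hxy (h _ hl (by simp) (by simp))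

/-- The two cases for a pair of points. -/
theorem lineMap_cases (x y : X) :
    (lineMap L x y = y ∧ ∀ l ∈ L, x ∈ l → y ∈ l → x = y) ∨
      ∃ l ∈ L, x ∈ l ∧ y ∈ l ∧ lineMap L x y ∈ l ∧ x ≠ y ∧ lineMap L x y ≠ x ∧ lineMap L x y ≠ y := by
  by_cases h : ∀ l ∈ L, x ∈ l → y ∈ l → x = y
  · exact Or.inl ⟨lineMap_fix h, h⟩
  · push Not at h
    obtain ⟨l, hl, hx, hy, hxy⟩ := h
    have : ∃ z ∈ l, z ≠ x ∧ z ≠ y := by
      by_contra hn
      push Not at hn
      have hsub : l ⊆ {x, y} := fun z hz => (em (z = x)).elim Or.inl fun h => Or.inr (hn z hz h)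
      have h2 := Set.ncard_le_ncard hsub ((Set.finite_singleton y).insert x)
      rw [h3 l hl, Set.ncard_pair hxy] at h2
      omega
    obtain ⟨z, hz, hzx, hzy⟩ := this
    have e := lineMap_line hP h3 hl hx hy hz hxy hzx hzy
    exact Or.inr ⟨_, hl, hx, hy, by rw [e]; exact hz, hxy, by rw [e]; exact hzx, by rw [e]; exact hzy⟩

theorem lineMap_invol (x y : X) : lineMap L x (lineMap L x y) = y := by
  rcases lineMap_cases hP h3 x y with ⟨e, -⟩ | ⟨l, hl, hx, hy, hz, hxy, hzx, hzy⟩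
  · rw [e, e]
  · exact lineMap_line hP h3 hl hx hz hy hzx.symm hxy.symm hzy.symm

omit hP h3 in
theorem span_subspace (S : Set X) : IsSubspace L (span L S) := fun l hl x hx y hy hne hxl hyl =>
  Set.subset_sInter fun T hT => hT.2 l hl x (hx T hT) y (hy T hT) hne hxl hyl

omit hP h3 in
theorem subset_span (S : Set X) : S ⊆ span L S := Set.subset_sInter fun _ hT => hT.1

/-- Transport of the line map to a model of a plane. -/
theorem image_mem_of_model {P : Set X} (hPs : IsSubspace L P) {Y : Type*} (M : Set (Set Y)) (τ : Y → Y → Y)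
    (hiso : Isomorphic (restrict L P) M)
    (hτ : ∀ p q : Y, (τ p q = q ∧ ∀ N ∈ M, p ∈ N → q ∈ N → p = q) ∨
      ∃ N ∈ M, p ∈ N ∧ q ∈ N ∧ τ p q ∈ N ∧ p ≠ q ∧ τ p q ≠ p ∧ τ p q ≠ q)
    (haut : ∀ p : Y, ∀ N ∈ M, τ p '' N ∈ M) {x : X} (hx : x ∈ P) {l : Set X} (hl : l ∈ L) (hlP : l ⊆ P) :
    lineMap L x '' l ∈ L := by
  obtain ⟨e, he⟩ := hiso
  have hkey : ∀ s : P, lineMap L x (s : X) = (e.symm (τ (e ⟨x, hx⟩) (e s)) : X) := by
    intro s
    rcases hτ (e ⟨x, hx⟩) (e s) with ⟨h1, h2⟩ | ⟨N, hN, hpN, hqN, hrN, hpq, hrp, hrq⟩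
    · rw [h1, e.symm_apply_apply]
      refine lineMap_fix fun m hm hxm hsm => ?_
      by_contra hne
      have hmP : m ⊆ P := hPs m hm x hx s s.2 hne hxm hsm
      have hN := (he _).mp ⟨m, hm, hmP, rfl⟩
      exact hne (congrArg Subtype.val
        (e.injective (h2 _ hN ⟨⟨x, hx⟩, hxm, rfl⟩ ⟨s, hsm, rfl⟩) : (⟨x, hx⟩ : P) = s))
    · have hpre : e.symm '' N ∈ restrict L P := by
        rw [he, Set.image_image]; simpa using hN
      obtain ⟨m, hm, -, hme⟩ := hpre
      have hmem : ∀ q ∈ N, (e.symm q : X) ∈ m := fun q hq => hme.le ⟨q, hq, rfl⟩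
      refine lineMap_line hP h3 hm ?_ ?_ (hmem _ hrN) ?_ ?_ ?_
      · simpa using hmem _ hpN
      · simpa using hmem _ hqN
      · exact fun h => hpq (congrArg e (Subtype.ext h))
      · exact fun h => hrp (by rw [← e.apply_symm_apply (τ _ _)]; exact congrArg e (Subtype.ext h))
      · exact fun h => hrq (by rw [← e.apply_symm_apply (τ _ _)]; exact congrArg e (Subtype.ext h))
  have hN := (he _).mp ⟨l, hl, hlP, rfl⟩
  have hpre : e.symm '' (τ (e ⟨x, hx⟩) '' (e '' {s : P | (s : X) ∈ l})) ∈ restrict L P := by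
    rw [he, Set.image_image]
    simpa using haut _ _ hN
  obtain ⟨m, hm, hmP, hme⟩ := hpre
  convert hm using 1
  ext z
  constructor
  · rintro ⟨a, ha, rfl⟩
    rw [hkey ⟨a, hlP ha⟩]
    exact hme.le ⟨_, ⟨_, ⟨⟨a, hlP ha⟩, ha, rfl⟩, rfl⟩, rfl⟩
  · intro hz
    obtain ⟨_, ⟨_, ⟨s, hs, rfl⟩, rfl⟩, hse⟩ := hme.ge (show (⟨z, hmP hz⟩ : P) ∈ _ from hz)
    exact ⟨s, hs, by rw [hkey s, hse]⟩

omit hP h3

/-- The line map of the dual affine plane. -/
def dualTau (p q : DualAffinePoint) : DualAffinePoint :=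
  ⟨q.val.map (Equiv.swap (p.val.min' (Finset.card_pos.mp (by rw [p.2]; norm_num)))
    (p.val.max' (Finset.card_pos.mp (by rw [p.2]; norm_num)))).toEmbedding, by rw [Finset.card_map]; exact q.2⟩

theorem dualTau_spec : ∀ p q : DualAffinePoint, (dualTau p q = q ∧ ∀ i : Fin 4, i ∉ p.val → i ∉ q.val → p = q) ∨
    ∃ i : Fin 4, i ∉ p.val ∧ i ∉ q.val ∧ i ∉ (dualTau p q).val ∧ p ≠ q ∧ dualTau p q ≠ p ∧ dualTau p q ≠ q := by
  set_option maxRecDepth 100000 in decide +kernel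

theorem dualTau_line : ∀ p : DualAffinePoint, ∀ i : Fin 4, ∃ j : Fin 4, ∀ q : DualAffinePoint,
    j ∉ (dualTau p q).val ↔ i ∉ q.val := by
  set_option maxRecDepth 100000 in decide +kernel

theorem dualTau_invol : ∀ p q : DualAffinePoint, dualTau p (dualTau p q) = q := by
  set_option maxRecDepth 100000 in decide +kernel

theorem affTau_ne : ∀ a b : ZMod 3, -a - b = a → a = b := by decide

theorem affTau_ne' : ∀ a b : ZMod 3, -a - b = b → a = b := by decide

theorem affTau_mid : ∀ a b : ZMod 3, -a - b = a + (2 : ZMod 3) * (b - a) := by decide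

variable (hF : IsFischerSpace L)

include hF

theorem image_mem (x : X) {l : Set X} (hl : l ∈ L) : lineMap L x '' l ∈ L := by
  obtain ⟨hP, h3, hplane⟩ := hF
  by_cases hxl : x ∈ l
  · have hfwd : ∀ a ∈ l, lineMap L x a ∈ l := by
      intro a ha
      rcases lineMap_cases hP h3 x a with ⟨e, -⟩ | ⟨m, hm, hxm, ham, hz, hxa, -, -⟩
      · rwa [e]
      · rwa [hP l hl m hm x a hxa hxl ha hxm ham]
    convert hl using 1
    refine Set.Subset.antisymm (by rintro _ ⟨a, ha, rfl⟩; exact hfwd a ha) fun a ha => ?_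
    exact ⟨_, hfwd a ha, lineMap_invol hP h3 x a⟩
  by_cases hcol : ∃ a ∈ l, ∃ m ∈ L, x ∈ m ∧ a ∈ m
  · obtain ⟨a, ha, m, hm, hxm, ham⟩ := hcol
    have hne : l ≠ m := fun e => hxl (e ▸ hxm)
    have hxP : x ∈ span L (l ∪ m) := subset_span _ (Or.inr hxm)
    have hlP : l ⊆ span L (l ∪ m) := fun u hu => subset_span _ (Or.inl hu)
    rcases hplane l hl m hm hne ⟨a, ha, ham⟩ with hiso | hiso
    · refine image_mem_of_model hP h3 (span_subspace _) _ dualTau hiso (fun p q => ?_) (fun p N hN => ?_) hxP hl hlP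
      · rcases dualTau_spec p q with ⟨h1, h2⟩ | ⟨i, hi⟩
        · refine Or.inl ⟨h1, ?_⟩
          rintro N ⟨i, rfl⟩ hp hq
          exact h2 i hp hq
        · exact Or.inr ⟨_, ⟨i, rfl⟩, hi⟩
      · obtain ⟨i, rfl⟩ := hN
        obtain ⟨j, hj⟩ := dualTau_line p i
        refine ⟨j, Set.ext fun q => ⟨?_, fun hq => ?_⟩⟩
        · rintro ⟨r, hr, rfl⟩; exact (hj r).mpr hr
        · refine ⟨dualTau p q, ?_, dualTau_invol p q⟩
          exact (hj _).mp (by rw [dualTau_invol]; exact hq)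
    · refine image_mem_of_model hP h3 (span_subspace _) _ (fun p q => -p - q) hiso (fun p q => ?_)
        (fun p N hN => ?_) hxP hl hlP
      · by_cases e : p = q
        · refine Or.inl ⟨?_, fun N _ _ _ => e⟩
          subst e
          funext i
          exact (by decide : ∀ a : ZMod 3, -a - a = a) (p i)
        · refine Or.inr ⟨_, ⟨p, q - p, sub_ne_zero.mpr (Ne.symm e), rfl⟩, ⟨0, by rw [zero_smul, add_zero]⟩,
            ⟨1, by rw [one_smul, add_sub_cancel]⟩, ⟨2, funext fun i => affTau_mid (p i) (q i)⟩, e, fun h => e ?_, fun h => e ?_⟩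
          · exact funext fun i => affTau_ne _ _ (congrFun h i)
          · exact funext fun i => affTau_ne' _ _ (congrFun h i)
      · obtain ⟨v, w, hw, rfl⟩ := hN
        refine ⟨-p - v, -w, neg_ne_zero.mpr hw, Set.ext fun q => ⟨?_, ?_⟩⟩
        · rintro ⟨_, ⟨c, rfl⟩, rfl⟩
          exact ⟨c, by rw [smul_neg]; abel⟩
        · rintro ⟨c, rfl⟩
          exact ⟨v + c • w, ⟨c, rfl⟩, by rw [smul_neg]; abel⟩
  · push Not at hcol
    have hfix : ∀ a ∈ l, lineMap L x a = a := fun a ha =>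
      lineMap_fix fun m hm hxm ham => absurd ham (hcol a ha m hm hxm)
    convert hl using 1
    exact Set.ext fun u => ⟨fun ⟨a, ha, e⟩ => by rw [← e, hfix a ha]; exact ha, fun hu => ⟨u, hu, hfix u hu⟩⟩

/-- The line map as a permutation. -/
noncomputable def perm (x : X) : Equiv.Perm X :=
  ⟨lineMap L x, lineMap L x, lineMap_invol hF.1 hF.2.1 x, lineMap_invol hF.1 hF.2.1 x⟩

theorem perm_sq (x : X) : perm hF x * perm hF x = 1 := Equiv.ext (lineMap_invol hF.1 hF.2.1 x)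

theorem perm_isIso (x : X) : IsIso L L (perm hF x) := fun l => by
  refine ⟨fun hl => image_mem hF x hl, fun hl => ?_⟩
  have := image_mem hF x hl
  rwa [show lineMap L x '' (perm hF x '' l) = l by
    rw [Set.image_image]; exact (Set.image_congr' fun a => lineMap_invol hF.1 hF.2.1 x a).trans (Set.image_id' l)] at this

theorem perm_conj (x y : X) : perm hF x * perm hF y * perm hF x = perm hF (lineMap L x y) := by
  refine Equiv.ext fun a => ?_
  show lineMap L x (lineMap L y (lineMap L x a)) = lineMap L (lineMap L x y) a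
  have hi := lineMap_invol hF.1 hF.2.1 x
  rcases lineMap_cases hF.1 hF.2.1 y (lineMap L x a) with ⟨e, he⟩ | ⟨l, hl, hy, hb, hz, hyb, hzy, hzb⟩
  · rw [e, hi, lineMap_fix]
    intro m hm hm1 hm2
    have := he _ (image_mem hF x hm) ⟨_, hm1, hi y⟩ ⟨a, hm2, rfl⟩
    rw [this, hi]
  · refine (lineMap_line hF.1 hF.2.1 (image_mem hF x hl) ⟨y, hy, rfl⟩ ⟨_, hb, hi a⟩ ⟨_, hz, rfl⟩ ?_ ?_ ?_).symm
    · exact fun h => hyb ((hi y).symm.trans (congrArg (lineMap L x) h))
    · exact fun h => hzy (by have := congrArg (lineMap L x) h; rwa [hi, hi] at this)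
    · exact fun h => hzb ((hi _).symm.trans (congrArg (lineMap L x) h))

theorem perm_ne_one (hnd : IsNondegenerate L) (x : X) : perm hF x ≠ 1 := by
  intro e
  obtain ⟨l, hl, hx⟩ := hnd x
  obtain ⟨y, hy, hyx⟩ : ∃ y ∈ l, y ≠ x := by
    by_contra hn
    push Not at hn
    have : l = {x} := Set.ext fun u => ⟨fun hu => hn u hu, fun hu => hu ▸ hx⟩
    have h := hF.2.1 l hl
    rw [this, Set.ncard_singleton] at h
    omega
  rcases lineMap_cases hF.1 hF.2.1 x y with ⟨-, he⟩ | ⟨_, _, _, _, _, _, _, hzy⟩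
  · exact hyx (he l hl hx hy).symm
  · exact hzy (Equiv.ext_iff.mp e y)

end Cfsg.Agent.Solv.FischerMaps
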