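import Mathlib

/-!
A homomorphism from the symmetric group of degree four out of the braid relations.
-/

set_option autoImplicit false

namespace Cfsg.Agent.Solv.SymFour

variable {G : Type*} [Group G]

/-- The staircase words. -/
def w3 {M : Type*} [Monoid M] (a b c : M) : Fin 4 → M := ![1, c, c * b, c * b * a]

/-- The staircase words. -/
def w2 {M : Type*} [Monoid M] (a b : M) : Fin 3 → M := ![1, b, b * a]

/-- The staircase words. -/
def w1 {M : Type*} [Monoid M] (a : M) : Fin 2 → M := ![1, a]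

/-- The normal form word. -/
def word {M : Type*} [Monoid M] (a b c : M) (t : Fin 4 × Fin 3 × Fin 2) : M :=
  w1 a t.2.2 * w2 a b t.2.1 * w3 a b c t.1

abbrev S4 := Equiv.Perm (Fin 4)

/-- The word in the transpositions. -/
def permWord (t : Fin 4 × Fin 3 × Fin 2) : S4 := word (Equiv.swap 0 1) (Equiv.swap 1 2) (Equiv.swap 2 3) t

theorem permWord_bijective : Function.Bijective permWord := by
  rw [Fintype.bijective_iff_surjective_and_card]
  refine ⟨?_, by rw [Fintype.card_perm]; rfl⟩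
  set_option maxRecDepth 100000 in decide +kernel

/-- The coordinates of a permutation. -/
noncomputable def coords : S4 ≃ Fin 4 × Fin 3 × Fin 2 := (Equiv.ofBijective _ permWord_bijective).symm

/-- The transition table. -/
def nxt (t : Fin 4 × Fin 3 × Fin 2) (i : Fin 3) : Fin 4 × Fin 3 × Fin 2 :=
  (![![![![(0, 0, 1), (0, 1, 0), (1, 0, 0)], ![(0, 0, 0), (0, 1, 1), (1, 0, 1)]],
    ![![(0, 2, 0), (0, 0, 0), (1, 1, 0)], ![(0, 2, 1), (0, 0, 1), (1, 1, 1)]],
    ![![(0, 1, 0), (0, 2, 1), (1, 2, 0)], ![(0, 1, 1), (0, 2, 0), (1, 2, 1)]]],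
    ![![![(1, 0, 1), (2, 0, 0), (0, 0, 0)], ![(1, 0, 0), (2, 0, 1), (0, 0, 1)]],
    ![![(1, 2, 0), (2, 1, 0), (0, 1, 0)], ![(1, 2, 1), (2, 1, 1), (0, 1, 1)]],
    ![![(1, 1, 0), (2, 2, 0), (0, 2, 0)], ![(1, 1, 1), (2, 2, 1), (0, 2, 1)]]],
    ![![![(3, 0, 0), (1, 0, 0), (2, 1, 0)], ![(3, 0, 1), (1, 0, 1), (2, 1, 1)]],
    ![![(3, 1, 0), (1, 1, 0), (2, 0, 0)], ![(3, 1, 1), (1, 1, 1), (2, 0, 1)]],
    ![![(3, 2, 0), (1, 2, 0), (2, 2, 1)], ![(3, 2, 1), (1, 2, 1), (2, 2, 0)]]],
    ![![![(2, 0, 0), (3, 0, 1), (3, 1, 0)], ![(2, 0, 1), (3, 0, 0), (3, 1, 1)]],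
    ![![(2, 1, 0), (3, 2, 0), (3, 0, 0)], ![(2, 1, 1), (3, 2, 1), (3, 0, 1)]],
    ![![(2, 2, 0), (3, 1, 0), (3, 2, 1)], ![(2, 2, 1), (3, 1, 1), (3, 2, 0)]]]] : Fin 4 → Fin 3 → Fin 2 → Fin 3 → Fin 4 × Fin 3 × Fin 2) t.1 t.2.1 t.2.2 i

theorem nxt_spec : ∀ (t : Fin 4 × Fin 3 × Fin 2) (i : Fin 3),
    permWord (nxt t i) = permWord t * ![Equiv.swap 0 1, Equiv.swap 1 2, Equiv.swap 2 3] i := by
  set_option maxRecDepth 100000 in decide +kernel

theorem sigma_spec : ∀ σ : S4, σ ≠ 1 → ∃ u v : S4,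
    v * (σ * u * σ⁻¹ * u⁻¹) * v⁻¹ = Equiv.swap 0 1 * Equiv.swap 2 3 ∨ v * σ * v⁻¹ = Equiv.swap 0 1 * Equiv.swap 2 3 := by
  set_option maxRecDepth 100000 in decide +kernel

variable (a b c : G) (ha : a * a = 1) (hb : b * b = 1) (hc : c * c = 1) (hca : c * a = a * c)
  (hab : b * a * b = a * b * a) (hbc : c * b * c = b * c * b)

/-- The candidate map. -/
noncomputable def toFun (σ : S4) : G := word a b c (coords σ)

include ha hb hc hca hab hbc

theorem word_step (t : Fin 4 × Fin 3 × Fin 2) (i : Fin 3) :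
    word a b c (nxt t i) = word a b c t * ![a, b, c] i := by
  have a1 : ∀ w, a * (a * w) = w := fun w => by rw [← mul_assoc, ha, one_mul]
  have b1 : ∀ w, b * (b * w) = w := fun w => by rw [← mul_assoc, hb, one_mul]
  have c1 : ∀ w, c * (c * w) = w := fun w => by rw [← mul_assoc, hc, one_mul]
  have k1 : ∀ w, c * (a * w) = a * (c * w) := fun w => by rw [← mul_assoc, hca, mul_assoc]
  have r1 : ∀ w, b * (a * (b * w)) = a * (b * (a * w)) := fun w => by
    simp only [← mul_assoc]; rw [hab]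
  have r2 : ∀ w, c * (b * (c * w)) = b * (c * (b * w)) := fun w => by
    simp only [← mul_assoc]; rw [hbc]
  have r1' : b * (a * b) = a * (b * a) := by simpa [mul_assoc] using hab
  have r2' : c * (b * c) = b * (c * b) := by simpa [mul_assoc] using hbc
  have r3 : ∀ w, c * (b * (a * (c * w))) = b * (c * (b * (a * w))) := fun w => by
    rw [← k1 w, r2]
  have r3' : c * (b * (a * c)) = b * (c * (b * a)) := by rw [← hca, r2]
  obtain ⟨u, v, w⟩ := t
  fin_cases u <;> fin_cases v <;> fin_cases w <;> fin_cases i <;>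
    simp [nxt, word, w1, w2, w3, mul_assoc, ha, hb, hc, hca, a1, b1, c1, k1, r1, r2, r1', r2', r3, r3']

theorem toFun_step (σ : S4) (i : Fin 3) :
    toFun a b c (σ * ![Equiv.swap 0 1, Equiv.swap 1 2, Equiv.swap 2 3] i) = toFun a b c σ * ![a, b, c] i := by
  have e := nxt_spec (coords σ) i
  have e2 : permWord (coords σ) = σ := Equiv.ofBijective_apply_symm_apply _ permWord_bijective σ
  rw [e2] at e
  have e3 : coords (σ * ![Equiv.swap 0 1, Equiv.swap 1 2, Equiv.swap 2 3] i) = nxt (coords σ) i := by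
    rw [← e]; exact Equiv.ofBijective_symm_apply_apply _ permWord_bijective _
  show word a b c _ = _
  rw [e3]
  exact word_step a b c ha hb hc hca hab hbc (coords σ) i

theorem toFun_one : toFun a b c 1 = 1 := by
  have e : coords 1 = (0, 0, 0) := by
    rw [Equiv.apply_eq_iff_eq_symm_apply]
    rfl
  simp [toFun, e, word, w1, w2, w3]

theorem toFun_word (σ : S4) (t : Fin 4 × Fin 3 × Fin 2) :
    toFun a b c (σ * permWord t) = toFun a b c σ * word a b c t := by
  have s0 := fun σ => toFun_step a b c ha hb hc hca hab hbc σ 0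
  have s1 := fun σ => toFun_step a b c ha hb hc hca hab hbc σ 1
  have s2 := fun σ => toFun_step a b c ha hb hc hca hab hbc σ 2
  simp only [Matrix.cons_val_zero, Matrix.cons_val_one, Matrix.cons_val] at s0 s1 s2
  obtain ⟨u, v, w⟩ := t
  fin_cases u <;> fin_cases v <;> fin_cases w <;>
    simp [permWord, word, w1, w2, w3, ← mul_assoc, s0, s1, s2]

/-- The homomorphism. -/
noncomputable def hom : S4 →* G :=
  MonoidHom.mk' (toFun a b c) fun σ τ => by
    obtain ⟨t, rfl⟩ := permWord_bijective.2 τ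
    rw [toFun_word a b c ha hb hc hca hab hbc]
    congr 1
    show _ = word a b c (coords (permWord t))
    congr 1
    exact ((Equiv.ofBijective _ permWord_bijective).symm_apply_apply t).symm

theorem hom_gen (i : Fin 3) :
    hom a b c ha hb hc hca hab hbc (![Equiv.swap 0 1, Equiv.swap 1 2, Equiv.swap 2 3] i) = ![a, b, c] i := by
  show toFun a b c _ = _
  have := toFun_step a b c ha hb hc hca hab hbc 1 i
  rwa [one_mul, toFun_one a b c ha hb hc hca hab hbc, one_mul] at this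

theorem hom_injective (hne : a ≠ c) : Function.Injective (hom a b c ha hb hc hca hab hbc) := by
  set φ := hom a b c ha hb hc hca hab hbc
  have h0 : φ (Equiv.swap 0 1) = a := hom_gen a b c ha hb hc hca hab hbc 0
  have h2 : φ (Equiv.swap 2 3) = c := hom_gen a b c ha hb hc hca hab hbc 2
  rw [injective_iff_map_eq_one]
  intro σ hσ
  by_contra hσ1
  obtain ⟨u, v, huv⟩ := sigma_spec σ hσ1
  have : φ (Equiv.swap 0 1 * Equiv.swap 2 3) = 1 := by
    rcases huv with e | e <;> rw [← e] <;> simp [hσ]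
  rw [map_mul, h0, h2, mul_eq_one_iff_eq_inv, inv_eq_of_mul_eq_one_right hc] at this
  exact hne this

end Cfsg.Agent.Solv.SymFour
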