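import Cfsg.Agent.Lib.Solv.ThreeTrans
import Cfsg.Agent.Lib.Solv.SymFour

/-!
The line system of a set of 3-transpositions.
-/

set_option autoImplicit false
set_option linter.style.haveILetI false
set_option linter.unusedSectionVars false

namespace Cfsg.Agent.Solv.FischerSpace

open Cfsg.Agent.Solv.ThreeTrans

variable {G : Type*} [Group G] {D : Set G} (h : TT D)

/-- The line of two members. -/
def ln (x y : D) : Set D :=
  {z : D | (z : G) = x ∨ (z : G) = y ∨ (z : G) = (y : G) * (x : G) * (y : G)⁻¹}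

include h

theorem third_symm {x y : G} (hx : x ∈ D) (hy : y ∈ D) (hn : ¬ Commute x y) : y * x * y⁻¹ = x * y * x⁻¹ := by
  rw [h.inv_eq hx, h.inv_eq hy, h.braid hx hy hn]

theorem third_noncomm {x y : G} (hx : x ∈ D) (hy : y ∈ D) (hn : ¬ Commute x y) : ¬ Commute x (y * x * y⁻¹) := by
  rw [third_symm h hx hy hn]
  intro hc
  apply hn
  rw [← Commute.conj_iff x, mul_inv_cancel_right]
  exact hc

theorem third_third {x y : G} (hx : x ∈ D) (hy : y ∈ D) (hn : ¬ Commute x y) :
    (y * x * y⁻¹) * x * (y * x * y⁻¹)⁻¹ = y := by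
  rw [third_symm h hx (h.conj y x hx) (third_noncomm h hx hy hn), third_symm h hx hy hn, h.inv_eq hx,
    show x * (x * y * x) * x = (x * x) * y * (x * x) by group, h.mul_self hx, one_mul, mul_one]

theorem ln_comm {x y : D} (hn : ¬ Commute (x : G) y) : ln y x = ln x y := by
  ext z
  simp only [ln, Set.mem_setOf_eq, third_symm h y.2 x.2 fun c => hn c.symm]
  tauto

/-- The third point. -/
def third (x y : D) : D := ⟨(y : G) * x * (y : G)⁻¹, h.conj y x x.2⟩

theorem ln_third {x y : D} (hn : ¬ Commute (x : G) y) : ln x (third h x y) = ln x y := by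
  ext z
  simp only [ln, third, Set.mem_setOf_eq, third_third h x.2 y.2 hn]
  tauto

theorem ln_spec {x y a b : D} (hn : ¬ Commute (x : G) y) (ha : a ∈ ln x y) (hb : b ∈ ln x y) (hne : a ≠ b) :
    ¬ Commute (a : G) b ∧ ln a b = ln x y := by
  have key : ∀ {u v : D}, ¬ Commute (u : G) v → ln u v = ln x y →
      (¬ Commute (v : G) u ∧ ln v u = ln x y) := fun hc e => ⟨fun c => hc c.symm, (ln_comm h hc).trans e⟩
  have h2 : ¬ Commute (x : G) (third h x y : D) ∧ ln x (third h x y) = ln x y :=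
    ⟨third_noncomm h x.2 y.2 hn, ln_third h hn⟩
  have hn' : ¬ Commute (y : G) x := fun c => hn c.symm
  have e3 : third h y x = third h x y := Subtype.ext (third_symm h y.2 x.2 hn')
  have h3 : ¬ Commute (y : G) (third h x y : D) ∧ ln y (third h x y) = ln x y := by
    rw [← e3]
    exact ⟨third_noncomm h y.2 x.2 hn', (ln_third h hn').trans (ln_comm h hn)⟩
  have hc : ∀ c : D, c ∈ ln x y → c = x ∨ c = y ∨ c = third h x y := fun c hc => by
    rcases hc with e | e | e
    exacts [Or.inl (Subtype.ext e), Or.inr (Or.inl (Subtype.ext e)), Or.inr (Or.inr (Subtype.ext e))]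
  rcases hc a ha with rfl | rfl | rfl <;> rcases hc b hb with rfl | rfl | rfl <;>
    first
      | exact absurd rfl hne
      | exact ⟨hn, rfl⟩
      | exact key hn rfl
      | exact h2
      | exact key h2.1 h2.2
      | exact h3
      | exact key h3.1 h3.2

theorem mem_lines {l : Set D} :
    l ∈ threeTranspositionLines D ↔ ∃ x y : D, ¬ Commute (x : G) y ∧ l = ln x y := Iff.rfl

theorem line_eq {l : Set D} (hl : l ∈ threeTranspositionLines D) {a b : D} (ha : a ∈ l) (hb : b ∈ l)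
    (hne : a ≠ b) : ¬ Commute (a : G) b ∧ l = ln a b := by
  obtain ⟨x, y, hn, rfl⟩ := (mem_lines h).mp hl
  obtain ⟨h1, h2⟩ := ln_spec h hn ha hb hne
  exact ⟨h1, h2.symm⟩

theorem third_mem {x y : D} (T : Set D) (hT : LineSystem.IsSubspace (threeTranspositionLines D) T)
    (hn : ¬ Commute (x : G) y) (hx : x ∈ T) (hy : y ∈ T) : third h x y ∈ T :=
  hT (ln x y) ⟨x, y, hn, rfl⟩ x hx y hy (fun e => h.ne_of_not_commute x.2 y.2 hn (congrArg Subtype.val e))
    (Or.inl rfl) (Or.inr (Or.inl rfl)) (Or.inr (Or.inr rfl))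

/-- Recognition of the plane spanned by two lines. -/
theorem span_iso {Y : Type*} (M : Set (Set Y)) (π : Y → D) (hπ : Function.Injective π) (l m : Set D)
    (hA : ∀ N ∈ M, π '' N ∈ threeTranspositionLines D)
    (hB : ∀ p q : Y, ¬ Commute (π p : G) (π q) → ∃ N ∈ M, p ∈ N ∧ q ∈ N)
    (hlm : l ∪ m ⊆ Set.range π)
    (hgen : ∀ T : Set D, l ∪ m ⊆ T → LineSystem.IsSubspace (threeTranspositionLines D) T → Set.range π ⊆ T) :
    LineSystem.Isomorphic (LineSystem.restrict (threeTranspositionLines D)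
      (LineSystem.span (threeTranspositionLines D) (l ∪ m))) M := by
  set L := threeTranspositionLines D
  have hline : ∀ k ∈ L, ∀ p q : Y, p ≠ q → π p ∈ k → π q ∈ k → ∃ N ∈ M, k = π '' N := by
    intro k hk p q hne hp hq
    obtain ⟨hn, e⟩ := line_eq h hk hp hq (hπ.ne hne)
    obtain ⟨N, hN, hpN, hqN⟩ := hB p q hn
    exact ⟨N, hN, e.trans (line_eq h (hA N hN) ⟨p, hpN, rfl⟩ ⟨q, hqN, rfl⟩ (hπ.ne hne)).2.symm⟩
  have hsub : LineSystem.IsSubspace L (Set.range π) := by
    rintro k hk _ ⟨p, rfl⟩ _ ⟨q, rfl⟩ hne hp hq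
    obtain ⟨N, -, rfl⟩ := hline k hk p q (fun e => hne (congrArg π e)) hp hq
    exact Set.image_subset_range π N
  have hS : LineSystem.span L (l ∪ m) = Set.range π :=
    Set.Subset.antisymm (Set.sInter_subset_of_mem ⟨hlm, hsub⟩)
      (Set.subset_sInter fun T hT => hgen T hT.1 hT.2)
  rw [hS]
  refine ⟨(Equiv.ofInjective π hπ).symm, fun k => ⟨?_, fun hk => ?_⟩⟩
  · rintro ⟨j, hj, hjS, rfl⟩
    obtain ⟨x, y, hn, rfl⟩ := (mem_lines h).mp hj
    obtain ⟨p, hp⟩ := hjS (show x ∈ ln x y from Or.inl rfl)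
    obtain ⟨q, hq⟩ := hjS (show y ∈ ln x y from Or.inr (Or.inl rfl))
    have hne : p ≠ q := fun e => h.ne_of_not_commute x.2 y.2 hn (by rw [← hp, ← hq, e])
    obtain ⟨N, hN, e⟩ := hline _ hj p q hne (hp ▸ Or.inl rfl) (hq ▸ Or.inr (Or.inl rfl))
    convert hN using 1
    ext u
    constructor
    · rintro ⟨s, hs, rfl⟩
      have hs' : (s : D) ∈ π '' N := e.le hs
      obtain ⟨v, hv, hve⟩ := hs'
      have : (Equiv.ofInjective π hπ).symm s = v := by
        rw [Equiv.symm_apply_eq]; exact Subtype.ext hve.symm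
      rwa [this]
    · intro hu
      exact ⟨⟨π u, u, rfl⟩, e.ge ⟨u, hu, rfl⟩, Equiv.ofInjective_symm_apply hπ u⟩
  · refine ⟨π '' ((Equiv.ofInjective π hπ).symm '' k), hA _ hk, Set.image_subset_range _ _, ?_⟩
    ext s
    constructor
    · intro hs
      exact ⟨_, ⟨s, hs, rfl⟩, Equiv.apply_ofInjective_symm hπ s⟩
    · rintro ⟨v, ⟨s', hs', rfl⟩, e⟩
      rw [Equiv.apply_ofInjective_symm hπ s'] at e
      rwa [← Subtype.ext e]

/-- The transposition of a point of the dual affine plane. -/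
def sw (s : DualAffinePoint) : Equiv.Perm (Fin 4) :=
  Equiv.swap (s.val.min' (Finset.card_pos.mp (by rw [s.2]; norm_num)))
    (s.val.max' (Finset.card_pos.mp (by rw [s.2]; norm_num)))

omit h in
theorem sw_injective : ∀ s t : DualAffinePoint, sw s = sw t → s = t := by
  set_option maxRecDepth 100000 in decide +kernel

omit h in
theorem sw_spec : ∀ s : DualAffinePoint, ∃ i j : Fin 4, i ≠ j ∧ sw s = Equiv.swap i j := by
  set_option maxRecDepth 100000 in decide +kernel

omit h in
theorem sw_line : ∀ i : Fin 4, ∃ s t u : DualAffinePoint, i ∉ s.val ∧ i ∉ t.val ∧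
    sw s * sw t ≠ sw t * sw s ∧ sw u = sw t * sw s * sw t ∧ ∀ v : DualAffinePoint, i ∉ v.val ↔ (v = s ∨ v = t ∨ v = u) := by
  set_option maxRecDepth 100000 in decide +kernel

omit h in
theorem sw_noncomm : ∀ s t : DualAffinePoint, sw s * sw t ≠ sw t * sw s → ∃ i : Fin 4, i ∉ s.val ∧ i ∉ t.val := by
  set_option maxRecDepth 100000 in decide +kernel

omit h in
theorem sw_gen : ∀ s : DualAffinePoint, sw s = Equiv.swap 0 1 ∨ sw s = Equiv.swap 1 2 ∨ sw s = Equiv.swap 2 3 ∨
    sw s = Equiv.swap 1 2 * Equiv.swap 0 1 * Equiv.swap 1 2 ∨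
    sw s = Equiv.swap 2 3 * Equiv.swap 1 2 * Equiv.swap 2 3 ∨
    sw s = (Equiv.swap 2 3 * Equiv.swap 1 2 * Equiv.swap 2 3) * Equiv.swap 0 1 * (Equiv.swap 2 3 * Equiv.swap 1 2 * Equiv.swap 2 3) := by
  set_option maxRecDepth 100000 in decide +kernel

omit h in
theorem sw_exists : ∀ i j : Fin 4, i ≠ j → ∃ s : DualAffinePoint, sw s = Equiv.swap i j := by
  set_option maxRecDepth 100000 in decide +kernel

theorem dual_case {a x c : D} (hax : ¬ Commute (a : G) x) (hxc : ¬ Commute (x : G) c) (hac : Commute (a : G) c)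
    (hne : a ≠ c) :
    LineSystem.Isomorphic (LineSystem.restrict (threeTranspositionLines D)
      (LineSystem.span (threeTranspositionLines D) (ln x a ∪ ln x c))) dualAffinePlaneTwo := by
  set φ := SymFour.hom (a : G) x c (h.mul_self a.2) (h.mul_self x.2) (h.mul_self c.2) hac.symm.eq
    (h.braid a.2 x.2 hax).symm (h.braid x.2 c.2 hxc).symm
  have hinj : Function.Injective φ := SymFour.hom_injective _ _ _ _ _ _ _ _ _ fun e => hne (Subtype.ext e)
  have g0 : φ (Equiv.swap 0 1) = a := SymFour.hom_gen _ _ _ _ _ _ _ _ _ 0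
  have g1 : φ (Equiv.swap 1 2) = x := SymFour.hom_gen _ _ _ _ _ _ _ _ _ 1
  have g2 : φ (Equiv.swap 2 3) = c := SymFour.hom_gen _ _ _ _ _ _ _ _ _ 2
  have hx2 : (x : G)⁻¹ = x := h.inv_eq x.2
  have hc2 : (c : G)⁻¹ = c := h.inv_eq c.2
  have e3 : φ (Equiv.swap 1 2 * Equiv.swap 0 1 * Equiv.swap 1 2) = (x : G) * a * (x : G)⁻¹ := by
    rw [map_mul, map_mul, g0, g1, hx2]
  have e4 : φ (Equiv.swap 2 3 * Equiv.swap 1 2 * Equiv.swap 2 3) = (c : G) * x * (c : G)⁻¹ := by
    rw [map_mul, map_mul, g1, g2, hc2]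
  have hD4 : (c : G) * x * (c : G)⁻¹ ∈ D := h.conj _ _ x.2
  have e5 : φ ((Equiv.swap 2 3 * Equiv.swap 1 2 * Equiv.swap 2 3) * Equiv.swap 0 1 * (Equiv.swap 2 3 * Equiv.swap 1 2 * Equiv.swap 2 3)) =
      ((c : G) * x * (c : G)⁻¹) * a * ((c : G) * x * (c : G)⁻¹)⁻¹ := by
    rw [map_mul, map_mul, e4, g0, h.inv_eq hD4]
  have hD : ∀ s, φ (sw s) ∈ D := by
    intro s
    rcases sw_gen s with e | e | e | e | e | e <;> rw [e]
    · rw [g0]; exact a.2
    · rw [g1]; exact x.2
    · rw [g2]; exact c.2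
    · rw [e3]; exact h.conj _ _ a.2
    · rw [e4]; exact hD4
    · rw [e5]; exact h.conj _ _ a.2
  let π : DualAffinePoint → D := fun s => ⟨φ (sw s), hD s⟩
  have hπ : Function.Injective π := fun s t e => sw_injective s t (hinj (congrArg Subtype.val e))
  obtain ⟨s0, hs0⟩ := sw_exists 0 1 (by decide)
  obtain ⟨s1, hs1⟩ := sw_exists 1 2 (by decide)
  obtain ⟨s2, hs2⟩ := sw_exists 2 3 (by decide)
  have p0 : π s0 = a := Subtype.ext (by show φ (sw s0) = a; rw [hs0, g0])
  have p1 : π s1 = x := Subtype.ext (by show φ (sw s1) = x; rw [hs1, g1])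
  have p2 : π s2 = c := Subtype.ext (by show φ (sw s2) = c; rw [hs2, g2])
  have hA : ∀ N ∈ dualAffinePlaneTwo, π '' N ∈ threeTranspositionLines D := by
    rintro _ ⟨i, rfl⟩
    obtain ⟨s, t, u, -, -, hn, hu, hall⟩ := sw_line i
    refine ⟨π s, π t, fun hc => hn (hinj ?_), ?_⟩
    · rw [map_mul, map_mul]; exact hc.eq
    · have e : (π u : G) = (π t : G) * π s * (π t : G)⁻¹ := by
        show φ (sw u) = φ (sw t) * φ (sw s) * (φ (sw t))⁻¹
        rw [h.inv_eq (hD t), hu, map_mul, map_mul]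
      ext z
      constructor
      · rintro ⟨v, hv, rfl⟩
        rcases (hall v).mp hv with rfl | rfl | rfl
        exacts [Or.inl rfl, Or.inr (Or.inl rfl), Or.inr (Or.inr e)]
      · rintro (e' | e' | e')
        · exact ⟨s, (hall s).mpr (Or.inl rfl), Subtype.ext e'.symm⟩
        · exact ⟨t, (hall t).mpr (Or.inr (Or.inl rfl)), Subtype.ext e'.symm⟩
        · exact ⟨u, (hall u).mpr (Or.inr (Or.inr rfl)), Subtype.ext (e.trans e'.symm)⟩
  have hsub : ∀ y : D, ¬ Commute (x : G) y → y ∈ Set.range π → ln x y ⊆ Set.range π := by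
    intro y hn hy
    obtain ⟨q, rfl⟩ := hy
    have hn' : ¬ Commute (φ (sw s1)) (φ (sw q)) := by
      rw [hs1, g1]; exact hn
    obtain ⟨i, hi1, hi2⟩ := sw_noncomm s1 q fun e => hn' (by
      show φ (sw s1) * φ (sw q) = φ (sw q) * φ (sw s1)
      rw [← map_mul, e, map_mul])
    obtain ⟨-, e⟩ := line_eq h (hA _ ⟨i, rfl⟩) ⟨s1, hi1, rfl⟩ ⟨q, hi2, rfl⟩
      (by rw [p1]; exact fun e => h.ne_of_not_commute x.2 (π q).2 hn (congrArg Subtype.val e))
    rw [p1] at e
    rw [← e]
    exact Set.image_subset_range _ _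
  refine span_iso h _ π hπ _ _ hA (fun p q hn => ?_) ?_ ?_
  · obtain ⟨i, hi1, hi2⟩ := sw_noncomm p q fun e => hn (by
      show φ (sw p) * φ (sw q) = φ (sw q) * φ (sw p)
      rw [← map_mul, e, map_mul])
    exact ⟨_, ⟨i, rfl⟩, hi1, hi2⟩
  · exact Set.union_subset (hsub a (fun e => hax e.symm) ⟨s0, p0⟩) (hsub c hxc ⟨s2, p2⟩)
  · intro T hlT hT
    have ha : a ∈ T := hlT (Or.inl (Or.inr (Or.inl rfl)))
    have hx : x ∈ T := hlT (Or.inl (Or.inl rfl))
    have hc : c ∈ T := hlT (Or.inr (Or.inr (Or.inl rfl)))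
    have h3 : third h a x ∈ T := third_mem h T hT hax ha hx
    have h4 : third h x c ∈ T := third_mem h T hT hxc hx hc
    have h5 : third h a (third h x c) ∈ T := by
      refine third_mem h T hT (fun hcm => hax ?_) ha h4
      have hcm' : Commute (a : G) ((c : G) * x * (c : G)⁻¹) := hcm
      rw [← Commute.conj_iff (c : G), hac.symm.eq, mul_inv_cancel_right]
      exact hcm'
    rintro _ ⟨s, rfl⟩
    rcases sw_gen s with e | e | e | e | e | e
    · rwa [show π s = a from Subtype.ext (by show φ (sw s) = a; rw [e, g0])]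
    · rwa [show π s = x from Subtype.ext (by show φ (sw s) = x; rw [e, g1])]
    · rwa [show π s = c from Subtype.ext (by show φ (sw s) = c; rw [e, g2])]
    · rwa [show π s = third h a x from Subtype.ext (by show φ (sw s) = _; rw [e, e3]; rfl)]
    · rwa [show π s = third h x c from Subtype.ext (by show φ (sw s) = _; rw [e, e4]; rfl)]
    · rwa [show π s = third h a (third h x c) from Subtype.ext (by show φ (sw s) = _; rw [e, e5]; rfl)]

theorem affine_case {x y w : D} (hxy : ¬ Commute (x : G) y) (hxw : ¬ Commute (x : G) w)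
    (hn1 : ¬ Commute (y : G) w) (hn2 : ¬ Commute (y : G) (third h w x : D)) (hne : ln x y ≠ ln x w) :
    LineSystem.Isomorphic (LineSystem.restrict (threeTranspositionLines D)
      (LineSystem.span (threeTranspositionLines D) (ln x y ∪ ln x w))) affinePlaneThree := by
  set a := (y : G) * x with ha_def
  set b := (w : G) * x with hb_def
  have hx1 := h.mul_self x.2
  have hxi := h.inv_eq x.2
  have ha3 : a * a * a = 1 := h.cube y.2 x.2 fun c => hxy c.symm
  have hb3 : b * b * b = 1 := h.cube w.2 x.2 fun c => hxw c.symm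
  have hxa : (x : G) * a * x = a⁻¹ := by
    rw [ha_def, mul_inv_rev, hxi, h.inv_eq y.2, mul_assoc (x : G), mul_assoc (y : G), hx1, mul_one]
  have hxb : (x : G) * b * x = b⁻¹ := by
    rw [hb_def, mul_inv_rev, hxi, h.inv_eq w.2, mul_assoc (x : G), mul_assoc (w : G), hx1, mul_one]
  have hab3 : (a * b) * (a * b) * (a * b) = 1 := by
    have := h.cube y.2 (third h w x).2 hn2
    simp only [third, hxi] at this
    rw [← this, ha_def, hb_def]; group
  have hab'3 : (a * b⁻¹) * (a * b⁻¹) * (a * b⁻¹) = 1 := by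
    have e : a * b⁻¹ = (y : G) * w := by
      rw [ha_def, hb_def, mul_inv_rev, hxi, h.inv_eq w.2, mul_assoc, ← mul_assoc (x : G), hx1, one_mul]
    rw [e]; exact h.cube y.2 w.2 hn1
  have hb_conj : Commute b (a * b * a⁻¹) := by
    have e1 : b * a * b = a⁻¹ * b⁻¹ * a⁻¹ := by
      calc b * a * b = a⁻¹ * (a * b * (a * b) * (a * b)) * b⁻¹ * a⁻¹ := by group
        _ = a⁻¹ * b⁻¹ * a⁻¹ := by rw [hab3, mul_one]
    have e2 : b * a⁻¹ * b = a * b⁻¹ * a := by
      calc b * a⁻¹ * b = (a * b⁻¹ * (a * b⁻¹) * (a * b⁻¹)) * (b * a⁻¹ * b) := by rw [hab'3, one_mul]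
        _ = a * b⁻¹ * a := by group
    show b * (a * b * a⁻¹) = a * b * a⁻¹ * b
    have e3 : a * a = a⁻¹ := eq_inv_of_mul_eq_one_left ha3
    calc b * (a * b * a⁻¹) = (b * a * b) * a⁻¹ := by group
      _ = a⁻¹ * b⁻¹ * (a⁻¹ * a⁻¹) := by rw [e1]; group
      _ = a⁻¹ * b⁻¹ * a := by rw [show a⁻¹ * a⁻¹ = (a * a)⁻¹ from (mul_inv_rev a a).symm, e3, inv_inv]
      _ = (a * a) * b⁻¹ * a := by rw [e3]
      _ = a * (b * a⁻¹ * b) := by rw [e2]; group
      _ = a * b * a⁻¹ * b := by group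
  have ha_conj : Commute a (b * a * b⁻¹) := by
    have hba3 : (b * a) * (b * a) * (b * a) = 1 := by
      calc (b * a) * (b * a) * (b * a) = a⁻¹ * ((a * b) * (a * b) * (a * b)) * a := by group
        _ = 1 := by rw [hab3, mul_one, inv_mul_cancel]
    have e1 : a * b * a = b⁻¹ * a⁻¹ * b⁻¹ := by
      calc a * b * a = b⁻¹ * (b * a * (b * a) * (b * a)) * a⁻¹ * b⁻¹ := by group
        _ = b⁻¹ * a⁻¹ * b⁻¹ := by rw [hba3, mul_one]
    have e2 : a * b⁻¹ * a = b * a⁻¹ * b := by
      calc a * b⁻¹ * a = (a * b⁻¹ * (a * b⁻¹) * (a * b⁻¹)) * (b * a⁻¹ * b) := by group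
        _ = b * a⁻¹ * b := by rw [hab'3, one_mul]
    show a * (b * a * b⁻¹) = b * a * b⁻¹ * a
    have e3 : b * b = b⁻¹ := eq_inv_of_mul_eq_one_left hb3
    calc a * (b * a * b⁻¹) = (a * b * a) * b⁻¹ := by group
      _ = b⁻¹ * a⁻¹ * (b⁻¹ * b⁻¹) := by rw [e1]; group
      _ = b⁻¹ * a⁻¹ * b := by rw [show b⁻¹ * b⁻¹ = (b * b)⁻¹ from (mul_inv_rev b b).symm, e3, inv_inv]
      _ = (b * b) * a⁻¹ * b := by rw [e3]
      _ = b * (a * b⁻¹ * a) := by rw [e2]; group
      _ = b * a * b⁻¹ * a := by group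
  set c := b⁻¹ * a⁻¹ * b * a with hc
  have hca : Commute c a := by
    have h1 := ha_conj.map (MulAut.conj b⁻¹).toMonoidHom
    have h2 : Commute (b⁻¹ * a * b) a := by simpa [mul_assoc] using h1
    have e : c = (b⁻¹ * a * b)⁻¹ * a := by rw [hc]; group
    rw [e]
    exact h2.inv_left.mul_left (Commute.refl a)
  have hcb : Commute c b := by
    have h1 := hb_conj.map (MulAut.conj a⁻¹).toMonoidHom
    have h2 : Commute (a⁻¹ * b * a) b := by simpa [mul_assoc] using h1
    have e : c = b⁻¹ * (a⁻¹ * b * a) := by rw [hc]; group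
    rw [e]
    exact (Commute.refl b).inv_left.mul_left h2
  have hba : b * a = a * b * c := by rw [hc]; group
  have hbn : ∀ n : ℕ, b ^ n * a = a * b ^ n * c ^ n := by
    intro n
    induction n with
    | zero => simp
    | succ n ih =>
      calc b ^ (n + 1) * a = b ^ n * (b * a) := by rw [pow_succ, mul_assoc]
        _ = (b ^ n * a) * (b * c) := by rw [hba]; group
        _ = a * b ^ n * ((c ^ n * b) * c) := by rw [ih]; group
        _ = a * b ^ (n + 1) * c ^ (n + 1) := by rw [(hcb.pow_left n).eq, pow_succ, pow_succ]; group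
  have hbm : ∀ n m : ℕ, b ^ n * a ^ m = a ^ m * b ^ n * c ^ (n * m) := by
    intro n m
    induction m with
    | zero => simp
    | succ m ih =>
      calc b ^ n * a ^ (m + 1) = (b ^ n * a ^ m) * a := by rw [pow_succ, mul_assoc]
        _ = a ^ m * (b ^ n * a) * c ^ (n * m) := by rw [ih, mul_assoc (a ^ m * b ^ n), (hca.pow_left (n * m)).eq]; group
        _ = _ := by rw [hbn, pow_succ, mul_add_one, pow_add, (Commute.pow_pow_self c (n * m) n).eq]; group
  have ha3' : a ^ 3 = 1 := by rw [pow_succ, pow_two]; exact ha3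
  have hb3' : b ^ 3 = 1 := by rw [pow_succ, pow_two]; exact hb3
  have hc3 : c ^ 3 = 1 := by
    have e := hbm 3 1
    rw [hb3', pow_one, one_mul, mul_one] at e
    exact (left_eq_mul.mp e)
  have hmod : ∀ u : G, u ^ 3 = 1 → ∀ n : ℕ, u ^ n = u ^ ((n : ZMod 3)).val := fun u hu n => by
    conv_lhs => rw [← Nat.div_add_mod n 3, pow_add, pow_mul, hu, one_pow, one_mul]
    rw [ZMod.val_natCast]
  let pw : G → ZMod 3 → G := fun u i => u ^ i.val
  have pw_add : ∀ u : G, u ^ 3 = 1 → ∀ i j, pw u i * pw u j = pw u (i + j) := fun u hu i j => by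
    simp only [pw]
    rw [← pow_add, hmod u hu, Nat.cast_add, ZMod.natCast_zmod_val, ZMod.natCast_zmod_val]
  have hbm' : ∀ i j : ZMod 3, pw b j * pw a i = pw a i * pw b j * pw c (j * i) := fun i j => by
    simp only [pw]
    rw [hbm, hmod c hc3 (j.val * i.val), Nat.cast_mul, ZMod.natCast_zmod_val, ZMod.natCast_zmod_val]
  have cca : ∀ i j, Commute (pw c i) (pw a j) := fun i j => hca.pow_pow _ _
  have ccb : ∀ i j, Commute (pw c i) (pw b j) := fun i j => hcb.pow_pow _ _
  -- multiplication law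
  have hmul : ∀ i j k i' j' k' : ZMod 3, (pw a i * pw b j * pw c k) * (pw a i' * pw b j' * pw c k') =
      pw a (i + i') * pw b (j + j') * pw c (k + k' + j * i') := by
    intro i j k i' j' k'
    calc (pw a i * pw b j * pw c k) * (pw a i' * pw b j' * pw c k')
        = pw a i * pw b j * ((pw c k * pw a i') * pw b j') * pw c k' := by group
      _ = pw a i * (pw b j * pw a i') * (pw c k * pw b j') * pw c k' := by rw [(cca k i').eq]; group
      _ = pw a i * pw a i' * pw b j * ((pw c (j * i') * pw b j') * pw c k * pw c k') := by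
        rw [hbm', (ccb k j').eq]; group
      _ = (pw a i * pw a i') * (pw b j * pw b j') * (pw c (j * i') * pw c k * pw c k') := by
        rw [(ccb (j * i') j').eq]; group
      _ = _ := by
        rw [pw_add a ha3', pw_add b hb3', pw_add c hc3, pw_add c hc3]
        congr 2; ring
  let M : (Fin 2 → ZMod 3) → G := fun P => pw a (P 0) * pw b (P 1) * pw c (2 * (P 0 * P 1))
  have hxc : (x : G) * c * x = c := by
    have e : (x : G) * c * x = ((x : G) * b * x)⁻¹ * ((x : G) * a * x)⁻¹ * ((x : G) * b * x) * ((x : G) * a * x) := by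
      rw [hc]; simp only [mul_inv_rev, hxi]
      simp only [← mul_assoc]
      simp [mul_assoc, hx1, ← mul_assoc (x : G) x]
    rw [e, hxa, hxb, inv_inv, inv_inv]
    calc b * a * b⁻¹ * a⁻¹ = (a * b) * c * (a * b)⁻¹ := by rw [hba]; group
      _ = c := by rw [((hca.mul_right hcb)).symm.eq]; group
  have hxpw : ∀ u : G, (x : G) * u * x = u⁻¹ → u ^ 3 = 1 → ∀ i, (x : G) * pw u i * x = pw u (-i) := fun u hu hu3 i => by
    have e : ((x : G) * u * (x : G)⁻¹) ^ i.val = (x : G) * u ^ i.val * (x : G)⁻¹ := conj_pow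
    rw [hxi, hu] at e
    simp only [pw]
    rw [← e, inv_pow, inv_eq_of_mul_eq_one_right (show u ^ i.val * u ^ (-i).val = 1 from (pw_add u hu3 i (-i)).trans (by simp [pw]))]
  have hxcp : ∀ i, (x : G) * pw c i * x = pw c i := fun i => by
    have e : ((x : G) * c * (x : G)⁻¹) ^ i.val = (x : G) * c ^ i.val * (x : G)⁻¹ := conj_pow
    rw [hxi, hxc] at e
    exact e.symm
  have hxM : ∀ P, (x : G) * M P * x = M (-P) := fun P => by
    calc (x : G) * M P * x = ((x : G) * pw a (P 0) * x) * ((x : G) * pw b (P 1) * x) * ((x : G) * pw c (2 * (P 0 * P 1)) * x) := by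
          simp only [M]
          simp only [mul_assoc]
          simp [← mul_assoc (x : G) x, hx1]
      _ = _ := by
        rw [hxpw a hxa ha3', hxpw b hxb hb3', hxcp]
        simp [M]
  have hsym : ∀ P Q, M P * M Q * M P = M (2 • P + Q) := fun P Q => by
    simp only [M]
    rw [hmul, hmul]
    simp only [Pi.add_apply, two_nsmul]
    congr 1
    · congr 1 <;> congr 1 <;> ring
    · congr 1
      generalize P 0 = p0; generalize P 1 = p1; generalize Q 0 = q0; generalize Q 1 = q1
      revert p0 p1 q0 q1; decide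
  have hM0 : M 0 = 1 := by simp [M, pw]
  have hMneg : ∀ P, M P * M (-P) = 1 := fun P => by
    simp only [M]
    rw [hmul, Pi.neg_apply, Pi.neg_apply, add_neg_cancel, add_neg_cancel,
      show 2 * (P 0 * P 1) + 2 * (-P 0 * -P 1) + P 1 * -P 0 = (0 : ZMod 3) by
        generalize P 0 = p0; generalize P 1 = p1; revert p0 p1; decide]
    simp [pw]
  -- the nine points
  let p : (Fin 2 → ZMod 3) → G := fun P => M P * x
  have hop : ∀ P Q, p P * p Q * p P = p (-P - Q) := fun P Q => by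
    calc p P * p Q * p P = M P * ((x : G) * M Q * x) * M P * x := by simp only [p]; group
      _ = p (-P - Q) := by
        rw [hxM, hsym]
        simp only [p]
        congr 2
        funext i
        simp only [Pi.add_apply, Pi.smul_apply, Pi.neg_apply, Pi.sub_apply, two_nsmul]
        exact (by decide : ∀ u v : ZMod 3, u + u + -v = -u - v) (P i) (Q i)
  have q00 : p 0 = x := by simp only [p, hM0, one_mul]
  have q10 : p ![1, 0] = y := by
    have : M ![1, 0] = a := by simp [M, pw, ZMod.val_one]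
    simp only [p, this, ha_def]; rw [mul_assoc, hx1, mul_one]
  have q01 : p ![0, 1] = w := by
    have : M ![0, 1] = b := by simp [M, pw, ZMod.val_one]
    simp only [p, this, hb_def]; rw [mul_assoc, hx1, mul_one]
  have hconjmem : ∀ u ∈ D, ∀ v ∈ D, u * v * u ∈ D := fun u hu v hv => h.conj_self hu hv
  have hcases : ∀ P : Fin 2 → ZMod 3, P = 0 ∨ P = ![1, 0] ∨ P = ![0, 1] ∨ P = -0 - ![1, 0] ∨ P = -0 - ![0, 1] ∨
      P = -![1, 0] - ![0, 1] ∨ P = -0 - (-![1, 0] - ![0, 1]) ∨ P = -![1, 0] - (-0 - ![0, 1]) ∨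
      P = -![0, 1] - (-0 - ![1, 0]) := by decide
  have hpD : ∀ P, p P ∈ D := by
    have m0 : p 0 ∈ D := q00 ▸ x.2
    have m1 : p ![1, 0] ∈ D := q10 ▸ y.2
    have m2 : p ![0, 1] ∈ D := q01 ▸ w.2
    have step : ∀ P Q, p P ∈ D → p Q ∈ D → p (-P - Q) ∈ D := fun P Q hP hQ => hop P Q ▸ hconjmem _ hP _ hQ
    intro P
    rcases hcases P with e | e | e | e | e | e | e | e | e <;> rw [e]
    exacts [m0, m1, m2, step _ _ m0 m1, step _ _ m0 m2, step _ _ m1 m2, step _ _ m0 (step _ _ m1 m2),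
      step _ _ m1 (step _ _ m0 m2), step _ _ m2 (step _ _ m0 m1)]
  let π : (Fin 2 → ZMod 3) → D := fun P => ⟨p P, hpD P⟩
  have hgens : y ≠ x ∧ w ≠ x ∧ w ≠ y ∧ (w : G) ≠ x * y * x := by
    refine ⟨fun e => hxy (by rw [e]), fun e => hxw (by rw [e]), fun e => hn1 (by rw [e]), fun e => hne ?_⟩
    have ew : w = third h y x := Subtype.ext (by show (w : G) = (x : G) * y * (x : G)⁻¹; rw [hxi]; exact e)
    have e3 : third h y x = third h x y := Subtype.ext (third_symm h y.2 x.2 fun c => hxy c.symm)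
    rw [ew, e3, ln_third h hxy]
  have hinj : Function.Injective π := by
    intro P Q e
    have e' : M P = M Q := mul_right_cancel (congrArg Subtype.val e)
    have hR : ∀ R, M R = 1 → R = 0 := by
      have hneg1 : ∀ R, M R = 1 → M (-R) = 1 := fun R hR => by
        have := hMneg R; rwa [hR, one_mul] at this
      have k10 : M ![1, 0] ≠ 1 := fun e => hgens.1 (Subtype.ext (q10.symm.trans (by simp only [p, e, one_mul])))
      have k01 : M ![0, 1] ≠ 1 := fun e => hgens.2.1 (Subtype.ext (q01.symm.trans (by simp only [p, e, one_mul])))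
      have k11 : M ![1, 1] ≠ 1 := fun e => by
        apply hgens.2.2.2
        have e1 : a * b * c ^ 2 = 1 := by
          rw [← e]; simp [M, pw, ZMod.val_one]; rfl
        have hcab : Commute a b := by
          have hb' : b = a⁻¹ * (c ^ 2)⁻¹ := by
            calc b = a⁻¹ * (a * b * c ^ 2) * (c ^ 2)⁻¹ := by group
              _ = _ := by rw [e1, mul_one]
          rw [hb']
          exact ((Commute.refl a).inv_right).mul_right ((hca.pow_left 2).symm.inv_right)
        have hc1 : c = 1 := by rw [hc, mul_assoc, hcab.symm.eq]; group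
        rw [hc1, one_pow, mul_one] at e1
        have hwb : (w : G) = b * x := by rw [hb_def, mul_assoc, hx1, mul_one]
        rw [hwb, eq_inv_of_mul_eq_one_right e1, ha_def, mul_inv_rev, hxi, h.inv_eq y.2]
      have k12 : M ![1, 2] ≠ 1 := fun e => by
        apply hgens.2.2.1
        have e1 : a * b ^ 2 * c = 1 := by
          rw [← e]; simp [M, pw, ZMod.val_one]; rw [show (2 : ZMod 3).val = 2 from rfl, show ((2 : ZMod 3) * 2).val = 1 from rfl, pow_one]
        have hcab : Commute b a := by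
          have ha' : a = c⁻¹ * (b ^ 2)⁻¹ := by
            calc a = (a * b ^ 2 * c) * (c⁻¹ * (b ^ 2)⁻¹) := by group
              _ = _ := by rw [e1, one_mul]
          rw [ha']
          exact (hcb.symm.inv_right).mul_right ((Commute.self_pow b 2).inv_right)
        have hc1 : c = 1 := by rw [hc, mul_assoc, hcab.eq]; group
        rw [hc1, mul_one] at e1
        have : a = b := by
          calc a = (a * b ^ 2) * (b ^ 3)⁻¹ * b := by group
            _ = b := by rw [e1, hb3', inv_one, one_mul, one_mul]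
        exact Subtype.ext (mul_right_cancel (show (w : G) * x = y * x by rw [← hb_def, ← ha_def, this]))
      have hc9 : ∀ R : Fin 2 → ZMod 3, R = 0 ∨ R = ![1, 0] ∨ -R = ![1, 0] ∨ R = ![0, 1] ∨ -R = ![0, 1] ∨
          R = ![1, 1] ∨ -R = ![1, 1] ∨ R = ![1, 2] ∨ -R = ![1, 2] := by decide
      intro R hR
      rcases hc9 R with e | e | e | e | e | e | e | e | e
      exacts [e, absurd (e ▸ hR) k10, absurd (e ▸ hneg1 R hR) k10, absurd (e ▸ hR) k01, absurd (e ▸ hneg1 R hR) k01,
        absurd (e ▸ hR) k11, absurd (e ▸ hneg1 R hR) k11, absurd (e ▸ hR) k12, absurd (e ▸ hneg1 R hR) k12]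
    have hPQ : M P * M (-Q) = 1 := by rw [e']; exact hMneg Q
    simp only [M] at hPQ
    rw [hmul] at hPQ
    simp only [Pi.neg_apply, ← sub_eq_add_neg] at hPQ
    set K := 2 * (P 0 * P 1) + 2 * (-Q 0 * -Q 1) + P 1 * -Q 0
    have hMR : M (P - Q) = pw c (2 * ((P 0 - Q 0) * (P 1 - Q 1)) - K) := by
      have : M (P - Q) = pw a (P 0 - Q 0) * pw b (P 1 - Q 1) * pw c K * pw c (2 * ((P 0 - Q 0) * (P 1 - Q 1)) - K) := by
        rw [mul_assoc (pw a (P 0 - Q 0) * pw b (P 1 - Q 1)), pw_add c hc3, add_sub_cancel]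
        simp [M]
      rw [this, hPQ, one_mul]
    set k := 2 * ((P 0 - Q 0) * (P 1 - Q 1)) - K
    have h2k : pw c k * pw c k = 1 := by
      rw [← hMneg (P - Q), ← hxM, hMR, hxcp]
    have hk1 : pw c k = 1 := by
      have h3k : pw c k ^ 3 = 1 := by simp only [pw]; rw [← pow_mul, mul_comm, pow_mul, hc3, one_pow]
      rwa [pow_succ, pow_two, h2k, one_mul] at h3k
    exact sub_eq_zero.mp (hR _ (hMR.trans hk1))
  have hnc : ∀ P Q, P ≠ Q → ¬ Commute (π P : G) (π Q) := by
    intro P Q hne' hc'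
    have e : p (-P - Q) = p Q := by
      have hc2 : Commute (p P) (p Q) := hc'
      rw [← hop, hc2.eq, mul_assoc, h.mul_self (hpD P), mul_one]
    have e2 := hinj (show π (-P - Q) = π Q from Subtype.ext e)
    apply hne'
    funext i
    have := congrFun e2 i
    simp only [Pi.sub_apply, Pi.neg_apply] at this
    revert this; generalize P i = u; generalize Q i = v; revert u v; decide
  have hthird : ∀ P Q, ((π Q : G) * (π P : G) * (π Q : G)⁻¹) = p (-Q - P) := fun P Q => by
    rw [h.inv_eq (π Q).2]; exact hop Q P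
  have hA : ∀ N ∈ affinePlaneThree, π '' N ∈ threeTranspositionLines D := by
    rintro _ ⟨v, u, hu, rfl⟩
    refine ⟨π v, π (v + u), hnc _ _ (fun e => hu (left_eq_add.mp e)), ?_⟩
    have e3 : ((π (v + u) : G) * π v * (π (v + u) : G)⁻¹) = (π (v + (2 : ZMod 3) • u) : G) := by
      rw [hthird]
      show p _ = p _
      congr 1
      funext i
      simp only [Pi.sub_apply, Pi.neg_apply, Pi.add_apply, Pi.smul_apply, smul_eq_mul]
      generalize v i = s; generalize u i = r; revert s r; decide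
    ext z
    constructor
    · rintro ⟨_, ⟨k, rfl⟩, rfl⟩
      rcases (by decide : ∀ k : ZMod 3, k = 0 ∨ k = 1 ∨ k = 2) k with rfl | rfl | rfl
      · exact Or.inl (by rw [zero_smul, add_zero])
      · exact Or.inr (Or.inl (by rw [one_smul]))
      · exact Or.inr (Or.inr e3.symm)
    · rintro (e | e | e)
      · exact ⟨v, ⟨0, by rw [zero_smul, add_zero]⟩, Subtype.ext e.symm⟩
      · exact ⟨v + u, ⟨1, by rw [one_smul]⟩, Subtype.ext e.symm⟩
      · exact ⟨v + (2 : ZMod 3) • u, ⟨2, rfl⟩, Subtype.ext (e.trans e3).symm⟩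
  have px : π 0 = x := Subtype.ext q00
  have py : π ![1, 0] = y := Subtype.ext q10
  have pw' : π ![0, 1] = w := Subtype.ext q01
  refine span_iso h _ π hinj _ _ hA (fun P Q hn => ⟨_, ⟨P, Q - P, ?_, rfl⟩, ⟨0, by rw [zero_smul, add_zero]⟩,
    ⟨1, by rw [one_smul, add_sub_cancel]⟩⟩) ?_ ?_
  · exact fun e => hn (by rw [sub_eq_zero.mp e])
  · refine Set.union_subset ?_ ?_
    · rintro z (e | e | e)
      · exact ⟨0, Subtype.ext (q00.trans e.symm)⟩
      · exact ⟨![1, 0], Subtype.ext (q10.trans e.symm)⟩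
      · exact ⟨-![1, 0] - 0, Subtype.ext (by rw [e, ← px, ← py, hthird])⟩
    · rintro z (e | e | e)
      · exact ⟨0, Subtype.ext (q00.trans e.symm)⟩
      · exact ⟨![0, 1], Subtype.ext (q01.trans e.symm)⟩
      · exact ⟨-![0, 1] - 0, Subtype.ext (by rw [e, ← px, ← pw', hthird])⟩
  · intro T hlT hT
    have tx : π 0 ∈ T := px ▸ hlT (Or.inl (Or.inl rfl))
    have ty : π ![1, 0] ∈ T := py ▸ hlT (Or.inl (Or.inr (Or.inl rfl)))
    have tw : π ![0, 1] ∈ T := pw' ▸ hlT (Or.inr (Or.inr (Or.inl rfl)))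
    have step : ∀ P Q, π P ∈ T → π Q ∈ T → π (-P - Q) ∈ T := by
      intro P Q hP hQ
      by_cases e : P = Q
      · subst e
        rwa [show -P - P = P by funext i; simp only [Pi.sub_apply, Pi.neg_apply]; generalize P i = u; revert u; decide]
      · have := third_mem h T hT (hnc Q P (Ne.symm e)) hQ hP
        rwa [show third h (π Q) (π P) = π (-P - Q) from Subtype.ext (hthird Q P)] at this
    rintro _ ⟨P, rfl⟩
    rcases hcases P with e | e | e | e | e | e | e | e | e <;> rw [e]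
    exacts [tx, ty, tw, step _ _ tx ty, step _ _ tx tw, step _ _ ty tw, step _ _ tx (step _ _ ty tw),
      step _ _ ty (step _ _ tx tw), step _ _ tw (step _ _ tx ty)]

theorem fischer_space : IsFischerSpace (threeTranspositionLines D) := by
  refine ⟨fun l hl m hm x y hne hxl hyl hxm hym => ?_, fun l hl => ?_, fun l hl m hm hne hmeet => ?_⟩
  · exact (line_eq h hl hxl hyl hne).2.trans (line_eq h hm hxm hym hne).2.symm
  · obtain ⟨x, y, hn, rfl⟩ := (mem_lines h).mp hl
    refine Set.ncard_eq_three.mpr ⟨x, y, third h x y, ?_, ?_, ?_, ?_⟩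
    · exact fun e => hn (by rw [e])
    · exact fun e => third_noncomm h x.2 y.2 hn (by
        have e' := congrArg Subtype.val e
        simp only [third] at e'
        rw [← e'])
    · intro e
      refine third_noncomm h y.2 x.2 (fun c => hn c.symm) ?_
      have e' : (y : G) = (x : G) * y * (x : G)⁻¹ := (congrArg Subtype.val e).trans (third_symm h x.2 y.2 hn)
      rw [← e']
    · ext z
      simp only [Set.mem_insert_iff, Set.mem_singleton_iff, Subtype.ext_iff]
      rfl
  · obtain ⟨x, hxl, hxm⟩ := hmeet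
    obtain ⟨y0, y1, hny, rfl⟩ := (mem_lines h).mp hl
    obtain ⟨w0, w1, hnw, rfl⟩ := (mem_lines h).mp hm
    have hl' : ∃ y ∈ ln y0 y1, y ≠ x := by
      by_cases e : y0 = x
      · exact ⟨y1, Or.inr (Or.inl rfl), fun e1 => hny (by rw [e, e1])⟩
      · exact ⟨y0, Or.inl rfl, e⟩
    have hm' : ∃ w ∈ ln w0 w1, w ≠ x := by
      by_cases e : w0 = x
      · exact ⟨w1, Or.inr (Or.inl rfl), fun e1 => hnw (by rw [e, e1])⟩
      · exact ⟨w0, Or.inl rfl, e⟩
    by_cases hc : ∃ a ∈ ln y0 y1, a ≠ x ∧ ∃ c ∈ ln w0 w1, c ≠ x ∧ Commute (a : G) c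
    · obtain ⟨a, ha, hax, c, hc, hcx, hac⟩ := hc
      obtain ⟨h1, e1⟩ := line_eq h (l := ln y0 y1) ⟨y0, y1, hny, rfl⟩ hxl ha hax.symm
      obtain ⟨h2, e2⟩ := line_eq h (l := ln w0 w1) ⟨w0, w1, hnw, rfl⟩ hxm hc hcx.symm
      refine Or.inl ?_
      rw [e1, e2]
      refine dual_case h (fun c => h1 c.symm) h2 hac fun e => hne ?_
      rw [e1, e2, e]
    · push Not at hc
      obtain ⟨y, hy, hyx⟩ := hl'
      obtain ⟨w, hw, hwx⟩ := hm'
      obtain ⟨h1, e1⟩ := line_eq h (l := ln y0 y1) ⟨y0, y1, hny, rfl⟩ hxl hy hyx.symm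
      obtain ⟨h2, e2⟩ := line_eq h (l := ln w0 w1) ⟨w0, w1, hnw, rfl⟩ hxm hw hwx.symm
      refine Or.inr ?_
      have hn1 : ¬ Commute (y : G) w := hc y hy hyx w hw hwx
      have hn2 : ¬ Commute (y : G) (third h w x : D) := by
        refine hc y hy hyx _ ?_ fun e => third_noncomm h x.2 w.2 h2 ?_
        · rw [e2]
          exact Or.inr (Or.inr (third_symm h w.2 x.2 fun c => h2 c.symm))
        · have e' : (x : G) * w * (x : G)⁻¹ = x := congrArg Subtype.val e
          rw [third_symm h x.2 w.2 h2, e']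
      rw [e1, e2]
      exact affine_case h h1 h2 hn1 hn2 fun e => hne (by rw [e1, e2, e])

end Cfsg.Agent.Solv.FischerSpace
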