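import Mathlib

/-!
# Gruen's first theorem
-/

set_option autoImplicit false
open scoped commutatorElement Pointwise
open Subgroup

universe u

namespace Cfsg.Agent.Solv.Gruen

variable {G : Type u} [Group G] [Finite G] {p : ℕ} [hp : Fact p.Prime]

/-- Gruen: a subgroup of `P` containing `P ∩ N(P)'` and every `P ∩ (P')^z` contains `P ∩ G'`. -/
theorem inf_commutator_le (P : Sylow p G) (W : Subgroup G)
    (hN : (P : Subgroup G) ⊓ ⁅normalizer ((P : Subgroup G) : Set G), normalizer ((P : Subgroup G) : Set G)⁆ ≤ W)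
    (hz : ∀ z : G, (P : Subgroup G) ⊓ (⁅(P : Subgroup G), (P : Subgroup G)⁆).map (MulAut.conj z).toMonoidHom ≤ W)
    (hWP : W ≤ (P : Subgroup G)) :
    (P : Subgroup G) ⊓ _root_.commutator G ≤ W := by
  classical
  have hPW : ⁅(P : Subgroup G), (P : Subgroup G)⁆ ≤ W :=
    (le_inf (commutator_le_self _) (commutator_mono le_normalizer le_normalizer)).trans hN
  haveI hWn : (W.subgroupOf (P : Subgroup G)).Normal := ⟨fun t ht s => by
    have h1 : ⁅(s : G), (t : G)⁆ ∈ W := hPW (commutator_mem_commutator s.2 t.2)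
    have h2 := mul_mem h1 (mem_subgroupOf.1 ht)
    rw [mem_subgroupOf]
    simpa [commutatorElement_def, mul_assoc] using h2⟩
  letI : CommGroup (↥(P : Subgroup G) ⧸ W.subgroupOf (P : Subgroup G)) :=
    { (inferInstance : Group (↥(P : Subgroup G) ⧸ W.subgroupOf (P : Subgroup G))) with
      mul_comm := fun a b => by
        obtain ⟨a, rfl⟩ := QuotientGroup.mk_surjective a
        obtain ⟨b, rfl⟩ := QuotientGroup.mk_surjective b
        rw [← QuotientGroup.mk_mul, ← QuotientGroup.mk_mul, QuotientGroup.eq]
        have h1 : ⁅((b⁻¹ : (P : Subgroup G)) : G), ((a⁻¹ : (P : Subgroup G)) : G)⁆ ∈ W :=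
          hPW (commutator_mem_commutator (b⁻¹).2 (a⁻¹).2)
        simpa [commutatorElement_def, mem_subgroupOf, mul_assoc] using h1 }
  let ψ : ↥(P : Subgroup G) →* ↥(P : Subgroup G) ⧸ W.subgroupOf (P : Subgroup G) := QuotientGroup.mk' _
  have hker : ∀ x : ↥(P : Subgroup G), ψ x = 1 ↔ (x : G) ∈ W := fun x =>
    (QuotientGroup.eq_one_iff x).trans mem_subgroupOf
  have hψconj : ∀ x y : ↥(P : Subgroup G), ψ (y⁻¹ * x * y) = ψ x := fun x y => by
    rw [map_mul, map_mul, map_inv, mul_comm, mul_inv_cancel_left]
  have hψeq : ∀ x y : ↥(P : Subgroup G), (x : G)⁻¹ * (y : G) ∈ W → ψ x = ψ y := fun x y h => by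
    rw [← inv_mul_eq_one, ← map_inv, ← map_mul, hker]
    simpa using h
  suffices ∀ (m : ℕ) (u : G), orderOf u = m → u ∈ (P : Subgroup G) → u ∈ _root_.commutator G → u ∈ W from
    fun u hu => this _ u rfl hu.1 hu.2
  intro m
  induction m using Nat.strong_induction_on with
  | _ m ih =>
  intro u hm huP huG
  rcases eq_or_ne u 1 with rfl | hu1
  · exact one_mem W
  have small : ∀ y ∈ (P : Subgroup G), y ∈ _root_.commutator G → orderOf y < orderOf u → y ∈ W :=
    fun y hy hy' hlt => ih _ (hm ▸ hlt) y rfl hy hy'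
  haveI := Fintype.ofFinite (G ⧸ (P : Subgroup G))
  haveI := Fintype.ofFinite (Quotient (MulAction.orbitRel (zpowers u) (G ⧸ (P : Subgroup G))))
  haveI := Fintype.ofFinite (Quotient (MulAction.orbitRel ↥(P : Subgroup G) (G ⧸ (P : Subgroup G))))
  have hfixmem : ∀ c : G ⧸ (P : Subgroup G), u • c = c → c.out⁻¹ * u * c.out ∈ (P : Subgroup G) := by
    intro c hc
    rw [mul_assoc, ← QuotientGroup.eq]
    rw [← QuotientGroup.out_eq' c] at hc
    rw [show ((u * c.out : G) : G ⧸ (P : Subgroup G)) = u • ((c.out : G) : G ⧸ (P : Subgroup G)) from rfl, hc]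
  let f : G ⧸ (P : Subgroup G) → ↥(P : Subgroup G) ⧸ W.subgroupOf (P : Subgroup G) := fun c =>
    if h : u • c = c then ψ ⟨_, hfixmem c h⟩ else 1
  -- the transfer only sees the fixed cosets
  have hV : MonoidHom.transfer ψ u = ∏ c, f c := by
    rw [MonoidHom.transfer_eq_prod_quotient_orbitRel_zpowers_quot]
    refine Fintype.prod_of_injective _ Quotient.out_injective _ _ (fun c hc => ?_) (fun q => ?_)
    · show f c = 1
      simp only [f]
      rw [dif_neg]
      intro h
      refine hc ⟨Quotient.mk'' c, ?_⟩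
      obtain ⟨⟨_, k, rfl⟩, hk⟩ := Quotient.exact' (Quotient.out_eq' (Quotient.mk'' c :
        Quotient (MulAction.orbitRel (zpowers u) (G ⧸ (P : Subgroup G)))))
      rw [← hk]
      exact MulAction.mem_stabilizer_iff.1 (zpow_mem (MulAction.mem_stabilizer_iff.2 h) k)
    · simp only [f]
      by_cases h : u • q.out = q.out
      · rw [dif_pos h]
        congr 1
        have hper : Function.minimalPeriod (u • ·) q.out = 1 :=
          Function.minimalPeriod_eq_one_iff_isFixedPt.2 h
        exact Subtype.ext (by simp [hper])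
      · rw [dif_neg h, hker]
        set k := Function.minimalPeriod (u • ·) q.out with hk
        refine small _ (QuotientGroup.out_conj_pow_minimalPeriod_mem (P : Subgroup G) u q.out) ?_ ?_
        · have := (inferInstance : (_root_.commutator G).Normal).conj_mem _ (pow_mem huG k) q.out.out⁻¹
          rwa [inv_inv] at this
        · have e : orderOf (q.out.out⁻¹ * u ^ k * q.out.out) = orderOf (u ^ k) :=
            orderOf_injective (MulAut.conj q.out.out⁻¹).toMonoidHom (MulAut.conj _).injective (u ^ k) ▸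
              (by simp)
          rw [e]
          refine lt_of_le_of_ne (Nat.le_of_dvd (orderOf_pos u) (orderOf_pow_dvd k)) fun he => h ?_
          have h1 : u ∈ zpowers (u ^ k) := by
            rw [eq_of_le_of_card_ge (zpowers_le.2 (pow_mem (mem_zpowers u) k))
              (by rw [Nat.card_zpowers, Nat.card_zpowers, he])]
            exact mem_zpowers u
          refine MulAction.mem_stabilizer_iff.1 (zpowers_le.2 ?_ h1)
          rw [MulAction.mem_stabilizer_iff]
          have h2 := Function.isPeriodicPt_minimalPeriod (u • ·) q.out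
          rwa [Function.IsPeriodicPt, Function.IsFixedPt, smul_iterate] at h2
  have hpow : ∀ (c : G ⧸ (P : Subgroup G)), f c ^ p = 1 := by
    intro c
    simp only [f]
    split_ifs with h
    · rw [← map_pow, hker]
      refine small _ (pow_mem (hfixmem c h) p) ?_ ?_
      · have := (inferInstance : (_root_.commutator G).Normal).conj_mem _ huG c.out⁻¹
        rw [inv_inv] at this
        exact pow_mem this p
      · have e : orderOf (c.out⁻¹ * u * c.out) = orderOf u :=
          orderOf_injective (MulAut.conj c.out⁻¹).toMonoidHom (MulAut.conj _).injective u ▸ (by simp)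
        obtain ⟨j, hj⟩ := P.isPGroup'.exists_orderOf_eq_pow ⟨u, huP⟩
        rw [orderOf_mk] at hj
        have hj0 : j ≠ 0 := by
          rintro rfl
          exact hu1 (orderOf_eq_one_iff.1 hj)
        show orderOf ((c.out⁻¹ * u * c.out) ^ p) < orderOf u
        rw [orderOf_pow' _ hp.out.ne_zero, e, hj, Nat.gcd_eq_right (dvd_pow_self p hj0)]
        exact Nat.div_lt_self (pow_pos hp.out.pos j) hp.out.one_lt
    · exact one_pow p
  let π : G ⧸ (P : Subgroup G) → Quotient (MulAction.orbitRel ↥(P : Subgroup G) (G ⧸ (P : Subgroup G))) :=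
    Quotient.mk''
  let F : G ⧸ (P : Subgroup G) → ↥(P : Subgroup G) ⧸ W.subgroupOf (P : Subgroup G) := fun c =>
    if ∀ s : ↥(P : Subgroup G), s • c = c then ψ ⟨u, huP⟩ else 1
  have hprod : ∏ c, f c = ∏ c, F c := by
    rw [← Fintype.prod_fiberwise π f, ← Fintype.prod_fiberwise π F]
    refine Finset.prod_congr rfl fun D _ => ?_
    obtain ⟨c₀, rfl⟩ := Quotient.mk''_surjective D
    by_cases hfix : ∀ s : ↥(P : Subgroup G), s • c₀ = c₀
    · refine Finset.prod_congr rfl fun c _ => ?_
      have hc : (c : G ⧸ (P : Subgroup G)) = c₀ := by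
        obtain ⟨s, hs⟩ := Quotient.exact' c.2
        rw [← hs]; exact hfix s
      rw [hc]
      have hu0 : u • c₀ = c₀ := hfix ⟨u, huP⟩
      simp only [f, F]
      rw [dif_pos hu0, if_pos hfix]
      symm
      refine hψeq _ _ (hN ⟨?_, ?_⟩)
      · exact Subgroup.mul_mem (P : Subgroup G) (Subgroup.inv_mem _ huP) (hfixmem c₀ hu0)
      · have hn : c₀.out⁻¹ ∈ normalizer ((P : Subgroup G) : Set G) := by
          have h2 : (P : Subgroup G).map (MulAut.conj c₀.out⁻¹).toMonoidHom = (P : Subgroup G) := by
            refine eq_of_le_of_card_ge ?_ (card_map_of_injective (MulAut.conj c₀.out⁻¹).injective).ge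
            rintro _ ⟨x, hx, rfl⟩
            have h3 := hfix ⟨x, hx⟩
            rw [← QuotientGroup.out_eq' c₀] at h3
            have h4 := QuotientGroup.eq.1 (h3.symm : ((c₀.out : G) : G ⧸ (P : Subgroup G)) = ((x * c₀.out : G) : G ⧸ (P : Subgroup G)))
            simpa [mul_assoc] using h4
          rw [mem_normalizer_iff]
          intro x
          constructor
          · intro hx
            exact h2.le ⟨x, hx, rfl⟩
          · intro hx
            obtain ⟨y, hy, e⟩ := h2.ge hx
            simp only [MulEquiv.coe_toMonoidHom, MulAut.conj_apply, mul_right_cancel_iff, mul_left_cancel_iff] at e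
            rwa [← e]
        rw [show u⁻¹ * (c₀.out⁻¹ * u * c₀.out) = ⁅u⁻¹, c₀.out⁻¹⁆ by rw [commutatorElement_def]; group]
        exact commutator_mem_commutator (inv_mem (le_normalizer huP)) hn
    · have hF : ∀ c : {c // π c = Quotient.mk'' c₀}, F c = 1 := by
        rintro ⟨c, hc⟩
        simp only [F]
        rw [if_neg]
        intro h
        apply hfix
        obtain ⟨s, hs⟩ := Quotient.exact' hc
        intro t
        have h1 : c = c₀ := by rw [← inv_smul_smul s c₀, show s • c₀ = c from hs]; exact (h s⁻¹).symm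
        exact h1 ▸ h t
      rw [Finset.prod_eq_one fun c _ => hF c]
      -- all fixed points in this orbit have one value
      have hconst : ∀ c d : G ⧸ (P : Subgroup G), u • c = c → u • d = d → (∃ s : ↥(P : Subgroup G), s • c = d) →
          f c = f d := by
        rintro c d hc hd ⟨s, hs⟩
        obtain ⟨t, ht⟩ : ∃ t : ↥(P : Subgroup G), d.out = (s : G) * c.out * t := by
          obtain ⟨t, ht⟩ := QuotientGroup.mk_out_eq_mul (P : Subgroup G) ((s : G) * c.out)
          refine ⟨t, ?_⟩
          rw [← ht, ← hs]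
          conv_lhs => rw [← QuotientGroup.out_eq' c]
          rfl
        simp only [f]
        rw [dif_pos hc, dif_pos hd]
        have hm : (t : G) * (d.out⁻¹ * u * d.out) * (t : G)⁻¹ ∈ (P : Subgroup G) :=
          mul_mem (mul_mem t.2 (hfixmem d hd)) (inv_mem t.2)
        have e : ψ ⟨_, hfixmem d hd⟩ = ψ ⟨_, hm⟩ := by
          refine ((congrArg ψ (Subtype.ext ?_)).trans (hψconj ⟨_, hm⟩ t))
          show _ = (t : G)⁻¹ * _ * (t : G)
          group
        rw [e]
        refine hψeq _ _ (hz c.out⁻¹ ⟨Subgroup.mul_mem (P : Subgroup G) (Subgroup.inv_mem _ (hfixmem c hc)) hm, ⟨⁅u⁻¹, (s : G)⁻¹⁆,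
          commutator_mem_commutator (inv_mem huP) (inv_mem s.2), ?_⟩⟩)
        show (MulAut.conj c.out⁻¹) ⁅u⁻¹, (s : G)⁻¹⁆ =
          (c.out⁻¹ * u * c.out)⁻¹ * ((t : G) * (d.out⁻¹ * u * d.out) * (t : G)⁻¹)
        rw [ht, MulAut.conj_apply, commutatorElement_def]
        simp [mul_assoc]
      -- and their number is divisible by `p`
      let O := MulAction.orbit ↥(P : Subgroup G) c₀
      let U : Subgroup ↥(P : Subgroup G) := zpowers ⟨u, huP⟩
      have hO : p ∣ Nat.card O := by
        obtain ⟨a, ha⟩ := P.isPGroup'.card_orbit c₀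
        rcases Nat.eq_zero_or_pos a with rfl | ha0
        · exfalso
          rw [pow_zero] at ha
          apply hfix
          intro s
          haveI := (Nat.card_eq_one_iff_unique.1 ha).1
          exact congrArg Subtype.val (Subsingleton.elim (⟨s • c₀, MulAction.mem_orbit _ _⟩ : O)
            ⟨c₀, MulAction.mem_orbit_self _⟩)
        · exact ha ▸ dvd_pow_self p ha0.ne'
      have hfixed : p ∣ Nat.card (MulAction.fixedPoints U O) :=
        Nat.modEq_zero_iff_dvd.1 (((P.isPGroup'.to_subgroup U).card_modEq_card_fixedPoints O).symm.trans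
          (Nat.modEq_zero_iff_dvd.2 hO))
      by_cases hne : ∃ c : G ⧸ (P : Subgroup G), π c = Quotient.mk'' c₀ ∧ u • c = c
      · obtain ⟨c₁, hc₁, hu₁⟩ := hne
        have heq : ∀ c : {c // π c = Quotient.mk'' c₀},
            f c = if u • (c : G ⧸ (P : Subgroup G)) = c then f c₁ else 1 := by
          rintro ⟨c, hc⟩
          by_cases h : u • c = c
          · rw [if_pos h]
            exact hconst c c₁ h hu₁ (Quotient.exact' (hc₁.trans hc.symm))
          · rw [if_neg h]; simp only [f]; rw [dif_neg h]
        rw [Finset.prod_congr rfl fun c _ => heq c, Finset.prod_ite, Finset.prod_const_one, mul_one,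
          Finset.prod_const]
        obtain ⟨l, hl⟩ := hfixed
        have hcard : (Finset.univ.filter fun c : {c // π c = Quotient.mk'' c₀} =>
            u • (c : G ⧸ (P : Subgroup G)) = c).card = Nat.card (MulAction.fixedPoints U O) := by
          rw [← Fintype.card_subtype, ← Nat.card_eq_fintype_card]
          refine Nat.card_congr
            { toFun := fun c => ⟨⟨c.1.1, Quotient.exact' c.1.2⟩, ?_⟩
              invFun := fun c => ⟨⟨c.1.1, Quotient.sound c.1.2⟩, ?_⟩
              left_inv := fun c => rfl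
              right_inv := fun c => rfl }
          · rintro ⟨v, hv⟩
            apply Subtype.ext
            exact MulAction.mem_stabilizer_iff.1 (zpowers_le.2 (MulAction.mem_stabilizer_iff.2
              (show (⟨u, huP⟩ : ↥(P : Subgroup G)) • c.1.1 = c.1.1 from c.2)) hv)
          · exact congrArg Subtype.val (c.2 ⟨⟨u, huP⟩, mem_zpowers _⟩)
        rw [hcard, hl, pow_mul, hpow, one_pow]
      · refine Finset.prod_eq_one fun c _ => ?_
        simp only [f]
        rw [dif_neg fun h => hne ⟨c.1, c.2, h⟩]
  have h1 : MonoidHom.transfer ψ u = 1 := Abelianization.commutator_subset_ker _ huG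
  rw [hV, hprod, Finset.prod_ite, Finset.prod_const_one, mul_one, Finset.prod_const] at h1
  rw [← hker ⟨u, huP⟩]
  have hk : ¬ p ∣ (Finset.univ.filter fun c : G ⧸ (P : Subgroup G) => ∀ s : ↥(P : Subgroup G), s • c = c).card := by
    intro hd
    apply P.not_dvd_index
    rw [index_eq_card]
    refine Nat.modEq_zero_iff_dvd.1 ((P.isPGroup'.card_modEq_card_fixedPoints (G ⧸ (P : Subgroup G))).trans
      (Nat.modEq_zero_iff_dvd.2 ?_))
    rw [← Fintype.card_subtype, ← Nat.card_eq_fintype_card] at hd
    exact hd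
  obtain ⟨j, hj⟩ := (P.isPGroup'.to_quotient (W.subgroupOf (P : Subgroup G))) (ψ ⟨u, huP⟩)
  exact orderOf_eq_one_iff.1 (Nat.eq_one_of_dvd_coprimes
    (Nat.Coprime.pow_left j ((Nat.Prime.coprime_iff_not_dvd hp.out).2 hk))
    (orderOf_dvd_of_pow_eq_one hj) (orderOf_dvd_of_pow_eq_one h1))

end Cfsg.Agent.Solv.Gruen
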