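import Cfsg.Agent.Lib.Fusion.Tate
import Cfsg.Agent.Lib.Fusion.HyperfocalGroup
import Cfsg.Agent.Lib.Solv.NormalPComplement
import Cfsg.Agent.Lib.Struct.CoprimeMinimal
import Cfsg.Agent.Lib.Solv.StructMisc
import Cfsg.Agent.Lib.Solv.CyclicIndexP
import Cfsg.Prelude.Def_BaumannBlocks

/-!
# The theorem of Hall and Wielandt
-/

set_option autoImplicit false
open Subgroup
open scoped commutatorElement

universe u

namespace Cfsg.Agent.Solv.HallWielandt

variable {G : Type u} [Group G] {H : Subgroup G} {A : Type*} [CommGroup A] (ψ : H →* A)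

theorem out_mul_mem (g : G) (c : G ⧸ H) : (g • c).out⁻¹ * g * c.out ∈ H := by
  rw [mul_assoc, ← QuotientGroup.eq, QuotientGroup.out_eq']
  conv_lhs => rw [← QuotientGroup.out_eq' c]
  rfl

/-- The transfer cocycle. -/
noncomputable def tau (g : G) (c : G ⧸ H) : A := ψ ⟨_, out_mul_mem g c⟩

theorem tau_mul (g h : G) (c : G ⧸ H) : tau ψ (g * h) c = tau ψ g (h • c) * tau ψ h c := by
  simp only [tau, ← map_mul]
  congr 1
  apply Subtype.ext
  simp only [mul_smul, Subgroup.coe_mul]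
  group

theorem tau_one (c : G ⧸ H) : tau ψ 1 c = 1 := by
  have h := tau_mul ψ 1 1 c
  rw [one_mul, one_smul] at h
  exact left_eq_mul.1 h

theorem tau_pow (g : G) (c : G ⧸ H) : ∀ n : ℕ,
    tau ψ (g ^ n) c = ∏ i ∈ Finset.range n, tau ψ g (g ^ i • c) := by
  intro n
  induction n with
  | zero => rw [pow_zero, tau_one, Finset.prod_range_zero]
  | succ n ih => rw [pow_succ', tau_mul, Finset.prod_range_succ, ih, mul_comm]

open Classical in
/-- Evaluate the cocycle on a union of orbits of one element. -/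
theorem prod_orbit [Finite G] (u : G) (a : A) : ∀ (D : Finset (G ⧸ H)), (∀ c ∈ D, u • c ∈ D) →
    (∀ c ∈ D, ∀ k : ℕ, ∀ hk : c.out⁻¹ * u ^ k * c.out ∈ H, u ^ k • c = c →
      ψ ⟨_, hk⟩ = a ^ k) → ∏ c ∈ D, tau ψ u c = a ^ D.card := by
  intro D
  induction D using Finset.strongInductionOn with
  | _ D ih =>
  intro hinv hD
  rcases D.eq_empty_or_nonempty with rfl | ⟨c, hc⟩
  · simp
  set k := Function.minimalPeriod (u • ·) c with hk
  have hk0 : 0 < k := Function.minimalPeriod_pos_of_mem_periodicPts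
    ((MulAction.injective u).mem_periodicPts c)
  have hfix : u ^ k • c = c := by
    have h2 := Function.isPeriodicPt_minimalPeriod (u • ·) c
    rwa [Function.IsPeriodicPt, Function.IsFixedPt, smul_iterate] at h2
  have hmemD : ∀ n : ℕ, u ^ n • c ∈ D := by
    intro n
    induction n with
    | zero => rwa [pow_zero, one_smul]
    | succ n ihn => rw [pow_succ', mul_smul]; exact hinv _ ihn
  set O := (Finset.range k).image fun n => u ^ n • c with hO
  have hinjO : Set.InjOn (fun n => u ^ n • c) (Finset.range k : Set ℕ) := by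
    intro i hi j hj e
    rw [Finset.coe_range] at hi hj
    refine Function.iterate_injOn_Iio_minimalPeriod hi hj ?_
    simpa [smul_iterate] using e
  have hOD : O ⊆ D := by
    intro d hd
    obtain ⟨n, -, rfl⟩ := Finset.mem_image.1 hd
    exact hmemD n
  have hmemO : ∀ n : ℕ, u ^ n • c ∈ O := fun n => Finset.mem_image.2 ⟨n % k, Finset.mem_range.2 (Nat.mod_lt _ hk0), by
    have := Function.iterate_mod_minimalPeriod_eq (f := (u • ·)) (x := c) (n := n)
    simp only [smul_iterate] at this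
    exact this⟩
  have hrest := ih (D \ O) ⟨Finset.sdiff_subset, fun h => (Finset.mem_sdiff.1 (h hc)).2 (by simpa using hmemO 0)⟩
    (fun d hd => by
      obtain ⟨hdD, hdO⟩ := Finset.mem_sdiff.1 hd
      refine Finset.mem_sdiff.2 ⟨hinv d hdD, fun h => hdO ?_⟩
      obtain ⟨n, -, hn⟩ := Finset.mem_image.1 h
      have : d = u ^ (n + (k - 1)) • c := by
        apply MulAction.injective u
        show u • d = u • u ^ (n + (k - 1)) • c
        rw [← hn, ← mul_smul, ← pow_succ', show n + (k - 1) + 1 = n + k by omega, pow_add, mul_smul, hfix]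
      rw [this]
      exact hmemO _)
    (fun d hd => hD d (Finset.mem_sdiff.1 hd).1)
  have hsum : ∏ d ∈ O, tau ψ u d = a ^ O.card := by
    rw [hO, Finset.prod_image hinjO, ← tau_pow, Finset.card_image_of_injOn hinjO, Finset.card_range]
    have hmem : c.out⁻¹ * u ^ k * c.out ∈ H := by
      have := out_mul_mem (H := H) (u ^ k) c
      rwa [hfix] at this
    rw [← hD c hc k hmem hfix]
    simp only [tau]
    congr 1
    apply Subtype.ext
    show (u ^ k • c).out⁻¹ * u ^ k * c.out = _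
    rw [hfix]
  rw [← Finset.prod_sdiff hOD, hrest, hsum, ← pow_add, Finset.card_sdiff_add_card_eq_card hOD]

/-- The transfer as a homomorphism. -/
noncomputable def trans [Fintype (G ⧸ H)] : G →* A where
  toFun g := ∏ c, tau ψ g c
  map_one' := by simp [tau_one]
  map_mul' g h := by
    simp only [tau_mul, Finset.prod_mul_distrib]
    congr 1
    exact Fintype.prod_equiv (MulAction.toPerm h) _ _ fun _ => rfl

variable [Finite G] {p : ℕ} [hp : Fact p.Prime]

open Classical in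
/-- Orbits moved by the Engel subgroup contribute nothing. -/
theorem prod_moved (P : Subgroup G) (hP : IsPGroup p P) (hA : ∀ a : A, a ^ p = 1) (Q : Subgroup G)
    (heng : ∀ u ∈ P, ∀ z ∈ Q, (fun y : G => y⁻¹ * z⁻¹ * y * z)^[p - 1] u = 1)
    (u : G) (hu : ∀ k : ℕ, orderOf (u ^ k) < orderOf u →
      ∀ c : G ⧸ H, ∀ hk : c.out⁻¹ * u ^ k * c.out ∈ H, ψ ⟨_, hk⟩ = 1) :
    ∀ L : Subgroup G, L ≤ P → Q ≤ L → u ∈ L → ∀ D : Finset (G ⧸ H), (∀ l ∈ L, ∀ c ∈ D, l • c ∈ D) →
      (∀ c ∈ D, ∃ z ∈ Q, z • c ≠ c) → ∏ c ∈ D, tau ψ u c = 1 := by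
  intro L
  induction L using WellFoundedLT.induction with
  | _ L ihL =>
  intro hLP hQL huL D
  induction D using Finset.strongInductionOn with
  | _ D ihD =>
  intro hinv hmv
  rcases D.eq_empty_or_nonempty with rfl | ⟨c, hc⟩
  · simp
  set O := D.filter fun d => ∃ l ∈ L, l • c = d with hO
  have hcO : c ∈ O := Finset.mem_filter.2 ⟨hc, 1, one_mem L, one_smul G c⟩
  have hOinv : ∀ l ∈ L, ∀ d ∈ O, l • d ∈ O := by
    intro l hl d hd
    obtain ⟨hdD, l', hl', rfl⟩ := Finset.mem_filter.1 hd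
    exact Finset.mem_filter.2 ⟨hinv l hl _ hdD, l * l', mul_mem hl hl', mul_smul l l' c⟩
  have hrest := ihD (D \ O) ⟨Finset.sdiff_subset, fun h => (Finset.mem_sdiff.1 (h hc)).2 hcO⟩
    (fun l hl d hd => by
      obtain ⟨hdD, hdO⟩ := Finset.mem_sdiff.1 hd
      refine Finset.mem_sdiff.2 ⟨hinv l hl d hdD, fun h => hdO ?_⟩
      have := hOinv l⁻¹ (inv_mem hl) _ h
      rwa [inv_smul_smul] at this)
    (fun d hd => hmv d (Finset.mem_sdiff.1 hd).1)
  rw [← Finset.prod_sdiff (Finset.filter_subset _ D : O ⊆ D), hrest, one_mul]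
  have hLp : IsPGroup p L := hP.to_le hLP
  haveI : Group.IsNilpotent L := hLp.isNilpotent
  let L₀ : Subgroup L := MulAction.stabilizer L c
  have hL₀ : L₀ ≠ ⊤ := by
    intro h
    obtain ⟨z, hz, hzc⟩ := hmv c hc
    exact hzc (h.ge (mem_top (⟨z, hQL hz⟩ : L)))
  obtain ⟨L₁, hL₁, hle⟩ := ((eq_top_or_exists_le_coatom L₀).resolve_left hL₀)
  haveI : L₁.Normal := Group.normalizerCondition_of_isNilpotent.normal_of_coatom L₁ hL₁
  have hidx : L₁.index = p := CycP.index_eq_of_coatom hLp L₁ hL₁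
  set M := L₁.map L.subtype with hM
  have hML : M ≤ L := map_subtype_le L₁
  have hMmem : ∀ x (hx : x ∈ L), x ∈ M ↔ (⟨x, hx⟩ : L) ∈ L₁ := fun x hx => by
    constructor
    · rintro ⟨⟨y, hy⟩, hy', rfl⟩; exact hy'
    · exact fun h => ⟨⟨x, hx⟩, h, rfl⟩
  have hMn : ∀ l ∈ L, ∀ m ∈ M, l * m * l⁻¹ ∈ M := by
    intro l hl m hm
    rw [hMmem _ (mul_mem (mul_mem hl (hML hm)) (inv_mem hl))]
    exact (inferInstance : L₁.Normal).conj_mem _ ((hMmem m (hML hm)).1 hm) ⟨l, hl⟩
  -- stabilizers in the orbit lie in `M`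
  have hstab : ∀ d ∈ O, ∀ l ∈ L, l • d = d → l ∈ M := by
    intro d hd l hl hld
    obtain ⟨-, l', hl', rfl⟩ := Finset.mem_filter.1 hd
    have h1 : (⟨l'⁻¹ * l * l', mul_mem (mul_mem (inv_mem hl') hl) hl'⟩ : L) ∈ L₀ := by
      show (l'⁻¹ * l * l') • c = c
      rw [mul_smul, mul_smul, hld, inv_smul_smul]
    have h2 : l'⁻¹ * l * l' ∈ M := (hMmem _ _).2 (hle h1)
    have := hMn l' hl' _ h2
    simpa [mul_assoc] using this
  by_cases huM : u ∈ M
  swap
  · rw [prod_orbit ψ u 1 O (fun d hd => hOinv u huL d hd) (fun d hd k hk hfix => ?_), one_pow]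
    rw [one_pow]
    refine hu k (lt_of_le_of_ne (Nat.le_of_dvd (orderOf_pos u) (orderOf_pow_dvd k)) fun he => huM ?_) d hk
    have h1 : u ^ k ∈ M := hstab d hd _ (pow_mem huL k) hfix
    refine zpowers_le.2 h1 ?_
    rw [eq_of_le_of_card_ge (zpowers_le.2 (pow_mem (mem_zpowers u) k))
      (by rw [Nat.card_zpowers, Nat.card_zpowers, he])]
    exact mem_zpowers u
  have hMlt : M < L := lt_of_le_of_ne hML fun e => hL₁.1 ((Subgroup.eq_top_iff' L₁).2 fun x =>
    (hMmem _ x.2).1 (by rw [e]; exact x.2))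
  by_cases hQM : Q ≤ M
  · exact ihL M hMlt (hML.trans hLP) hQM huM O (fun l hl => hOinv l (hML hl))
      (fun d hd => hmv d (Finset.mem_filter.1 hd).1)
  obtain ⟨z, hzQ, hzM⟩ := SetLike.not_le_iff_exists.1 hQM
  have hzL : z ∈ L := hQL hzQ
  set O₀ := D.filter fun d => ∃ m ∈ M, m • c = d with hO₀
  have hinv₀ : ∀ m ∈ M, ∀ d ∈ O₀, m • d ∈ O₀ := by
    intro l hl d hd
    obtain ⟨hdD, l', hl', rfl⟩ := Finset.mem_filter.1 hd
    exact Finset.mem_filter.2 ⟨hinv l (hML hl) _ hdD, l * l', mul_mem hl hl', mul_smul l l' c⟩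
  -- the contribution of one block
  let Θ : G → A := fun m => ∏ d ∈ O₀, tau ψ m d
  have hΘmul : ∀ a, ∀ b ∈ M, Θ (a * b) = Θ a * Θ b := by
    intro a b hb
    simp only [Θ, tau_mul, Finset.prod_mul_distrib]
    congr 1
    refine Finset.prod_nbij (fun d => b • d) (fun d hd => hinv₀ b hb d hd)
      (fun d _ d' _ e => MulAction.injective b e) (fun d hd => ⟨b⁻¹ • d, hinv₀ b⁻¹ (inv_mem hb) d hd, smul_inv_smul b d⟩)
      (fun d _ => rfl)
  have hΘ1 : Θ 1 = 1 := by simp [Θ, tau_one]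
  set f : G → G := fun y => y⁻¹ * z⁻¹ * y * z with hf
  have hzconj : ∀ y ∈ M, z⁻¹ * y * z ∈ M := fun y hy => by
    simpa using hMn z⁻¹ (inv_mem hzL) y hy
  have hzi : ∀ i : ℕ, ∀ y ∈ M, (z ^ i)⁻¹ * y * z ^ i ∈ M := fun i y hy => by
    simpa using hMn (z ^ i)⁻¹ (inv_mem (pow_mem hzL i)) y hy
  set e : ℕ → G := fun j => f^[j] u with he
  have heM : ∀ j, e j ∈ M := by
    intro j
    induction j with
    | zero => exact huM
    | succ j ih =>
      simp only [he, Function.iterate_succ', Function.comp_apply]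
      simp only [hf]
      rw [mul_assoc (_⁻¹ * z⁻¹), mul_assoc, ← mul_assoc z⁻¹]
      exact mul_mem (inv_mem ih) (hzconj _ ih)
  have he1 : ∀ j, p - 1 ≤ j → e j = 1 := by
    intro j hj
    obtain ⟨t, rfl⟩ := Nat.exists_eq_add_of_le' hj
    have h1 : e (p - 1) = 1 := heng u (hLP huL) z hzQ
    have hf1 : f^[t] 1 = 1 := Function.iterate_fixed (by simp [hf]) t
    show f^[t + (p - 1)] u = 1
    rw [Function.iterate_add_apply, show f^[p - 1] u = 1 from h1, hf1]
  let S : ℕ → ℕ → A := fun n j => ∏ i ∈ Finset.range n, Θ ((z ^ i)⁻¹ * e j * z ^ i)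
  have hS : ∀ n j, S n j = ∏ k ∈ Finset.range p, Θ (e (j + k)) ^ n.choose (k + 1) := by
    intro n
    induction n with
    | zero => intro j; simp [S]
    | succ n ih =>
      intro j
      have hsplit : S (n + 1) j = S n j * (S n (j + 1) * Θ (e j)) := by
        simp only [S]
        rw [Finset.prod_range_succ', ← mul_assoc, ← Finset.prod_mul_distrib]
        congr 1
        · refine Finset.prod_congr rfl fun i _ => ?_
          rw [← hΘmul _ _ (hzi i _ (heM (j + 1)))]
          congr 1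
          simp only [he, Function.iterate_succ', Function.comp_apply, hf, pow_succ']
          group
        · simp
      obtain ⟨q, hq⟩ : ∃ q, p = q + 1 := ⟨p - 1, (Nat.sub_add_cancel hp.out.one_le).symm⟩
      rw [hsplit, ih, ih, hq, Finset.prod_range_succ' (fun k => Θ (e (j + k)) ^ (n + 1).choose (k + 1)),
        Finset.prod_range_succ' (fun k => Θ (e (j + k)) ^ n.choose (k + 1)),
        Finset.prod_range_succ (fun k => Θ (e (j + 1 + k)) ^ n.choose (k + 1)),
        he1 (j + 1 + q) (by omega), hΘ1, one_pow, mul_one]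
      simp only [Nat.choose_succ_succ' n, pow_add, Finset.prod_mul_distrib, Nat.choose_zero_right,
        pow_one, Nat.add_zero]
      have e3 : ∀ k, j + 1 + k = j + (k + 1) := fun k => by omega
      simp only [e3]
      ac_rfl
  have hSp : S p 0 = 1 := by
    rw [hS]
    refine Finset.prod_eq_one fun k hk => ?_
    rw [Finset.mem_range] at hk
    rcases Nat.lt_or_ge (k + 1) p with h | h
    · obtain ⟨t, ht⟩ := hp.out.dvd_choose_self (Nat.succ_ne_zero k) h
      rw [ht, pow_mul, hA, one_pow]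
    · rw [he1 _ (by omega), hΘ1, one_pow]
  -- the orbit is the union of the blocks
  have hzpow : z ^ p ∈ M := by
    rw [hMmem _ (pow_mem hzL p)]
    have := pow_index_mem L₁ (⟨z, hzL⟩ : L)
    rw [hidx] at this
    exact this
  have hzinj : ∀ i < p, ∀ j < p, i ≤ j → z ^ (j - i) ∈ M → i = j := by
    intro i hi j hj hij hm
    by_contra hne
    apply hzM
    have hc : Nat.Coprime (j - i) p :=
      ((hp.out.coprime_iff_not_dvd).2 (Nat.not_dvd_of_pos_of_lt (by omega) (by omega))).symm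
    have h1 : zpowers z ≤ M := by
      rw [zpowers_le]
      have h2 : ((z : G) ^ ((Nat.gcd (j - i) p : ℕ) : ℤ)) ∈ M := by
        rw [Nat.gcd_eq_gcd_ab, zpow_add, zpow_mul, zpow_mul, zpow_natCast, zpow_natCast]
        exact mul_mem (zpow_mem hm _) (zpow_mem hzpow _)
      rw [hc.gcd_eq_one, zpow_natCast, pow_one] at h2
      exact h2
    exact h1 (mem_zpowers z)
  have hcover : O = (Finset.range p ×ˢ O₀).image fun w => z ^ w.1 • w.2 := by
    ext d
    constructor
    · intro hd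
      obtain ⟨hdD, l, hl, rfl⟩ := Finset.mem_filter.1 hd
      obtain ⟨i, hi⟩ : ∃ i : ℕ, i < p ∧ (z ^ i)⁻¹ * l ∈ M := by
        have hQc : Nat.card (L ⧸ L₁) = p := by rw [← index_eq_card, hidx]
        have hne : QuotientGroup.mk' L₁ ⟨z, hzL⟩ ≠ 1 := fun e =>
          hzM ((hMmem z hzL).2 ((QuotientGroup.eq_one_iff _).1 e))
        obtain ⟨n, hn⟩ := (mem_powers_iff_mem_zpowers (x := QuotientGroup.mk' L₁ ⟨z, hzL⟩)).2
          (mem_zpowers_of_prime_card (g' := QuotientGroup.mk' L₁ ⟨l, hl⟩) hQc hne)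
        simp only at hn
        refine ⟨n % p, Nat.mod_lt _ hp.out.pos, ?_⟩
        have h1 : QuotientGroup.mk' L₁ (⟨z, hzL⟩ ^ (n % p)) = QuotientGroup.mk' L₁ ⟨l, hl⟩ := by
          rw [map_pow, ← hn]
          conv_lhs => rw [← hQc, pow_mod_natCard]
        rw [hMmem _ (mul_mem (inv_mem (pow_mem hzL _)) hl)]
        exact QuotientGroup.eq.1 h1
      refine Finset.mem_image.2 ⟨(i, ((z ^ i)⁻¹ * l) • c), Finset.mem_product.2
        ⟨Finset.mem_range.2 hi.1, Finset.mem_filter.2 ⟨?_, _, hi.2, rfl⟩⟩, ?_⟩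
      · exact hinv _ (hML hi.2) c hc
      · rw [← mul_smul, mul_inv_cancel_left]
    · intro hd
      obtain ⟨⟨i, w⟩, hw, rfl⟩ := Finset.mem_image.1 hd
      obtain ⟨hwD, m, hm, rfl⟩ := Finset.mem_filter.1 (Finset.mem_product.1 hw).2
      refine hOinv _ (pow_mem hzL i) _ (Finset.mem_filter.2 ⟨hwD, m, hML hm, rfl⟩)
  have hinjw : Set.InjOn (fun w : ℕ × (G ⧸ H) => z ^ w.1 • w.2) (Finset.range p ×ˢ O₀ : Finset _) := by
    rintro ⟨i, w⟩ hiw ⟨j, w'⟩ hjw e
    simp only [Finset.coe_product, Set.mem_prod, Finset.mem_coe, Finset.mem_range] at hiw hjw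
    suffices ∀ i j w w', i < p → j < p → w ∈ O₀ → w' ∈ O₀ → i ≤ j → z ^ i • w = z ^ j • w' → i = j by
      have hij : i = j := by
        rcases le_total i j with h | h
        · exact this i j w w' hiw.1 hjw.1 hiw.2 hjw.2 h e
        · exact (this j i w' w hjw.1 hiw.1 hjw.2 hiw.2 h e.symm).symm
      subst hij
      exact Prod.ext rfl (MulAction.injective _ e)
    intro i j w w' hi hj hw hw' hij e
    refine hzinj i hi j hj hij ?_
    obtain ⟨t, rfl⟩ := Nat.exists_eq_add_of_le hij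
    rw [pow_add, mul_smul] at e
    have e2 : z ^ t • w' = w := (MulAction.injective _ e).symm
    obtain ⟨-, m, hm, rfl⟩ := Finset.mem_filter.1 hw
    obtain ⟨hw'D, m', hm', rfl⟩ := Finset.mem_filter.1 hw'
    rw [Nat.add_sub_cancel_left]
    have h1 : (m⁻¹ * (z ^ t * m')) ∈ M := hstab c hcO _
      (mul_mem (inv_mem (hML hm)) (mul_mem (pow_mem hzL t) (hML hm')))
      (by rw [mul_smul, mul_smul, e2, inv_smul_smul])
    have := mul_mem (mul_mem hm h1) (inv_mem hm')
    rwa [mul_inv_cancel_left, mul_inv_cancel_right] at this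
  have hblock : ∀ i, ∏ d ∈ O₀, tau ψ u (z ^ i • d) = Θ ((z ^ i)⁻¹ * e 0 * z ^ i) := by
    intro i
    have hy : (z ^ i)⁻¹ * u * z ^ i ∈ M := hzi i u huM
    set y := (z ^ i)⁻¹ * u * z ^ i with hydef
    have key : (∏ d ∈ O₀, tau ψ u (z ^ i • d)) * Θ (z ^ i) = Θ (z ^ i) * Θ y := by
      rw [← hΘmul _ _ hy, ← Finset.prod_mul_distrib]
      refine Finset.prod_congr rfl fun d _ => ?_
      rw [← tau_mul]
      congr 1
      rw [hydef]; group
    rw [mul_comm] at key
    exact mul_left_cancel key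
  change ∏ d ∈ O, tau ψ u d = 1
  rw [hcover, Finset.prod_image hinjw, Finset.prod_product]
  simp only [hblock]
  exact hSp

/-- Weakly closed subgroup with short Engel action: the derived parts agree modulo Frattini. -/
theorem inf_commutator_le (P : Sylow p G) (Q : Subgroup G) (hQ : Cfsg.IsWeaklyClosed Q (P : Subgroup G))
    (heng : ∀ u ∈ (P : Subgroup G), ∀ z ∈ Q, (fun y : G => y⁻¹ * z⁻¹ * y * z)^[p - 1] u = 1) :
    (P : Subgroup G) ⊓ _root_.commutator G ≤
      ((P : Subgroup G) ⊓ ⁅normalizer (Q : Set G), normalizer (Q : Set G)⁆) ⊔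
        (frattini ↥(P : Subgroup G)).map (P : Subgroup G).subtype := by
  classical
  set N := normalizer (Q : Set G) with hN
  set T := ((P : Subgroup G) ⊓ ⁅N, N⁆) ⊔ (frattini ↥(P : Subgroup G)).map (P : Subgroup G).subtype with hT
  have hQP := hQ.1
  have hPN : (P : Subgroup G) ≤ N := by
    intro x hx
    have h1 : Q.map (MulAut.conj x).toMonoidHom = Q := hQ.2 x (by
      rintro _ ⟨q, hq, rfl⟩
      exact mul_mem (mul_mem hx (hQP hq)) (inv_mem hx))
    rw [hN, mem_normalizer_iff]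
    intro q
    constructor
    · intro hq; exact h1.le ⟨q, hq, rfl⟩
    · intro hq
      obtain ⟨r, hr, er⟩ := h1.ge hq
      simp only [MulEquiv.coe_toMonoidHom, MulAut.conj_apply, mul_right_cancel_iff, mul_left_cancel_iff] at er
      rwa [← er]
  have hTP : T ≤ (P : Subgroup G) := sup_le inf_le_left (map_subtype_le _)
  have hPT : ⁅(P : Subgroup G), (P : Subgroup G)⁆ ≤ T :=
    (le_inf (commutator_le_self _) (commutator_mono hPN hPN)).trans le_sup_left
  haveI : (T.subgroupOf (P : Subgroup G)).Normal := ⟨fun t ht s => by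
    have h1 : ⁅(s : G), (t : G)⁆ ∈ T := hPT (commutator_mem_commutator s.2 t.2)
    have h2 := mul_mem h1 (mem_subgroupOf.1 ht)
    rw [mem_subgroupOf]
    simpa [commutatorElement_def, mul_assoc] using h2⟩
  letI : CommGroup (↥(P : Subgroup G) ⧸ T.subgroupOf (P : Subgroup G)) :=
    { (inferInstance : Group (↥(P : Subgroup G) ⧸ T.subgroupOf (P : Subgroup G))) with
      mul_comm := fun a b => by
        obtain ⟨a, rfl⟩ := QuotientGroup.mk_surjective a
        obtain ⟨b, rfl⟩ := QuotientGroup.mk_surjective b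
        rw [← QuotientGroup.mk_mul, ← QuotientGroup.mk_mul, QuotientGroup.eq]
        have h1 : ⁅((b⁻¹ : (P : Subgroup G)) : G), ((a⁻¹ : (P : Subgroup G)) : G)⁆ ∈ T :=
          hPT (commutator_mem_commutator (b⁻¹).2 (a⁻¹).2)
        simpa [commutatorElement_def, mem_subgroupOf, mul_assoc] using h1 }
  let ψ : ↥(P : Subgroup G) →* ↥(P : Subgroup G) ⧸ T.subgroupOf (P : Subgroup G) := QuotientGroup.mk' _
  have hker : ∀ x : ↥(P : Subgroup G), ψ x = 1 ↔ (x : G) ∈ T := fun x =>
    (QuotientGroup.eq_one_iff x).trans mem_subgroupOf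
  have hA : ∀ a : ↥(P : Subgroup G) ⧸ T.subgroupOf (P : Subgroup G), a ^ p = 1 := by
    intro a
    obtain ⟨x, rfl⟩ := QuotientGroup.mk'_surjective _ a
    rw [← map_pow]
    exact (hker _).2 (mem_sup_right (mem_map_of_mem _ (Struct.CoprimeMinimal.pow_mem_frattini P.isPGroup' x)))
  suffices ∀ (m : ℕ) (u : G), orderOf u = m → u ∈ (P : Subgroup G) → u ∈ _root_.commutator G → u ∈ T from
    fun u hu => this _ u rfl hu.1 hu.2
  intro m
  induction m using Nat.strong_induction_on with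
  | _ m ih =>
  intro u hm huP huG
  haveI := Fintype.ofFinite (G ⧸ (P : Subgroup G))
  have hsmall : ∀ k : ℕ, orderOf (u ^ k) < orderOf u → ∀ c : G ⧸ (P : Subgroup G),
      ∀ hk : c.out⁻¹ * u ^ k * c.out ∈ (P : Subgroup G), ψ ⟨_, hk⟩ = 1 := by
    intro k hlt c hk
    rw [hker]
    refine ih _ (hm ▸ ?_) _ rfl hk ?_
    rotate_left
    · show orderOf (c.out⁻¹ * u ^ k * c.out) < orderOf u
      have e : orderOf (c.out⁻¹ * u ^ k * c.out) = orderOf (u ^ k) :=
        orderOf_injective (MulAut.conj c.out⁻¹).toMonoidHom (MulAut.conj _).injective (u ^ k) ▸ (by simp)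
      rw [e]; exact hlt
    · have := (inferInstance : (_root_.commutator G).Normal).conj_mem _ (pow_mem huG k) c.out⁻¹
      rwa [inv_inv] at this
  set D₁ : Finset (G ⧸ (P : Subgroup G)) := Finset.univ.filter fun c => ∀ z ∈ Q, z • c = c with hD₁
  have hinvD : ∀ l ∈ (P : Subgroup G), ∀ c ∈ D₁, l • c ∈ D₁ := by
    intro l hl c hc
    simp only [hD₁, Finset.mem_filter, Finset.mem_univ, true_and] at hc ⊢
    intro z hz
    have h1 : l⁻¹ * z * l ∈ Q := by
      simpa using (mem_normalizer_iff.1 (inv_mem (hPN hl)) z).1 hz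
    rw [← mul_smul, show z * l = l * (l⁻¹ * z * l) by group, mul_smul, hc _ h1]
  have hmoved : ∏ c ∈ Finset.univ \ D₁, tau ψ u c = 1 := by
    refine prod_moved ψ (P : Subgroup G) P.isPGroup' hA Q heng u hsmall _ le_rfl hQP huP _ ?_ ?_
    · intro l hl c hc
      simp only [Finset.mem_sdiff, Finset.mem_univ, true_and] at hc ⊢
      intro h
      apply hc
      have := hinvD l⁻¹ (inv_mem hl) _ h
      rwa [inv_smul_smul] at this
    · intro c hc
      simp only [Finset.mem_sdiff, Finset.mem_univ, true_and, hD₁, Finset.mem_filter] at hc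
      push Not at hc
      exact hc
  have hfixN : ∀ c ∈ D₁, c.out ∈ N := by
    intro c hc
    simp only [hD₁, Finset.mem_filter, Finset.mem_univ, true_and] at hc
    have h1 : Q.map (MulAut.conj c.out⁻¹).toMonoidHom = Q := hQ.2 _ (by
      rintro _ ⟨q, hq, rfl⟩
      have h2 := hc q hq
      have h3 := out_mul_mem (H := (P : Subgroup G)) q c
      rw [h2] at h3
      simpa using h3)
    rw [hN, ← inv_mem_iff, mem_normalizer_iff]
    intro q
    constructor
    · intro hq; exact h1.le ⟨q, hq, rfl⟩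
    · intro hq
      obtain ⟨r, hr, er⟩ := h1.ge hq
      simp only [MulEquiv.coe_toMonoidHom, MulAut.conj_apply, mul_right_cancel_iff, mul_left_cancel_iff] at er
      rwa [← er]
  have hfixed : ∏ c ∈ D₁, tau ψ u c = ψ ⟨u, huP⟩ ^ D₁.card := by
    refine prod_orbit ψ u _ D₁ (fun c hc => hinvD u huP c hc) fun c hc k hk _ => ?_
    rw [← inv_mul_eq_one, ← map_pow, ← map_inv, ← map_mul, hker]
    refine mem_sup_left ⟨((⟨_, hk⟩ : ↥(P : Subgroup G))⁻¹ * ⟨u, huP⟩ ^ k).2, ?_⟩
    show (c.out⁻¹ * u ^ k * c.out)⁻¹ * u ^ k ∈ ⁅N, N⁆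
    rw [show (c.out⁻¹ * u ^ k * c.out)⁻¹ * u ^ k = ⁅c.out⁻¹, (u ^ k)⁻¹⁆ by
      rw [commutatorElement_def]; group]
    exact commutator_mem_commutator (inv_mem (hfixN c hc)) (inv_mem (pow_mem (hPN huP) k))
  have h1 : trans ψ u = 1 := Abelianization.commutator_subset_ker _ huG
  rw [show trans ψ u = ∏ c, tau ψ u c from rfl, ← Finset.prod_sdiff (Finset.subset_univ D₁), hmoved,
    one_mul, hfixed] at h1
  have hk : ¬ p ∣ D₁.card := by
    intro hd
    apply P.not_dvd_index
    rw [index_eq_card]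
    refine Nat.modEq_zero_iff_dvd.1 (((P.isPGroup'.to_le hQP).card_modEq_card_fixedPoints
      (G ⧸ (P : Subgroup G))).trans (Nat.modEq_zero_iff_dvd.2 ?_))
    rw [hD₁, ← Fintype.card_subtype, ← Nat.card_eq_fintype_card] at hd
    refine hd.trans (dvd_of_eq (Nat.card_congr (Equiv.subtypeEquivRight fun c => ?_)))
    exact ⟨fun h z => h z z.2, fun h z hz => h ⟨z, hz⟩⟩
  obtain ⟨j, hj⟩ := (P.isPGroup'.to_quotient (T.subgroupOf (P : Subgroup G))) (ψ ⟨u, huP⟩)
  exact (hker ⟨u, huP⟩).1 (orderOf_eq_one_iff.1 (Nat.eq_one_of_dvd_coprimes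
    (Nat.Coprime.pow_left j ((Nat.Prime.coprime_iff_not_dvd hp.out).2 hk))
    (orderOf_dvd_of_pow_eq_one hj) (orderOf_dvd_of_pow_eq_one h1)))

/-- Tate: control of the largest abelian factor modulo Frattini gives control of `O^p`. -/
theorem pResidual_eq_of_le (P : Sylow p G) (N : Subgroup G) (hPN : (P : Subgroup G) ≤ N)
    (h : (P : Subgroup G) ⊓ _root_.commutator G ≤
      ((P : Subgroup G) ⊓ ⁅N, N⁆) ⊔ (frattini ↥(P : Subgroup G)).map (P : Subgroup G).subtype) :
    Cfsg.pResidualOf p N = Cfsg.pResidual p G ⊓ N := by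
  have hS := P.isPGroup'
  have hF := Fusion.isSaturated_groupFusionSystem P
  set F := Cfsg.groupFusionSystem (P : Subgroup G)
  set R := Cfsg.pResidualOf p N with hR
  haveI := pResidual_characteristic p N
  have hRN : R ≤ N := map_subtype_le _
  have hRG : R ≤ Cfsg.pResidual p G := Fusion.map_pResidual_le N.subtype
  have hRn : ∀ a ∈ N, ∀ x ∈ R, a * x * a⁻¹ ∈ R := by
    rintro a ha _ ⟨y, hy, rfl⟩
    exact ⟨⟨a, ha⟩ * y * ⟨a, ha⟩⁻¹, (inferInstance : (Cfsg.pResidual p N).Normal).conj_mem y hy _, rfl⟩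
  have hfocG : F.focalSubgroup ≤ (P : Subgroup G) ⊓ _root_.commutator G := by
    refine (closure_le _).2 ?_
    rintro _ ⟨A, φ, x, ⟨hA, hφ, g, hg⟩, rfl⟩
    refine ⟨Subgroup.mul_mem (P : Subgroup G) (Subgroup.inv_mem _ (hA x.2)) (hφ x), ?_⟩
    rw [hg, show (x : G)⁻¹ * (g * (x : G) * g⁻¹) = ⁅(x : G)⁻¹, g⁆ by rw [commutatorElement_def]; group]
    exact commutator_mem_commutator (mem_top _) (mem_top g)
  have hP' : ⁅(P : Subgroup G), (P : Subgroup G)⁆ ≤ (P : Subgroup G) ⊓ ⁅N, N⁆ :=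
    le_inf (commutator_le_self _) (commutator_mono hPN hPN)
  -- decomposition of `N`
  have hNdec : ∀ x ∈ N, ∃ r ∈ R, ∃ y ∈ (P : Subgroup G), x = r * y := by
    intro x hx
    let P' := P.subtype hPN
    have h1 := sup_pResidual_eq_top P'
    obtain ⟨y, hy, r, hr, hyr⟩ := mem_sup_of_normal_right.1 (h1.ge (mem_top (⟨x, hx⟩ : N)))
    refine ⟨(y : G) * r * (y : G)⁻¹, hRn _ y.2 _ (mem_map_of_mem _ hr), y, hy, ?_⟩
    rw [inv_mul_cancel_right]
    exact (congrArg Subtype.val hyr).symm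
  have hM : (P : Subgroup G) ⊓ ⁅N, N⁆ ≤ ((P : Subgroup G) ⊓ R) ⊔ ⁅(P : Subgroup G), (P : Subgroup G)⁆ := by
    rintro x ⟨hxP, hxN⟩
    let N₀ : Subgroup N := Cfsg.pResidual p N
    have h1 : ∃ r ∈ R, ∃ c ∈ ⁅(P : Subgroup G), (P : Subgroup G)⁆, x = r * c := by
      have h2 : ⁅N, N⁆ ≤ (_root_.commutator N).map N.subtype := by
        rw [_root_.commutator_def, map_commutator, ← MonoidHom.range_eq_map, range_subtype]
      obtain ⟨y, hy, rfl⟩ := h2 hxN
      let P' : Subgroup N := (P : Subgroup G).subgroupOf N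
      have hsurj : P'.map (QuotientGroup.mk' N₀) = ⊤ := by
        rw [eq_top_iff]
        intro q _
        obtain ⟨v, rfl⟩ := QuotientGroup.mk'_surjective N₀ q
        obtain ⟨r, hr, w, hw, e⟩ := hNdec v v.2
        refine ⟨⟨w, hPN hw⟩, hw, ?_⟩
        obtain ⟨r', hr', er⟩ := hr
        have : v = r' * ⟨w, hPN hw⟩ := Subtype.ext (by simpa [← er] using e)
        rw [this, map_mul, show QuotientGroup.mk' N₀ r' = 1 from (QuotientGroup.eq_one_iff r').2 hr', one_mul]
      have h3 : QuotientGroup.mk' N₀ y ∈ (⁅P', P'⁆).map (QuotientGroup.mk' N₀) := by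
        rw [map_commutator, hsurj]
        have := mem_map_of_mem (QuotientGroup.mk' N₀) hy
        rw [_root_.commutator_def, map_commutator, map_top_of_surjective _ (QuotientGroup.mk'_surjective N₀)] at this
        exact this
      obtain ⟨c, hc, ec⟩ := h3
      refine ⟨((y * c⁻¹ : N) : G), ⟨y * c⁻¹, ?_, rfl⟩, c, ?_, by simp⟩
      · refine (QuotientGroup.eq_one_iff _).1 ?_
        change QuotientGroup.mk' N₀ (y * c⁻¹) = 1
        rw [map_mul, map_inv, ec, mul_inv_cancel]
      · have := mem_map_of_mem N.subtype hc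
        rw [map_commutator] at this
        exact commutator_mono (map_le_iff_le_comap.2 fun w hw => hw) (map_le_iff_le_comap.2 fun w hw => hw) this
    obtain ⟨r, hr, c, hc, rfl⟩ := h1
    refine mul_mem (mem_sup_left ⟨?_, hr⟩) (mem_sup_right hc)
    have := Subgroup.mul_mem (P : Subgroup G) hxP (Subgroup.inv_mem _ (commutator_le_self _ hc))
    rwa [mul_inv_cancel_right] at this
  have hRF : (P : Subgroup G) ⊓ R ≤ F.hyperfocalSubgroup p := by
    rw [Fusion.hyperfocal_group P]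
    exact inf_le_inf_left _ hRG
  have hN' : (P : Subgroup G) ⊓ ⁅N, N⁆ ≤ F.focalSubgroup :=
    hM.trans (sup_le (hRF.trans Fusion.hyperfocal_le_focal) Fusion.commutator_le_focal)
  have hfoc : F.focalSubgroup ≤ (P : Subgroup G) ⊓ ⁅N, N⁆ :=
    Fusion.focal_le_of_le_sup_frattini hS hF hP' hN' ((hfocG.trans h).trans (le_of_eq (sup_comm _ _)))
  have hhyp : F.hyperfocalSubgroup p ≤ (P : Subgroup G) ⊓ R := by
    refine Fusion.hyperfocal_le_of_le_sup hS hF hRF (fun a ha x hx =>
      ⟨Subgroup.mul_mem (P : Subgroup G) (Subgroup.mul_mem _ ha hx.1) (Subgroup.inv_mem _ ha), hRn a (hPN ha) x hx.2⟩) ?_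
    exact (Fusion.hyperfocal_le_focal.trans hfoc).trans hM
  rw [Fusion.hyperfocal_group P] at hhyp
  refine le_antisymm (le_inf hRG hRN) ?_
  rintro x ⟨hxG, hxN⟩
  obtain ⟨r, hr, y, hy, rfl⟩ := hNdec x hxN
  have hyG : y ∈ Cfsg.pResidual p G := by
    have := mul_mem (inv_mem (hRG hr)) hxG
    rwa [inv_mul_cancel_left] at this
  exact mul_mem hr (hhyp ⟨hy, hyG⟩).2

end Cfsg.Agent.Solv.HallWielandt
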