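import Cfsg.Agent.Lib.Struct.UniqueOrderP
import Cfsg.Agent.Lib.Solv.CyclicIndexP
import Cfsg.Agent.Lib.Solv.Basic

/-!
# Groups all of whose subgroups are normal
-/

set_option autoImplicit false
open Subgroup
open scoped commutatorElement

universe u

namespace Cfsg.Agent.Solv.Hamilton

variable {G : Type u} [Group G] [Finite G]

theorem mul_pow_eq {b y d : G} (h : y * b = d * (b * y)) (hdb : Commute d b) (hdy : Commute d y) :
    ∀ n : ℕ, (b * y) ^ n = b ^ n * y ^ n * d ^ n.choose 2 := by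
  have hyn : ∀ n : ℕ, y ^ n * b = d ^ n * (b * y ^ n) := by
    intro n
    induction n with
    | zero => simp
    | succ n ih =>
      calc y ^ (n + 1) * b = y * (y ^ n * b) := by rw [pow_succ', mul_assoc]
        _ = y * d ^ n * (b * y ^ n) := by rw [ih, mul_assoc]
        _ = d ^ n * (y * b) * y ^ n := by
          rw [(hdy.pow_left n).symm.eq]; simp [mul_assoc]
        _ = d ^ (n + 1) * (b * y ^ (n + 1)) := by
          rw [h, pow_succ d, pow_succ' y]; simp [mul_assoc]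
  intro n
  induction n with
  | zero => simp
  | succ n ih =>
    have hc : d ^ n.choose 2 * (b * y) = b * y * d ^ n.choose 2 :=
      ((hdb.pow_left _).mul_right (hdy.pow_left _)).eq
    rw [pow_succ, ih, mul_assoc, hc, ← mul_assoc, ← mul_assoc, mul_assoc (b ^ n), hyn]
    rw [show (n + 1).choose 2 = n + n.choose 2 by
      rw [Nat.choose_succ_succ', Nat.choose_one_right], pow_add d]
    have h1 : b ^ n * d ^ n = d ^ n * b ^ n := ((hdb.pow_left n).pow_right n).symm.eq
    have h2 : d ^ n * (b ^ n * b * (y ^ n * y)) = b ^ n * b * (y ^ n * y) * d ^ n :=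
      (((hdb.pow_left n).pow_right n).mul_right (hdb.pow_left n)).mul_right
        (((hdy.pow_left n).pow_right n).mul_right (hdy.pow_left n))
    calc b ^ n * (d ^ n * (b * y ^ n)) * y * d ^ n.choose 2
        = (b ^ n * d ^ n) * (b * y ^ n * y) * d ^ n.choose 2 := by simp [mul_assoc]
      _ = d ^ n * (b ^ n * b * (y ^ n * y)) * d ^ n.choose 2 := by rw [h1]; simp [mul_assoc]
      _ = b ^ (n + 1) * y ^ (n + 1) * (d ^ n * d ^ n.choose 2) := by
        rw [h2, pow_succ, pow_succ]; simp [mul_assoc]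

theorem conj_mem_zpowers (hn : ∀ H : Subgroup G, H.Normal) (g x : G) :
    g * x * g⁻¹ ∈ zpowers x := (hn _).conj_mem x (mem_zpowers x) g

/-- Two elements which do not commute give two elements generating a quaternion group. -/
theorem exists_quaternion_pair (hn : ∀ H : Subgroup G, H.Normal) (H : Subgroup G)
    (hH : ∃ a ∈ H, ∃ b ∈ H, ¬ Commute a b) :
    ∃ a ∈ H, ∃ b ∈ H, orderOf a = 4 ∧ orderOf b = 4 ∧ a ^ 2 = b ^ 2 ∧ b * a * b⁻¹ = a⁻¹ := by
  obtain ⟨a₀, ha₀, b₀, hb₀, hab₀⟩ := hH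
  let T : Set (G × G) := {x | x.1 ∈ H ∧ x.2 ∈ H ∧ ¬ Commute x.1 x.2}
  obtain ⟨⟨a, b⟩, ⟨ha, hb, hab⟩, hmin⟩ := Set.Finite.exists_minimalFor
    (fun x : G × G => orderOf x.1 + orderOf x.2) T (Set.toFinite T) ⟨(a₀, b₀), ha₀, hb₀, hab₀⟩
  simp only at ha hb hab
  have key : ∀ x y : G, x ∈ H → y ∈ H → ¬ Commute x y →
      orderOf x + orderOf y ≤ orderOf a + orderOf b → orderOf a + orderOf b ≤ orderOf x + orderOf y :=
    fun x y hx hy hxy hle => hmin (j := (x, y)) ⟨hx, hy, hxy⟩ hle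
  have hlt : ∀ (x : G) (q : ℕ), q.Prime → q ∣ orderOf x → orderOf (x ^ q) < orderOf x := fun x q hq hd => by
    rw [orderOf_pow' x hq.ne_zero, Nat.gcd_eq_right hd]
    exact Nat.div_lt_self (orderOf_pos x) hq.one_lt
  have hmina : ∀ q : ℕ, q.Prime → q ∣ orderOf a → Commute (a ^ q) b := fun q hq hd => by
    by_contra h
    have h1 := hlt a q hq hd
    have := key _ _ (pow_mem ha q) hb h (by omega)
    omega
  have hminb : ∀ q : ℕ, q.Prime → q ∣ orderOf b → Commute a (b ^ q) := fun q hq hd => by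
    by_contra h
    have h1 := hlt b q hq hd
    have := key _ _ ha (pow_mem hb q) h (by omega)
    omega
  set c := ⁅a, b⁆ with hc
  have hca : c ∈ zpowers a := by
    rw [hc, commutatorElement_def, mul_assoc, mul_assoc, ← mul_assoc b]
    refine mul_mem (mem_zpowers a) ?_
    have := inv_mem (conj_mem_zpowers hn b a)
    simpa [mul_assoc] using this
  have hcb : c ∈ zpowers b := by
    rw [hc, commutatorElement_def]
    exact mul_mem (conj_mem_zpowers hn a b) (inv_mem (mem_zpowers b))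
  have hcA : Commute c a := by
    obtain ⟨i, hi⟩ := mem_zpowers_iff.1 hca; rw [← hi]; exact (Commute.refl a).zpow_left i
  have hcB : Commute c b := by
    obtain ⟨i, hi⟩ := mem_zpowers_iff.1 hcb; rw [← hi]; exact (Commute.refl b).zpow_left i
  have hc1 : c ≠ 1 := fun e => hab (commutatorElement_eq_one_iff_mul_comm.1 e)
  have hcon : b * a * b⁻¹ = c⁻¹ * a := by
    rw [hc, commutatorElement_def]; group
  have hconb : a * b * a⁻¹ = c * b := by
    rw [hc, commutatorElement_def]; group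
  have hcpow : ∀ q : ℕ, q.Prime → q ∣ orderOf a → c ^ q = 1 := fun q hq hd => by
    have h1 : b * a ^ q * b⁻¹ = a ^ q := by rw [(hmina q hq hd).symm.eq, mul_inv_cancel_right]
    rw [← conj_pow, hcon, hcA.inv_left.mul_pow] at h1
    simpa using h1
  have hcpowb : ∀ q : ℕ, q.Prime → q ∣ orderOf b → c ^ q = 1 := fun q hq hd => by
    have h1 : a * b ^ q * a⁻¹ = b ^ q := by rw [(hminb q hq hd).eq, mul_inv_cancel_right]
    rw [← conj_pow, hconb, hcB.mul_pow] at h1
    simpa using h1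
  obtain ⟨p, hp, hpa⟩ := Nat.exists_prime_and_dvd (n := orderOf a) (fun e => hab (by
    rw [orderOf_eq_one_iff.1 e]; exact Commute.one_left b))
  haveI := Fact.mk hp
  have hco : orderOf c = p := orderOf_eq_prime (hcpow p hp hpa) hc1
  have huniq : ∀ q : ℕ, q.Prime → c ^ q = 1 → q = p := fun q hq e =>
    ((Nat.prime_dvd_prime_iff_eq hp hq).1 (hco ▸ orderOf_dvd_of_pow_eq_one e)).symm
  obtain ⟨α, hα⟩ : ∃ α, orderOf a = p ^ α :=
    ⟨_, Nat.eq_prime_pow_of_unique_prime_dvd (orderOf_pos a).ne' fun {q} hq hd => huniq q hq (hcpow q hq hd)⟩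
  obtain ⟨β, hβ⟩ : ∃ β, orderOf b = p ^ β :=
    ⟨_, Nat.eq_prime_pow_of_unique_prime_dvd (orderOf_pos b).ne' fun {q} hq hd => huniq q hq (hcpowb q hq hd)⟩
  -- interchange so that the order of `a` is the larger one
  suffices key2 : ∀ (x y : G) (α β : ℕ), x ∈ H → y ∈ H → ¬ Commute x y → orderOf x = p ^ α →
      orderOf y = p ^ β → β ≤ α → orderOf x + orderOf y = orderOf a + orderOf b →
      ∀ d : G, d ≠ 1 → d ^ p = 1 → d ∈ zpowers x → d ∈ zpowers y → x * y = d * (y * x) →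
        (orderOf x = 4 ∧ orderOf y = 4 ∧ x ^ 2 = y ^ 2 ∧ y * x * y⁻¹ = x⁻¹) by
    rcases le_total β α with h | h
    · exact ⟨a, ha, b, hb, key2 a b α β ha hb hab hα hβ h rfl c hc1 (hcpow p hp hpa) hca hcb
        (by rw [hc, commutatorElement_def]; group)⟩
    · refine ⟨b, hb, a, ha, key2 b a β α hb ha (fun e => hab e.symm) hβ hα h (add_comm _ _) c⁻¹
        (inv_ne_one.2 hc1) (by rw [inv_pow, hcpow p hp hpa, inv_one]) (inv_mem hcb) (inv_mem hca) ?_⟩
      rw [hc, commutatorElement_def]; group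
  intro x y α β hx hy hxy hox hoy hle hsum d hd1 hdp hdx hdy hrel
  have hdX : Commute d x := by
    obtain ⟨i, hi⟩ := mem_zpowers_iff.1 hdx; rw [← hi]; exact (Commute.refl x).zpow_left i
  have hdY : Commute d y := by
    obtain ⟨i, hi⟩ := mem_zpowers_iff.1 hdy; rw [← hi]; exact (Commute.refl y).zpow_left i
  obtain ⟨m, rfl⟩ : ∃ m, β = m + 1 := by
    refine ⟨β - 1, ?_⟩
    rcases Nat.eq_zero_or_pos β with rfl | h
    · rw [pow_zero, orderOf_eq_one_iff] at hoy
      exact absurd (hoy ▸ Commute.one_right x) hxy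
    · omega
  obtain ⟨l, rfl⟩ : ∃ l, α = m + l + 1 := ⟨α - (m + 1), by omega⟩
  have hym : orderOf (y ^ p ^ m) = p := by
    rw [orderOf_pow_of_dvd (pow_ne_zero _ hp.ne_zero) (hoy ▸ pow_dvd_pow p (Nat.le_succ m)), hoy,
      pow_succ, Nat.mul_div_cancel_left _ (pow_pos hp.pos _)]
  have hxm : orderOf (x ^ p ^ (m + l)) = p := by
    rw [orderOf_pow_of_dvd (pow_ne_zero _ hp.ne_zero) (hox ▸ pow_dvd_pow p (Nat.le_succ (m + l))), hox,
      pow_succ, Nat.mul_div_cancel_left _ (pow_pos hp.pos _)]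
  have hdo : orderOf d = p := orderOf_eq_prime hdp hd1
  have e1 : zpowers d = zpowers (y ^ p ^ m) :=
    eq_of_le_of_card_ge (zpowers_le.2 (CycP.root_mem hoy hdy hdp))
      (by rw [Nat.card_zpowers, Nat.card_zpowers, hdo, hym])
  obtain ⟨j, hj⟩ : ∃ j : ℕ, (x ^ p ^ (m + l)) ^ j = (y ^ p ^ m)⁻¹ := by
    refine (mem_powers_iff_mem_zpowers (x := x ^ p ^ (m + l))).2 (inv_mem ?_)
    have h1 : d ∈ zpowers (x ^ p ^ (m + l)) := CycP.root_mem hox hdx hdp
    have h2 : y ^ p ^ m ∈ zpowers d := e1 ▸ mem_zpowers _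
    exact zpowers_le.2 h1 h2
  set s := p ^ l * j with hs
  set y' := y * x ^ s with hy'
  have hxy' : ¬ Commute x y' := fun e => hxy (by
    have h1 : Commute x (y' * (x ^ s)⁻¹) := e.mul_right ((Commute.refl x).pow_right s).inv_right
    rwa [hy', mul_inv_cancel_right] at h1)
  have hrs : ∀ t : ℕ, x ^ t * y = d ^ t * (y * x ^ t) := by
    intro t
    induction t with
    | zero => simp
    | succ t ih =>
      calc x ^ (t + 1) * y = x * (x ^ t * y) := by rw [pow_succ', mul_assoc]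
        _ = x * d ^ t * (y * x ^ t) := by rw [ih, mul_assoc]
        _ = d ^ t * (x * y) * x ^ t := by rw [(hdX.pow_left t).symm.eq]; simp [mul_assoc]
        _ = d ^ (t + 1) * (y * x ^ (t + 1)) := by rw [hrel, pow_succ d, pow_succ' x]; simp [mul_assoc]
  have hform : y' ^ p ^ m = d ^ (s * (p ^ m).choose 2) := by
    rw [hy', mul_pow_eq (hrs s) (hdY.pow_left s) ((hdX.pow_left s).pow_right s), ← pow_mul x, hs,
      show p ^ l * j * p ^ m = p ^ (m + l) * j by rw [pow_add]; ring, pow_mul x, hj, mul_inv_cancel,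
      one_mul, ← pow_mul]
  have hnot : ¬ p ∣ s * (p ^ m).choose 2 := by
    intro hdvd
    obtain ⟨t, ht⟩ := hdvd
    have h1 : orderOf y' ∣ p ^ m := orderOf_dvd_of_pow_eq_one (by rw [hform, ht, pow_mul, hdp, one_pow])
    have h2 := Nat.le_of_dvd (pow_pos hp.pos m) h1
    have h3 : p ^ m < p ^ (m + 1) := Nat.pow_lt_pow_right hp.one_lt (Nat.lt_succ_self m)
    have h4 := key x y' hx (mul_mem hy (pow_mem hx s)) hxy' (by omega)
    omega
  have hl : l = 0 := by
    by_contra hl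
    exact hnot (((dvd_pow_self p hl).trans (dvd_mul_right _ j)).mul_right _)
  subst hl
  have hpm : p = 2 ∧ m = 1 := by
    have h1 : ¬ p ∣ (p ^ m).choose 2 := fun h => hnot (h.mul_left s)
    rcases Nat.eq_zero_or_pos m with rfl | hm
    · exact absurd (by norm_num [Nat.choose_eq_zero_of_lt]) h1
    have h2 : p ^ m * (p ^ m - 1) = 2 * (p ^ m).choose 2 := by
      rw [Nat.choose_two_right, Nat.mul_div_cancel']
      exact (Nat.even_mul_pred_self _).two_dvd
    by_cases hp2 : p = 2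
    · refine ⟨hp2, ?_⟩
      subst hp2
      by_contra hm1
      apply h1
      have h3 : 2 * 2 ∣ 2 * (2 ^ m).choose 2 := h2 ▸ (pow_dvd_pow 2 (by omega : 2 ≤ m)).mul_right _
      exact Nat.dvd_of_mul_dvd_mul_left two_pos h3
    · exfalso
      apply h1
      have h3 : p ∣ 2 * (p ^ m).choose 2 := h2 ▸ (dvd_pow_self p hm.ne').mul_right _
      exact ((Nat.coprime_primes hp Nat.prime_two).2 hp2).dvd_of_dvd_mul_left h3
  obtain ⟨rfl, rfl⟩ := hpm
  have hx4 : orderOf x = 4 := hox.trans rfl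
  have hy4 : orderOf y = 4 := hoy.trans rfl
  have hd2 : ∀ z : G, orderOf z = 2 ^ 2 → d ∈ zpowers z → d = z ^ 2 := by
    intro z hz hdz
    obtain ⟨i, hi⟩ := mem_zpowers_iff.1 (CycP.root_mem (p := 2) (k := 1) hz hdz hdp)
    obtain ⟨w, hw | hw⟩ := Int.even_or_odd' i
    · exfalso
      apply hd1
      rw [← hi, hw, zpow_mul, zpow_ofNat, ← pow_mul, show 2 ^ 1 * 2 = 2 ^ 2 from rfl, ← hz, pow_orderOf_eq_one, one_zpow]
    · rw [← hi, hw, zpow_add, zpow_one, zpow_mul, zpow_ofNat, ← pow_mul, show 2 ^ 1 * 2 = 2 ^ 2 from rfl, ← hz, pow_orderOf_eq_one, one_zpow, one_mul, pow_one]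
  have e2 := hd2 x hox hdx
  refine ⟨hx4, hy4, e2.symm.trans (hd2 y hoy hdy), ?_⟩
  have h3 : x ^ 4 = 1 := hx4 ▸ pow_orderOf_eq_one x
  have h5 : y * x = d⁻¹ * (x * y) := by rw [hrel, inv_mul_cancel_left]
  rw [h5, mul_assoc, mul_inv_cancel_right, e2, inv_mul_eq_iff_eq_mul, eq_mul_inv_iff_mul_eq, ← pow_two]

end Cfsg.Agent.Solv.Hamilton
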