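import Mathlib

/-!
The automorphisms of a Hamming space: a primitive group with a regular product subgroup.
-/

set_option autoImplicit false
set_option linter.style.haveILetI false
set_option linter.unusedSectionVars false

namespace Cfsg.Agent.Solv.HammingPrimitive

open MulAction
open scoped Pointwise

variable {n : ℕ} {ι : Type*} [Fintype ι] [DecidableEq ι] {m : ℕ} (e : Fin n ≃ (ι → Fin m))

/-- The permutations preserving the distance. -/
def autGroup : Subgroup (Equiv.Perm (Fin n)) where
  carrier := {σ | ∀ x y, hammingDist (e (σ x)) (e (σ y)) = hammingDist (e x) (e y)}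
  mul_mem' {σ τ} h1 h2 x y := by
    show hammingDist (e (σ (τ x))) (e (σ (τ y))) = _
    rw [h1, h2]
  one_mem' x y := rfl
  inv_mem' {σ} h x y := by
    have := h (σ⁻¹ x) (σ⁻¹ y)
    simpa using this.symm

/-- A permutation of the space as a permutation of the points. -/
def lift (π : Equiv.Perm (ι → Fin m)) : Equiv.Perm (Fin n) := e.trans (π.trans e.symm)

theorem lift_mem {π : Equiv.Perm (ι → Fin m)} (h : ∀ x y, hammingDist (π x) (π y) = hammingDist x y) :
    lift e π ∈ autGroup e := fun x y => by simp [lift, h]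

/-- Coordinatewise permutations. -/
def coordPerm (f : ι → Equiv.Perm (Fin m)) : Equiv.Perm (ι → Fin m) := Equiv.piCongrRight f

theorem coordPerm_dist (f : ι → Equiv.Perm (Fin m)) (x y : ι → Fin m) :
    hammingDist (coordPerm f x) (coordPerm f y) = hammingDist x y :=
  hammingDist_comp (fun i => f i) (fun i => (f i).injective)

/-- The exchange of two coordinates. -/
def swapCoord (i j : ι) : Equiv.Perm (ι → Fin m) :=
  { toFun := fun x => x ∘ Equiv.swap i j
    invFun := fun x => x ∘ Equiv.swap i j
    left_inv := fun x => funext fun k => by simp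
    right_inv := fun x => funext fun k => by simp }

theorem swapCoord_dist (i j : ι) (x y : ι → Fin m) :
    hammingDist (swapCoord i j x) (swapCoord i j y) = hammingDist x y := by
  refine Finset.card_equiv (Equiv.swap i j) fun k => ?_
  simp only [Finset.mem_filter, Finset.mem_univ, true_and]
  exact Iff.rfl

theorem primitive (hm : 3 ≤ m) (hpre : IsPretransitive (autGroup e) (Fin n)) :
    IsPreprimitive (autGroup e) (Fin n) := by
  refine { toIsPretransitive := hpre, isTrivialBlock_of_isBlock := fun {B} hB => ?_ }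
  rw [IsTrivialBlock]
  by_cases hsub : B.Subsingleton
  · exact Or.inl hsub
  right
  obtain ⟨a, ha, b, hb, hab⟩ := Set.not_subsingleton_iff.1 hsub
  set S : Set (ι → Fin m) := e '' B with hS
  have hstab : ∀ π : Equiv.Perm (ι → Fin m), (∀ x y, hammingDist (π x) (π y) = hammingDist x y) →
      ∀ u ∈ S, π u ∈ S → ∀ v ∈ S, π v ∈ S := by
    rintro π hπ _ ⟨u, hu, rfl⟩ ⟨u', hu', e'⟩ _ ⟨v, hv, rfl⟩
    let g : autGroup e := ⟨lift e π, lift_mem e hπ⟩
    have hgu : g • u = u' := by
      show lift e π u = u'
      simp [lift, ← e']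
    have hBB : g • B = B := hB.smul_eq_of_nonempty ⟨u', ⟨u, hu, hgu⟩, hu'⟩
    refine ⟨g • v, hBB ▸ Set.smul_mem_smul_set hv, ?_⟩
    show e (lift e π v) = π (e v)
    simp [lift]
  have hth : ∀ p q : Fin m, ∃ c : Fin m, c ≠ p ∧ c ≠ q := fun p q => by
    by_contra hn
    push Not at hn
    have hsub : (Finset.univ : Finset (Fin m)) ⊆ {p, q} := fun c _ => by
      by_cases h : c = p
      · simp [h]
      · simp [hn c h]
    have := (Finset.card_le_card hsub).trans Finset.card_le_two
    rw [Finset.card_univ, Fintype.card_fin] at this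
    omega
  -- a pair at distance one
  obtain ⟨p, hp, q, hq, i, hpq, hrest⟩ : ∃ p ∈ S, ∃ q ∈ S, ∃ i, p i ≠ q i ∧ ∀ k, k ≠ i → p k = q k := by
    obtain ⟨i, hi⟩ := Function.ne_iff.1 (fun h => hab (e.injective h) : e a ≠ e b)
    obtain ⟨c, hc1, hc2⟩ := hth (e a i) (e b i)
    set f : ι → Equiv.Perm (Fin m) := Function.update 1 i (Equiv.swap (e b i) c) with hf
    have hfa : coordPerm f (e a) = e a := funext fun k => by
      by_cases hk : k = i
      · subst hk; simp [coordPerm, hf, Equiv.swap_apply_of_ne_of_ne hi hc1.symm]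
      · simp [coordPerm, hf, hk]
    refine ⟨coordPerm f (e b), hstab _ (coordPerm_dist f) (e a) ⟨a, ha, rfl⟩ (by rw [hfa]; exact ⟨a, ha, rfl⟩) _ ⟨b, hb, rfl⟩,
      e b, ⟨b, hb, rfl⟩, i, ?_, fun k hk => ?_⟩
    · simp [coordPerm, hf, hc2]
    · simp [coordPerm, hf, hk]
  -- every change of one coordinate stays inside
  have hone : ∀ j : ι, ∀ w ∈ S, ∀ v : Fin m, Function.update w j v ∈ S := by
    intro j w hw v
    by_cases hv : v = w j
    · rw [hv, Function.update_eq_self]; exact hw
    set f : ι → Equiv.Perm (Fin m) := fun k => Equiv.swap (q (Equiv.swap i j k)) (w k) with hf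
    set π1 := (swapCoord (m := m) i j).trans (coordPerm f) with hπ1
    have hd1 : ∀ x y, hammingDist (π1 x) (π1 y) = hammingDist x y := fun x y =>
      (coordPerm_dist f _ _).trans (swapCoord_dist i j x y)
    have hq1 : π1 q = w := funext fun k => by simp [hπ1, coordPerm, swapCoord, hf]
    have hp1 := hstab π1 hd1 q hq (hq1 ▸ hw) p hp
    set p' := π1 p with hp'
    have hne : p' j ≠ w j := by
      rw [hp', ← hq1]
      simp [hπ1, coordPerm, swapCoord, hpq]
    set f2 : ι → Equiv.Perm (Fin m) := Function.update 1 j (Equiv.swap (p' j) v) with hf2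
    have hw2 : coordPerm f2 w = w := funext fun k => by
      by_cases hk : k = j
      · subst hk; simp [coordPerm, hf2, Equiv.swap_apply_of_ne_of_ne hne.symm (Ne.symm hv)]
      · simp [coordPerm, hf2, hk]
    have hp2 := hstab _ (coordPerm_dist f2) w hw (hw2.symm ▸ hw) p' hp1
    convert hp2 using 1
    funext k
    by_cases hk : k = j
    · subst hk; simp [coordPerm, hf2]
    · have : (Equiv.swap i j) k ≠ i := fun h => hk (by rw [← Equiv.swap_apply_self i j k, h, Equiv.swap_apply_left])
      simp [coordPerm, hf2, hk, hp', hπ1, swapCoord, hf, hrest _ this]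
  have hall : ∀ (s : Finset ι) (x : ι → Fin m), (∀ k, k ∉ s → x k = e a k) → x ∈ S := by
    intro s
    induction s using Finset.induction_on with
    | empty => exact fun x hx => (funext fun k => hx k (Finset.notMem_empty k) : x = e a) ▸ ⟨a, ha, rfl⟩
    | insert j s hj ih =>
      intro x hx
      have h1 := ih (Function.update x j (e a j)) fun k hk => by
        by_cases hkj : k = j
        · subst hkj; simp
        · simp [hkj, hx k (by simp [hkj, hk])]
      have h2 := hone j _ h1 (x j)
      rwa [Function.update_idem, Function.update_eq_self] at h2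
  refine Set.eq_univ_of_forall fun x => ?_
  obtain ⟨x', hx', hxe⟩ := hall Finset.univ (e x) fun k hk => absurd (Finset.mem_univ k) hk
  rwa [e.injective hxe] at hx'

theorem not_two (hm : 3 ≤ m) (hr : 2 ≤ Fintype.card ι) :
    ¬ IsMultiplyPretransitive (autGroup e) (Fin n) 2 := by
  intro h
  rw [is_two_pretransitive_iff] at h
  haveI : Nontrivial ι := Fintype.one_lt_card_iff_nontrivial.1 (by omega)
  obtain ⟨i, j, hij⟩ := exists_pair_ne ι
  let c0 : Fin m := ⟨0, by omega⟩
  let c1 : Fin m := ⟨1, by omega⟩
  have hc : c1 ≠ c0 := by simp [c0, c1, Fin.ext_iff]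
  let z : ι → Fin m := fun _ => c0
  let u := Function.update z i c1
  let v : ι → Fin m := Function.update u j c1
  have hu : u ≠ z := fun e' => hc (by simpa [u, z] using congrFun e' i)
  have hv : v ≠ z := fun e' => hc (by simpa [v, z] using congrFun e' j)
  obtain ⟨g, h1, h2⟩ := h (a := e.symm z) (b := e.symm u) (c := e.symm z) (d := e.symm v)
    (fun e' => hu (e.symm.injective e').symm) (fun e' => hv (e.symm.injective e').symm)
  have := g.2 (e.symm z) (e.symm u)
  rw [show (g : Equiv.Perm (Fin n)) (e.symm z) = e.symm z from h1,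
    show (g : Equiv.Perm (Fin n)) (e.symm u) = e.symm v from h2] at this
  simp only [Equiv.apply_symm_apply] at this
  have du : hammingDist z u = 1 := by
    rw [hammingDist, Finset.card_eq_one]
    refine ⟨i, Finset.ext fun k => ?_⟩
    by_cases hk : k = i
    · subst hk; simp [u, z, hc.symm]
    · simp [u, z, hk]
  have dv : 1 < hammingDist z v := by
    rw [hammingDist, Finset.one_lt_card]
    exact ⟨i, by simp [v, u, z, hij, hc.symm], j, by simp [v, z, hc.symm], hij⟩
  omega

theorem product_regular {K : Type*} [Group K] [Finite K] {ι : Type*} [Fintype ι] (F : ι → Type*) [∀ i, Group (F i)]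
    (hr : 2 ≤ Fintype.card ι) (m : ℕ) (hm : 3 ≤ m) (hcard : ∀ i, Nat.card (F i) = m) (φ : K ≃* (∀ i, F i)) :
    ∃ (n : ℕ) (G R : Subgroup (Equiv.Perm (Fin n))), R ≤ G ∧ Nonempty (↥R ≃* K) ∧
      IsPretransitive ↥R (Fin n) ∧ (∀ a : Fin n, stabilizer ↥R a = ⊥) ∧
      IsPreprimitive ↥G (Fin n) ∧ ¬ IsMultiplyPretransitive ↥G (Fin n) 2 := by
  classical
  haveI : ∀ i, Finite (F i) := fun i => Nat.finite_of_card_ne_zero (by rw [hcard i]; omega)
  let c : ∀ i, F i ≃ Fin m := fun i => (Finite.equivFin (F i)).trans (finCongr (hcard i))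
  let ψ : K ≃ (ι → Fin m) := φ.toEquiv.trans (Equiv.piCongrRight c)
  let e : Fin (Nat.card (ι → Fin m)) ≃ (ι → Fin m) := (Finite.equivFin _).symm
  let θ : Fin (Nat.card (ι → Fin m)) ≃ K := e.trans ψ.symm
  let L : K →* Equiv.Perm (Fin (Nat.card (ι → Fin m))) :=
    { toFun := fun k => θ.trans ((Equiv.mulLeft k).trans θ.symm)
      map_one' := Equiv.ext fun x => by simp
      map_mul' := fun a b => Equiv.ext fun x => by simp [mul_assoc] }
  have hL : Function.Injective L := fun a b h => by
    have := congrArg (fun σ : Equiv.Perm _ => θ (σ (θ.symm 1))) h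
    simpa [L] using this
  have hmem : L.range ≤ autGroup e := by
    rintro _ ⟨k, rfl⟩ x y
    have hk : ∀ x, e (L k x) = fun i => c i (φ k i * (c i).symm (e x i)) := fun x => by
      funext i
      simp [L, θ, ψ, Equiv.piCongrRight]
    rw [hk, hk]
    refine (hammingDist_comp (fun i v => c i (φ k i * (c i).symm v)) fun i => ?_)
    exact (c i).injective.comp ((mul_right_injective _).comp (c i).symm.injective)
  have htr : IsPretransitive L.range (Fin (Nat.card (ι → Fin m))) := ⟨fun x y =>
    ⟨⟨_, θ y * (θ x)⁻¹, rfl⟩, by show L _ x = y; simp [L]⟩⟩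
  refine ⟨_, autGroup e, L.range, hmem, ⟨(MonoidHom.ofInjective hL).symm⟩, htr, fun a => ?_,
    primitive e hm ⟨fun x y => ?_⟩, not_two e hm hr⟩
  · rw [Subgroup.eq_bot_iff_forall]
    rintro ⟨_, k, rfl⟩ h
    have h' : L k a = a := h
    have : k = 1 := by
      have := congrArg θ h'
      simpa [L] using this
    exact Subtype.ext (show L k = 1 by rw [this, map_one])
  · obtain ⟨g, hg⟩ := htr.exists_smul_eq x y
    exact ⟨⟨g, hmem g.2⟩, hg⟩

end Cfsg.Agent.Solv.HammingPrimitive
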