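import Cfsg.Agent.Lib.Solv.ExtraspecialModels

/-! The odd Heisenberg group and its unitriangular matrices. -/

set_option autoImplicit false

namespace Cfsg.Agent.Solv.ESClass

open Subgroup
open scoped commutatorElement Matrix

/-- Triples with the symplectic half-product. -/
@[ext]
structure Heis (p n : ℕ) where
  x : Fin n → ZMod p
  y : Fin n → ZMod p
  c : ZMod p

namespace Heis

variable {p n : ℕ}

instance : Mul (Heis p n) := ⟨fun u v => ⟨u.x + v.x, u.y + v.y, u.c + v.c + u.x ⬝ᵥ v.y⟩⟩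
instance : One (Heis p n) := ⟨⟨0, 0, 0⟩⟩
instance : Inv (Heis p n) := ⟨fun u => ⟨-u.x, -u.y, -u.c + u.x ⬝ᵥ u.y⟩⟩

@[simp] theorem mul_x (u v : Heis p n) : (u * v).x = u.x + v.x := rfl
@[simp] theorem mul_y (u v : Heis p n) : (u * v).y = u.y + v.y := rfl
@[simp] theorem mul_c (u v : Heis p n) : (u * v).c = u.c + v.c + u.x ⬝ᵥ v.y := rfl
@[simp] theorem one_x : (1 : Heis p n).x = 0 := rfl
@[simp] theorem one_y : (1 : Heis p n).y = 0 := rfl
@[simp] theorem one_c : (1 : Heis p n).c = 0 := rfl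
@[simp] theorem inv_x (u : Heis p n) : u⁻¹.x = -u.x := rfl
@[simp] theorem inv_y (u : Heis p n) : u⁻¹.y = -u.y := rfl
@[simp] theorem inv_c (u : Heis p n) : u⁻¹.c = -u.c + u.x ⬝ᵥ u.y := rfl

instance : Group (Heis p n) :=
  Group.ofLeftAxioms
    (fun u v w => by
      ext1
      · simp [add_assoc]
      · simp [add_assoc]
      · simp only [mul_c, mul_x, mul_y, add_dotProduct, dotProduct_add]; ring)
    (fun u => by ext1 <;> simp)
    (fun u => by
      ext1
      · simp
      · simp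
      · simp only [mul_c, inv_c, inv_x, one_c, neg_dotProduct]; ring)

/-- Coordinates. -/
def equiv (p n : ℕ) : Heis p n ≃ ((Fin n → ZMod p) × (Fin n → ZMod p)) × ZMod p where
  toFun u := ((u.x, u.y), u.c)
  invFun u := ⟨u.1.1, u.1.2, u.2⟩
  left_inv _ := rfl
  right_inv _ := rfl

instance [NeZero p] : Finite (Heis p n) := Finite.of_equiv _ (equiv p n).symm

theorem card [NeZero p] : Nat.card (Heis p n) = p ^ (1 + 2 * n) := by
  rw [Nat.card_congr (equiv p n), Nat.card_prod, Nat.card_prod, Nat.card_fun, Nat.card_zmod, Nat.card_fin,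
    ← pow_add, ← pow_succ]
  congr 1
  omega

theorem pow_eq (u : Heis p n) : ∀ k : ℕ,
    u ^ k = ⟨(k : ZMod p) • u.x, (k : ZMod p) • u.y, (k : ZMod p) * u.c + (k.choose 2 : ℕ) • (u.x ⬝ᵥ u.y)⟩
  | 0 => by ext <;> simp
  | k + 1 => by
    rw [pow_succ, pow_eq u k]
    ext1
    · simp [add_smul]
    · simp [add_smul]
    · simp only [mul_c, smul_dotProduct, Nat.choose_succ_succ k 1, Nat.choose_one_right, add_smul,
        nsmul_eq_mul, smul_eq_mul, Nat.cast_add, Nat.cast_one]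
      ring

theorem pow_prime [Fact p.Prime] (hp : p ≠ 2) (u : Heis p n) : u ^ p = 1 := by
  rw [pow_eq]
  have h : ((p.choose 2 : ℕ) : ZMod p) = 0 :=
    (ZMod.natCast_eq_zero_iff _ _).mpr
      ((Fact.out : p.Prime).dvd_choose_self two_ne_zero (lt_of_le_of_ne (Fact.out : p.Prime).two_le hp.symm))
  ext1 <;> simp [nsmul_eq_mul, h]

/-- The central generator. -/
def z (p n : ℕ) : Heis p n := ⟨0, 0, 1⟩

theorem mem_z [Fact p.Prime] {v : Heis p n} (hx : v.x = 0) (hy : v.y = 0) : v ∈ zpowers (z p n) := by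
  refine ⟨(v.c.val : ℤ), ?_⟩
  show z p n ^ ((v.c.val : ℕ) : ℤ) = v
  rw [zpow_natCast, pow_eq]
  ext1 <;> simp [z, hx, hy]

theorem comm_eq (u v : Heis p n) : ⁅u, v⁆ = ⟨0, 0, u.x ⬝ᵥ v.y - v.x ⬝ᵥ u.y⟩ := by
  rw [commutatorElement_def]
  ext1
  · simp
  · simp
  · simp only [mul_c, inv_c, mul_x, inv_x, inv_y, add_dotProduct, dotProduct_neg, neg_dotProduct]
    ring

/-- The extraspecial data. -/
def es [Fact p.Prime] (hp : p ≠ 2) : ES p (Heis p n) where
  z := z p n
  hz := orderOf_eq_prime (pow_prime hp _) fun e => by simpa [z] using congrArg Heis.c e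
  cent g := by ext1 <;> simp [z, add_comm]
  comm u v := by rw [comm_eq]; exact mem_z rfl rfl
  pw u := by rw [pow_prime hp]; exact one_mem _
  nd u h := by
    refine mem_z (funext fun i => ?_) (funext fun i => ?_)
    · simpa using congrArg Heis.c (h ⟨0, Pi.single i 1, 0⟩)
    · simpa using (congrArg Heis.c (h ⟨Pi.single i 1, 0, 0⟩)).symm

theorem not_comm [Fact p.Prime] (hn : 1 ≤ n) :
    (⟨Pi.single ⟨0, hn⟩ 1, 0, 0⟩ : Heis p n) * ⟨0, Pi.single ⟨0, hn⟩ 1, 0⟩ ≠
      ⟨0, Pi.single ⟨0, hn⟩ 1, 0⟩ * ⟨Pi.single ⟨0, hn⟩ 1, 0, 0⟩ := fun e => by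
  simpa using congrArg Heis.c e

/-- The row vector. -/
def rowV (u : Heis p n) : Fin (n + 2) → ZMod p := Fin.cons 0 (Fin.snoc u.x u.c)

/-- The column vector. -/
def colV (u : Heis p n) : Fin (n + 2) → ZMod p := Fin.cons 0 (Fin.snoc u.y 0)

/-- The nilpotent part of the matrix. -/
def nil (u : Heis p n) : Matrix (Fin (n + 2)) (Fin (n + 2)) (ZMod p) :=
  Matrix.vecMulVec (Pi.single 0 1) (rowV u) + Matrix.vecMulVec (colV u) (Pi.single (Fin.last (n + 1)) 1)

theorem rowV_mul (u v : Heis p n) :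
    rowV (u * v) = rowV u + rowV v + (u.x ⬝ᵥ v.y) • Pi.single (Fin.last (n + 1)) 1 := by
  funext i
  refine Fin.cases ?_ (fun j => ?_) i
  · simp [rowV, Fin.ext_iff]
  · refine Fin.lastCases ?_ (fun k => ?_) j
    · simp [rowV, ← Fin.succ_last]
    · simp [rowV, ← Fin.succ_last, Fin.castSucc_lt_last k |>.ne]

theorem colV_mul (u v : Heis p n) : colV (u * v) = colV u + colV v := by
  funext i
  refine Fin.cases ?_ (fun j => ?_) i
  · simp [colV]
  · refine Fin.lastCases ?_ (fun k => ?_) j <;> simp [colV]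

theorem row_col (u v : Heis p n) : rowV u ⬝ᵥ colV v = u.x ⬝ᵥ v.y := by
  simp [dotProduct, rowV, colV, Fin.sum_univ_succ (n := n + 1), Fin.sum_univ_castSucc (n := n)]

theorem nil_mul (u v : Heis p n) : 1 + nil (u * v) = (1 + nil u) * (1 + nil v) := by
  have h1 : (rowV u) ⬝ᵥ Pi.single 0 1 = 0 := by simp [rowV]
  have h2 : (Pi.single (Fin.last (n + 1)) 1 : Fin (n + 2) → ZMod p) ⬝ᵥ Pi.single 0 1 = 0 := by
    simp [Fin.ext_iff]
  have h3 : (Pi.single (Fin.last (n + 1)) 1 : Fin (n + 2) → ZMod p) ⬝ᵥ colV v = 0 := by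
    simp [colV, ← Fin.succ_last]
  rw [mul_add, add_mul, add_mul, one_mul, one_mul, mul_one]
  have h : nil u * nil v =
      (u.x ⬝ᵥ v.y) • Matrix.vecMulVec (Pi.single 0 1) (Pi.single (Fin.last (n + 1)) 1) := by
    simp only [nil, add_mul, mul_add, Matrix.vecMulVec_mul_vecMulVec, h1, h2, h3, row_col,
      zero_smul, add_zero, zero_add, Matrix.vecMulVec_smul,
      Matrix.vecMulVec_zero]
  rw [h]
  simp only [nil, rowV_mul, colV_mul, Matrix.vecMulVec_add, Matrix.add_vecMulVec, Matrix.vecMulVec_smul]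
  abel

theorem nil_one : (1 : Matrix (Fin (n + 2)) (Fin (n + 2)) (ZMod p)) + nil (1 : Heis p n) = 1 := by
  have h1 : rowV (1 : Heis p n) = 0 := by
    funext i
    refine Fin.cases ?_ (fun j => ?_) i
    · simp [rowV]
    · refine Fin.lastCases ?_ (fun k => ?_) j <;> simp [rowV]
  have h2 : colV (1 : Heis p n) = 0 := by
    funext i
    refine Fin.cases ?_ (fun j => ?_) i
    · simp [colV]
    · refine Fin.lastCases ?_ (fun k => ?_) j <;> simp [colV]
  simp [nil, h1, h2]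

/-- The matrices. -/
def mat (p n : ℕ) : Heis p n →* Matrix (Fin (n + 2)) (Fin (n + 2)) (ZMod p) where
  toFun u := 1 + nil u
  map_one' := nil_one
  map_mul' := nil_mul

theorem mat_injective : Function.Injective (mat p n) := by
  intro u v h
  have hh : nil u = nil v := add_left_cancel h
  have e : ∀ (w : Heis p n) (i : Fin n), nil w 0 i.castSucc.succ = w.x i ∧
      nil w i.castSucc.succ (Fin.last (n + 1)) = w.y i ∧ nil w 0 (Fin.last (n + 1)) = w.c := by
    intro w i
    simp [nil, Matrix.vecMulVec_apply, rowV, colV, ← Fin.succ_last, (Fin.castSucc_lt_last i).ne,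
      Fin.succ_ne_zero]
  ext1
  · funext i; rw [← (e u i).1, ← (e v i).1, hh]
  · funext i; rw [← (e u i).2.1, ← (e v i).2.1, hh]
  · have ec : ∀ w : Heis p n, nil w 0 (Fin.last (n + 1)) = w.c := fun w => by
      simp [nil, Matrix.vecMulVec_apply, rowV, colV, ← Fin.succ_last]
    rw [← ec u, ← ec v, hh]

end Heis

end Cfsg.Agent.Solv.ESClass
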