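import Cfsg.Agent.Lib.Char.Basic
import Cfsg.Agent.Lib.Char.Orthogonality
import Cfsg.Agent.Lib.Char.Perm
import Mathlib.LinearAlgebra.Matrix.Kronecker
import Mathlib.LinearAlgebra.Trace
import Mathlib.LinearAlgebra.Projection

/-!
The bound on the Frobenius-Schur indicator and the count of involutions.
-/

set_option autoImplicit false

namespace Cfsg.Agent.Solv.FS

open Cfsg Cfsg.Agent.Char
open scoped ComplexConjugate Kronecker

universe u

variable {G : Type u} [Group G]

theorem trace_idempotent {ι : Type*} [Fintype ι] [DecidableEq ι] (e : Matrix ι ι ℂ)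
    (he : e * e = e) : ∃ m : ℕ, e.trace = m := by
  have h : IsIdempotentElem (Matrix.toLin' e) := by
    unfold IsIdempotentElem
    rw [Module.End.mul_eq_comp, ← Matrix.toLin'_mul, he]
  refine ⟨Module.finrank ℂ (LinearMap.range (Matrix.toLin' e)), ?_⟩
  rw [← Matrix.trace_toLin'_eq]
  exact (LinearMap.IsIdempotentElem.isProj_range _ h).trace

theorem exists_average_split [Fintype G] {χ : G → ℂ} (hχ : IsCharacter G χ) :
    ∃ a b : ℕ, (Nat.card G : ℂ)⁻¹ * ∑ x : G, χ (x ^ 2) = (a : ℂ) - b ∧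
      (Nat.card G : ℂ)⁻¹ * ∑ x : G, χ x * χ x = (a : ℂ) + b := by
  classical
  obtain ⟨n, ρ, rfl⟩ := hχ
  let A : G → Matrix (Fin n) (Fin n) ℂ := fun g => LinearMap.toMatrix' (ρ g)
  have hA : ∀ g h, A (g * h) = A g * A h := fun g h => by
    show LinearMap.toMatrix' (ρ (g * h)) = _
    rw [map_mul, Module.End.mul_eq_comp, LinearMap.toMatrix'_comp]
  let K : G → Matrix (Fin n × Fin n) (Fin n × Fin n) ℂ := fun g => A g ⊗ₖ A g
  have hK : ∀ g h, K (g * h) = K g * K h := fun g h => by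
    show A (g * h) ⊗ₖ A (g * h) = _
    rw [hA, Matrix.mul_kronecker_mul]
  let S : Matrix (Fin n × Fin n) (Fin n × Fin n) ℂ := Matrix.of fun p q => if p.swap = q then 1 else 0
  have hSl : ∀ (M : Matrix (Fin n × Fin n) (Fin n × Fin n) ℂ) p q, (S * M) p q = M p.swap q := fun M p q => by rw [Matrix.mul_apply]; simp [S]
  have hSr : ∀ (M : Matrix (Fin n × Fin n) (Fin n × Fin n) ℂ) p q, (M * S) p q = M p q.swap :=
    fun M p q => by
      rw [Matrix.mul_apply]
      simp only [S, Matrix.of_apply]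
      rw [Finset.sum_eq_single q.swap]
      · simp
      · intro b _ hb
        have : ¬ b.swap = q := fun h => hb (by rw [← h, Prod.swap_swap])
        simp [this]
      · exact fun h => absurd (Finset.mem_univ _) h
  have hS2 : S * S = 1 := by
    ext p q
    rw [hSl]
    by_cases h : p = q <;> simp [S, Matrix.one_apply, h, Prod.swap_inj]
  have hKS : ∀ g, S * K g = K g * S := fun g => by
    ext p q
    rw [hSl, hSr]
    show A g p.swap.1 q.1 * A g p.swap.2 q.2 = A g p.1 q.swap.1 * A g p.2 q.swap.2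
    simp [mul_comm]
  have htr : ∀ g, (K g * S).trace = ρ.character (g ^ 2) := fun g => by
    rw [Representation.character, pow_two, LinearMap.trace_eq_matrix_trace ℂ (Pi.basisFun ℂ (Fin n)),
      LinearMap.toMatrix_eq_toMatrix', show LinearMap.toMatrix' (ρ (g * g)) = A g * A g from hA g g]
    simp only [Matrix.trace, Matrix.diag, hSr, Fintype.sum_prod_type, Matrix.mul_apply]
    rfl
  have hn0 : (Nat.card G : ℂ) ≠ 0 := Nat.cast_ne_zero.mpr Nat.card_pos.ne'
  let P := (Nat.card G : ℂ)⁻¹ • ∑ g : G, K g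
  have hPg : ∀ g, K g * P = P := fun g => by
    simp only [P, mul_smul_comm, Finset.mul_sum]
    congr 1
    exact Fintype.sum_equiv (Equiv.mulLeft g) _ _ fun h => (hK g h).symm
  have hPP : P * P = P := by
    nth_rw 1 [show P = (Nat.card G : ℂ)⁻¹ • ∑ g : G, K g from rfl]
    rw [smul_mul_assoc, Finset.sum_mul]
    simp only [hPg]
    rw [Finset.sum_const, Finset.card_univ, ← Nat.card_eq_fintype_card, ← Nat.cast_smul_eq_nsmul ℂ,
      smul_smul, inv_mul_cancel₀ hn0, one_smul]
  have hPS : S * P = P * S := by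
    simp only [P, mul_smul_comm, smul_mul_assoc, Finset.mul_sum, Finset.sum_mul, hKS]
  have hhalf : (2⁻¹ : ℂ) • P + (2⁻¹ : ℂ) • P = P := by rw [← add_smul]; norm_num
  have hid : ∀ ε : ℂ, ε * ε = 1 → ∃ m : ℕ, ((2⁻¹ : ℂ) • (P + ε • (P * S))).trace = m := by
    intro ε hε
    clear_value P
    refine trace_idempotent _ ?_
    have h1 : P * S * P = P * S := by rw [mul_assoc, hPS, ← mul_assoc, hPP]
    have h2 : P * (P * S) = P * S := by rw [← mul_assoc, hPP]
    have h3 : P * S * (P * S) = P := by rw [← mul_assoc, h1, mul_assoc, hS2, mul_one]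
    have hsq : (P + ε • (P * S)) * (P + ε • (P * S)) = (2 : ℂ) • (P + ε • (P * S)) := by
      rw [add_mul, mul_add, mul_add, hPP, mul_smul_comm, smul_mul_assoc, smul_mul_assoc,
        mul_smul_comm, h2, h1, h3, smul_smul, hε, one_smul, two_smul]
      abel
    rw [smul_mul_assoc, mul_smul_comm, hsq, smul_smul, smul_smul]
    norm_num
  obtain ⟨a, ha⟩ := hid 1 (one_mul 1)
  obtain ⟨b, hb⟩ := hid (-1) (by ring)
  refine ⟨a, b, ?_, ?_⟩
  · have hsum : (P * S).trace = (Nat.card G : ℂ)⁻¹ * ∑ x : G, ρ.character (x ^ 2) := by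
      simp only [P, smul_mul_assoc, Finset.sum_mul, Matrix.trace_smul, Matrix.trace_sum, htr, smul_eq_mul]
    rw [← hsum, ← ha, ← hb]
    simp only [Matrix.trace_smul, Matrix.trace_add, smul_eq_mul]
    ring
  · have hsum : P.trace = (Nat.card G : ℂ)⁻¹ * ∑ x : G, ρ.character x * ρ.character x := by
      simp only [P, Matrix.trace_smul, Matrix.trace_sum, smul_eq_mul]
      congr 1
      refine Finset.sum_congr rfl fun g _ => ?_
      show (A g ⊗ₖ A g).trace = _
      rw [Matrix.trace_kronecker, Representation.character,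
        LinearMap.trace_eq_matrix_trace ℂ (Pi.basisFun ℂ (Fin n)), LinearMap.toMatrix_eq_toMatrix']
    rw [← hsum, ← ha, ← hb]
    simp only [Matrix.trace_smul, Matrix.trace_add, smul_eq_mul]
    ring

/-- The indicator has absolute value at most one and vanishes on non-real characters. -/
theorem indicator_le [Fintype G] (χ : IrrCharacter G) :
    ∃ z : ℝ, (Nat.card G : ℂ)⁻¹ * ∑ x : G, (χ : G → ℂ) (x ^ 2) = (z : ℂ) ∧ z ≤ 1 ∧
      ((∃ g, ((χ : G → ℂ) g).im ≠ 0) → z = 0) := by
  classical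
  obtain ⟨a, b, h1, h2⟩ := exists_average_split (IsIrrCharacter.isCharacter χ.2)
  have hin : classInner (χ : G → ℂ) (conjIrr χ : G → ℂ) = (a : ℂ) + b := by
    rw [← h2]
    unfold classInner
    congr 1
    exact Finset.sum_congr rfl fun g _ => by rw [conjIrr_apply, Complex.conj_conj]
  rw [classInner_irr] at hin
  refine ⟨(a : ℝ) - b, by rw [h1]; push_cast; rfl, ?_, fun hne => ?_⟩
  · have hab : a + b ≤ 1 := by
      split at hin
      · have : a + b = 1 := by exact_mod_cast hin.symm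
        omega
      · have : a + b = 0 := by exact_mod_cast hin.symm
        omega
    have : (a : ℝ) ≤ 1 := by exact_mod_cast (show a ≤ 1 by omega)
    have : (0 : ℝ) ≤ b := Nat.cast_nonneg b
    linarith
  · rw [if_neg fun e => by
      obtain ⟨g, hg⟩ := hne
      exact hg ((conjIrr_eq_iff χ).1 e.symm g)] at hin
    have h0 : a + b = 0 := by exact_mod_cast hin.symm
    obtain ⟨rfl, rfl⟩ : a = 0 ∧ b = 0 := by omega
    simp

/-- Involutions are counted by real characters. -/
theorem sqCount_le [Fintype G] [Fintype (IrrCharacter G)] [DecidablePred fun χ : IrrCharacter G => ∀ g, ((χ : G → ℂ) g).im = 0] :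
    (Nat.card {x : G // x ^ 2 = 1} : ℝ) ≤
      ∑ χ ∈ Finset.univ.filter (fun χ : IrrCharacter G => ∀ g, ((χ : G → ℂ) g).im = 0), ((χ : G → ℂ) 1).re := by
  classical
  have hn0 : (Nat.card G : ℂ) ≠ 0 := Nat.cast_ne_zero.mpr Nat.card_pos.ne'
  choose z hz hz1 hz0 using indicator_le (G := G)
  have hd : ∀ χ : IrrCharacter G, ∃ n : ℕ, (χ : G → ℂ) 1 = n := fun χ => by
    obtain ⟨n, -, hn⟩ := IsIrrCharacter.degree_pos χ.2
    exact ⟨n, hn⟩
  choose d hd using hd
  have key : (Nat.card {x : G // x ^ 2 = 1} : ℂ) = ∑ χ : IrrCharacter G, (z χ : ℂ) * d χ := by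
    simp only [← hz, ← hd, Finset.mul_sum, Finset.sum_mul]
    rw [Finset.sum_comm]
    have : ∀ x : G, ∑ χ : IrrCharacter G, (Nat.card G : ℂ)⁻¹ * (χ : G → ℂ) (x ^ 2) * (χ : G → ℂ) 1 =
        if x ^ 2 = 1 then 1 else 0 := fun x => by
      have e : ∑ χ : IrrCharacter G, (Nat.card G : ℂ)⁻¹ * (χ : G → ℂ) (x ^ 2) * (χ : G → ℂ) 1 =
          (Nat.card G : ℂ)⁻¹ * ∑ χ : IrrCharacter G, (χ : G → ℂ) 1 * (χ : G → ℂ) (x ^ 2) := by
        rw [Finset.mul_sum]; exact Finset.sum_congr rfl fun χ _ => by ring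
      rw [e, regular_eq]
      split
      · rw [inv_mul_cancel₀ hn0]
      · rw [mul_zero]
    rw [Finset.sum_congr rfl fun x _ => this x, Finset.sum_boole, ← Fintype.card_subtype, Nat.card_eq_fintype_card]
  have key' : (Nat.card {x : G // x ^ 2 = 1} : ℝ) = ∑ χ : IrrCharacter G, z χ * (d χ : ℝ) := by
    exact_mod_cast key
  rw [key', Finset.sum_filter]
  refine Finset.sum_le_sum fun χ _ => ?_
  rw [hd χ, Complex.natCast_re]
  split
  next h => exact mul_le_of_le_one_left (Nat.cast_nonneg _) (hz1 χ)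
  next h => rw [hz0 χ (by push_neg at h; exact h), zero_mul]

/-- The indicator is an integer of absolute value one on real characters. -/
theorem indicator_int [Fintype G] (χ : IrrCharacter G) :
    ∃ z : ℤ, (Nat.card G : ℂ)⁻¹ * ∑ x : G, (χ : G → ℂ) (x ^ 2) = (z : ℂ) ∧
      ((∃ g, ((χ : G → ℂ) g).im ≠ 0) → z = 0) ∧
      ((∀ g, ((χ : G → ℂ) g).im = 0) → z = 1 ∨ z = -1) := by
  classical
  obtain ⟨a, b, h1, h2⟩ := exists_average_split (IsIrrCharacter.isCharacter χ.2)
  have hin : classInner (χ : G → ℂ) (conjIrr χ : G → ℂ) = (a : ℂ) + b := by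
    rw [← h2]
    unfold classInner
    congr 1
    exact Finset.sum_congr rfl fun g _ => by rw [conjIrr_apply, Complex.conj_conj]
  rw [classInner_irr] at hin
  refine ⟨(a : ℤ) - b, by rw [h1]; push_cast; rfl, fun ⟨g, hg⟩ => ?_, fun hr => ?_⟩
  · rw [if_neg fun e => hg ((conjIrr_eq_iff χ).1 e.symm g)] at hin
    have : a + b = 0 := by exact_mod_cast hin.symm
    omega
  · rw [if_pos ((conjIrr_eq_iff χ).2 hr).symm] at hin
    have : a + b = 1 := by exact_mod_cast hin.symm
    omega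

/-- The number of square roots of one. -/
theorem sqCount_eq [Fintype G] [Fintype (IrrCharacter G)] :
    (Nat.card {x : G // x ^ 2 = 1} : ℂ) = ∑ χ : IrrCharacter G,
      ((Nat.card G : ℂ)⁻¹ * ∑ x : G, (χ : G → ℂ) (x ^ 2)) * (χ : G → ℂ) 1 := by
  classical
  have hn0 : (Nat.card G : ℂ) ≠ 0 := Nat.cast_ne_zero.mpr Nat.card_pos.ne'
  simp only [Finset.mul_sum, Finset.sum_mul]
  rw [Finset.sum_comm]
  have : ∀ x : G, ∑ χ : IrrCharacter G, (Nat.card G : ℂ)⁻¹ * (χ : G → ℂ) (x ^ 2) * (χ : G → ℂ) 1 =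
      if x ^ 2 = 1 then 1 else 0 := fun x => by
    have e : ∑ χ : IrrCharacter G, (Nat.card G : ℂ)⁻¹ * (χ : G → ℂ) (x ^ 2) * (χ : G → ℂ) 1 =
        (Nat.card G : ℂ)⁻¹ * ∑ χ : IrrCharacter G, (χ : G → ℂ) 1 * (χ : G → ℂ) (x ^ 2) := by
      rw [Finset.mul_sum]; exact Finset.sum_congr rfl fun χ _ => by ring
    rw [e, regular_eq]
    split
    · rw [inv_mul_cancel₀ hn0]
    · rw [mul_zero]
  rw [Finset.sum_congr rfl fun x _ => this x, Finset.sum_boole, ← Fintype.card_subtype,
    Nat.card_eq_fintype_card]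

end Cfsg.Agent.Solv.FS
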