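import Cfsg.Agent.Lib.Local.InvolvesSymFour
import Cfsg.Agent.Lib.Inv.BaerSuzuki
import Cfsg.Agent.Lib.Solv.Misc
import Cfsg.Prelude.Def_PLocal

/-!
A transvection on a normal abelian `2`-subgroup lies in the `2`-core unless `S₄` is involved.
-/

set_option autoImplicit false
set_option linter.style.haveILetI false
set_option linter.unusedSectionVars false

namespace Cfsg.Agent.Solv.JWC

open Subgroup
open scoped Pointwise

variable {G : Type*} [Group G]

/-- `a` moves the elements of `V` by at most the element `α`. -/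
def Moves (V : Subgroup G) (a α : G) : Prop :=
  α ∈ V ∧ α * α = 1 ∧ a * α * a⁻¹ = α ∧ ∀ v ∈ V, a * v * a⁻¹ = v ∨ a * v * a⁻¹ = v * α

theorem Moves.conj {V : Subgroup G} [hV : V.Normal] {a α : G} (h : Moves V a α) (g : G) :
    Moves V (g * a * g⁻¹) (g * α * g⁻¹) := by
  obtain ⟨h1, h2, h3, h4⟩ := h
  refine ⟨hV.conj_mem _ h1 g, ?_, ?_, fun v hv => ?_⟩
  · calc g * α * g⁻¹ * (g * α * g⁻¹) = g * (α * α) * g⁻¹ := by group
      _ = 1 := by rw [h2]; group
  · calc g * a * g⁻¹ * (g * α * g⁻¹) * (g * a * g⁻¹)⁻¹ = g * (a * α * a⁻¹) * g⁻¹ := by group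
      _ = _ := by rw [h3]
  · rcases h4 (g⁻¹ * v * g) (by simpa using hV.conj_mem v hv g⁻¹) with e | e
    · left
      calc g * a * g⁻¹ * v * (g * a * g⁻¹)⁻¹ = g * (a * (g⁻¹ * v * g) * a⁻¹) * g⁻¹ := by group
        _ = v := by rw [e]; group
    · right
      calc g * a * g⁻¹ * v * (g * a * g⁻¹)⁻¹ = g * (a * (g⁻¹ * v * g) * a⁻¹) * g⁻¹ := by group
        _ = _ := by rw [e]; group

theorem Moves.sq {V : Subgroup G} {a α : G} (h : Moves V a α) : a * a ∈ centralizer (V : Set G) := by
  refine mem_centralizer_iff.mpr fun v hv => ?_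
  obtain ⟨-, h2, h3, h4⟩ := h
  have : a * a * v * (a * a)⁻¹ = v := by
    rcases h4 v hv with e | e
    · rw [show a * a * v * (a * a)⁻¹ = a * (a * v * a⁻¹) * a⁻¹ by group, e, e]
    · rw [show a * a * v * (a * a)⁻¹ = a * (a * v * a⁻¹) * a⁻¹ by group, e,
        show a * (v * α) * a⁻¹ = (a * v * a⁻¹) * (a * α * a⁻¹) by group, e, h3, mul_assoc, h2, mul_one]
  exact (mul_inv_eq_iff_eq_mul.mp this).symm

/-- The square case. -/
theorem pow_four_mem {V : Subgroup G} (hVc : ∀ u ∈ V, ∀ v ∈ V, u * v = v * u) {a b α β : G}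
    (ha : Moves V a α) (hb : Moves V b β) (hba : b * α * b⁻¹ = α) :
    (a * b) ^ 4 ∈ centralizer (V : Set G) := by
  obtain ⟨hαV, hα2, haα, ha4⟩ := ha
  obtain ⟨hβV, hβ2, hbβ, hb4⟩ := hb
  set C := fun (y w : G) => y * w * y⁻¹ with hC
  set n := a * b with hn
  have hnm : ∀ u w : G, C n (u * w) = C n u * C n w := fun u w => by simp only [hC]; group
  have hnn : ∀ w, C n w = C a (C b w) := fun w => by simp only [hC, hn]; group
  have hnα : C n α = α := by rw [hnn]; simp only [hC]; rw [hba, haα]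
  have hnβ : C n β = β ∨ C n β = β * α := by
    rw [hnn]; simp only [hC]; rw [hbβ]; exact ha4 β hβV
  have hαβ : α * β = β * α := hVc α hαV β hβV
  have hnv : ∀ v ∈ V, ∃ e f : Bool, C n v = v * ((bif e then α else 1) * (bif f then β else 1)) := by
    intro v hv
    rw [hnn]
    rcases hb4 v hv with e | e <;> simp only [hC] <;> rw [e]
    · rcases ha4 v hv with e' | e'
      · exact ⟨false, false, by rw [e']; simp⟩
      · exact ⟨true, false, by rw [e']; simp⟩
    · rw [show a * (v * β) * a⁻¹ = (a * v * a⁻¹) * (a * β * a⁻¹) by group]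
      rcases ha4 v hv with e' | e' <;> rcases ha4 β hβV with e'' | e'' <;> rw [e', e'']
      · exact ⟨false, true, by simp⟩
      · exact ⟨true, true, by simp [hαβ]⟩
      · exact ⟨true, true, by simp [mul_assoc]⟩
      · refine ⟨false, true, ?_⟩
        simp only [cond_true, cond_false, one_mul]
        rw [← hαβ, mul_assoc v, ← mul_assoc α, hα2, one_mul]
  have hba' : β * α = α * β := hαβ.symm
  have hbal : ∀ z : G, β * (α * z) = α * (β * z) := fun z => by rw [← mul_assoc, hba', mul_assoc]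
  have haal : ∀ z : G, α * (α * z) = z := fun z => by rw [← mul_assoc, hα2, one_mul]
  have hbbl : ∀ z : G, β * (β * z) = z := fun z => by rw [← mul_assoc, hβ2, one_mul]
  have hn1 : C n 1 = 1 := by simp [hC]
  have hsq : ∀ v ∈ V, C n (C n v) = v ∨ C n (C n v) = v * α := by
    intro v hv
    obtain ⟨e, f, he⟩ := hnv v hv
    rw [he, hnm v, he, hnm _ _]
    clear_value C
    cases e <;> cases f <;> rcases hnβ with h | h <;>
      simp [hnα, hn1, h, mul_assoc, hα2, hβ2, hba', hbal, haal, hbbl]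
  have h4 : ∀ v ∈ V, n ^ 4 * v * (n ^ 4)⁻¹ = v := by
    intro v hv
    rw [show n ^ 4 * v * (n ^ 4)⁻¹ = C n (C n (C n (C n v))) by simp only [hC, pow_succ, pow_zero, one_mul, mul_inv_rev, mul_assoc]]
    rcases hsq v hv with e | e <;> rw [e]
    · exact e
    · rw [hnm v α, hnα, hnm (C n v) α, e, hnα, mul_assoc, hα2, mul_one]
  exact mem_centralizer_iff.mpr fun v hv => (mul_inv_eq_iff_eq_mul.mp (h4 v hv)).symm

/-- The transvection lemma. -/
theorem mem_pCore_of_moves [Finite G] (hfree : ¬ Involves (Equiv.Perm (Fin 4)) G) (V : Subgroup G) [V.Normal]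
    (hVc : ∀ u ∈ V, ∀ v ∈ V, u * v = v * u) {a α : G} (ha : Moves V a α) :
    QuotientGroup.mk' (centralizer (V : Set G)) a ∈ pCore 2 (G ⧸ centralizer (V : Set G)) := by
  haveI : Fact (Nat.Prime 2) := ⟨Nat.prime_two⟩
  set Cv := centralizer (V : Set G)
  set π := QuotientGroup.mk' Cv
  have hπ1 : ∀ y, y ∈ Cv → π y = 1 := fun y hy => (QuotientGroup.eq_one_iff y).mpr hy
  have hz : IsPGroup 2 (zpowers (π a)) := by
    rintro ⟨_, k, rfl⟩
    refine ⟨1, Subtype.ext ?_⟩
    change (π a ^ k) ^ 2 ^ 1 = 1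
    rw [pow_one, ← zpow_natCast, zpow_comm, zpow_natCast, pow_two, ← map_mul, hπ1 _ ha.sq, one_zpow]
  by_contra hna
  obtain ⟨y, hy⟩ : ∃ y, ¬ IsPGroup 2 ↥(zpowers (π a) ⊔ MulAut.conj y • zpowers (π a)) := by
    by_contra hall
    push Not at hall
    obtain ⟨N, hN, hNp, haN⟩ := Inv.baerSuzuki (zpowers (π a)) hz hall
    exact hna (le_pCore hNp (haN (mem_zpowers _)))
  obtain ⟨g, rfl⟩ := QuotientGroup.mk'_surjective Cv y
  set b := g * a * g⁻¹ with hb
  set β := g * α * g⁻¹ with hβ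
  have hb' : Moves V b β := ha.conj g
  -- not a `2`-group, so no fourth power is trivial
  have hnot : ∀ z : G ⧸ Cv, z = π a * π b → z ^ 4 ≠ 1 := by
    intro z hz4 h
    apply hy
    have ht2 : π a * π a = 1 := by rw [← map_mul]; exact hπ1 _ ha.sq
    have ht'2 : π b * π b = 1 := by rw [← map_mul]; exact hπ1 _ hb'.sq
    have htz : π a * z * (π a)⁻¹ = z⁻¹ := by
      rw [hz4, inv_eq_of_mul_eq_one_right ht2, mul_inv_rev, inv_eq_of_mul_eq_one_right ht2,
        inv_eq_of_mul_eq_one_right ht'2, ← mul_assoc, ht2, one_mul]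
    have hzp : IsPGroup 2 (zpowers z) := by
      rintro ⟨_, k, rfl⟩
      refine ⟨2, Subtype.ext ?_⟩
      change (z ^ k) ^ 2 ^ 2 = 1
      rw [← zpow_natCast, zpow_comm, zpow_natCast, show (2 : ℕ) ^ 2 = 4 from rfl, h, one_zpow]
    have htn : zpowers (π a) ≤ normalizer (zpowers z : Set (G ⧸ Cv)) := by
      rw [zpowers_le, mem_normalizer_iff_map_conj_eq, MonoidHom.map_zpowers]
      change zpowers (π a * z * (π a)⁻¹) = zpowers z
      rw [htz, zpowers_inv]
    refine (hz.to_sup_of_normal_right' hzp htn).to_le (sup_le le_sup_left ?_)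
    rintro w ⟨u, ⟨i, rfl⟩, rfl⟩
    have htt : π b ∈ zpowers (π a) ⊔ zpowers z := by
      have : π b = π a * z := by rw [hz4, ← mul_assoc, ht2, one_mul]
      rw [this]
      exact mul_mem (mem_sup_left (mem_zpowers _)) (mem_sup_right (mem_zpowers z))
    have h1 := zpow_mem htt i
    rw [hb, map_mul, map_mul, map_inv, conj_zpow] at h1
    simpa [MulAut.smul_def, π] using h1
  have hne4 : (a * b) ^ 4 ∉ Cv := fun h => hnot (π (a * b)) (map_mul π a b) (by rw [← map_pow]; exact hπ1 _ h)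
  have hbα : b * α * b⁻¹ = α * β := by
    rcases hb'.2.2.2 α ha.1 with e | e
    · exact absurd (pow_four_mem hVc ha hb' e) hne4
    · exact e
  have haβ : a * β * a⁻¹ = β * α := by
    rcases ha.2.2.2 β hb'.1 with e | e
    · have h1 := pow_four_mem hVc hb' ha e
      refine absurd ?_ hne4
      have h2 : a * (b * a) ^ 4 * a⁻¹ = (a * b) ^ 4 := by rw [← conj_pow]; congr 1; group
      rw [← h2]
      exact (inferInstance : Cv.Normal).conj_mem _ h1 a
    · exact e
  have ha2 := ha.sq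
  have hb2 := hb'.sq
  obtain ⟨hαV, hα2, haα, ha4'⟩ := ha
  obtain ⟨hβV, hβ2, hbβ, -⟩ := hb'
  have hαβ : α * β = β * α := hVc α hαV β hβV
  have hα1 : α ≠ 1 := fun h => by
    have hβ1 : β = 1 := by rw [hβ, h]; group
    refine hne4 (mem_centralizer_iff.mpr fun v hv => ?_)
    have e1 : ∀ w ∈ V, a * w * a⁻¹ = w := fun w hw => by
      rcases ha4' w hw with e | e
      · exact e
      · rw [e, h, mul_one]
    have e2 : ∀ w ∈ V, b * w * b⁻¹ = w := fun w hw => by
      rcases (Moves.conj (⟨hαV, hα2, haα, ha4'⟩ : Moves V a α) g).2.2.2 w hw with e | e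
      · exact e
      · rw [e, ← hβ, hβ1, mul_one]
    have e3 : a * b ∈ centralizer (V : Set G) := mem_centralizer_iff.mpr fun w hw =>
      (mul_inv_eq_iff_eq_mul.mp (show (a * b) * w * (a * b)⁻¹ = w by
        rw [show (a * b) * w * (a * b)⁻¹ = a * (b * w * b⁻¹) * a⁻¹ by group, e2 w hw, e1 w hw])).symm
    exact mem_centralizer_iff.mp (pow_mem e3 4) v hv
  have hβ1 : β ≠ 1 := fun h => hα1 (by
    have := congrArg (fun w => g⁻¹ * w * g) (hβ.symm.trans h)
    simpa [mul_assoc] using this)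
  have hne : α ≠ β := by
    intro h
    rw [← h, hα2] at hbα
    exact hα1 (conj_eq_one_iff.mp hbα)
  -- the four group and the group generated
  set U := Subgroup.closure ({α, β} : Set G) with hU
  have hUc : ∀ u ∈ U, u = 1 ∨ u = α ∨ u = β ∨ u = α * β := by
    intro u hu
    induction hu using Subgroup.closure_induction with
    | mem w hw => rcases hw with rfl | rfl <;> simp
    | one => simp
    | mul u w _ _ ihu ihw =>
      have e1 : α * (α * β) = β := by rw [← mul_assoc, hα2, one_mul]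
      have e2 : β * (α * β) = α := by rw [hαβ, ← mul_assoc, hβ2, one_mul]
      have e3 : α * β * α = β := by rw [hαβ, mul_assoc, hα2, mul_one]
      have e4 : α * β * β = α := by rw [mul_assoc, hβ2, mul_one]
      have e5 : α * β * (α * β) = 1 := by rw [mul_assoc, e2, hα2]
      rcases ihu with rfl | rfl | rfl | rfl <;> rcases ihw with rfl | rfl | rfl | rfl <;>
        simp [hα2, hβ2, e1, e2, e3, e4, e5, ← hαβ]
    | inv u _ ihu =>
      have i1 : α⁻¹ = α := inv_eq_of_mul_eq_one_right hα2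
      have i2 : β⁻¹ = β := inv_eq_of_mul_eq_one_right hβ2
      rcases ihu with rfl | rfl | rfl | rfl <;> simp [mul_inv_rev, i1, i2, ← hαβ]
  have hαU : α ∈ U := subset_closure (by simp)
  have hβU : β ∈ U := subset_closure (by simp)
  set X := Subgroup.closure ({a, b} : Set G) ⊔ U with hX
  have hconjU : ∀ x ∈ X, x ∈ normalizer (U : Set G) := by
    have hgen : ∀ x : G, (∀ u ∈ U, x * u * x⁻¹ ∈ U) → x ∈ normalizer (U : Set G) := fun x hx => by
      rw [mem_normalizer_iff_map_conj_eq]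
      refine eq_of_le_of_card_ge ?_ (card_map_of_injective (MulAut.conj x).injective).ge
      rintro _ ⟨u, hu, rfl⟩
      exact hx u hu
    have hg' : ∀ x : G, x * α * x⁻¹ ∈ U → x * β * x⁻¹ ∈ U → x ∈ normalizer (U : Set G) := fun x h1 h2 =>
      hgen x fun u hu => by
        have hle : U ≤ U.comap (MulAut.conj x).toMonoidHom := (closure_le _).mpr (by
          rintro w (rfl | rfl)
          exacts [h1, h2])
        exact hle hu
    have hle : X ≤ normalizer (U : Set G) := by
      refine sup_le ((closure_le _).mpr ?_) le_normalizer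
      rintro x (rfl | rfl)
      · exact hg' _ (by rw [haα]; exact hαU) (by rw [haβ]; exact mul_mem hβU hαU)
      · exact hg' _ (by rw [hbα]; exact mul_mem hαU hβU) (by rw [hbβ]; exact hβU)
    exact fun x hx => hle hx
  have hUX : U ≤ X := le_sup_right
  set W := U.subgroupOf X with hW
  haveI : W.Normal := by
    refine ⟨fun w hw x => ?_⟩
    exact (mem_normalizer_iff.mp (hconjU x x.2) w).mp hw
  have hWcard : Nat.card W = 4 := by
    rw [hW, Nat.card_congr (subgroupOfEquivOfLe hUX).toEquiv]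
    have hn1 : α * β ≠ 1 := fun h => hne (by rw [← inv_eq_of_mul_eq_one_right hα2]; exact inv_eq_of_mul_eq_one_right h)
    have hset : (U : Set G) = {1, α, β, α * β} := by
      ext u
      constructor
      · intro hu; simpa using hUc u hu
      · rintro (rfl | rfl | rfl | rfl)
        exacts [one_mem U, hαU, hβU, mul_mem hαU hβU]
    show Nat.card (U : Set G) = 4
    rw [hset, Nat.card_coe_set_eq, Set.ncard_insert_of_notMem, Set.ncard_insert_of_notMem,
      Set.ncard_pair] <;> simp [eq_comm, hα1, hβ1, hne, hn1, hne.symm]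
  have haX : a ∈ X := mem_sup_left (subset_closure (by simp))
  have hbX : b ∈ X := mem_sup_left (subset_closure (by simp))
  set yy : X := ⟨a, haX⟩ * ⟨b, hbX⟩ with hyy
  have hyα : (a * b) * α * (a * b)⁻¹ = β := by
    rw [show (a * b) * α * (a * b)⁻¹ = a * (b * α * b⁻¹) * a⁻¹ by group, hbα,
      show a * (α * β) * a⁻¹ = (a * α * a⁻¹) * (a * β * a⁻¹) by group, haα, haβ, ← hαβ, ← mul_assoc, hα2, one_mul]
  have hyβ : (a * b) * β * (a * b)⁻¹ = β * α := by
    rw [show (a * b) * β * (a * b)⁻¹ = a * (b * β * b⁻¹) * a⁻¹ by group, hbβ, haβ]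
  have hyαβ : (a * b) * (α * β) * (a * b)⁻¹ = α := by
    rw [show (a * b) * (α * β) * (a * b)⁻¹ = ((a * b) * α * (a * b)⁻¹) * ((a * b) * β * (a * b)⁻¹) by group,
      hyα, hyβ, ← mul_assoc, hβ2, one_mul]
  have hUV : U ≤ V := (closure_le _).mpr (by rintro w (rfl | rfl); exacts [hαV, hβV])
  apply hfree
  refine Local.involves_of_injective X.subtype X.subtype_injective
    (Local.involves_perm_four_of_inverted W hWcard yy ⟨a, haX⟩ ?_ ?_ ?_ ?_)
  · intro w hw
    refine Subtype.ext ?_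
    change (a * b) ^ 3 * (w : G) = (w : G) * (a * b) ^ 3
    rw [← mul_inv_eq_iff_eq_mul]
    rcases hUc (w : G) hw with h | h | h | h <;> rw [h]
    · group
    · rw [show (a * b) ^ 3 * α * ((a * b) ^ 3)⁻¹ = (a * b) * ((a * b) * ((a * b) * α * (a * b)⁻¹) * (a * b)⁻¹) * (a * b)⁻¹ by simp only [pow_succ, pow_zero, one_mul, mul_inv_rev, mul_assoc],
        hyα, hyβ, ← hαβ, hyαβ]
    · rw [show (a * b) ^ 3 * β * ((a * b) ^ 3)⁻¹ = (a * b) * ((a * b) * ((a * b) * β * (a * b)⁻¹) * (a * b)⁻¹) * (a * b)⁻¹ by simp only [pow_succ, pow_zero, one_mul, mul_inv_rev, mul_assoc],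
        hyβ, ← hαβ, hyαβ, hyα]
    · rw [show (a * b) ^ 3 * (α * β) * ((a * b) ^ 3)⁻¹ = (a * b) * ((a * b) * ((a * b) * (α * β) * (a * b)⁻¹) * (a * b)⁻¹) * (a * b)⁻¹ by simp only [pow_succ, pow_zero, one_mul, mul_inv_rev, mul_assoc],
        hyαβ, hyα, hyβ, hαβ]
  · intro w hw hc
    have hc' : (a * b) * (w : G) * (a * b)⁻¹ = w := mul_inv_eq_iff_eq_mul.mpr (congrArg Subtype.val hc.eq)
    rcases hUc (w : G) hw with h | h | h | h
    · exact Subtype.ext h
    · rw [h, hyα] at hc'; exact absurd hc' hne.symm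
    · rw [h, hyβ] at hc'
      exact absurd (mul_eq_left.mp hc') hα1
    · rw [h, hyαβ] at hc'
      exact absurd (left_eq_mul.mp hc') hβ1
  · intro w hw
    refine Subtype.ext ?_
    change a * (a * b) * a⁻¹ * (a * b) * (w : G) = (w : G) * (a * (a * b) * a⁻¹ * (a * b))
    rw [show a * (a * b) * a⁻¹ * (a * b) = (a * a) * (b * b) by group]
    exact (mem_centralizer_iff.mp (mul_mem ha2 hb2) (w : G) (hUV hw)).symm
  · rw [← normalizer_eq_top_iff, eq_top_iff]
    set φ := MulAut.conjNormal (H := W) with hφ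
    have hone : ∀ (z : X), (z : G) ∈ centralizer (V : Set G) → φ z = 1 := fun z hz => MulEquiv.ext fun w => by
      apply Subtype.ext
      apply Subtype.ext
      have h := mem_centralizer_iff.mp hz ((w : X) : G) (hUV w.2)
      simp only [hφ, MulAut.conjNormal_apply, MulAut.one_apply, Subgroup.coe_mul, Subgroup.coe_inv]
      rw [← h, mul_inv_cancel_right]
    have hflip : ∀ z : X, φ z * φ yy * (φ z)⁻¹ = (φ yy)⁻¹ → z ∈ normalizer ((zpowers (φ yy)).comap φ : Set X) := by
      intro z hz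
      rw [mem_normalizer_iff]
      intro w
      have key : φ w ∈ zpowers (φ yy) ↔ φ z * φ w * (φ z)⁻¹ ∈ zpowers (φ yy) := by
        have hn' : φ z ∈ normalizer (zpowers (φ yy) : Set (MulAut W)) := by
          rw [mem_normalizer_iff_map_conj_eq, MonoidHom.map_zpowers]
          change zpowers (φ z * φ yy * (φ z)⁻¹) = zpowers (φ yy)
          rw [hz, zpowers_inv]
        exact mem_normalizer_iff.mp hn' _
      simpa [mem_comap, map_mul, map_inv] using key
    have hA : φ ⟨a, haX⟩ * φ ⟨a, haX⟩ = 1 := by rw [← map_mul]; exact hone _ ha2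
    have hB : φ ⟨b, hbX⟩ * φ ⟨b, hbX⟩ = 1 := by rw [← map_mul]; exact hone _ hb2
    have hna : (⟨a, haX⟩ : X) ∈ normalizer ((zpowers (φ yy)).comap φ : Set X) := hflip _ (by
      rw [hyy, map_mul, mul_inv_rev, inv_eq_of_mul_eq_one_right hA, inv_eq_of_mul_eq_one_right hB,
        ← mul_assoc, hA, one_mul])
    have hnb : (⟨b, hbX⟩ : X) ∈ normalizer ((zpowers (φ yy)).comap φ : Set X) := hflip _ (by
      rw [hyy, map_mul, mul_inv_rev, inv_eq_of_mul_eq_one_right hA, inv_eq_of_mul_eq_one_right hB,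
        mul_assoc, mul_assoc, hB, mul_one])
    intro x _
    have hUle : U.subgroupOf X ≤ normalizer ((zpowers (φ yy)).comap φ : Set X) := fun w hw =>
      le_normalizer (show φ w ∈ zpowers (φ yy) by
        have : φ w = 1 := hone w (mem_centralizer_iff.mpr fun v hv => (hVc _ (hUV hw) v hv).symm)
        rw [this]; exact one_mem _)
    have htop : X ≤ (normalizer ((zpowers (φ yy)).comap φ : Set X)).map X.subtype := by
      refine sup_le ((closure_le _).mpr ?_) fun u hu => ⟨⟨u, hUX hu⟩, hUle hu, rfl⟩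
      rintro w (rfl | rfl)
      exacts [⟨_, hna, rfl⟩, ⟨_, hnb, rfl⟩]
    obtain ⟨x', hx', he⟩ := htop x.2
    exact (Subtype.ext he : x' = x) ▸ hx'

end Cfsg.Agent.Solv.JWC
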