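import Cfsg.Agent.Lib.Solv.KInfty
import Cfsg.Agent.Lib.Solv.QdFusion

/-!
Control of strong fusion by the K-infinity subgroups.
-/

set_option autoImplicit false
set_option linter.unusedSectionVars false
set_option linter.style.haveILetI false

universe u

namespace Cfsg.Agent.Solv.KInf

open Subgroup Local
open scoped commutatorElement

variable {p : ℕ} [Fact p.Prime]

theorem stabSec_of_qdFree {G : Type u} [Group G] [Finite G] (hp2 : p ≠ 2)
    (hfree : ¬ Involves ↥(qd p) G) : StabSec p G := by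
  intro X _ _ hX
  obtain ⟨K, f, hf⟩ := hX
  exact ZJ.stab_of_isPStableOn fun B _ hB => Quad.isPStableOn_of_qdFree hp2
    (fun h => hfree (Quad.involves_of_subgroup (Quad.involves_of_surjective f hf h))) B hB

theorem stabSec_of_free {G : Type u} [Group G] [Finite G] (hp2 : p ≠ 2)
    (hfree : ¬ Quad.InvSL p G) : StabSec p G := by
  intro X _ _ hX
  obtain ⟨K, f, hf⟩ := hX
  exact ZJ.stab_of_isPStableOn fun B _ hB => Quad.isPStableOn_of_free hp2
    (fun h => hfree (h.of_surjective f hf).of_subgroup) B hB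

theorem not_involves_qd_of_sections {G : Type u} [Group G] [Finite G] (hp2 : p ≠ 2)
    (hst : ∀ (K R : Subgroup G) [_hR : (R.subgroupOf K).Normal], IsNormalizerPStable p (K ⧸ R.subgroupOf K)) :
    ¬ Involves ↥(qd p) G := by
  rintro ⟨K, R, hR, ⟨e⟩⟩
  haveI := hR
  exact Quad.not_isNormalizerPStable_qd hp2 e (hst K R)

theorem center_le_kInfLower (Q : Type u) [Group Q] : center Q ≤ kInfLower Q := by
  rw [← kLo_top]
  exact le_iSup_of_le 0 (le_sSup (mem_lo_of_abelian le_top le_rfl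
    le_normalizer_of_normal ⟨⟨fun x y => Subtype.ext ((mem_center_iff.mp y.2) x)⟩⟩))

theorem isCharPFunctor_kInfLower : IsCharPFunctor.{u} p kInfLower := by
  refine ⟨fun Q _ _ hQ _ h => ?_, fun Q R _ _ _ _ φ => ?_⟩
  · haveI := hQ.center_nontrivial
    exact (center Q).nontrivial_iff_ne_bot.mp inferInstance
      (le_bot_iff.mp ((center_le_kInfLower Q).trans h.le))
  · rw [← kLo_top, ← kLo_top, ← kLo_map φ.toMonoidHom φ.injective,
      map_top_of_surjective _ φ.surjective]

theorem isFam_kInfLower : FusionRed.IsFam p ({kInfLower.{u}} : Set (∀ (Q : Type u) [Group Q], Subgroup Q)) :=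
  fun W hW => by
    rw [Set.mem_singleton_iff] at hW
    subst hW
    exact isCharPFunctor_kInfLower

theorem controls_kInfLower {G : Type u} [Group G] [Finite G] (hst : StabSec p G) (S : Sylow p G) :
    ControlsStrongFusion p (inducedFunctor kInfLower (S : Subgroup G)) := by
  refine FusionRed.controlsStrongFusion_of_ctrlAt S (FusionRed.ctrl_of_hyp isFam_kInfLower G ?_ S)
  intro X _ _ hX hC T
  refine FusionRed.ctrlAt_of_normal isFam_kInfLower (Set.mem_singleton kInfLower.{u}) T ?_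
  rw [inducedFunctor_kInfLower]
  exact (kInf_normal (fun Y _ _ hY => hst Y (hY.trans hX)) hC T).1

/-- The Sylow subgroup of upper triangular elements of `Qd(p)`. -/
def qdU : Subgroup (qd p) where
  carrier := {q | ∃ b r s : ZMod p, q = qdElt 1 b 0 1 r s (by ring)}
  one_mem' := ⟨0, 0, 0, qdElt_one.symm⟩
  mul_mem' := by
    rintro _ _ ⟨b, r, s, rfl⟩ ⟨b', r', s', rfl⟩
    exact ⟨b + b', b * s' + (r + r'), s + s', by
      rw [qdElt_mul]; exact qdElt_congr _ _ (by ring) (by ring) (by ring) (by ring) (by ring) (by ring)⟩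
  inv_mem' := by
    rintro _ ⟨b, r, s, rfl⟩
    refine ⟨-b, b * s - r, -s, inv_eq_of_mul_eq_one_right ?_⟩
    rw [qdElt_mul]
    exact (qdElt_congr _ _ (by ring) (by ring) (by ring) (by ring) (by ring) (by ring)).trans qdElt_one

theorem card_qdU : Nat.card (qdU (p := p)) = p ^ 3 := by
  have e : ZMod p × ZMod p × ZMod p ≃ qdU (p := p) :=
    Equiv.ofBijective (fun t => ⟨qdElt 1 t.1 0 1 t.2.1 t.2.2 (by ring), t.1, t.2.1, t.2.2, rfl⟩) ⟨fun a b h => by
      have h' := congrArg Subtype.val h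
      have h2 := congrArg (fun q : qd p => ((q : Matrix.SpecialLinearGroup (Fin 3) (ZMod p)) :
        Matrix (Fin 3) (Fin 3) (ZMod p)) 0 1) h'
      have h3 := congrArg (fun q : qd p => ((q : Matrix.SpecialLinearGroup (Fin 3) (ZMod p)) :
        Matrix (Fin 3) (Fin 3) (ZMod p)) 0 2) h'
      have h4 := congrArg (fun q : qd p => ((q : Matrix.SpecialLinearGroup (Fin 3) (ZMod p)) :
        Matrix (Fin 3) (Fin 3) (ZMod p)) 1 2) h'
      simp [qdElt, affMat] at h2 h3 h4
      exact Prod.ext h2 (Prod.ext h3 h4), by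
      rintro ⟨_, b, r, s, rfl⟩
      exact ⟨(b, r, s), rfl⟩⟩
  rw [← Nat.card_congr e, Nat.card_prod, Nat.card_prod, Nat.card_zmod]
  ring

theorem qdElt_entries {a b c e r s a' b' c' e' r' s' : ZMod p} {h : a * e - b * c = 1}
    {h' : a' * e' - b' * c' = 1} (heq : qdElt a b c e r s h = qdElt a' b' c' e' r' s' h') :
    a = a' ∧ b = b' ∧ c = c' ∧ e = e' := by
  have h0 := congrArg (fun q : qd p => ((q : Matrix.SpecialLinearGroup (Fin 3) (ZMod p)) :
    Matrix (Fin 3) (Fin 3) (ZMod p))) heq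
  have h1 := congrFun (congrFun h0 0) 0
  have h2 := congrFun (congrFun h0 0) 1
  have h3 := congrFun (congrFun h0 1) 0
  have h4 := congrFun (congrFun h0 1) 1
  simp [qdElt, affMat] at h1 h2 h3 h4
  exact ⟨h1, h2, h3, h4⟩

theorem exists_sylow_eq_qdU : ∃ T : Sylow p (qd p), (T : Subgroup (qd p)) = qdU := by
  have hUp : IsPGroup p (qdU (p := p)) := IsPGroup.iff_card.mpr ⟨3, card_qdU⟩
  obtain ⟨T, hT⟩ := hUp.exists_le_sylow
  refine ⟨T, le_antisymm (fun q hq => ?_) hT⟩
  by_contra hqU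
  haveI := T.isPGroup'.isNilpotent
  have hlt : (qdU (p := p)).subgroupOf (T : Subgroup (qd p)) < ⊤ :=
    lt_top_iff_ne_top.mpr fun h => hqU (subgroupOf_eq_top.mp h hq)
  obtain ⟨w, hw, hwn⟩ := SetLike.exists_of_lt (Group.normalizerCondition_of_isNilpotent _ hlt)
  rw [← subgroupOf_normalizer_eq hT] at hw
  apply hwn
  change (w : qd p) ∈ qdU
  obtain ⟨k, hk⟩ := T.isPGroup' w
  have hk' : (w : qd p) ^ p ^ k = 1 := congrArg Subtype.val hk
  obtain ⟨a, b, c, e, r, s, hd, hwe⟩ := exists_qdElt (w : qd p)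
  have hw' : (w : qd p) ∈ normalizer ((qdU (p := p)) : Set (qd p)) := hw
  rw [hwe] at hw' hk' ⊢
  obtain ⟨b', r', s', hx⟩ := (mem_normalizer_iff.mp hw' (Quad.qdT (p := p))).mp ⟨1, 0, 0, rfl⟩
  rw [mul_inv_eq_iff_eq_mul, Quad.qdT, qdElt_mul, qdElt_mul] at hx
  obtain ⟨-, -, -, hx4⟩ := qdElt_entries hx
  have hc : c = 0 := by linear_combination hx4
  subst hc
  have hpow : ∀ n : ℕ, ∃ (b'' r'' s'' : ZMod p) (h'' : a ^ n * e ^ n - b'' * 0 = 1),
      qdElt a b 0 e r s hd ^ n = qdElt (a ^ n) b'' 0 (e ^ n) r'' s'' h'' := by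
    intro n
    induction n with
    | zero =>
      refine ⟨0, 0, 0, by simp, ?_⟩
      rw [pow_zero]
      exact qdElt_one.symm.trans (qdElt_congr _ _ (by simp) rfl rfl (by simp) rfl rfl)
    | succ n ih =>
      obtain ⟨b1, r1, s1, h1, hn⟩ := ih
      refine ⟨a ^ n * b + b1 * e, a ^ n * r + b1 * s + r1, e ^ n * s + s1,
        by rw [pow_succ, pow_succ]; linear_combination (a ^ n * e ^ n) * hd + h1, ?_⟩
      rw [pow_succ, hn, qdElt_mul]
      exact qdElt_congr _ _ (by ring) (by ring) (by ring) (by ring) (by ring) (by ring)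
  obtain ⟨b1, r1, s1, h1, hn⟩ := hpow (p ^ k)
  rw [hn] at hk'
  obtain ⟨ha, -, -, he⟩ := qdElt_entries (hk'.trans qdElt_one.symm)
  rw [ZMod.pow_card_pow] at ha he
  subst ha he
  exact ⟨b, r, s, rfl⟩

/-- In `Qd(p)` the lower K-infinity subgroup does not control strong fusion. -/
theorem exists_sylow_not_controls_kInf (hp2 : p ≠ 2) :
    ∃ T : Sylow p (qd p), ¬ ControlsStrongFusion p (inducedFunctor kInfLower (T : Subgroup (qd p))) := by
  classical
  obtain ⟨T, hT⟩ := exists_sylow_eq_qdU (p := p)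
  have hK : kLo (T : Subgroup (qd p)) = (T : Subgroup (qd p)) := by
    refine le_antisymm (iSup_le fun n => seqE_le _ n) (le_iSup_of_le 0 (le_sSup ?_))
    have hzc : ⁅(T : Subgroup (qd p)), (T : Subgroup (qd p))⁆ ≤
        (T : Subgroup (qd p)) ⊓ centralizer ((T : Subgroup (qd p)) : Set (qd p)) := by
      rw [hT, commutator_le]
      rintro _ ⟨b, r, s, rfl⟩ _ ⟨b', r', s', rfl⟩
      have he : ⁅qdElt 1 b 0 1 r s (by ring), qdElt 1 b' 0 1 r' s' (by ring)⁆ =
          qdElt 1 0 0 1 (b * s' - b' * s) 0 (by ring : (1 : ZMod p) * 1 - 0 * 0 = 1) := by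
        rw [commutatorElement_def, mul_inv_eq_iff_eq_mul, mul_inv_eq_iff_eq_mul, qdElt_mul, qdElt_mul, qdElt_mul]
        exact qdElt_congr _ _ (by ring) (by ring) (by ring) (by ring) (by ring) (by ring)
      rw [he]
      refine ⟨⟨0, b * s' - b' * s, 0, rfl⟩, mem_centralizer_iff.mpr ?_⟩
      rintro _ ⟨b'', r'', s'', rfl⟩
      rw [qdElt_mul, qdElt_mul]
      exact qdElt_congr _ _ (by ring) (by ring) (by ring) (by ring) (by ring) (by ring)
    exact ⟨le_rfl, hzc.trans inf_le_right, le_normalizer, fun A _ hAT _ _ _ =>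
      (commutator_mono le_rfl hAT).trans hzc⟩
  refine ⟨T, fun hctl => ?_⟩
  rw [inducedFunctor_kInfLower, hK] at hctl
  set V := transGroup (p := p) with hV
  haveI hVn : V.Normal := transGroup_normal
  have hVp : IsPGroup p V := IsPGroup.iff_card.mpr ⟨2, card_transGroup⟩
  obtain ⟨T', -, hctl⟩ := hctl
  have hVT : ∀ T'' : Sylow p (qd p), V ≤ (T'' : Subgroup (qd p)) := fun T'' =>
    (le_pCore (p := p) hVp).trans (pCore_le_sylow T'')
  have htop : ∀ g : qd p, g ∈ normalizer ((T : Subgroup (qd p)) : Set (qd p)) := fun g => by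
    obtain ⟨x, hx, he⟩ := (hctl (V : Set (qd p)) (hVT T')).2 g (by
      rintro _ ⟨a, ha, rfl⟩
      exact hVT T' (hVn.conj_mem a ha g))
    have hm : x⁻¹ * g ∈ V := Quad.mem_transGroup_of_commute fun v hv => by
      have h := he v hv
      calc v * (x⁻¹ * g) = x⁻¹ * (x * v * x⁻¹) * g := by group
        _ = x⁻¹ * (g * v * g⁻¹) * g := by rw [h]
        _ = x⁻¹ * g * v := by group
    simpa using mul_mem hx (le_normalizer (hVT T hm))
  have ht : Quad.qdT (p := p) ∈ (T : Subgroup (qd p)) := hT.ge ⟨1, 0, 0, rfl⟩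
  have hw := (mem_normalizer_iff.mp (htop Quad.qdW) _).mp ht
  obtain ⟨k, hk⟩ := T.isPGroup' ⟨_, mul_mem ht hw⟩
  refine Quad.not_commute_trans (p := p) hp2 k fun q _ => ?_
  rw [show (Quad.qdT * (Quad.qdW * Quad.qdT * Quad.qdW⁻¹)) ^ p ^ k = (1 : qd p) from congrArg Subtype.val hk]
  exact Commute.one_left q

end Cfsg.Agent.Solv.KInf

namespace Cfsg.Agent.Solv.KInf

open Subgroup

theorem npc_of_kInfLower {G : Type u} [Group G] [Finite G] {p : ℕ} [Fact p.Prime] (hp2 : p ≠ 2) (P : Sylow p G)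
    (h : HasNormalPComplement p (normalizer (inducedFunctor kInfLower (P : Subgroup G) : Set G))) :
    HasNormalPComplement p G := by
  refine Local.NPCFunctor.npc_of_functor isCharPFunctor_kInfLower (fun Y _ _ _ hC hQ T hco => ?_) P h
  rw [inducedFunctor_kInfLower]
  exact (kInf_normal (stabSec_of_free hp2 (ZJ.not_invSL_of_coatom hp2 hQ T hco)) hC T).1

end Cfsg.Agent.Solv.KInf
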