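import Cfsg.Agent.Lib.Solv.KWitness

/-!
The action of an offending element on the chief factors below the `p`-core.
-/

set_option autoImplicit false
set_option linter.unusedSectionVars false
set_option linter.style.haveILetI false

universe u

namespace Cfsg.Agent.Solv.KInf

open Subgroup
open scoped commutatorElement

/-- Taking the commutator with `g`. -/
def step {X : Type u} [Group X] (g : X) (x : X) : X := ⁅x, g⁆

section Pairing

variable {X : Type u} [Group X] {g : X} {W : Subgroup X}

theorem step_mul (hW : IsMulCommutative W) (hWg : ∀ w ∈ W, step g w ∈ W) {a b : X} (ha : a ∈ W) (hb : b ∈ W) :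
    step g (a * b) = step g a * step g b := by
  have hcomm : ∀ x ∈ W, ∀ y ∈ W, x * y = y * x := fun x hx y hy =>
    congrArg Subtype.val (hW.is_comm.comm (⟨x, hx⟩ : W) ⟨y, hy⟩)
  have e1 : step g (a * b) = a * step g b * a⁻¹ * step g a := by
    simp only [step, commutatorElement_def]; group
  rw [e1, hcomm a ha _ (hWg b hb), mul_inv_cancel_right, hcomm _ (hWg b hb) _ (hWg a ha)]

theorem step_inv (hW : IsMulCommutative W) (hWg : ∀ w ∈ W, step g w ∈ W) {a : X} (ha : a ∈ W) :
    step g a⁻¹ = (step g a)⁻¹ := by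
  refine eq_inv_of_mul_eq_one_left ?_
  rw [← step_mul hW hWg (W.inv_mem ha) ha, inv_mul_cancel]
  simp [step]

theorem step_conj (a : X) : step g (g * a * g⁻¹) = g * step g a * g⁻¹ := by
  simp only [step, commutatorElement_def]; group

theorem iterate_mem (hWg : ∀ w ∈ W, step g w ∈ W) : ∀ (s : ℕ) {a : X}, a ∈ W → (step g)^[s] a ∈ W := by
  intro s
  induction s with
  | zero => intro a ha; exact ha
  | succ s ih => intro a ha; exact ih (hWg a ha)

theorem iterate_mul (hW : IsMulCommutative W) (hWg : ∀ w ∈ W, step g w ∈ W) : ∀ (s : ℕ) {a b : X},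
    a ∈ W → b ∈ W → (step g)^[s] (a * b) = (step g)^[s] a * (step g)^[s] b := by
  intro s
  induction s with
  | zero => intro a b _ _; rfl
  | succ s ih =>
    intro a b ha hb
    simp only [Function.iterate_succ_apply]
    rw [step_mul hW hWg ha hb]
    exact ih (hWg a ha) (hWg b hb)

theorem iterate_inv (hW : IsMulCommutative W) (hWg : ∀ w ∈ W, step g w ∈ W) : ∀ (s : ℕ) {a : X},
    a ∈ W → (step g)^[s] a⁻¹ = ((step g)^[s] a)⁻¹ := by
  intro s
  induction s with
  | zero => intro a _; rfl
  | succ s ih =>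
    intro a ha
    simp only [Function.iterate_succ_apply]
    rw [step_inv hW hWg ha]
    exact ih (hWg a ha)

theorem iterate_conj : ∀ (s : ℕ) (a : X), (step g)^[s] (g * a * g⁻¹) = g * (step g)^[s] a * g⁻¹ := by
  intro s
  induction s with
  | zero => intro a; rfl
  | succ s ih =>
    intro a
    simp only [Function.iterate_succ_apply]
    rw [step_conj]
    exact ih _

/-- Nilpotency degree of the transpose of a pairing. -/
theorem pairing_bound (hW : IsMulCommutative W) (hWg : ∀ w ∈ W, step g w ∈ W)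
    (hquad : ∀ w ∈ W, step g (step g w) = 1) (K : Subgroup X) (hKg : ∀ x ∈ K, step g x ∈ K)
    (hKW : ∀ x ∈ K, ∀ w ∈ W, x * w = w * x) (D : ℕ → Subgroup X) (hD0 : ∀ r, D r ≤ D 0)
    (hDg : ∀ r, ∀ y ∈ D r, y⁻¹ * g⁻¹ * y * g ∈ D (r + 1)) (hDW : ∀ y ∈ D 0, ∀ w ∈ W, y * w = w * y)
    (hKD : ∀ x ∈ K, ∀ y ∈ D 0, ⁅x, y⁆ ∈ W) (d : ℕ) (hd : ∀ r, d ≤ r → ∀ x ∈ K, ∀ y ∈ D r, ⁅x, y⁆ = 1) :
    ∀ x ∈ K, ∀ y ∈ D 0, ⁅(step g)^[d + 1] x, y⁆ = 1 := by
  have h1 : ∀ s : ℕ, (step g)^[s] (1 : X) = 1 := fun s => Function.iterate_fixed (by simp [step]) s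
  have key : ∀ i, ∀ x ∈ K, ∀ r s, ∀ y ∈ D r, d + 1 ≤ i + r + s → (step g)^[s] ⁅(step g)^[i] x, y⁆ = 1 := by
    intro i
    induction i with
    | zero =>
      intro x hx r s y hy hle
      by_cases hs : 2 ≤ s
      · obtain ⟨t, rfl⟩ := Nat.exists_eq_add_of_le hs
        rw [show 2 + t = t + 2 by omega, Function.iterate_add_apply]
        change (step g)^[t] (step g (step g ⁅x, y⁆)) = 1
        rw [hquad _ (hKD x hx y (hD0 r hy))]
        exact h1 t
      · simp only [Function.iterate_zero, id]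
        rw [hd r (by omega) x hx y hy]
        exact h1 s
    | succ i ih =>
      intro x hx r s y hy hle
      rw [Function.iterate_succ_apply']
      set u := (step g)^[i] x with hu
      have huK : u ∈ K := iterate_mem hKg i hx
      set m := y⁻¹ * g⁻¹ * y * g with hm
      have hmD : m ∈ D (r + 1) := hDg r y hy
      have hw : ⁅u, y⁆ ∈ W := hKD u huK y (hD0 r hy)
      have hw' : ⁅u, m⁆ ∈ W := hKD u huK m (hD0 _ hmD)
      have hgw : g * ⁅u, m⁆⁻¹ * g⁻¹ ∈ W := by
        have h := W.mul_mem (W.inv_mem (hWg _ (W.inv_mem hw'))) (W.inv_mem hw')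
        convert h using 1
        simp only [step, commutatorElement_def]; group
      have e : ⁅step g u, y⁆ = step g ⁅u, y⁆ * (g * ⁅u, m⁆⁻¹ * g⁻¹) := by
        have hinv : ∀ z ∈ D 0, ⁅u⁻¹, z⁆ = ⁅u, z⁆⁻¹ := fun z hz => by
          have e1 : ⁅u⁻¹, z⁆ = u⁻¹ * ⁅u, z⁆⁻¹ * u := by simp only [commutatorElement_def]; group
          rw [e1, hKW _ (K.inv_mem huK) _ (W.inv_mem (hKD u huK z hz)), inv_mul_cancel_right]
        have hstep : step g u = u * (g * u⁻¹ * g⁻¹) := by simp only [step, commutatorElement_def]; group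
        have hX' : ⁅g * u⁻¹ * g⁻¹, y⁆ = g * (⁅u, y⁆⁻¹ * ⁅u, m⁆⁻¹) * g⁻¹ := by
          have e1 : ⁅g * u⁻¹ * g⁻¹, y⁆ = g * (⁅u⁻¹, y⁆ * (y * ⁅u⁻¹, m⁆ * y⁻¹)) * g⁻¹ := by
            simp only [hm, commutatorElement_def]; group
          rw [e1, hinv y (hD0 r hy), hinv m (hD0 _ hmD), hDW y (hD0 r hy) _ (W.inv_mem hw'), mul_inv_cancel_right]
        have hX'W : ⁅g * u⁻¹ * g⁻¹, y⁆ ∈ W := by
          rw [hX']
          have h := W.mul_mem (W.inv_mem (hWg _ (W.mul_mem (W.inv_mem hw) (W.inv_mem hw'))))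
            (W.mul_mem (W.inv_mem hw) (W.inv_mem hw'))
          convert h using 1
          simp only [step, commutatorElement_def]; group
        have e2 : ⁅step g u, y⁆ = u * ⁅g * u⁻¹ * g⁻¹, y⁆ * u⁻¹ * ⁅u, y⁆ := by
          rw [hstep]; simp only [commutatorElement_def]; group
        have hcw : ⁅g * u⁻¹ * g⁻¹, y⁆ * ⁅u, y⁆ = ⁅u, y⁆ * ⁅g * u⁻¹ * g⁻¹, y⁆ :=
          congrArg Subtype.val (hW.is_comm.comm (⟨_, hX'W⟩ : W) ⟨_, hw⟩)
        rw [e2, hKW u huK _ hX'W, mul_inv_cancel_right, hcw, hX']
        simp only [step, commutatorElement_def]; group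
      rw [e, iterate_mul hW hWg s (hWg _ hw) hgw, iterate_conj, iterate_inv hW hWg s hw',
        ← Function.iterate_succ_apply, ih x hx r (s + 1) y hy (by omega),
        ih x hx (r + 1) s m hmD (by omega)]
      group
  exact fun x hx y hy => key (d + 1) x hx 0 0 y hy le_rfl

theorem step_iterCommutator [Finite X] (hW : IsMulCommutative W) (hWg : ∀ w ∈ W, step g w ∈ W) (d : ℕ)
    (h : ∀ w ∈ W, (step g)^[d] w = 1) : iterCommutator W (zpowers g) d = ⊥ := by
  let R : ℕ → Subgroup X := fun i =>
    { carrier := {a | a ∈ W ∧ (step g)^[i] a = 1}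
      one_mem' := ⟨W.one_mem, Function.iterate_fixed (by simp [step]) i⟩
      mul_mem' := fun {a b} ha hb => ⟨W.mul_mem ha.1 hb.1, by
        rw [iterate_mul hW hWg i ha.1 hb.1, ha.2, hb.2, mul_one]⟩
      inv_mem' := fun {a} ha => ⟨W.inv_mem ha.1, by rw [iterate_inv hW hWg i ha.1, ha.2, inv_one]⟩ }
  have hconj : ∀ a ∈ W, g * a * g⁻¹ ∈ W := fun a ha => by
    have h := W.mul_mem (W.inv_mem (hWg a ha)) ha
    convert h using 1
    simp only [step, commutatorElement_def]; group
  have hinv : ∀ i a, a ∈ R i → g * a * g⁻¹ ∈ R i := fun i a ha => ⟨hconj a ha.1, by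
    rw [iterate_conj, ha.2, mul_one, mul_inv_cancel]⟩
  have hstep : ∀ i, ∀ a ∈ R (i + 1), ⁅a, g⁆ ∈ R i := fun i a ha =>
    ⟨hWg a ha.1, by
      have h2 : (step g)^[i + 1] a = 1 := ha.2
      rw [Function.iterate_succ_apply] at h2
      exact h2⟩
  have hnat : ∀ i (k : ℕ), ∀ a ∈ R (i + 1), ⁅a, g ^ k⁆ ∈ R i := by
    intro i k
    induction k with
    | zero => intro a _; simp
    | succ k ihk =>
      intro a ha
      have e : ⁅a, g ^ (k + 1)⁆ = ⁅a, g⁆ * (g * ⁅a, g ^ k⁆ * g⁻¹) := by
        rw [pow_succ']; simp only [commutatorElement_def]; group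
      rw [e]
      exact (R i).mul_mem (hstep i a ha) (hinv i _ (ihk a ha))
  have : ∀ j, j ≤ d → iterCommutator W (zpowers g) j ≤ R (d - j) := by
    intro j
    induction j with
    | zero => exact fun _ w hw => ⟨hw, h w hw⟩
    | succ j ihj =>
      intro hj
      refine (commutator_mono (ihj (by omega)) le_rfl).trans (commutator_le.mpr fun a ha t ht => ?_)
      obtain ⟨k, rfl⟩ := mem_powers_iff_mem_zpowers.mpr ht
      rw [show d - j = d - (j + 1) + 1 by omega] at ha
      exact hnat _ k a ha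
  refine le_bot_iff.mp ((this d le_rfl).trans fun a ha => ?_)
  have := ha.2
  simpa [Nat.sub_self] using this

end Pairing

section Chief

variable {G : Type u} [Group G] [Finite G] {p : ℕ} [Fact p.Prime]

/-- The fourfold commutator with `g` sends every chief factor below `K` into its bottom. -/
def FourBelow (g : G) (K : Subgroup G) : Prop :=
  ∀ U V : Subgroup G, IsChiefFactor U V → U ≤ K → ∀ u ∈ U, (step g)^[4] u ∈ V

theorem map_iterate {X : Type u} [Group X] (f : G →* X) (g : G) : ∀ (s : ℕ) (a : G),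
    f ((step g)^[s] a) = (step (f g))^[s] (f a) := by
  intro s
  induction s with
  | zero => intro a; rfl
  | succ s ih =>
    intro a
    simp only [Function.iterate_succ_apply]
    rw [ih, step, step, map_commutatorElement]

theorem four_of_layer {g : G} {K K' : Subgroup G} (hK' : K'.Normal) (h' : FourBelow g K')
    (hlay : ∀ u ∈ K, (step g)^[4] u ∈ K') : FourBelow g K := by
  intro U V hUV hUK u hu
  haveI := hUV.2.1
  haveI := hUV.2.2.1
  haveI := hK'
  rcases hUV.2.2.2 ((U ⊓ K') ⊔ V) inferInstance le_sup_right (sup_le inf_le_left hUV.1.le) with h | h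
  · have hU4 : (step g)^[4] u ∈ U := iterate_mem (W := U) (fun w hw => commutator_le_left U ⊤
      (commutator_mem_commutator hw (mem_top g))) 4 hu
    exact h.le (mem_sup_left ⟨hU4, hlay u (hUK hu)⟩)
  · obtain ⟨k, hk, v, hv, rfl⟩ := mem_sup_of_normal_right.mp (h.ge hu)
    have hcf : IsChiefFactor (U ⊓ K') (V ⊓ K') := by
      refine ⟨lt_of_le_of_ne (inf_le_inf_right _ hUV.1.le) fun e => hUV.1.ne ?_, inferInstance, inferInstance,
        fun M hM h1 h2 => ?_⟩
      · rw [← h, ← e]
        exact (sup_eq_right.mpr inf_le_left).symm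
      · rcases hUV.2.2.2 (M ⊔ V) inferInstance le_sup_right (sup_le (h2.trans inf_le_left) hUV.1.le) with h3 | h3
        · exact Or.inl (le_antisymm (le_inf (le_sup_left.trans h3.le) (h2.trans inf_le_right)) h1)
        · refine Or.inr (le_antisymm h2 fun x hx => ?_)
          obtain ⟨a, ha, b, hb, rfl⟩ := mem_sup_of_normal_right.mp (h3.ge hx.1)
          refine mul_mem ha (h1 ⟨hb, ?_⟩)
          have := K'.mul_mem (K'.inv_mem (h2 ha).2) hx.2
          rwa [inv_mul_cancel_left] at this
    have h4 := (h' _ _ hcf inf_le_right k hk).1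
    change (step g)^[4] k ∈ V at h4
    rw [← QuotientGroup.eq_one_iff] at h4 ⊢
    change QuotientGroup.mk' V _ = 1 at h4 ⊢
    rw [map_iterate] at h4 ⊢
    rwa [map_mul, show QuotientGroup.mk' V v = 1 from (QuotientGroup.eq_one_iff v).mpr hv, mul_one]

/-- The elements of `O_p(G)` mapping `A` into `L`. -/
def kerInto (p : ℕ) (A L : Subgroup G) [L.Normal] : Subgroup G :=
  pCore p G ⊓ (centralizer ((A.map (QuotientGroup.mk' L) : Subgroup (G ⧸ L)) : Set (G ⧸ L))).comap (QuotientGroup.mk' L)

theorem mem_kerInto {A L : Subgroup G} [L.Normal] {q : G} :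
    q ∈ kerInto p A L ↔ q ∈ pCore p G ∧ ∀ a ∈ A, ⁅q, a⁆ ∈ L := by
  simp only [kerInto, mem_inf, mem_comap, mem_centralizer_iff]
  refine and_congr_right fun _ => ⟨fun h a ha => ?_, ?_⟩
  · rw [← QuotientGroup.eq_one_iff]
    change QuotientGroup.mk' L ⁅q, a⁆ = 1
    rw [map_commutatorElement, commutatorElement_eq_one_iff_mul_comm]
    exact (h _ (mem_map_of_mem _ ha)).symm
  · rintro h _ ⟨a, ha, rfl⟩
    rw [eq_comm, ← commutatorElement_eq_one_iff_mul_comm, ← map_commutatorElement]
    exact (QuotientGroup.eq_one_iff _).mpr (h a ha)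

theorem pCore_le_centralizer_chief {U V : Subgroup G} (hUV : IsChiefFactor U V) (hU : U ≤ pCore p G) [V.Normal] :
    (pCore p G).map (QuotientGroup.mk' V) ≤ centralizer ((U.map (QuotientGroup.mk' V) : Subgroup (G ⧸ V)) : Set (G ⧸ V)) := by
  set μ := QuotientGroup.mk' V
  set N := U.map μ
  set Qb := (pCore p G).map μ
  haveI : N.Normal := Normal.map hUV.2.1 _ (QuotientGroup.mk'_surjective V)
  haveI : Qb.Normal := Normal.map inferInstance _ (QuotientGroup.mk'_surjective V)
  have hNQ : N ≤ Qb := map_mono hU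
  haveI := ((isPGroup_pCore p G).map μ).isNilpotent
  by_cases hN : N = ⊥
  · rw [le_centralizer_iff, hN]; exact bot_le
  have hne : N.subgroupOf Qb ≠ ⊥ := by
    rw [Ne, subgroupOf_eq_bot, disjoint_iff, inf_eq_left.mpr hNQ]
    exact hN
  have hint := Solv.inf_center_ne_bot (N.subgroupOf Qb) hne
  rcases chief_min hUV (N ⊓ centralizer (Qb : Set (G ⧸ V))) inferInstance inf_le_left with h | h
  · exfalso
    apply hint
    rw [eq_bot_iff]
    rintro ⟨x, hxQ⟩ ⟨hx, hxc⟩
    have : x ∈ N ⊓ centralizer (Qb : Set (G ⧸ V)) := ⟨hx, mem_centralizer_iff.mpr fun q hq =>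
      congrArg Subtype.val (mem_center_iff.mp hxc ⟨q, hq⟩)⟩
    rw [h, mem_bot] at this
    exact mem_bot.mpr (Subtype.ext this)
  · rw [le_centralizer_iff]
    exact h.ge.trans inf_le_right

theorem four_below_pCore {A : Subgroup G} (hA : PreCrit p G A)
    (hself : pCore p G ⊓ centralizer (A : Set G) ≤ A) {g : G}
    (hq : ⁅⁅A ⊓ centralizer (A : Set G), zpowers g⁆, zpowers g⁆ = ⊥)
    (hc : iterCommutator A (zpowers g) 3 ≤ A ⊓ centralizer (A : Set G)) :
    FourBelow g (pCore p G) := by
  haveI := hA.normal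
  haveI := pCore_characteristic p G
  set Z := A ⊓ centralizer (A : Set G) with hZ
  haveI hZn : Z.Normal := inferInstance
  have hZc : IsMulCommutative Z := ⟨⟨fun x y => Subtype.ext (mem_centralizer_iff.mp y.2.2 x x.2.1)⟩⟩
  have hstepN : ∀ (H : Subgroup G), H.Normal → ∀ x ∈ H, step g x ∈ H := fun H hH x hx => by
    haveI := hH
    exact commutator_le_left H ⊤ (commutator_mem_commutator hx (mem_top g))
  have hquadZ : ∀ w ∈ Z, step g (step g w) = 1 := fun w hw => by
    rw [← mem_bot, ← hq]
    exact commutator_mem_commutator (commutator_mem_commutator hw (mem_zpowers g)) (mem_zpowers g)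
  have main : ∀ (n : ℕ) (L : Subgroup G) [L.Normal], Nat.card L ≤ n → L ≤ Z → FourBelow g (kerInto p A L) := by
    intro n
    induction n with
    | zero => intro L _ hn; exact absurd hn (not_le.mpr Nat.card_pos)
    | succ n ih =>
      intro L hL hn hLZ
      rcases eq_or_ne L ⊥ with hL1 | hL1
      · intro U V hUV hU u hu
        have hu' := mem_kerInto.mp (hU hu)
        have huZ : u ∈ Z := by
          have huC : u ∈ centralizer (A : Set G) := mem_centralizer_iff.mpr fun a ha => by
            have h := hu'.2 a ha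
            rw [hL1, mem_bot, commutatorElement_eq_one_iff_mul_comm] at h
            exact h.symm
          exact ⟨hself ⟨hu'.1, huC⟩, huC⟩
        change step g (step g (step g (step g u))) ∈ V
        rw [hquadZ u huZ]
        simp [step]
      obtain ⟨M, ⟨hMn, hML⟩, hmax⟩ := (Set.toFinite {M : Subgroup G | M.Normal ∧ M < L}).exists_maximal
        ⟨⊥, inferInstance, bot_lt_iff_ne_bot.mpr hL1⟩
      haveI := hMn
      have hcf : IsChiefFactor L M := ⟨hML, hL, hMn, fun H hH h1 h2 => by
        rcases h2.eq_or_lt with h | h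
        · exact Or.inr h
        · exact Or.inl (le_antisymm (hmax ⟨hH, h⟩ h1) h1)⟩
      have hMbelow := ih M (by
        have := lt_of_le_of_ne (card_le_of_le hML.le) fun e => hML.ne (eq_of_le_of_card_ge hML.le e.ge)
        omega) (hML.le.trans hLZ)
      set μ := QuotientGroup.mk' M with hμ
      set W := L.map μ with hW
      haveI : W.Normal := Normal.map hL _ (QuotientGroup.mk'_surjective M)
      have hWc : IsMulCommutative W := isMulCommutative_chief hcf ((isPGroup_pCore p G).to_le (hLZ.trans (inf_le_left.trans hA.le)))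
      have hQW := pCore_le_centralizer_chief (p := p) hcf (hLZ.trans (inf_le_left.trans hA.le))
      have hWg : ∀ w ∈ W, step (μ g) w ∈ W := fun w hw =>
        commutator_le_left W ⊤ (commutator_mem_commutator hw (mem_top _))
      have hWquad : ∀ w ∈ W, step (μ g) (step (μ g) w) = 1 := by
        rintro _ ⟨l, hl, rfl⟩
        have h := map_iterate μ g 2 l
        change μ (step g (step g l)) = step (μ g) (step (μ g) (μ l)) at h
        rw [← h, hquadZ l (hLZ hl), map_one]
      set K1 := kerInto p A L ⊓ kerInto p Z M with hK1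
      haveI hK1n : K1.Normal := by
        haveI : (kerInto p A L).Normal := by rw [kerInto]; infer_instance
        haveI : (kerInto p Z M).Normal := by rw [kerInto]; infer_instance
        rw [hK1]; infer_instance
      have hcentW : ∀ x ∈ pCore p G, ∀ w ∈ W, μ x * w = w * μ x := fun x hx w hw =>
        (mem_centralizer_iff.mp (hQW (mem_map_of_mem μ hx)) w hw).symm
      -- the pairing with a filtered subgroup
      have bound : ∀ (K Y : Subgroup G), K.Normal → Y.Normal → K ≤ kerInto p A L → Y ≤ A → ∀ d,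
          (∀ r, d ≤ r → ∀ x ∈ K, ∀ y ∈ iterCommutator Y (zpowers g) r, ⁅x, y⁆ ∈ M) →
          ∀ x ∈ K, ∀ y ∈ Y, ⁅(step g)^[d + 1] x, y⁆ ∈ M := by
        intro K Y hKn hYn hK hY d hd x hx y hy
        haveI := hKn
        haveI := hYn
        have hiter : ∀ r, iterCommutator Y (zpowers g) r ≤ Y := by
          intro r
          induction r with
          | zero => exact le_rfl
          | succ r ihr => exact (commutator_mono ihr le_rfl).trans (commutator_le_left Y _)
        have h := pairing_bound hWc hWg hWquad (K.map μ) ?_ ?_ (fun r => (iterCommutator Y (zpowers g) r).map μ)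
          (fun r => map_mono (hiter r)) ?_ ?_ ?_ d ?_ (μ x) (mem_map_of_mem μ hx) (μ y) (mem_map_of_mem μ hy)
        · rw [← map_iterate, ← map_commutatorElement] at h
          exact (QuotientGroup.eq_one_iff _).mp h
        · rintro _ ⟨a, ha, rfl⟩
          have h1 := map_iterate μ g 1 a
          change μ (step g a) = step (μ g) (μ a) at h1
          rw [← h1]
          exact mem_map_of_mem μ (hstepN K hKn a ha)
        · rintro _ ⟨a, ha, rfl⟩ w hw
          exact hcentW a (mem_kerInto.mp (hK ha)).1 w hw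
        · rintro r _ ⟨a, ha, rfl⟩
          refine ⟨a⁻¹ * g⁻¹ * a * g, ?_, by simp⟩
          have e : a⁻¹ * g⁻¹ * a * g = ⁅a⁻¹, g⁻¹⁆ := by simp only [commutatorElement_def]; group
          rw [e]
          exact commutator_mem_commutator (inv_mem ha) (inv_mem (mem_zpowers g))
        · rintro _ ⟨a, ha, rfl⟩ w hw
          exact hcentW a (hA.le (hY (hiter 0 ha))) w hw
        · rintro _ ⟨a, ha, rfl⟩ _ ⟨b, hb, rfl⟩
          rw [← map_commutatorElement]
          exact mem_map_of_mem μ ((mem_kerInto.mp (hK ha)).2 b (hY (hiter 0 hb)))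
        · rintro r hr _ ⟨a, ha, rfl⟩ _ ⟨b, hb, rfl⟩
          rw [← map_commutatorElement]
          exact (QuotientGroup.eq_one_iff _).mpr (hd r hr a ha b hb)
      have hkn : ∀ (B L' : Subgroup G) [B.Normal] [L'.Normal], (kerInto p B L').Normal := fun B L' _ _ => by
        rw [kerInto]; infer_instance
      have hlow : FourBelow g K1 := by
        refine four_of_layer (hkn A M) hMbelow fun u hu => ?_
        refine mem_kerInto.mpr ⟨iterate_mem (hstepN _ inferInstance) 4 (mem_kerInto.mp hu.1).1, ?_⟩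
        refine bound K1 A hK1n hA.normal inf_le_left le_rfl 3 (fun r hr x hx y hy => ?_) u hu
        refine (mem_kerInto.mp hx.2).2 y ?_
        obtain ⟨s, rfl⟩ := Nat.exists_eq_add_of_le hr
        have : iterCommutator A (zpowers g) (3 + s) ≤ Z := by
          clear hy hr
          induction s with
          | zero => exact hc
          | succ s ihs => exact (commutator_mono ihs le_rfl).trans (commutator_le_left Z _)
        exact this hy
      refine four_of_layer hK1n hlow fun u hu => ⟨iterate_mem (hstepN _ (hkn A L)) 4 hu, ?_⟩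
      have h3 : (step g)^[3] u ∈ kerInto p Z M := by
        refine mem_kerInto.mpr ⟨iterate_mem (hstepN _ inferInstance) 3 (mem_kerInto.mp hu).1, ?_⟩
        refine bound (kerInto p A L) Z (hkn A L) hZn le_rfl inf_le_left 2 (fun r hr x _ y hy => ?_) u hu
        obtain ⟨s, rfl⟩ := Nat.exists_eq_add_of_le hr
        have : iterCommutator Z (zpowers g) (2 + s) = ⊥ := by
          clear hy hr
          induction s with
          | zero => exact hq
          | succ s ihs =>
            change ⁅iterCommutator Z (zpowers g) (2 + s), zpowers g⁆ = ⊥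
            rw [ihs, commutator_bot_left]
        rw [this, mem_bot] at hy
        simp [hy]
      exact hstepN _ (hkn Z M) _ h3
  intro U V hUV hU
  refine main (Nat.card Z) Z le_rfl le_rfl U V hUV (hU.trans fun q hq' => mem_kerInto.mpr ⟨hq', fun a ha => ?_⟩)
  rw [← commutatorElement_inv]
  exact inv_mem (hA.comm a ha q hq')

theorem iterCommutator_le_chief {g : G} (h : FourBelow g (pCore p G)) {U V : Subgroup G} (hUV : IsChiefFactor U V)
    (hU : U ≤ pCore p G) : iterCommutator U (zpowers g) 4 ≤ V := by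
  haveI := hUV.2.1
  haveI := hUV.2.2.1
  set μ := QuotientGroup.mk' V
  haveI : (U.map μ).Normal := Normal.map hUV.2.1 _ (QuotientGroup.mk'_surjective V)
  have hmap : ∀ n, (iterCommutator U (zpowers g) n).map μ = iterCommutator (U.map μ) (zpowers (μ g)) n := by
    intro n
    induction n with
    | zero => rfl
    | succ n ih =>
      change (⁅iterCommutator U (zpowers g) n, zpowers g⁆).map μ = ⁅iterCommutator (U.map μ) (zpowers (μ g)) n, zpowers (μ g)⁆
      rw [map_commutator, ih, MonoidHom.map_zpowers]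
  rw [← QuotientGroup.ker_mk' V, ← Subgroup.map_eq_bot_iff, hmap]
  refine step_iterCommutator (isMulCommutative_chief hUV ((isPGroup_pCore p G).to_le hU))
    (fun w hw => commutator_le_left (U.map μ) ⊤ (commutator_mem_commutator hw (mem_top _))) 4 ?_
  rintro _ ⟨u, hu, rfl⟩
  rw [← map_iterate]
  exact (QuotientGroup.eq_one_iff _).mpr (h U V hUV hU u hu)

theorem not_isNormalizerPStable_of_chief {g : G} {U V : Subgroup G} (hUV : IsChiefFactor U V)
    (hU : IsPGroup p U) (hq : ⁅⁅U, zpowers g⁆, zpowers g⁆ ≤ V) (hn : ¬ ⁅U, zpowers g⁆ ≤ V) :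
    ∃ (N : Subgroup G) (_ : N.Normal), ¬ IsNormalizerPStable p (G ⧸ N) := by
  haveI := hUV.2.1
  haveI := hUV.2.2.1
  refine ⟨V, inferInstance, fun hst => hn ?_⟩
  set μ := QuotientGroup.mk' V
  set N := U.map μ with hN
  haveI : N.Normal := Normal.map hUV.2.1 _ (QuotientGroup.mk'_surjective V)
  have htop : normalizer (N : Set (G ⧸ V)) = ⊤ := normalizer_eq_top_iff.mpr inferInstance
  have hgN : μ g ∈ normalizer (N : Set (G ⧸ V)) := htop ▸ mem_top _
  have h1 := hst N (hU.map μ) (μ g) hgN (by
    rw [hN, ← MonoidHom.map_zpowers, ← map_commutator, ← map_commutator, Subgroup.map_eq_bot_iff,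
      QuotientGroup.ker_mk']
    exact hq)
  set NN := normalizer (N : Set (G ⧸ V))
  set C := (centralizer (N : Set (G ⧸ V))).subgroupOf NN with hC
  set D := (pCore p (NN ⧸ C)).comap (QuotientGroup.mk' C) with hD
  haveI : D.Normal := inferInstance
  set D' := D.map NN.subtype with hD'
  haveI hD'n : D'.Normal := by
    refine ⟨fun x hx y => ?_⟩
    obtain ⟨d, hd, rfl⟩ := hx
    exact ⟨⟨y, htop ▸ mem_top y⟩ * d * ⟨y, htop ▸ mem_top y⟩⁻¹, (inferInstance : D.Normal).conj_mem d hd _, rfl⟩
  have hDp : ∀ d ∈ D', ∃ k : ℕ, d ^ p ^ k ∈ centralizer (N : Set (G ⧸ V)) := by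
    rintro _ ⟨d, hd, rfl⟩
    obtain ⟨k, hk⟩ := isPGroup_pCore p _ ⟨_, hd⟩
    refine ⟨k, ?_⟩
    have h' := congrArg Subtype.val hk
    rw [SubgroupClass.coe_pow, OneMemClass.coe_one, ← map_pow] at h'
    have h'' := (QuotientGroup.eq_one_iff _).mp h'
    rwa [hC, mem_subgroupOf, SubgroupClass.coe_pow] at h''
  have hcent : D' ≤ centralizer (N : Set (G ⧸ V)) := by
    obtain ⟨PD⟩ : Nonempty (Sylow p D') := inferInstance
    set P := (PD : Subgroup D').map D'.subtype with hP
    set CD := (centralizer (N : Set (G ⧸ V))).subgroupOf D' with hCD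
    have hquot : IsPGroup p (D' ⧸ CD) := by
      intro y
      obtain ⟨d, rfl⟩ := QuotientGroup.mk_surjective y
      obtain ⟨k, hk⟩ := hDp d d.2
      refine ⟨k, ?_⟩
      rw [← QuotientGroup.mk_pow, QuotientGroup.eq_one_iff, hCD, mem_subgroupOf, SubgroupClass.coe_pow]
      exact hk
    by_cases hN0 : N = ⊥
    · rw [le_centralizer_iff, hN0]; exact bot_le
    have hPp : IsPGroup p P := PD.isPGroup'.map _
    haveI := ((hU.map μ : IsPGroup p N).to_sup_of_normal_left hPp).isNilpotent
    have hne : N.subgroupOf (N ⊔ P) ≠ ⊥ := by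
      rw [Ne, subgroupOf_eq_bot, disjoint_iff, inf_eq_left.mpr le_sup_left]
      exact hN0
    have hint := Solv.inf_center_ne_bot (N.subgroupOf (N ⊔ P)) hne
    rcases chief_min hUV (N ⊓ centralizer (D' : Set (G ⧸ V))) inferInstance inf_le_left with h | h
    · exfalso
      apply hint
      rw [eq_bot_iff]
      rintro ⟨x, hxNP⟩ ⟨hx, hxc⟩
      have : x ∈ N ⊓ centralizer (D' : Set (G ⧸ V)) := by
        refine ⟨hx, mem_centralizer_iff.mpr fun d hd => ?_⟩
        have htop' : ((PD.mapSurjective (QuotientGroup.mk'_surjective CD) : Sylow p (D' ⧸ CD)) : Subgroup (D' ⧸ CD)) = ⊤ :=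
          top_le_iff.mp ((PD.mapSurjective (QuotientGroup.mk'_surjective CD)).is_maximal' (hquot.to_subgroup ⊤) le_top).le
        obtain ⟨q, hq', hqe⟩ := htop'.ge (mem_top (QuotientGroup.mk' CD ⟨d, hd⟩))
        rw [QuotientGroup.mk'_eq_mk'] at hqe
        obtain ⟨c, hc, hqc⟩ := hqe
        have hd' : (q : G ⧸ V) * (c : G ⧸ V) = d := congrArg Subtype.val hqc
        have h2 : Commute (q : G ⧸ V) x := congrArg Subtype.val (mem_center_iff.mp hxc ⟨q, mem_sup_right (mem_map_of_mem _ hq')⟩)
        have h3 : Commute (c : G ⧸ V) x := (mem_centralizer_iff.mp hc x hx).symm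
        rw [← hd']
        exact (h2.mul_left h3).eq
      rw [h, mem_bot] at this
      exact mem_bot.mpr (Subtype.ext this)
    · rw [le_centralizer_iff]
      exact h.ge.trans inf_le_right
  have hgc : μ g ∈ centralizer (N : Set (G ⧸ V)) := hcent ⟨⟨μ g, hgN⟩, h1, rfl⟩
  rw [← QuotientGroup.ker_mk' V, ← Subgroup.map_eq_bot_iff, map_commutator, MonoidHom.map_zpowers,
    commutator_eq_bot_iff_le_centralizer, le_centralizer_iff, zpowers_le]
  exact hgc

end Chief

end Cfsg.Agent.Solv.KInf
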