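import Cfsg.Agent.Lib.Solv.KSeq
import Cfsg.Agent.Lib.Solv.ZJ
import Cfsg.Agent.Lib.Solv.Thompson
import Cfsg.Agent.Lib.Solv.Subnormal
import Cfsg.Agent.Lib.Solv.SchurZassenhaus
import Cfsg.Agent.Lib.Fusion.Critical
import Cfsg.Agent.Lib.Local.FusionReduction

/-!
Normality of the K-infinity subgroups in constrained groups with `p`-stable sections.
-/

set_option autoImplicit false
set_option linter.unusedSectionVars false
set_option linter.style.haveILetI false

universe u

namespace Cfsg.Agent.Solv.KInf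

open Subgroup
open scoped commutatorElement

variable {p : ℕ} [Fact p.Prime]

/-- All sections act `p`-stably on their normal `p`-subgroups. -/
def StabSec (p : ℕ) (G : Type u) [Group G] : Prop :=
  ∀ (X : Type u) [Group X] [Finite X], Local.FusionRed.Sec X G → ZJ.Stab p X

theorem StabSec.self {G : Type u} [Group G] [Finite G] (h : StabSec p G) : ZJ.Stab p G :=
  h G Local.FusionRed.Sec.refl

theorem StabSec.quotient {G : Type u} [Group G] [Finite G] (h : StabSec p G) (N : Subgroup G) [N.Normal] :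
    ZJ.Stab p (G ⧸ N) :=
  h _ (Local.FusionRed.Sec.of_surjective (QuotientGroup.mk' N) (QuotientGroup.mk'_surjective N))

theorem StabSec.subgroup {G : Type u} [Group G] [Finite G] (h : StabSec p G) (H : Subgroup G) :
    StabSec p H :=
  fun X _ _ hX => h X (hX.trans (Local.FusionRed.Sec.subgroup H))

/-- A `p`-subgroup that acts quadratically on `A₀` and on `A/A₀` lies in the `p`-core. -/
theorem le_pCore_of_quad_series {X : Type u} [Group X] [Finite X] (hst : StabSec p X)
    (A₀ A : Subgroup X) [A₀.Normal] [A.Normal] (hA₀A : A₀ ≤ A) (hA : IsPGroup p A)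
    (hCA : IsPGroup p (centralizer (A : Set X))) (T : Subgroup X) (hT : IsPGroup p T)
    (h1 : ⁅⁅A, T⁆, T⁆ ≤ A₀) (h2 : ⁅⁅A₀, T⁆, T⁆ = ⊥) : T ≤ pCore p X := by
  set π := QuotientGroup.mk' A₀
  haveI : (A.map π).Normal := Normal.map inferInstance _ (QuotientGroup.mk'_surjective A₀)
  have hA₀ : IsPGroup p A₀ := hA.to_le hA₀A
  set π1 := QuotientGroup.mk' (centralizer ((A.map π : Subgroup (X ⧸ A₀)) : Set (X ⧸ A₀)))
  set π2 := QuotientGroup.mk' (centralizer (A₀ : Set X))
  have hT1 : (T.map π).map π1 ≤ pCore p _ := hst.quotient A₀ (A.map π) (hA.map π) (T.map π) (hT.map π) (by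
    rw [← map_commutator, ← map_commutator, Subgroup.map_eq_bot_iff, QuotientGroup.ker_mk']
    exact h1)
  have hT2 : T.map π2 ≤ pCore p _ := hst.self A₀ hA₀ T hT h2
  set D := ((pCore p _).comap π1).comap π ⊓ (pCore p _).comap π2 with hD
  haveI : D.Normal := inferInstance
  have hTD : T ≤ D := fun t ht =>
    ⟨hT1 (mem_map_of_mem π1 (mem_map_of_mem π ht)), hT2 (mem_map_of_mem π2 ht)⟩
  suffices hDp : IsPGroup p D from hTD.trans (le_pCore hDp)
  rintro ⟨d, hd1, hd2⟩
  obtain ⟨i, hi⟩ := isPGroup_pCore p _ ⟨_, hd1⟩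
  obtain ⟨j, hj⟩ := isPGroup_pCore p _ ⟨_, hd2⟩
  set g := d ^ p ^ (i + j) with hg
  have hg1 : π g ∈ centralizer ((A.map π : Subgroup (X ⧸ A₀)) : Set (X ⧸ A₀)) := by
    rw [← QuotientGroup.eq_one_iff]
    change π1 (π g) = 1
    have := congrArg Subtype.val hi
    rw [SubgroupClass.coe_pow, OneMemClass.coe_one] at this
    rw [hg, map_pow, map_pow, pow_add, pow_mul, this, one_pow]
  have hg2 : g ∈ centralizer (A₀ : Set X) := by
    rw [← QuotientGroup.eq_one_iff]
    change π2 g = 1
    have := congrArg Subtype.val hj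
    rw [SubgroupClass.coe_pow, OneMemClass.coe_one] at this
    rw [hg, map_pow, add_comm, pow_add, pow_mul, this, one_pow]
  obtain ⟨e, he⟩ := IsPGroup.iff_card.mp hA₀
  have hgC : g ^ p ^ e ∈ centralizer (A : Set X) := by
    rw [mem_centralizer_iff]
    intro v hv
    set z := g * v * g⁻¹ * v⁻¹ with hz
    have hzA : z ∈ A₀ := by
      rw [← QuotientGroup.eq_one_iff]
      change π z = 1
      rw [hz, map_mul, map_mul, map_mul, map_inv, map_inv,
        ← mem_centralizer_iff.mp hg1 _ (mem_map_of_mem π hv)]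
      group
    have hgz : g * z = z * g := (mem_centralizer_iff.mp hg2 z hzA).symm
    have hpw : ∀ m : ℕ, g ^ m * v * (g ^ m)⁻¹ = z ^ m * v := by
      intro m
      induction m with
      | zero => simp
      | succ m ihm =>
        calc g ^ (m + 1) * v * (g ^ (m + 1))⁻¹ = g * (g ^ m * v * (g ^ m)⁻¹) * g⁻¹ := by
              rw [pow_succ']; group
          _ = g * z ^ m * g⁻¹ * (g * v * g⁻¹) := by rw [ihm]; group
          _ = z ^ m * (z * v) := by
              rw [((show Commute g z from hgz).pow_right m).eq, mul_inv_cancel_right]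
              congr 1
              rw [hz, inv_mul_cancel_right]
          _ = z ^ (m + 1) * v := by rw [pow_succ, mul_assoc (z ^ m) z v]
    have h5 := hpw (p ^ e)
    rw [show z ^ p ^ e = 1 from he ▸ congrArg Subtype.val (pow_card_eq_one' (x := (⟨z, hzA⟩ : A₀))),
      one_mul] at h5
    exact (mul_inv_eq_iff_eq_mul.mp h5).symm
  obtain ⟨k, hk⟩ := hCA ⟨_, hgC⟩
  refine ⟨i + j + e + k, Subtype.ext ?_⟩
  have : (g ^ p ^ e) ^ p ^ k = 1 := congrArg Subtype.val hk
  rw [hg, ← pow_mul, ← pow_mul, ← pow_add, ← pow_add] at this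
  rw [add_assoc (i + j) e k]
  exact this

/-- The properties of a critical subgroup of `O_p(G)` that are needed. -/
structure Crit (p : ℕ) (G : Type u) [Group G] (A : Subgroup G) : Prop where
  normal : A.Normal
  le : A ≤ pCore p G
  comm : ∀ a ∈ A, ∀ q ∈ pCore p G, ⁅a, q⁆ ∈ A ⊓ centralizer (A : Set G)
  pgroup : IsPGroup p (centralizer (A : Set G))

/-- A normal subgroup containing its centralizer in `O_p(G)` has a `p`-group as centralizer. -/
theorem isPGroup_centralizer_of_self {G : Type u} [Group G] [Finite G]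
    (hc : centralizer (pCore p G : Set G) ≤ pCore p G) {A : Subgroup G} [hAn : A.Normal]
    (hself : pCore p G ⊓ centralizer (A : Set G) ≤ A) : IsPGroup p (centralizer (A : Set G)) := by
  set Q := pCore p G with hQ
  rintro ⟨g, hg⟩
  obtain ⟨v, m, hm, hvm⟩ := Nat.exists_eq_pow_mul_and_not_dvd (orderOf_pos g).ne' p (Fact.out : p.Prime).ne_one
  refine ⟨v, Subtype.ext ?_⟩
  rw [SubgroupClass.coe_pow, OneMemClass.coe_one]
  set x := g ^ p ^ v with hx
  have hxC : x ∈ centralizer (A : Set G) := pow_mem hg _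
  have hxo : x ^ m = 1 := by rw [hx, ← pow_mul, ← hvm, pow_orderOf_eq_one]
  have hxQ : x ∈ centralizer (Q : Set G) := by
    rw [mem_centralizer_iff]
    intro q hq
    have hconj : ∀ a ∈ A, x * a * x⁻¹ = a := fun a ha => by
      rw [← mem_centralizer_iff.mp hxC a ha, mul_inv_cancel_right]
    set w := x * q * x⁻¹ * q⁻¹ with hw
    have hwQ : w ∈ Q := Q.mul_mem ((inferInstance : Q.Normal).conj_mem q hq x) (Q.inv_mem hq)
    have hwA : w ∈ A := by
      refine hself ⟨hwQ, mem_centralizer_iff.mpr fun b hb => ?_⟩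
      have h1 : q⁻¹ * b * q ∈ A := by
        simpa using hAn.conj_mem _ hb q⁻¹
      have h2 := hconj _ h1
      have h3 := hconj _ hb
      calc b * w = b * (x * q * x⁻¹) * q⁻¹ := by rw [hw]; group
        _ = x * b * x⁻¹ * (x * q * x⁻¹) * q⁻¹ := by rw [h3]
        _ = x * q * (q⁻¹ * b * q) * x⁻¹ * q⁻¹ := by group
        _ = x * q * x⁻¹ * (x * (q⁻¹ * b * q) * x⁻¹) * q⁻¹ := by group
        _ = x * q * x⁻¹ * (q⁻¹ * b * q) * q⁻¹ := by rw [h2]
        _ = w * b := by rw [hw]; group
    have hit : ∀ n : ℕ, x ^ n * q * (x ^ n)⁻¹ = w ^ n * q := by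
      intro n
      induction n with
      | zero => simp
      | succ n ih =>
        calc x ^ (n + 1) * q * (x ^ (n + 1))⁻¹ = x * (x ^ n * q * (x ^ n)⁻¹) * x⁻¹ := by
              rw [pow_succ']; group
          _ = x * w ^ n * x⁻¹ * (x * q * x⁻¹) := by rw [ih]; group
          _ = w ^ n * (w * q) := by
              rw [hconj _ (A.pow_mem hwA n)]
              congr 1
              rw [hw, inv_mul_cancel_right]
          _ = w ^ (n + 1) * q := by rw [pow_succ, mul_assoc (w ^ n) w q]
    have hwm := hit m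
    rw [hxo, one_mul, inv_one, mul_one, right_eq_mul] at hwm
    obtain ⟨j, hj⟩ := isPGroup_pCore p G ⟨w, hwQ⟩
    have hj' : w ^ p ^ j = 1 := congrArg Subtype.val hj
    have hcop : Nat.Coprime m (p ^ j) :=
      (((Fact.out : p.Prime).coprime_iff_not_dvd.mpr hm).pow_left j).symm
    have hd := Nat.dvd_gcd (orderOf_dvd_of_pow_eq_one hwm) (orderOf_dvd_of_pow_eq_one hj')
    rw [hcop.gcd_eq_one] at hd
    have hw1 : w = 1 := orderOf_eq_one_iff.mp (Nat.dvd_one.mp hd)
    rw [hw, mul_inv_eq_one, mul_inv_eq_iff_eq_mul] at hw1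
    exact hw1.symm
  obtain ⟨j, hj⟩ := isPGroup_pCore p G ⟨x, hc hxQ⟩
  have hcop : Nat.Coprime m (p ^ j) := (((Fact.out : p.Prime).coprime_iff_not_dvd.mpr hm).pow_left j).symm
  have hd := Nat.dvd_gcd (orderOf_dvd_of_pow_eq_one hxo) (orderOf_dvd_of_pow_eq_one (congrArg Subtype.val hj : x ^ p ^ j = 1))
  rw [hcop.gcd_eq_one] at hd
  exact orderOf_eq_one_iff.mp (Nat.dvd_one.mp hd)

theorem exists_crit {G : Type u} [Group G] [Finite G]
    (hc : centralizer (pCore p G : Set G) ≤ pCore p G) : ∃ A, Crit p G A := by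
  set Q := pCore p G with hQ
  obtain ⟨H, hH, -, hH3, hH4⟩ := Fusion.exists_critical (isPGroup_pCore p G)
  haveI := hH
  set A := H.map Q.subtype with hA
  haveI := pCore_characteristic p G
  haveI hAn : A.Normal := inferInstance
  have hcomm : ∀ a ∈ A, ∀ q ∈ Q, ⁅a, q⁆ ∈ A ⊓ centralizer (A : Set G) := by
    rintro _ ⟨a, ha, rfl⟩ q hq
    obtain ⟨h1, h2⟩ := hH3 a ha ⟨q, hq⟩
    refine ⟨⟨_, h1, rfl⟩, mem_centralizer_iff.mpr ?_⟩
    rintro _ ⟨b, hb, rfl⟩
    exact (congrArg Subtype.val (h2 b hb)).symm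
  refine ⟨A, hAn, map_subtype_le _, hcomm, isPGroup_centralizer_of_self hc ?_⟩
  rintro x ⟨hxQ, hxA⟩
  refine ⟨⟨x, hxQ⟩, hH4 (mem_centralizer_iff.mpr fun b hb => Subtype.ext ?_), rfl⟩
  exact mem_centralizer_iff.mp hxA _ (mem_map_of_mem Q.subtype hb)

section Main

variable {G : Type u} [Group G] [Finite G] (hst : StabSec p G) {A : Subgroup G} (hA : Crit p G A)

include hA

theorem Crit.classTwo : A ∈ classTwoSubgroups G :=
  commutator_le.mpr fun a ha b hb => (hA.comm a ha b (hA.le hb)).2

theorem Crit.isPGroup : IsPGroup p A := (isPGroup_pCore p G).to_le hA.le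

include hst

theorem quad_le_pCore {T : Subgroup G} (hT : IsPGroup p T) (h : ⁅⁅A, T⁆, T⁆ = ⊥) : T ≤ pCore p G := by
  haveI := hA.normal
  refine le_pCore_of_quad_series hst A A le_rfl hA.isPGroup hA.pgroup T hT ?_ h
  rw [h]; exact bot_le

theorem crit_mem_lo (S : Sylow p G) {U : Subgroup G}
    (hU : U ≤ (S : Subgroup G)) :
    A ∈ lo (S : Subgroup G) U := by
  haveI := hA.normal
  refine lo_antitone _ hU ⟨hA.le.trans (pCore_le_sylow S), hA.classTwo, le_normalizer_of_normal, ?_⟩
  intro T hT hTS hAT h1 h2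
  have hAT' : ⁅A, T⁆ ≤ A ⊓ T := le_inf (commutator_le_left A T)
    (commutator_comm A T ▸ le_normalizer_iff_commutator_le_left.mp hAT)
  have h3 : ⁅⁅A, T⁆, T⁆ ≤ A ⊓ centralizer (A : Set G) := by
    refine le_inf ((commutator_mono (hAT'.trans inf_le_left) le_rfl).trans (commutator_le_left A T)) ?_
    refine (commutator_mono (hAT'.trans inf_le_right) le_rfl).trans ?_
    rw [← commutator_eq_bot_iff_le_centralizer, commutator_comm]
    exact h1
  have hTQ : T ≤ pCore p G :=
    le_pCore_of_quad_series hst (A ⊓ centralizer (A : Set G)) A inf_le_left hA.isPGroup hA.pgroup T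
      (S.isPGroup'.to_le hTS) h3 h2
  exact commutator_le.mpr fun a ha t ht => hA.comm a ha t (hTQ ht)

theorem upper_le_pCore (S : Sylow p G) {L : Subgroup G} (hAL : A ≤ L) {B : Subgroup G}
    (hB : B ∈ up (S : Subgroup G) L) : B ≤ pCore p G := by
  refine quad_le_pCore hst hA (S.isPGroup'.to_le hB.1) ?_
  rw [commutator_eq_bot_iff_le_centralizer]
  refine le_trans ?_ (hB.2.2.trans inf_le_right)
  rw [commutator_comm]
  exact commutator_mono le_rfl hAL

theorem lower_le_pCore (S : Sylow p G) {U : Subgroup G} (hAU : A ≤ U) (hU : U ≤ (S : Subgroup G))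
    {B : Subgroup G} (hB : B ∈ lo (S : Subgroup G) U) : B ≤ pCore p G := by
  classical
  haveI := hA.normal
  obtain ⟨hBS, hB2, hUB, htest⟩ := hB
  have hBp : IsPGroup p B := S.isPGroup'.to_le hBS
  set Z := A ⊓ centralizer (A : Set G) with hZ
  haveI hZn : Z.Normal := inferInstance
  have hAB : A ≤ normalizer (B : Set G) := hAU.trans hUB
  have hABA : ⁅A, B⁆ ≤ A ⊓ B := le_inf (commutator_le_left A B)
    (le_normalizer_iff_commutator_le_right.mp hAB)
  -- the first test
  have hZc : IsMulCommutative Z := ⟨⟨fun x y => Subtype.ext (mem_centralizer_iff.mp y.2.2 x x.2.1)⟩⟩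
  haveI := hZc
  have h1 : ⁅B, Z⁆ ≤ B ⊓ centralizer (B : Set G) := by
    refine htest Z ((commutator_le_self Z).trans (le_centralizer Z)) (inf_le_left.trans hAU) le_normalizer_of_normal ?_ ?_
    · rw [show ⁅Z, Z⁆ = ⊥ from commutator_eq_bot_iff_le_centralizer.mpr (le_centralizer Z)]
      exact commutator_bot_right B
    · rw [commutator_eq_bot_iff_le_centralizer]
      exact (commutator_le_right _ Z).trans (le_centralizer Z)
  have hZB : ⁅⁅Z, B⁆, B⁆ = ⊥ := by
    rw [commutator_eq_bot_iff_le_centralizer, commutator_comm]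
    exact h1.trans inf_le_right
  -- the centre of `B`
  set ZB := B ⊓ centralizer (B : Set G) with hZBdef
  have hZBQ : ZB ≤ pCore p G := by
    refine quad_le_pCore hst hA (hBp.to_le inf_le_left) ?_
    rw [commutator_eq_bot_iff_le_centralizer]
    have h' : ⁅A, ZB⁆ ≤ ZB := by
      refine commutator_le.mpr fun a ha z hz => ZB.mul_mem ⟨(mem_normalizer_iff.mp (hAB ha) z).mp hz.1, ?_⟩
        (ZB.inv_mem hz)
      apply mem_centralizer_iff.mpr
      intro b hb
      have h' := mem_centralizer_iff.mp hz.2 _ ((mem_normalizer_iff''.mp (hAB ha) b).mp hb)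
      calc b * (a * z * a⁻¹) = a * (a⁻¹ * b * a * z) * a⁻¹ := by group
        _ = a * (z * (a⁻¹ * b * a)) * a⁻¹ := by rw [h']
        _ = a * z * a⁻¹ * b := by group
    exact (h'.trans inf_le_right).trans (centralizer_le inf_le_left)
  -- the group `C_G(Z) B`
  set C := centralizer (Z : Set G) with hC
  haveI : C.Normal := inferInstance
  set π := QuotientGroup.mk' C
  have hBD : B.map π ≤ pCore p (G ⧸ C) := hst.self Z ((isPGroup_pCore p G).to_le (inf_le_left.trans hA.le)) B hBp hZB
  set G1 := C ⊔ B with hG1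
  have hsub : G1.IsSubnormal := by
    have h2 : ((B.map π).subgroupOf (pCore p (G ⧸ C))).IsSubnormal := by
      haveI := (isPGroup_pCore p (G ⧸ C)).isNilpotent
      exact isSubnormal_of_isNilpotent _
    have h3 : (B.map π).IsSubnormal := IsSubnormal.trans hBD h2 (Normal.isSubnormal inferInstance)
    have h4 := h3.comap π
    rwa [comap_map_eq, QuotientGroup.ker_mk', sup_comm] at h4
  have hAC : A ≤ C := fun a ha => mem_centralizer_iff.mpr fun z hz => (mem_centralizer_iff.mp hz.2 a ha).symm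
  -- the radical of the form
  let rad : Subgroup G :=
    { carrier := {u | u ∈ A ∧ ∀ y ∈ A, ∀ b ∈ B, b * ⁅u, y⁆ = ⁅u, y⁆ * b}
      one_mem' := ⟨A.one_mem, fun y _ b _ => by simp⟩
      mul_mem' := fun {u v} hu hv => ⟨A.mul_mem hu.1 hv.1, fun y hy b hb => by
        have hc := (hA.comm v hv.1 y (hA.le hy)).2
        have e : ⁅u * v, y⁆ = ⁅v, y⁆ * ⁅u, y⁆ := by
          have e1 : ⁅u * v, y⁆ = u * ⁅v, y⁆ * u⁻¹ * ⁅u, y⁆ := by simp only [commutatorElement_def]; group
          rw [e1, mem_centralizer_iff.mp hc u hu.1, mul_inv_cancel_right]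
        rw [e]
        exact ((show Commute b _ from hv.2 y hy b hb).mul_right (hu.2 y hy b hb)).eq⟩
      inv_mem' := fun {u} hu => ⟨A.inv_mem hu.1, fun y hy b hb => by
        have hc := (hA.comm u hu.1 y (hA.le hy)).2
        have e : ⁅u⁻¹, y⁆ = ⁅u, y⁆⁻¹ := by
          have e1 : ⁅u⁻¹, y⁆ = u⁻¹ * ⁅u, y⁆⁻¹ * u := by simp only [commutatorElement_def]; group
          rw [e1, mem_centralizer_iff.mp (inv_mem hc) u⁻¹ (A.inv_mem hu.1), inv_mul_cancel_right]
        rw [e]
        exact (show Commute b _ from hu.2 y hy b hb).inv_right.eq⟩ }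
  have hradA : rad ≤ A := fun u hu => hu.1
  have hradC : C ≤ normalizer (rad : Set G) := by
    refine le_normalizer_of_conj_mem fun c hc u hu => ⟨hA.normal.conj_mem u hu.1 c, fun y hy b hb => ?_⟩
    have hy' : c⁻¹ * y * c ∈ A := by simpa using hA.normal.conj_mem y hy c⁻¹
    have hz := hA.comm u hu.1 _ (hA.le hy')
    have e : ⁅c * u * c⁻¹, y⁆ = c * ⁅u, c⁻¹ * y * c⁆ * c⁻¹ := by simp only [commutatorElement_def]; group
    rw [e, ← mem_centralizer_iff.mp hc _ hz, mul_inv_cancel_right]
    exact hu.2 _ hy' b hb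
  have hradB : B ≤ normalizer (rad : Set G) := by
    refine le_normalizer_of_conj_mem fun c hc u hu => ⟨hA.normal.conj_mem u hu.1 c, fun y hy b hb => ?_⟩
    have hy' : c⁻¹ * y * c ∈ A := by simpa using hA.normal.conj_mem y hy c⁻¹
    have e : ⁅c * u * c⁻¹, y⁆ = c * ⁅u, c⁻¹ * y * c⁆ * c⁻¹ := by simp only [commutatorElement_def]; group
    rw [e, hu.2 _ hy' c hc, mul_inv_cancel_right]
    exact hu.2 _ hy' b hb
  -- the second test
  have h2 : ⁅B, rad⁆ ≤ B ⊓ centralizer (B : Set G) := by
    refine htest rad ?_ (hradA.trans hAU) hradB ?_ ?_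
    · exact (commutator_mono hradA hradA).trans (hA.classTwo.trans (centralizer_le hradA))
    · rw [commutator_eq_bot_iff_le_centralizer, le_centralizer_iff, commutator_le]
      exact fun u hu y hy => mem_centralizer_iff.mpr fun b hb => hu.2 y hy.1 b hb
    · rw [commutator_eq_bot_iff_le_centralizer, commutator_le]
      intro z hz u hu
      have h' := (hA.comm u hu.1 z (hZBQ hz)).2
      rw [← commutatorElement_inv] 
      exact inv_mem (centralizer_le hradA h')
  have hradq : ⁅⁅rad, B⁆, B⁆ = ⊥ := by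
    rw [commutator_eq_bot_iff_le_centralizer, commutator_comm]
    exact h2.trans inf_le_right
  have hABB : ⁅⁅A, B⁆, B⁆ ≤ rad := by
    rw [commutator_le]
    intro x hx b hb
    have hxAB := hABA hx
    have hu1 : ⁅x, b⁆ ∈ A := commutator_le_left A B (commutator_mem_commutator hxAB.1 hb)
    have hu2 : ⁅x, b⁆ ∈ centralizer (B : Set G) := hB2 (commutator_mem_commutator hxAB.2 hb)
    refine ⟨hu1, fun y hy b' hb' => ?_⟩
    set u := ⁅x, b⁆
    set w := ⁅b', y⁆ with hw
    have hwAB : w ∈ A ⊓ B := hABA (commutator_comm A B ▸ commutator_mem_commutator hb' hy)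
    have hbu : b' * u * b'⁻¹ = u := by rw [mem_centralizer_iff.mp hu2 b' hb', mul_inv_cancel_right]
    have hwu : w * u = u * w := mem_centralizer_iff.mp hu2 w hwAB.2
    have hz := (hA.comm u hu1 y (hA.le hy)).2
    rw [← mul_inv_eq_iff_eq_mul]
    have e : b' * ⁅u, y⁆ * b'⁻¹ = ⁅b' * u * b'⁻¹, w * y⁆ := by
      simp only [hw, commutatorElement_def]; group
    have e2 : ⁅u, w * y⁆ = u * w * u⁻¹ * ⁅u, y⁆ * w⁻¹ := by simp only [commutatorElement_def]; group
    rw [e, hbu, e2, ← hwu, mul_inv_cancel_right, mem_centralizer_iff.mp hz w hwAB.1, mul_inv_cancel_right]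
  -- conclusion in `G1`
  have hG1r : G1 ≤ normalizer (rad : Set G) := sup_le hradC hradB
  haveI : (rad.subgroupOf G1).Normal := (normal_subgroupOf_iff_le_normalizer
    (hradA.trans (hAC.trans le_sup_left))).mpr hG1r
  haveI : (A.subgroupOf G1).Normal := inferInstance
  have hAG1 : A ≤ G1 := hAC.trans le_sup_left
  have hBG1 : B ≤ G1 := le_sup_right
  have hmap : ∀ X : Subgroup G, X ≤ G1 → (X.subgroupOf G1).map G1.subtype = X := fun X hX =>
    map_subgroupOf_eq_of_le hX
  have hcore : B.subgroupOf G1 ≤ pCore p G1 := by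
    refine le_pCore_of_quad_series (hst.subgroup G1) (rad.subgroupOf G1) (A.subgroupOf G1)
      (fun x hx => hradA hx) (hA.isPGroup.of_equiv (subgroupOfEquivOfLe hAG1).symm) ?_ _
      (hBp.of_equiv (subgroupOfEquivOfLe hBG1).symm) ?_ ?_
    · rintro ⟨c, hc⟩
      have hc' : (c : G) ∈ centralizer (A : Set G) := mem_centralizer_iff.mpr fun a ha =>
        congrArg Subtype.val (mem_centralizer_iff.mp hc ⟨a, hAG1 ha⟩ ha)
      obtain ⟨k, hk⟩ := hA.pgroup ⟨_, hc'⟩
      exact ⟨k, Subtype.ext (Subtype.ext (by simpa using congrArg Subtype.val hk))⟩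
    · rw [← map_le_map_iff_of_injective G1.subtype_injective, map_commutator, map_commutator,
        hmap _ hAG1, hmap _ hBG1, hmap _ (hradA.trans hAG1)]
      exact hABB
    · rw [← map_eq_bot_iff_of_injective _ G1.subtype_injective, map_commutator, map_commutator,
        hmap _ hBG1, hmap _ (hradA.trans hAG1)]
      exact hradq
  haveI := pCore_characteristic p G1
  refine le_trans ?_ (le_pCore_of_isSubnormal
    (IsSubnormal.trans' (Normal.isSubnormal (inferInstance : (pCore p G1).Normal)) hsub)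
    ((isPGroup_pCore p G1).map _))
  rw [← hmap _ hBG1]
  exact map_mono hcore

/-- Every term after the initial one lies in the `p`-core. -/
theorem seq_le_pCore (S : Sylow p G) :
    ∀ n, seqE (S : Subgroup G) n ≤ pCore p G ∧ seqO (S : Subgroup G) (n + 1) ≤ pCore p G := by
  haveI := hA.normal
  have hAS : A ≤ (S : Subgroup G) := hA.le.trans (pCore_le_sylow S)
  have hAE : ∀ n, A ≤ seqE (S : Subgroup G) n := fun n =>
    le_sSup (crit_mem_lo hst hA S (seqO_le _ n))
  have hO : ∀ n, seqO (S : Subgroup G) (n + 1) ≤ pCore p G := fun n => by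
    rw [seqO_succ]
    exact sSup_le fun B hB => upper_le_pCore hst hA S (hAE n) hB
  intro n
  refine ⟨?_, hO n⟩
  induction n with
  | zero => exact sSup_le fun B hB => lower_le_pCore hst hA S (U := (S : Subgroup G)) hAS le_rfl hB
  | succ n ih =>
    have hAU : A ≤ seqO (S : Subgroup G) (n + 1) := by
      rw [seqO_succ]
      refine le_sSup ⟨hAS, hA.classTwo, commutator_le.mpr fun a ha l hl => hA.comm a ha l (ih hl)⟩
    exact sSup_le fun B hB => lower_le_pCore hst hA S hAU (seqO_le _ _) hB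

end Main

/-- Glauberman's theorem: both K-infinity subgroups of a Sylow subgroup are normal. -/
theorem kInf_normal {G : Type u} [Group G] [Finite G] (hst : StabSec p G)
    (hc : centralizer (pCore p G : Set G) ≤ pCore p G) (S : Sylow p G) :
    (kLo (S : Subgroup G)).Normal ∧ (kUp (S : Subgroup G)).Normal := by
  obtain ⟨A, hA⟩ := exists_crit hc
  have h := seq_le_pCore hst hA S
  rw [← kLo_eq_of_contains (pCore_le_sylow S) (h 0).2 fun n => (h n).1,
    ← kUp_eq_of_contains (pCore_le_sylow S) (h 0).2 fun n => (h n).1]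
  have hmap : ∀ g : G, (pCore p G).map (MulAut.conj g).toMonoidHom = pCore p G := fun g =>
    mem_normalizer_iff_map_conj_eq.mp (by rw [normalizer_eq_top]; trivial)
  constructor <;> rw [← normalizer_eq_top_iff, eq_top_iff] <;> intro g _ <;>
    rw [mem_normalizer_iff_map_conj_eq]
  · exact (kLo_map _ (MulAut.conj g).injective _).symm.trans (congrArg kLo (hmap g))
  · exact (kUp_map _ (MulAut.conj g).injective _).symm.trans (congrArg kUp (hmap g))

end Cfsg.Agent.Solv.KInf
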