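import Cfsg.Agent.Lib.Solv.KFourStep
import Cfsg.Agent.Lib.Solv.KApps
import Cfsg.Prelude.Def_Amalgam

/-!
The K-infinity subgroups satisfy the hypotheses of the local-to-global criteria.
-/

set_option autoImplicit false
set_option linter.unusedSectionVars false
set_option linter.style.haveILetI false

universe u

namespace Cfsg.Agent.Solv.KInf

open Subgroup
open scoped commutatorElement

variable {G : Type u} [Group G] [Finite G] {p : ℕ} [Fact p.Prime]

/-- An offending element when one of the K-infinity subgroups is not normal. -/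
theorem exists_offender_of (S : Sylow p G) (hK : ¬ (inducedFunctor kInfLower (S : Subgroup G)).Normal ∨
    ¬ (inducedFunctor kInfUpper (S : Subgroup G)).Normal) :
    ∃ g : G, g ∈ (S : Subgroup G) ∧ g ∉ pCore p G ∧
      (∀ U V : Subgroup G, IsChiefFactor U V → U ≤ pCore p G → iterCommutator U (zpowers g) 4 ≤ V) ∧
      ⁅⁅pCore p G ⊓ centralizer (pCore p G : Set G), zpowers g⁆, zpowers g⁆ = ⊥ := by
  obtain ⟨H, hH, -, hH3, hH4⟩ := Fusion.exists_critical (isPGroup_pCore p G)
  haveI := hH
  haveI := pCore_characteristic p G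
  set A := H.map (pCore p G).subtype with hA
  haveI hAn : A.Normal := inferInstance
  have hpre : PreCrit p G A := by
    refine ⟨hAn, map_subtype_le _, ?_⟩
    rintro _ ⟨a, ha, rfl⟩ q hq
    obtain ⟨h1, h2⟩ := hH3 a ha ⟨q, hq⟩
    refine ⟨⟨_, h1, rfl⟩, mem_centralizer_iff.mpr ?_⟩
    rintro _ ⟨b, hb, rfl⟩
    exact (congrArg Subtype.val (h2 b hb)).symm
  have hself : pCore p G ⊓ centralizer (A : Set G) ≤ A := by
    rintro x ⟨hxQ, hxA⟩
    refine ⟨⟨x, hxQ⟩, hH4 (mem_centralizer_iff.mpr fun b hb => Subtype.ext ?_), rfl⟩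
    exact mem_centralizer_iff.mp hxA _ (mem_map_of_mem (pCore p G).subtype hb)
  obtain ⟨T, hTS, hgood, hTQ⟩ := exists_good hpre S hK
  obtain ⟨g, hg, hgQ⟩ := SetLike.not_le_iff_exists.mp hTQ
  have hz := zpowers_le.mpr hg
  have hq : ⁅⁅A ⊓ centralizer (A : Set G), zpowers g⁆, zpowers g⁆ = ⊥ :=
    le_bot_iff.mp ((commutator_mono (commutator_mono le_rfl hz) hz).trans hgood.quad.le)
  have hc : iterCommutator A (zpowers g) 3 ≤ A ⊓ centralizer (A : Set G) :=
    (commutator_mono (commutator_mono (commutator_mono le_rfl hz) hz) hz).trans hgood.cubic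
  refine ⟨g, hTS hg, hgQ, fun U V hUV hU => iterCommutator_le_chief (four_below_pCore hpre hself hq hc) hUV hU,
    le_bot_iff.mp ((commutator_mono (commutator_mono ?_ le_rfl) le_rfl).trans hq.le)⟩
  intro x hx
  have hxA : x ∈ centralizer (A : Set G) := centralizer_le (SetLike.coe_subset_coe.mpr hpre.le) hx.2
  exact ⟨hself ⟨hx.1, hxA⟩, hxA⟩

theorem exists_offender (S : Sylow p G) (hK : ¬ (inducedFunctor kInfLower (S : Subgroup G)).Normal) :
    ∃ g : G, g ∈ (S : Subgroup G) ∧ g ∉ pCore p G ∧
      (∀ U V : Subgroup G, IsChiefFactor U V → U ≤ pCore p G → iterCommutator U (zpowers g) 4 ≤ V) ∧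
      ⁅⁅pCore p G ⊓ centralizer (pCore p G : Set G), zpowers g⁆, zpowers g⁆ = ⊥ :=
  exists_offender_of S (Or.inl hK)

theorem isConjugacyFunctor_kInfLower : IsConjugacyFunctor p (inducedFunctor (G := G) kInfLower) :=
  Local.FusionRed.isConjugacyFunctor_induced isCharPFunctor_kInfLower

theorem center_le_inducedFunctor (P : Subgroup G) :
    P ⊓ centralizer (P : Set G) ≤ inducedFunctor kInfLower P := fun x hx =>
  ⟨⟨x, hx.1⟩, center_le_kInfLower P (mem_center_iff.mpr fun y =>
    Subtype.ext (mem_centralizer_iff.mp hx.2 y y.2)), rfl⟩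

theorem exists_offender_local (H T : Subgroup G) (hTH : T ≤ H) (hTp : IsPGroup p T) (hidx : ¬ p ∣ T.relIndex H)
    (hn : ¬ H ≤ normalizer ((inducedFunctor kInfLower T : Subgroup G) : Set G)) :
    ∃ g : G, g ∈ T ∧ g ∉ pCoreOf p H ∧
      ⁅⁅pCoreOf p H ⊓ centralizer ((pCoreOf p H : Subgroup G) : Set G), zpowers g⁆, zpowers g⁆ = ⊥ := by
  let R : Sylow p H := (hTp.comap_subtype).toSylow hidx
  have hR : (R : Subgroup H) = T.subgroupOf H := rfl
  have hmap : (R : Subgroup H).map H.subtype = T := by rw [hR]; exact map_subgroupOf_eq_of_le hTH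
  have hnR : ¬ (inducedFunctor kInfLower (R : Subgroup H)).Normal := fun hN => hn (by
    have e : inducedFunctor kInfLower T = (inducedFunctor kInfLower (R : Subgroup H)).map H.subtype := by
      rw [inducedFunctor_kInfLower, inducedFunctor_kInfLower, ← kLo_map _ H.subtype_injective, hmap]
    rw [e]
    calc H = (⊤ : Subgroup H).map H.subtype := by rw [← MonoidHom.range_eq_map, range_subtype]
      _ ≤ (normalizer ((inducedFunctor kInfLower (R : Subgroup H)) : Set H)).map H.subtype :=
          map_mono (normalizer_eq_top_iff.mpr hN).ge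
      _ ≤ _ := le_normalizer_map H.subtype)
  obtain ⟨g, hgT, hgQ, -, hq⟩ := exists_offender R hnR
  refine ⟨g, hR.le hgT, ?_, ?_⟩
  · rintro ⟨y, hy, hye⟩
    exact hgQ (by rwa [← Subtype.ext hye])
  · have e : pCoreOf p H ⊓ centralizer ((pCoreOf p H : Subgroup G) : Set G) =
        (pCore p H ⊓ centralizer (pCore p H : Set H)).map H.subtype :=
      map_inf_centralizer H.subtype H.subtype_injective _
    rw [e, show zpowers (g : G) = (zpowers g).map H.subtype from (MonoidHom.map_zpowers H.subtype g).symm,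
      ← map_commutator, ← map_commutator, hq, Subgroup.map_bot]

theorem center_le_kInfUpper (Q : Type u) [Group Q] : center Q ≤ kInfUpper Q := by
  have hab : IsMulCommutative (center Q) :=
    ⟨⟨fun x y => Subtype.ext ((mem_center_iff.mp y.2) x)⟩⟩
  rw [← kUp_top]
  refine le_iInf fun n => ?_
  cases n with
  | zero => exact le_top
  | succ n =>
    haveI := hab
    rw [seqO_succ]
    refine le_sSup ⟨le_top, (commutator_le_self _).trans (le_centralizer _), ?_⟩
    rw [inf_eq_left.2 (le_centralizer (center Q))]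
    exact commutator_le_left _ _

theorem isCharPFunctor_kInfUpper : IsCharPFunctor.{u} p kInfUpper := by
  refine ⟨fun Q _ _ hQ _ h => ?_, fun Q R _ _ _ _ φ => ?_⟩
  · haveI := hQ.center_nontrivial
    exact (center Q).nontrivial_iff_ne_bot.mp inferInstance
      (le_bot_iff.mp ((center_le_kInfUpper Q).trans h.le))
  · rw [← kUp_top, ← kUp_top, ← kUp_map φ.toMonoidHom φ.injective,
      map_top_of_surjective _ φ.surjective]

theorem isFam_kInfUpper : Local.FusionRed.IsFam p ({kInfUpper.{u}} : Set (∀ (Q : Type u) [Group Q], Subgroup Q)) :=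
  fun W hW => by
    rw [Set.mem_singleton_iff] at hW
    subst hW
    exact isCharPFunctor_kInfUpper

theorem controls_kInfUpper (hst : StabSec p G) (S : Sylow p G) :
    ControlsStrongFusion p (inducedFunctor kInfUpper (S : Subgroup G)) := by
  refine Local.FusionRed.controlsStrongFusion_of_ctrlAt S (Local.FusionRed.ctrl_of_hyp isFam_kInfUpper G ?_ S)
  intro X _ _ hX hC T
  refine Local.FusionRed.ctrlAt_of_normal isFam_kInfUpper (Set.mem_singleton kInfUpper.{u}) T ?_
  rw [inducedFunctor_kInfUpper]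
  exact (kInf_normal (fun Y _ _ hY => hst Y (hY.trans hX)) hC T).2

/-- An element of small degree on the chief factors when a K-infinity subgroup is not normal. -/
theorem exists_engel (hp : 5 ≤ p) (S : Sylow p G) (hK : ¬ (inducedFunctor kInfLower (S : Subgroup G)).Normal ∨
    ¬ (inducedFunctor kInfUpper (S : Subgroup G)).Normal) :
    ∃ g : G, g ∈ (S : Subgroup G) ∧ g ∉ pCore p G ∧
      ∀ U V : Subgroup G, IsChiefFactor U V → U ≤ pCore p G → iterCommutator U (zpowers g) (p - 1) ≤ V := by
  obtain ⟨g, hgT, hgQ, h4, -⟩ := exists_offender_of S hK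
  refine ⟨g, hgT, hgQ, fun U V hUV hU => ?_⟩
  obtain ⟨j, hj⟩ := Nat.exists_eq_add_of_le (show 4 ≤ p - 1 by omega)
  rw [hj]
  clear hj
  induction j with
  | zero => exact h4 U V hUV hU
  | succ j ih =>
    haveI := hUV.2.2.1
    exact (commutator_mono ih le_rfl).trans (commutator_le_left V _)

end Cfsg.Agent.Solv.KInf
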