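import Cfsg.Agent.Lib.Solv.KSeq
import Cfsg.Agent.Lib.Fusion.Critical
import Cfsg.Agent.Lib.Solv.NormalPComplement
import Cfsg.Agent.Lib.Solv.ZJ
import Cfsg.Agent.Lib.Solv.SchurZassenhaus

/-!
Maximal members of the families of the K-sequence are self-centralizing.
-/

set_option autoImplicit false
set_option linter.unusedSectionVars false
set_option linter.style.haveILetI false

universe u v

namespace Cfsg.Agent.Solv.KInf

open Subgroup
open scoped commutatorElement Pointwise

variable {P : Type v} [Group P] [Finite P] {p : ℕ} [Fact p.Prime]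

theorem normalizer_le_normalizer_cent (B : Subgroup P) :
    normalizer (B : Set P) ≤ normalizer ((centralizer (B : Set P) : Subgroup P) : Set P) := by
  refine le_normalizer_of_conj_mem fun g hg x hx => mem_centralizer_iff.mpr fun b hb => ?_
  have h := mem_centralizer_iff.mp hx _ ((mem_normalizer_iff''.mp hg b).mp hb)
  calc b * (g * x * g⁻¹) = g * (g⁻¹ * b * g * x) * g⁻¹ := by group
    _ = g * (x * (g⁻¹ * b * g)) * g⁻¹ := by rw [h]
    _ = g * x * g⁻¹ * b := by group

theorem exists_extension (hP : IsPGroup p P) {B U : Subgroup P} (hU : U ≤ normalizer (B : Set P))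
    (hnot : ¬ centralizer (B : Set P) ≤ B) :
    ∃ x ∈ centralizer (B : Set P), x ∉ B ∧ ∀ u ∈ U, ⁅x, u⁆ ∈ B ⊓ centralizer (B : Set P) := by
  set W := centralizer (B : Set P) with hW
  set K := W ⊔ U with hK
  have hWB : W ≤ normalizer (B : Set P) := centralizer_le_normalizer _
  have hKB : K ≤ normalizer (B : Set P) := sup_le hWB hU
  have hKW : K ≤ normalizer (W : Set P) := hKB.trans (normalizer_le_normalizer_cent _)
  set Z := B ⊓ W with hZ
  have hKZ : K ≤ normalizer (Z : Set P) := (le_inf hKB hKW).trans inf_normalizer_le_normalizer_inf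
  haveI : (Z.subgroupOf K).Normal :=
    (normal_subgroupOf_iff_le_normalizer (inf_le_right.trans le_sup_left)).mpr hKZ
  haveI : (W.subgroupOf K).Normal := (normal_subgroupOf_iff_le_normalizer le_sup_left).mpr hKW
  set π := QuotientGroup.mk' (Z.subgroupOf K) with hπ
  haveI : ((W.subgroupOf K).map π).Normal := Normal.map inferInstance _ (QuotientGroup.mk'_surjective _)
  haveI := ((hP.to_subgroup K).to_quotient (Z.subgroupOf K)).isNilpotent
  have hne : (W.subgroupOf K).map π ≠ ⊥ := by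
    rw [Ne, Subgroup.map_eq_bot_iff, QuotientGroup.ker_mk']
    intro h
    apply hnot
    intro w hw
    exact (h (show (⟨w, mem_sup_left hw⟩ : K) ∈ W.subgroupOf K from hw)).1
  have hint := Solv.inf_center_ne_bot ((W.subgroupOf K).map π) hne
  obtain ⟨y, ⟨⟨x, hx, rfl⟩, hyc⟩, hy1⟩ :
      ∃ y, y ∈ (W.subgroupOf K).map π ⊓ center (K ⧸ Z.subgroupOf K) ∧ y ≠ 1 := by
    by_contra hno
    push Not at hno
    exact hint ((eq_bot_iff_forall _).mpr hno)
  refine ⟨x, hx, fun hxB => hy1 ((QuotientGroup.eq_one_iff _).mpr ⟨hxB, hx⟩), fun u hu => ?_⟩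
  have h1 : π ⁅x, (⟨u, mem_sup_right hu⟩ : K)⁆ = 1 := by
    rw [map_commutatorElement, commutatorElement_eq_one_iff_mul_comm]
    exact (mem_center_iff.mp hyc _).symm
  exact (QuotientGroup.eq_one_iff (N := Z.subgroupOf K) _).mp h1

theorem classTwo_sup {B : Subgroup P} (hB : B ∈ classTwoSubgroups P) {x : P} (hx : x ∈ centralizer (B : Set P)) :
    B ⊔ zpowers x ∈ classTwoSubgroups P ∧
      B ⊓ centralizer (B : Set P) ≤ (B ⊔ zpowers x) ⊓ centralizer ((B ⊔ zpowers x : Subgroup P) : Set P) ∧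
      x ∈ centralizer ((B ⊔ zpowers x : Subgroup P) : Set P) := by
  set B1 := B ⊔ zpowers x with hB1
  have hxz : zpowers x ≤ centralizer (B1 : Set P) := by
    rw [le_centralizer_iff, hB1, sup_le_iff]
    refine ⟨le_centralizer_iff.mp (zpowers_le.mpr hx), ?_⟩
    exact le_centralizer (zpowers x)
  have hZ : B ⊓ centralizer (B : Set P) ≤ B1 ⊓ centralizer (B1 : Set P) := by
    refine le_inf (inf_le_left.trans le_sup_left) ?_
    rw [le_centralizer_iff, hB1, sup_le_iff]
    refine ⟨le_centralizer_iff.mp inf_le_right, zpowers_le.mpr ?_⟩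
    exact mem_centralizer_iff.mpr fun b hb => (mem_centralizer_iff.mp hx b hb.1)
  refine ⟨?_, hZ, hxz (mem_zpowers x)⟩
  change ⁅B1, B1⁆ ≤ centralizer (B1 : Set P)
  rw [commutator_le]
  intro a ha b hb
  have hxc : ∀ z ∈ B1, z * x = x * z := fun z hz => mem_centralizer_iff.mp (hxz (mem_zpowers x)) z hz
  have hdec : ∀ a ∈ B1, ∃ a' ∈ B, ∀ z ∈ B1, ⁅a, z⁆ = ⁅a', z⁆ ∧ ⁅z, a⁆ = ⁅z, a'⁆ := by
    intro a ha
    have hn : zpowers x ≤ normalizer (B : Set P) := zpowers_le.mpr (centralizer_le_normalizer _ hx)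
    obtain ⟨a', ha', w, hw, rfl⟩ : a ∈ (B : Set P) * (zpowers x : Set P) := by
      rw [← coe_mul_of_right_le_normalizer_left B (zpowers x) hn]
      exact ha
    refine ⟨a', ha', fun z hz => ?_⟩
    have hwz : w * z = z * w := (mem_centralizer_iff.mp (hxz hw) z hz).symm
    constructor
    · simp only [commutatorElement_def]
      calc a' * w * z * (a' * w)⁻¹ * z⁻¹ = a' * (w * z) * w⁻¹ * a'⁻¹ * z⁻¹ := by group
        _ = _ := by rw [hwz]; group
    · simp only [commutatorElement_def]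
      calc z * (a' * w) * z⁻¹ * (a' * w)⁻¹ = z * a' * (w * z⁻¹) * w⁻¹ * a'⁻¹ := by group
        _ = _ := by
          rw [show w * z⁻¹ = z⁻¹ * w from (show Commute w z from hwz).inv_right.eq]; group
  obtain ⟨a', ha', hae⟩ := hdec a ha
  obtain ⟨b', hb', hbe⟩ := hdec b hb
  rw [(hae b hb).1, (hbe a' (mem_sup_left ha')).2]
  exact (hZ ⟨B.mul_mem (B.mul_mem (B.mul_mem ha' hb') (B.inv_mem ha')) (B.inv_mem hb'),
    hB (commutator_mem_commutator ha' hb')⟩).2

theorem sup_commutator_le {B A Z : Subgroup P} {x : P} (hBA : ∀ b ∈ B, ∀ a ∈ A, ⁅b, a⁆ ∈ Z)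
    (hxA : ∀ a ∈ A, ⁅x, a⁆ ∈ Z) (hBn : B ⊔ zpowers x ≤ normalizer (Z : Set P)) :
    ⁅B ⊔ zpowers x, A⁆ ≤ Z := by
  rw [commutator_le]
  intro b hb a ha
  let T : Subgroup P :=
    { carrier := {b | b ∈ B ⊔ zpowers x ∧ ∀ a ∈ A, ⁅b, a⁆ ∈ Z}
      one_mem' := ⟨one_mem _, fun a _ => by simp⟩
      mul_mem' := fun {u v} hu hv => ⟨mul_mem hu.1 hv.1, fun a ha => by
        have e : ⁅u * v, a⁆ = u * ⁅v, a⁆ * u⁻¹ * ⁅u, a⁆ := by simp only [commutatorElement_def]; group
        rw [e]
        exact Z.mul_mem ((mem_normalizer_iff.mp (hBn hu.1) _).mp (hv.2 a ha)) (hu.2 a ha)⟩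
      inv_mem' := fun {u} hu => ⟨inv_mem hu.1, fun a ha => by
        have e : ⁅u⁻¹, a⁆ = u⁻¹ * ⁅u, a⁆⁻¹ * u := by simp only [commutatorElement_def]; group
        rw [e]
        exact (mem_normalizer_iff''.mp (hBn hu.1) _).mp (Z.inv_mem (hu.2 a ha))⟩ }
  have hle : B ⊔ zpowers x ≤ T := sup_le (fun y hy => ⟨mem_sup_left hy, hBA y hy⟩)
    (zpowers_le.mpr ⟨mem_sup_right (mem_zpowers x), hxA⟩)
  exact (hle hb).2 a ha

theorem centralizer_le_of_maximal_classTwo {B : Subgroup P} (hB : B ∈ classTwoSubgroups P)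
    (hmax : ∀ C ∈ classTwoSubgroups P, B ≤ C → C = B) : centralizer (B : Set P) ≤ B := fun x hx => by
  have h := hmax _ (classTwo_sup hB hx).1 le_sup_left
  exact h.le (mem_sup_right (mem_zpowers x))

theorem centralizer_le_of_maximal_lower (hP : IsPGroup p P) {B U : Subgroup P}
    (hB : B ∈ kLowerStarFamily U) (hmax : ∀ C ∈ kLowerStarFamily U, B ≤ C → C = B) :
    centralizer (B : Set P) ≤ B := by
  by_contra hnot
  obtain ⟨x, hx, hxB, hxU⟩ := exists_extension hP hB.2.1 hnot
  obtain ⟨h2, hZ, hxc⟩ := classTwo_sup hB.1 hx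
  have hBn : B ⊔ zpowers x ≤ normalizer ((B ⊓ centralizer (B : Set P) : Subgroup P) : Set P) := by
    refine sup_le ((le_inf le_normalizer ((le_normalizer (H := B)).trans (normalizer_le_normalizer_cent _))).trans
      inf_normalizer_le_normalizer_inf) (zpowers_le.mpr ?_)
    exact inf_normalizer_le_normalizer_inf ⟨centralizer_le_normalizer _ hx, le_normalizer hx⟩
  refine hxB ((hmax _ ⟨h2, ?_, fun A hA hAU hBA h1 hq => ?_⟩ le_sup_left).le (mem_sup_right (mem_zpowers x)))
  · refine le_normalizer_of_conj_mem fun u hu y hy => ?_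
    have hle : B ⊔ zpowers x ≤ (B ⊔ zpowers x).comap (MulAut.conj u).toMonoidHom := by
      refine sup_le (fun b hb => mem_sup_left ((mem_normalizer_iff.mp (hB.2.1 hu) b).mp hb)) (zpowers_le.mpr ?_)
      change u * x * u⁻¹ ∈ B ⊔ zpowers x
      have e : u * x * u⁻¹ = ⁅x, u⁆⁻¹ * x := by simp only [commutatorElement_def]; group
      rw [e]
      exact mul_mem (inv_mem (mem_sup_left (hxU u hu).1)) (mem_sup_right (mem_zpowers x))
    exact hle hy
  · refine le_trans (sup_commutator_le (fun b hb a ha => ?_) (fun a ha => hxU a (hAU ha)) hBn) hZ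
    refine hB.2.2 A hA hAU (le_sup_left.trans hBA) ?_ ?_ (commutator_mem_commutator hb ha)
    · exact le_bot_iff.mp ((commutator_mono le_sup_left le_rfl).trans h1.le)
    · exact le_bot_iff.mp ((commutator_mono (commutator_mono hZ le_rfl) le_rfl).trans hq.le)

theorem centralizer_le_of_maximal_upper (hP : IsPGroup p P) {B L : Subgroup P}
    (hB : B ∈ kUpperStarFamily L) (hmax : ∀ C ∈ kUpperStarFamily L, B ≤ C → C = B) :
    centralizer (B : Set P) ≤ B := by
  by_contra hnot
  have hLB : L ≤ normalizer (B : Set P) := le_normalizer_iff_commutator_le_left.mpr (hB.2.trans inf_le_left)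
  obtain ⟨x, hx, hxB, hxU⟩ := exists_extension hP hLB hnot
  obtain ⟨h2, hZ, hxc⟩ := classTwo_sup hB.1 hx
  have hBn : B ⊔ zpowers x ≤ normalizer ((B ⊓ centralizer (B : Set P) : Subgroup P) : Set P) := by
    refine sup_le ((le_inf le_normalizer ((le_normalizer (H := B)).trans (normalizer_le_normalizer_cent _))).trans
      inf_normalizer_le_normalizer_inf) (zpowers_le.mpr ?_)
    exact inf_normalizer_le_normalizer_inf ⟨centralizer_le_normalizer _ hx, le_normalizer hx⟩
  refine hxB ((hmax _ ⟨h2, ?_⟩ le_sup_left).le (mem_sup_right (mem_zpowers x)))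
  exact le_trans (sup_commutator_le (fun b hb a ha => hB.2 (commutator_mem_commutator hb ha)) hxU hBn) hZ

theorem centralizer_seqE_le (hP : IsPGroup p P) (n : ℕ) :
    centralizer (kSeqEven P n : Set P) ≤ kSeqEven P n := by
  have hbot : (⊥ : Subgroup P) ∈ kLowerStarFamily (kSeqOdd P n) := by
    refine ⟨(commutator_bot_left _).le.trans bot_le, le_normalizer_of_normal, fun A _ _ _ _ _ => ?_⟩
    rw [commutator_bot_left]
    exact bot_le
  obtain ⟨B, hB, hmax⟩ := (Set.toFinite (kLowerStarFamily (kSeqOdd P n))).exists_maximal ⟨⊥, hbot⟩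
  have hc := centralizer_le_of_maximal_lower hP hB fun C hC hBC => le_antisymm (hmax hC hBC) hBC
  have hBle : B ≤ kSeqEven P n := le_sSup hB
  exact ((centralizer_le hBle).trans hc).trans hBle

theorem centralizer_seqO_le (hP : IsPGroup p P) :
    ∀ n, centralizer (kSeqOdd P n : Set P) ≤ kSeqOdd P n
  | 0 => le_top
  | n + 1 => by
    have hbot : (⊥ : Subgroup P) ∈ kUpperStarFamily (kSeqEven P n) := by
      refine ⟨(commutator_bot_left _).le.trans bot_le, ?_⟩
      rw [commutator_bot_left]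
      exact bot_le
    obtain ⟨B, hB, hmax⟩ := (Set.toFinite (kUpperStarFamily (kSeqEven P n))).exists_maximal ⟨⊥, hbot⟩
    have hc := centralizer_le_of_maximal_upper hP hB fun C hC hBC => le_antisymm (hmax hC hBC) hBC
    have hBle : B ≤ kSeqOdd P (n + 1) := le_sSup hB
    exact ((centralizer_le hBle).trans hc).trans hBle

theorem centralizer_kInfLower_le (hP : IsPGroup p P) : centralizer (kInfLower P : Set P) ≤ kInfLower P :=
  ((centralizer_le (le_iSup (kSeqEven P) 0 : kSeqEven P 0 ≤ kInfLower P)).trans (centralizer_seqE_le hP 0)).trans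
    (le_iSup (kSeqEven P) 0)

/-- If every element of order prime to `p` of `N(K)` centralizes `K`, then `N(K)` has a normal
`p`-complement. -/
theorem npc_normalizer_of_centralizing {G : Type u} [Group G] [Finite G] (S : Sylow p G) {K : Subgroup G}
    (hKS : K ≤ (S : Subgroup G)) (hSK : (S : Subgroup G) ≤ normalizer (K : Set G))
    (hCK : (S : Subgroup G) ⊓ centralizer (K : Set G) ≤ K)
    (h : ∀ g ∈ normalizer (K : Set G), (orderOf g).Coprime p → g ∈ centralizer (K : Set G)) :
    HasNormalPComplement p (normalizer (K : Set G)) := by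
  set N := normalizer (K : Set G) with hN
  set C := (centralizer (K : Set G)).subgroupOf N with hC
  haveI hCn : C.Normal := by
    refine ⟨fun c hc n => mem_centralizer_iff.mpr fun k hk => ?_⟩
    have h1 : (n : G)⁻¹ * k * (n : G) * (c : G) = (c : G) * ((n : G)⁻¹ * k * (n : G)) :=
      mem_centralizer_iff.mp hc _ ((mem_normalizer_iff''.mp n.2 k).mp hk)
    calc k * ((n : G) * (c : G) * (n : G)⁻¹) = (n : G) * ((n : G)⁻¹ * k * (n : G) * (c : G)) * (n : G)⁻¹ := by group
      _ = (n : G) * ((c : G) * ((n : G)⁻¹ * k * (n : G))) * (n : G)⁻¹ := by rw [h1]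
      _ = (n : G) * (c : G) * (n : G)⁻¹ * k := by group
  let SN : Sylow p N := S.subtype hSK
  obtain ⟨PC, hPC⟩ := ZJ.exists_sylow_inf SN C
  have hcent : ∀ x ∈ (PC : Subgroup C), ∀ c : C, x * c = c * x := by
    intro x hx c
    have h1 : (x : N) ∈ (SN : Subgroup N) ⊓ C := hPC.le (mem_map_of_mem C.subtype hx)
    have h2 : ((x : N) : G) ∈ K := hCK ⟨h1.1, h1.2⟩
    exact Subtype.ext (Subtype.ext (mem_centralizer_iff.mp c.2 _ h2))
  have hnpcC : HasNormalPComplement p C := by
    exact hasNormalPComplement_of_burnside PC fun c _ => mem_centralizer_iff.mpr fun x hx => hcent x hx c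
  set D := (pPrimeCore p C).map C.subtype with hD
  haveI := pPrimeCore_characteristic p C
  haveI hDn : D.Normal := inferInstance
  have hDc : (Nat.card D).Coprime p := by
    rw [hD, card_map_of_injective C.subtype_injective]
    exact card_pPrimeCore_coprime p C
  have hall : ∀ g : N, (orderOf g).Coprime p → g ∈ D := by
    intro g hg
    have hgC : g ∈ C := h g g.2 (by rwa [Subgroup.orderOf_coe])
    refine ⟨⟨g, hgC⟩, mem_pPrimeCore_of_orderOf_coprime hnpcC ?_, rfl⟩
    rwa [← Subgroup.orderOf_coe]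
  have hquot : IsPGroup p (N ⧸ D) := by
    intro y
    obtain ⟨g, rfl⟩ := QuotientGroup.mk_surjective y
    obtain ⟨v, m, hm, hvm⟩ := Nat.exists_eq_pow_mul_and_not_dvd (orderOf_pos g).ne' p (Fact.out : p.Prime).ne_one
    refine ⟨v, ?_⟩
    rw [← QuotientGroup.mk_pow, QuotientGroup.eq_one_iff]
    refine hall _ ?_
    rw [orderOf_pow, hvm, Nat.gcd_mul_right_left, Nat.mul_div_cancel_left _ (pow_pos (Fact.out : p.Prime).pos v)]
    exact ((Fact.out : p.Prime).coprime_iff_not_dvd.mpr hm).symm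
  obtain ⟨k, hk⟩ := IsPGroup.iff_card.mp hquot
  exact hasNormalPComplement_of_normal D hDc ⟨k, hk⟩

end Cfsg.Agent.Solv.KInf
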