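import Cfsg.Agent.Lib.Solv.Basic
import Cfsg.Prelude.Def_ConjugacyFunctors

/-!
The K-sequence of a subgroup, computed inside the ambient group.
-/

set_option autoImplicit false
set_option linter.unusedSectionVars false

universe u v

namespace Cfsg.Agent.Solv.KInf

open Subgroup
open scoped commutatorElement

variable {G : Type u} [Group G]

/-- Members of the lower family inside `S`. -/
def lo (S Q : Subgroup G) : Set (Subgroup G) := {B | B ≤ S ∧ B ∈ kLowerStarFamily Q}

/-- Members of the upper family inside `S`. -/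
def up (S Q : Subgroup G) : Set (Subgroup G) := {B | B ≤ S ∧ B ∈ kUpperStarFamily Q}

/-- The odd terms. -/
def seqO (S : Subgroup G) : ℕ → Subgroup G
  | 0 => S
  | n + 1 => sSup (up S (sSup (lo S (seqO S n))))

/-- The even terms. -/
def seqE (S : Subgroup G) (n : ℕ) : Subgroup G := sSup (lo S (seqO S n))

/-- The lower limit. -/
def kLo (S : Subgroup G) : Subgroup G := ⨆ n, seqE S n

/-- The upper limit. -/
def kUp (S : Subgroup G) : Subgroup G := ⨅ n, seqO S n

theorem seqO_succ (S : Subgroup G) (n : ℕ) : seqO S (n + 1) = sSup (up S (seqE S n)) := rfl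

theorem seqE_le (S : Subgroup G) (n : ℕ) : seqE S n ≤ S := sSup_le fun _ h => h.1

theorem seqO_le (S : Subgroup G) : ∀ n, seqO S n ≤ S
  | 0 => le_rfl
  | _ + 1 => sSup_le fun _ h => h.1

theorem lo_antitone (S : Subgroup G) {Q R : Subgroup G} (h : Q ≤ R) : lo S R ⊆ lo S Q := fun _ hB =>
  ⟨hB.1, hB.2.1, h.trans hB.2.2.1, fun A hA hAQ => hB.2.2.2 A hA (hAQ.trans h)⟩

theorem up_antitone (S : Subgroup G) {Q R : Subgroup G} (h : Q ≤ R) : up S R ⊆ up S Q := fun _ hB =>
  ⟨hB.1, hB.2.1, (commutator_mono le_rfl h).trans hB.2.2⟩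

theorem seqO_antitone (S : Subgroup G) : ∀ n, seqO S (n + 1) ≤ seqO S n
  | 0 => seqO_le S 1
  | n + 1 => sSup_le_sSup (up_antitone S (sSup_le_sSup (lo_antitone S (seqO_antitone S n))))

theorem seqE_monotone (S : Subgroup G) (n : ℕ) : seqE S n ≤ seqE S (n + 1) :=
  sSup_le_sSup (lo_antitone S (seqO_antitone S n))

/-! ### Transport along injective homomorphisms -/

variable {P : Type v} [Group P] (f : P →* G) (hf : Function.Injective f)

include hf

theorem map_le_map_inj {X Y : Subgroup P} : X.map f ≤ Y.map f ↔ X ≤ Y :=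
  map_le_map_iff_of_injective hf

theorem map_le_centralizer {X B : Subgroup P} :
    X.map f ≤ centralizer ((B.map f : Subgroup G) : Set G) ↔ X ≤ centralizer (B : Set P) := by
  constructor
  · intro h x hx
    rw [mem_centralizer_iff]
    intro b hb
    refine hf ?_
    rw [map_mul, map_mul]
    exact mem_centralizer_iff.mp (h (mem_map_of_mem f hx)) _ (mem_map_of_mem f hb)
  · rintro h _ ⟨x, hx, rfl⟩
    rw [mem_centralizer_iff]
    rintro _ ⟨b, hb, rfl⟩
    rw [← map_mul, ← map_mul, mem_centralizer_iff.mp (h hx) b hb]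

theorem map_le_inf_centralizer {X B : Subgroup P} :
    X.map f ≤ B.map f ⊓ centralizer ((B.map f : Subgroup G) : Set G) ↔ X ≤ B ⊓ centralizer (B : Set P) := by
  rw [le_inf_iff, le_inf_iff, map_le_map_inj f hf, map_le_centralizer f hf]

theorem map_inf_centralizer (B : Subgroup P) :
    B.map f ⊓ centralizer ((B.map f : Subgroup G) : Set G) = (B ⊓ centralizer (B : Set P)).map f := by
  refine le_antisymm ?_ ((map_le_inf_centralizer f hf).mpr le_rfl)
  rintro _ ⟨⟨b, hb, rfl⟩, hc⟩
  refine mem_map_of_mem f ⟨hb, mem_centralizer_iff.mpr fun w hw => hf ?_⟩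
  rw [map_mul, map_mul]
  exact mem_centralizer_iff.mp hc _ (mem_map_of_mem f hw)

theorem map_mem_classTwo {B : Subgroup P} : B.map f ∈ classTwoSubgroups G ↔ B ∈ classTwoSubgroups P := by
  change ⁅B.map f, B.map f⁆ ≤ _ ↔ ⁅B, B⁆ ≤ _
  rw [← map_commutator, map_le_centralizer f hf]

theorem map_le_normalizer {X B : Subgroup P} :
    X.map f ≤ normalizer ((B.map f : Subgroup G) : Set G) ↔ X ≤ normalizer (B : Set P) := by
  constructor
  · intro h x hx
    rw [mem_normalizer_iff]
    intro b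
    have h1 := mem_normalizer_iff.mp (h (mem_map_of_mem f hx)) (f b)
    rw [← map_inv, ← map_mul, ← map_mul, mem_map_iff_mem hf, mem_map_iff_mem hf] at h1
    exact h1
  · exact fun h => (map_mono h).trans (le_normalizer_map f)

theorem map_mem_upper {B Q : Subgroup P} :
    B.map f ∈ kUpperStarFamily (Q.map f) ↔ B ∈ kUpperStarFamily Q := by
  change _ ∧ _ ↔ _ ∧ _
  rw [map_mem_classTwo f hf, ← map_commutator, map_le_inf_centralizer f hf]

theorem map_mem_lower {B Q : Subgroup P} :
    B.map f ∈ kLowerStarFamily (Q.map f) ↔ B ∈ kLowerStarFamily Q := by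
  have hbot : ∀ X : Subgroup P, X.map f = ⊥ ↔ X = ⊥ := fun X => map_eq_bot_iff_of_injective X hf
  change _ ∧ _ ∧ _ ↔ _ ∧ _ ∧ _
  rw [map_mem_classTwo f hf, map_le_normalizer f hf]
  refine and_congr_right fun _ => and_congr_right fun _ => ⟨fun h A hA hAQ hB h1 h2 => ?_, fun h A hA hAQ => ?_⟩
  · have h3 := h (A.map f) ((map_mem_classTwo f hf).mpr hA) (map_mono hAQ) ((map_le_normalizer f hf).mpr hB)
      (by rw [← map_commutator, ← map_commutator, hbot]; exact h1)
      (by rw [map_inf_centralizer f hf, ← map_commutator, ← map_commutator, hbot]; exact h2)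
    rwa [← map_commutator, map_le_inf_centralizer f hf] at h3
  · obtain ⟨A, rfl⟩ : ∃ A' : Subgroup P, A'.map f = A :=
      ⟨A.comap f, map_comap_eq_self (hAQ.trans (map_le_range f Q))⟩
    intro hB h1 h2
    rw [← map_commutator, ← map_commutator, hbot] at h1
    rw [map_inf_centralizer f hf, ← map_commutator, ← map_commutator, hbot] at h2
    rw [← map_commutator, map_le_inf_centralizer f hf]
    exact h A ((map_mem_classTwo f hf).mp hA) ((map_le_map_inj f hf).mp hAQ) ((map_le_normalizer f hf).mp hB) h1 h2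

theorem image_lo (S Q : Subgroup P) : (fun B => B.map f) '' lo S Q = lo (S.map f) (Q.map f) := by
  ext B
  constructor
  · rintro ⟨B, hB, rfl⟩
    exact ⟨map_mono hB.1, (map_mem_lower f hf).mpr hB.2⟩
  · intro hB
    have he : (B.comap f).map f = B := map_comap_eq_self (hB.1.trans (map_le_range f S))
    refine ⟨B.comap f, ⟨(map_le_map_inj f hf).mp (he.le.trans hB.1), ?_⟩, he⟩
    rw [← map_mem_lower f hf, he]
    exact hB.2

theorem image_up (S Q : Subgroup P) : (fun B => B.map f) '' up S Q = up (S.map f) (Q.map f) := by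
  ext B
  constructor
  · rintro ⟨B, hB, rfl⟩
    exact ⟨map_mono hB.1, (map_mem_upper f hf).mpr hB.2⟩
  · intro hB
    have he : (B.comap f).map f = B := map_comap_eq_self (hB.1.trans (map_le_range f S))
    refine ⟨B.comap f, ⟨(map_le_map_inj f hf).mp (he.le.trans hB.1), ?_⟩, he⟩
    rw [← map_mem_upper f hf, he]
    exact hB.2

omit hf in
theorem map_sSup_eq (s : Set (Subgroup P)) : (sSup s).map f = sSup ((fun B => B.map f) '' s) := by
  rw [(gc_map_comap f).l_sSup, sSup_image]

theorem seqO_map (S : Subgroup P) : ∀ n, seqO (S.map f) n = (seqO S n).map f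
  | 0 => rfl
  | n + 1 => by
    rw [seqO, seqO, seqO_map S n, ← image_lo f hf, ← map_sSup_eq f, ← image_up f hf, ← map_sSup_eq f]

theorem seqE_map (S : Subgroup P) (n : ℕ) : seqE (S.map f) n = (seqE S n).map f := by
  rw [seqE, seqE, seqO_map f hf, ← image_lo f hf, ← map_sSup_eq f]

theorem kLo_map (S : Subgroup P) : kLo (S.map f) = (kLo S).map f := by
  rw [kLo, kLo, Subgroup.map_iSup]
  simp [seqE_map f hf]

theorem kUp_map (S : Subgroup P) : kUp (S.map f) = (kUp S).map f := by
  rw [kUp, kUp, Subgroup.map_iInf f hf]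
  simp [seqO_map f hf]

omit hf

theorem lo_top (Q : Subgroup P) : lo (⊤ : Subgroup P) Q = kLowerStarFamily Q := by
  ext B
  exact ⟨fun h => h.2, fun h => ⟨le_top, h⟩⟩

theorem up_top (Q : Subgroup P) : up (⊤ : Subgroup P) Q = kUpperStarFamily Q := by
  ext B
  exact ⟨fun h => h.2, fun h => ⟨le_top, h⟩⟩

theorem seqO_top : ∀ n, seqO (⊤ : Subgroup P) n = kSeqOdd P n
  | 0 => rfl
  | n + 1 => by rw [seqO, kSeqOdd, seqO_top n, lo_top, up_top]

theorem kLo_top : kLo (⊤ : Subgroup P) = kInfLower P := by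
  rw [kLo, kInfLower]
  refine iSup_congr fun n => ?_
  rw [seqE, kSeqEven, seqO_top, lo_top]

theorem kUp_top : kUp (⊤ : Subgroup P) = kInfUpper P := by
  rw [kUp, kInfUpper]
  exact iInf_congr fun n => seqO_top n

theorem inducedFunctor_kInfLower (S : Subgroup G) : inducedFunctor kInfLower S = kLo S := by
  rw [inducedFunctor]
  change (kInfLower S).map S.subtype = kLo S
  rw [← kLo_top, ← kLo_map S.subtype S.subtype_injective, ← MonoidHom.range_eq_map, range_subtype]

theorem inducedFunctor_kInfUpper (S : Subgroup G) : inducedFunctor kInfUpper S = kUp S := by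
  rw [inducedFunctor]
  change (kInfUpper S).map S.subtype = kUp S
  rw [← kUp_top, ← kUp_map S.subtype S.subtype_injective, ← MonoidHom.range_eq_map, range_subtype]

theorem mem_lo_of_abelian {S Q A : Subgroup G} (hAS : A ≤ S) (hQS : Q ≤ S)
    (hn : S ≤ normalizer (A : Set G)) (hA : IsMulCommutative A) : A ∈ lo S Q := by
  haveI := hA
  refine ⟨hAS, (commutator_le_self A).trans (le_centralizer A), hQS.trans hn, fun B _ hBQ _ _ _ => ?_⟩
  rw [inf_eq_left.2 (le_centralizer A)]
  exact (le_normalizer_iff_commutator_le_left).mp ((hBQ.trans hQS).trans hn)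

/-- The two sequences of `S` and of a subgroup containing all the terms interleave. -/
theorem interleave {S Q : Subgroup G} (hQS : Q ≤ S) (hO : seqO S 1 ≤ Q) (hE : ∀ n, seqE S n ≤ Q) :
    (∀ n, seqO Q n ≤ seqO S n ∧ seqO S (n + 1) ≤ seqO Q n) ∧
      (∀ n, seqE S n ≤ seqE Q n ∧ seqE Q n ≤ seqE S (n + 1)) := by
  have hO' : ∀ n, seqO S (n + 1) ≤ Q := fun n => by
    induction n with
    | zero => exact hO
    | succ n ih => exact (seqO_antitone S (n + 1)).trans ih
  have hlo : ∀ U U' : Subgroup G, U' ≤ U → sSup (lo S U) ≤ Q → sSup (lo S U) ≤ sSup (lo Q U') :=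
    fun U U' hU hle => sSup_le fun B hB =>
      le_sSup ⟨(le_sSup hB).trans hle, (lo_antitone S hU hB).2⟩
  have hlo' : ∀ U U' : Subgroup G, U' ≤ U → sSup (lo Q U) ≤ sSup (lo S U') :=
    fun U U' hU => sSup_le fun B hB => le_sSup ⟨hB.1.trans hQS, (lo_antitone Q hU hB).2⟩
  have key : ∀ n, seqO Q n ≤ seqO S n ∧ seqO S (n + 1) ≤ seqO Q n := by
    intro n
    induction n with
    | zero => exact ⟨hQS, hO⟩
    | succ n ih =>
      have h1 : seqE S n ≤ seqE Q n := hlo _ _ ih.1 (hE n)
      have h2 : seqE Q n ≤ seqE S (n + 1) := hlo' _ _ ih.2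
      refine ⟨?_, ?_⟩
      · rw [seqO_succ, seqO_succ]
        exact sSup_le fun B hB => le_sSup ⟨hB.1.trans hQS, (up_antitone Q h1 hB).2⟩
      · rw [seqO_succ, seqO_succ]
        refine sSup_le fun B hB => le_sSup ⟨?_, (up_antitone S h2 hB).2⟩
        exact (le_sSup hB : B ≤ sSup (up S (seqE S (n + 1)))).trans (hO' (n + 1))
  exact ⟨key, fun n => ⟨hlo _ _ (key n).1 (hE n), hlo' _ _ (key n).2⟩⟩

theorem kLo_eq_of_contains {S Q : Subgroup G} (hQS : Q ≤ S) (hO : seqO S 1 ≤ Q) (hE : ∀ n, seqE S n ≤ Q) :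
    kLo Q = kLo S := by
  obtain ⟨-, h⟩ := interleave hQS hO hE
  exact le_antisymm (iSup_le fun n => (h n).2.trans (le_iSup (seqE S) (n + 1)))
    (iSup_le fun n => (h n).1.trans (le_iSup (seqE Q) n))

theorem kUp_eq_of_contains {S Q : Subgroup G} (hQS : Q ≤ S) (hO : seqO S 1 ≤ Q) (hE : ∀ n, seqE S n ≤ Q) :
    kUp Q = kUp S := by
  obtain ⟨h, -⟩ := interleave hQS hO hE
  exact le_antisymm (le_iInf fun n => (iInf_le (seqO Q) n).trans (h n).1)
    (le_iInf fun n => (iInf_le (seqO S) (n + 1)).trans (h n).2)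

end Cfsg.Agent.Solv.KInf
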