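import Cfsg.Agent.Lib.Solv.KInfty
import Cfsg.Agent.Lib.Solv.ChiefAction

/-!
What goes wrong when a K-infinity subgroup is not normal.
-/

set_option autoImplicit false
set_option linter.unusedSectionVars false
set_option linter.style.haveILetI false

universe u

namespace Cfsg.Agent.Solv.KInf

open Subgroup
open scoped commutatorElement

variable {G : Type u} [Group G] [Finite G] {p : ℕ} [Fact p.Prime]

/-- The critical-type properties used without any constraint hypothesis. -/
structure PreCrit (p : ℕ) (G : Type u) [Group G] (A : Subgroup G) : Prop where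
  normal : A.Normal
  le : A ≤ pCore p G
  comm : ∀ a ∈ A, ∀ q ∈ pCore p G, ⁅a, q⁆ ∈ A ⊓ centralizer (A : Set G)

/-- A `p`-subgroup acting like an offending member of one of the families. -/
structure Good (A T : Subgroup G) : Prop where
  quad : ⁅⁅A ⊓ centralizer (A : Set G), T⁆, T⁆ = ⊥
  cubic : ⁅⁅⁅A, T⁆, T⁆, T⁆ ≤ A ⊓ centralizer (A : Set G)
  rad : ∃ R : Subgroup G, R ≤ A ∧
    centralizer ((A ⊓ centralizer (A : Set G) : Subgroup G) : Set G) ≤ normalizer (R : Set G) ∧
    T ≤ normalizer (R : Set G) ∧ ⁅⁅A, T⁆, T⁆ ≤ R ∧ ⁅⁅R, T⁆, T⁆ = ⊥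

theorem good_of_quad {A T : Subgroup G} [A.Normal] (h : ⁅⁅A, T⁆, T⁆ = ⊥) : Good A T where
  quad := le_bot_iff.mp ((commutator_mono (commutator_mono inf_le_left le_rfl) le_rfl).trans h.le)
  cubic := by rw [h, commutator_bot_left]; exact bot_le
  rad := ⟨A, le_rfl, le_normalizer_of_normal, le_normalizer_of_normal, by rw [h]; exact bot_le, h⟩

variable {A : Subgroup G}

theorem PreCrit.classTwo (hA : PreCrit p G A) : A ∈ classTwoSubgroups G :=
  commutator_le.mpr fun a ha b hb => (hA.comm a ha b (hA.le hb)).2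

theorem crit_mem_lo_or (hA : PreCrit p G A) (S : Sylow p G)
    (hall : ∀ T : Subgroup G, T ≤ (S : Subgroup G) → Good A T → T ≤ pCore p G)
    {U : Subgroup G} (hU : U ≤ (S : Subgroup G)) : A ∈ lo (S : Subgroup G) U := by
  haveI := hA.normal
  refine lo_antitone _ hU ⟨hA.le.trans (pCore_le_sylow S), hA.classTwo, le_normalizer_of_normal, ?_⟩
  intro T hT hTS hAT h1 h2
  have hAT' : ⁅A, T⁆ ≤ A ⊓ T := le_inf (commutator_le_left A T)
    (commutator_comm A T ▸ le_normalizer_iff_commutator_le_left.mp hAT)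
  have h3 : ⁅⁅A, T⁆, T⁆ ≤ A ⊓ centralizer (A : Set G) := by
    refine le_inf ((commutator_mono (hAT'.trans inf_le_left) le_rfl).trans (commutator_le_left A T)) ?_
    refine (commutator_mono (hAT'.trans inf_le_right) le_rfl).trans ?_
    rw [← commutator_eq_bot_iff_le_centralizer, commutator_comm]
    exact h1
  have hTQ : T ≤ pCore p G := hall T hTS
    { quad := h2
      cubic := (commutator_mono h3 le_rfl).trans (commutator_le_left _ T)
      rad := ⟨_, inf_le_left, le_normalizer_of_normal, le_normalizer_of_normal, h3, h2⟩ }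
  exact commutator_le.mpr fun a ha t ht => hA.comm a ha t (hTQ ht)

theorem upper_le_or (hA : PreCrit p G A) (S : Sylow p G)
    (hall : ∀ T : Subgroup G, T ≤ (S : Subgroup G) → Good A T → T ≤ pCore p G)
    {L : Subgroup G} (hAL : A ≤ L) {B : Subgroup G}
    (hB : B ∈ up (S : Subgroup G) L) : B ≤ pCore p G := by
  haveI := hA.normal
  refine hall B hB.1 (good_of_quad ?_)
  rw [commutator_eq_bot_iff_le_centralizer]
  refine le_trans ?_ (hB.2.2.trans inf_le_right)
  rw [commutator_comm]
  exact commutator_mono le_rfl hAL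

theorem lower_le_or (hA : PreCrit p G A) (S : Sylow p G)
    (hall : ∀ T : Subgroup G, T ≤ (S : Subgroup G) → Good A T → T ≤ pCore p G)
    {U : Subgroup G} (hAU : A ≤ U) {B : Subgroup G}
    (hB : B ∈ lo (S : Subgroup G) U) : B ≤ pCore p G := by
  haveI := hA.normal
  obtain ⟨hBS, hB2, hUB, htest⟩ := hB
  set Z := A ⊓ centralizer (A : Set G) with hZ
  have hAB : A ≤ normalizer (B : Set G) := hAU.trans hUB
  have hABA : ⁅A, B⁆ ≤ A ⊓ B := le_inf (commutator_le_left A B)
    (le_normalizer_iff_commutator_le_right.mp hAB)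
  have hZc : IsMulCommutative Z := ⟨⟨fun x y => Subtype.ext (mem_centralizer_iff.mp y.2.2 x x.2.1)⟩⟩
  haveI := hZc
  have h1 : ⁅B, Z⁆ ≤ B ⊓ centralizer (B : Set G) := by
    refine htest Z ((commutator_le_self Z).trans (le_centralizer Z)) (inf_le_left.trans hAU) le_normalizer_of_normal ?_ ?_
    · rw [show ⁅Z, Z⁆ = ⊥ from commutator_eq_bot_iff_le_centralizer.mpr (le_centralizer Z)]
      exact commutator_bot_right B
    · rw [commutator_eq_bot_iff_le_centralizer]
      exact (commutator_le_right _ Z).trans (le_centralizer Z)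
  have hZB : ⁅⁅Z, B⁆, B⁆ = ⊥ := by
    rw [commutator_eq_bot_iff_le_centralizer, commutator_comm]
    exact h1.trans inf_le_right
  set ZB := B ⊓ centralizer (B : Set G) with hZBdef
  have hZBQ : ZB ≤ pCore p G := by
    refine hall ZB (inf_le_left.trans hBS) (good_of_quad ?_)
    rw [commutator_eq_bot_iff_le_centralizer]
    have h' : ⁅A, ZB⁆ ≤ ZB := by
      refine commutator_le.mpr fun a ha z hz => ZB.mul_mem ⟨(mem_normalizer_iff.mp (hAB ha) z).mp hz.1, ?_⟩
        (ZB.inv_mem hz)
      apply mem_centralizer_iff.mpr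
      intro b hb
      have h' := mem_centralizer_iff.mp hz.2 _ ((mem_normalizer_iff''.mp (hAB ha) b).mp hb)
      calc b * (a * z * a⁻¹) = a * (a⁻¹ * b * a * z) * a⁻¹ := by group
        _ = a * (z * (a⁻¹ * b * a)) * a⁻¹ := by rw [h']
        _ = a * z * a⁻¹ * b := by group
    exact (h'.trans inf_le_right).trans (centralizer_le inf_le_left)
  set C := centralizer (Z : Set G) with hC
  let rad : Subgroup G :=
    { carrier := {u | u ∈ A ∧ ∀ y ∈ A, ∀ b ∈ B, b * ⁅u, y⁆ = ⁅u, y⁆ * b}
      one_mem' := ⟨A.one_mem, fun y _ b _ => by simp⟩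
      mul_mem' := fun {u v} hu hv => ⟨A.mul_mem hu.1 hv.1, fun y hy b hb => by
        have hc := (hA.comm v hv.1 y (hA.le hy)).2
        have e : ⁅u * v, y⁆ = ⁅v, y⁆ * ⁅u, y⁆ := by
          have e1 : ⁅u * v, y⁆ = u * ⁅v, y⁆ * u⁻¹ * ⁅u, y⁆ := by simp only [commutatorElement_def]; group
          rw [e1, mem_centralizer_iff.mp hc u hu.1, mul_inv_cancel_right]
        rw [e]
        exact ((show Commute b _ from hv.2 y hy b hb).mul_right (hu.2 y hy b hb)).eq⟩
      inv_mem' := fun {u} hu => ⟨A.inv_mem hu.1, fun y hy b hb => by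
        have hc := (hA.comm u hu.1 y (hA.le hy)).2
        have e : ⁅u⁻¹, y⁆ = ⁅u, y⁆⁻¹ := by
          have e1 : ⁅u⁻¹, y⁆ = u⁻¹ * ⁅u, y⁆⁻¹ * u := by simp only [commutatorElement_def]; group
          rw [e1, mem_centralizer_iff.mp (inv_mem hc) u⁻¹ (A.inv_mem hu.1), inv_mul_cancel_right]
        rw [e]
        exact (show Commute b _ from hu.2 y hy b hb).inv_right.eq⟩ }
  have hradA : rad ≤ A := fun u hu => hu.1
  have hradC : C ≤ normalizer (rad : Set G) := by
    refine le_normalizer_of_conj_mem fun c hc u hu => ⟨hA.normal.conj_mem u hu.1 c, fun y hy b hb => ?_⟩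
    have hy' : c⁻¹ * y * c ∈ A := by simpa using hA.normal.conj_mem y hy c⁻¹
    have hz := hA.comm u hu.1 _ (hA.le hy')
    have e : ⁅c * u * c⁻¹, y⁆ = c * ⁅u, c⁻¹ * y * c⁆ * c⁻¹ := by simp only [commutatorElement_def]; group
    rw [e, ← mem_centralizer_iff.mp hc _ hz, mul_inv_cancel_right]
    exact hu.2 _ hy' b hb
  have hradB : B ≤ normalizer (rad : Set G) := by
    refine le_normalizer_of_conj_mem fun c hc u hu => ⟨hA.normal.conj_mem u hu.1 c, fun y hy b hb => ?_⟩
    have hy' : c⁻¹ * y * c ∈ A := by simpa using hA.normal.conj_mem y hy c⁻¹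
    have e : ⁅c * u * c⁻¹, y⁆ = c * ⁅u, c⁻¹ * y * c⁆ * c⁻¹ := by simp only [commutatorElement_def]; group
    rw [e, hu.2 _ hy' c hc, mul_inv_cancel_right]
    exact hu.2 _ hy' b hb
  have h2 : ⁅B, rad⁆ ≤ B ⊓ centralizer (B : Set G) := by
    refine htest rad ?_ (hradA.trans hAU) hradB ?_ ?_
    · exact (commutator_mono hradA hradA).trans (hA.classTwo.trans (centralizer_le hradA))
    · rw [commutator_eq_bot_iff_le_centralizer, le_centralizer_iff, commutator_le]
      exact fun u hu y hy => mem_centralizer_iff.mpr fun b hb => hu.2 y hy.1 b hb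
    · rw [commutator_eq_bot_iff_le_centralizer, commutator_le]
      intro z hz u hu
      have h' := (hA.comm u hu.1 z (hZBQ hz)).2
      rw [← commutatorElement_inv]
      exact inv_mem (centralizer_le hradA h')
  have hradq : ⁅⁅rad, B⁆, B⁆ = ⊥ := by
    rw [commutator_eq_bot_iff_le_centralizer, commutator_comm]
    exact h2.trans inf_le_right
  have hABB : ⁅⁅A, B⁆, B⁆ ≤ rad := by
    rw [commutator_le]
    intro x hx b hb
    have hxAB := hABA hx
    have hu1 : ⁅x, b⁆ ∈ A := commutator_le_left A B (commutator_mem_commutator hxAB.1 hb)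
    have hu2 : ⁅x, b⁆ ∈ centralizer (B : Set G) := hB2 (commutator_mem_commutator hxAB.2 hb)
    refine ⟨hu1, fun y hy b' hb' => ?_⟩
    set u := ⁅x, b⁆
    set w := ⁅b', y⁆ with hw
    have hwAB : w ∈ A ⊓ B := hABA (commutator_comm A B ▸ commutator_mem_commutator hb' hy)
    have hbu : b' * u * b'⁻¹ = u := by rw [mem_centralizer_iff.mp hu2 b' hb', mul_inv_cancel_right]
    have hwu : w * u = u * w := mem_centralizer_iff.mp hu2 w hwAB.2
    have hz := (hA.comm u hu1 y (hA.le hy)).2
    rw [← mul_inv_eq_iff_eq_mul]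
    have e : b' * ⁅u, y⁆ * b'⁻¹ = ⁅b' * u * b'⁻¹, w * y⁆ := by
      simp only [hw, commutatorElement_def]; group
    have e2 : ⁅u, w * y⁆ = u * w * u⁻¹ * ⁅u, y⁆ * w⁻¹ := by simp only [commutatorElement_def]; group
    rw [e, hbu, e2, ← hwu, mul_inv_cancel_right, mem_centralizer_iff.mp hz w hwAB.1, mul_inv_cancel_right]
  refine hall B hBS ⟨hZB, ?_, rad, hradA, hradC, hradB, hABB, hradq⟩
  have hB3 : ⁅⁅⁅A, B⁆, B⁆, B⁆ = ⊥ :=
    commutator_eq_bot_iff_le_centralizer.mpr ((commutator_mono (hABA.trans inf_le_right) le_rfl).trans hB2)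
  rw [hB3]; exact bot_le

/-- Without offending subgroups every term lies in the `p`-core. -/
theorem seq_le_or (hA : PreCrit p G A) (S : Sylow p G)
    (hall : ∀ T : Subgroup G, T ≤ (S : Subgroup G) → Good A T → T ≤ pCore p G) :
    ∀ n, seqE (S : Subgroup G) n ≤ pCore p G ∧ seqO (S : Subgroup G) (n + 1) ≤ pCore p G := by
  haveI := hA.normal
  have hAS : A ≤ (S : Subgroup G) := hA.le.trans (pCore_le_sylow S)
  have hAE : ∀ n, A ≤ seqE (S : Subgroup G) n := fun n =>
    le_sSup (crit_mem_lo_or hA S hall (seqO_le _ n))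
  have hO : ∀ n, seqO (S : Subgroup G) (n + 1) ≤ pCore p G := fun n => by
    rw [seqO_succ]
    exact sSup_le fun B hB => upper_le_or hA S hall (hAE n) hB
  intro n
  refine ⟨?_, hO n⟩
  induction n with
  | zero => exact sSup_le fun B hB => lower_le_or hA S hall (U := (S : Subgroup G)) hAS hB
  | succ n ih =>
    have hAU : A ≤ seqO (S : Subgroup G) (n + 1) := by
      rw [seqO_succ]
      refine le_sSup ⟨hAS, hA.classTwo, commutator_le.mpr fun a ha l hl => hA.comm a ha l (ih hl)⟩
    exact sSup_le fun B hB => lower_le_or hA S hall hAU hB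

theorem exists_good (hA : PreCrit p G A) (S : Sylow p G)
    (hK : ¬ (inducedFunctor kInfLower (S : Subgroup G)).Normal ∨
      ¬ (inducedFunctor kInfUpper (S : Subgroup G)).Normal) :
    ∃ T : Subgroup G, T ≤ (S : Subgroup G) ∧ Good A T ∧ ¬ T ≤ pCore p G := by
  by_contra hno
  push Not at hno
  have h := seq_le_or hA S fun T hT hg => hno T hT hg
  have hmap : ∀ g : G, (pCore p G).map (MulAut.conj g).toMonoidHom = pCore p G := fun g =>
    mem_normalizer_iff_map_conj_eq.mp (by rw [normalizer_eq_top]; trivial)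
  rw [inducedFunctor_kInfLower, inducedFunctor_kInfUpper,
    ← kLo_eq_of_contains (pCore_le_sylow S) (h 0).2 fun n => (h n).1,
    ← kUp_eq_of_contains (pCore_le_sylow S) (h 0).2 fun n => (h n).1] at hK
  rcases hK with hK | hK <;> apply hK <;> rw [← normalizer_eq_top_iff, eq_top_iff] <;> intro g _ <;>
    rw [mem_normalizer_iff_map_conj_eq]
  · exact (kLo_map _ (MulAut.conj g).injective _).symm.trans (congrArg kLo (hmap g))
  · exact (kUp_map _ (MulAut.conj g).injective _).symm.trans (congrArg kUp (hmap g))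

theorem isMulCommutative_chief {U V : Subgroup G} (hUV : IsChiefFactor U V) (hU : IsPGroup p U)
    [V.Normal] : IsMulCommutative (U.map (QuotientGroup.mk' V)) := by
  set N := U.map (QuotientGroup.mk' V) with hN
  haveI : N.Normal := Normal.map hUV.2.1 _ (QuotientGroup.mk'_surjective V)
  have hNp : IsPGroup p N := hU.map _
  haveI := hNp.isNilpotent
  have hmin : ∀ M : Subgroup (G ⧸ V), M.Normal → M ≤ N → M = ⊥ ∨ M = N := fun M hM hMN => by
    have hc := hUV.2.2.2 (M.comap (QuotientGroup.mk' V)) (Normal.comap hM _) (by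
      conv_lhs => rw [← QuotientGroup.ker_mk' V]
      exact (QuotientGroup.mk' V).ker_le_comap M) (by
      refine (comap_mono hMN).trans (le_of_eq ?_)
      rw [hN, comap_map_eq, QuotientGroup.ker_mk', sup_eq_left.2 hUV.1.le])
    have e : (M.comap (QuotientGroup.mk' V)).map (QuotientGroup.mk' V) = M :=
      map_comap_eq_self_of_surjective (QuotientGroup.mk'_surjective V) M
    rcases hc with h | h
    · left; rw [← e, h, Subgroup.map_eq_bot_iff, QuotientGroup.ker_mk']
    · right; rw [← e, h]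
  rcases hmin ⁅N, N⁆ inferInstance (commutator_le_self N) with h | h
  · exact ⟨⟨fun x y => Subtype.ext (mem_centralizer_iff.mp
      (commutator_eq_bot_iff_le_centralizer.mp h y.2) x x.2)⟩⟩
  · rcases eq_or_ne N ⊥ with h' | h'
    · exact ⟨⟨fun x y => Subtype.ext (by
        rw [Subgroup.coe_mul, Subgroup.coe_mul]
        rw [show (x : G ⧸ V) = 1 from (mem_bot.mp (h' ▸ x.2)),
          show (y : G ⧸ V) = 1 from (mem_bot.mp (h' ▸ y.2))])⟩⟩
    haveI : Nontrivial N := N.nontrivial_iff_ne_bot.mpr h'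
    haveI : Group.IsSolvable N := inferInstance
    exfalso
    refine (Group.IsSolvable.commutator_lt_top_of_nontrivial N).ne ?_
    apply map_injective N.subtype_injective
    rw [map_subtype_commutator, h, ← MonoidHom.range_eq_map, range_subtype]

theorem chief_min {U V : Subgroup G} (hUV : IsChiefFactor U V) [V.Normal] :
    ∀ M : Subgroup (G ⧸ V), M.Normal → M ≤ U.map (QuotientGroup.mk' V) → M = ⊥ ∨ M = U.map (QuotientGroup.mk' V) := by
  intro M hM hMN
  have hc := hUV.2.2.2 (M.comap (QuotientGroup.mk' V)) (Normal.comap hM _) (by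
    conv_lhs => rw [← QuotientGroup.ker_mk' V]
    exact (QuotientGroup.mk' V).ker_le_comap M) (by
    refine (comap_mono hMN).trans (le_of_eq ?_)
    rw [comap_map_eq, QuotientGroup.ker_mk', sup_eq_left.2 hUV.1.le])
  have e : (M.comap (QuotientGroup.mk' V)).map (QuotientGroup.mk' V) = M :=
    map_comap_eq_self_of_surjective (QuotientGroup.mk'_surjective V) M
  rcases hc with h | h
  · left; rw [← e, h, Subgroup.map_eq_bot_iff, QuotientGroup.ker_mk']
  · right; rw [← e, h]

/-- An offending subgroup is quadratic and nontrivial on some chief factor inside `A`. -/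
theorem exists_chief (hA : PreCrit p G A) (hpg : IsPGroup p (centralizer (A : Set G)))
    {T : Subgroup G} (hg : Good A T) (hTQ : ¬ T ≤ pCore p G) :
    ∃ g ∈ T, g ∉ pCore p G ∧ ∃ U V : Subgroup G, IsChiefFactor U V ∧ U ≤ A ∧
      ⁅⁅U, zpowers g⁆, zpowers g⁆ ≤ V ∧ ¬ ⁅U, zpowers g⁆ ≤ V := by
  classical
  haveI := hA.normal
  by_contra hno
  push Not at hno
  have htriv : ∀ (g : G), g ∈ T → g ∉ pCore p G → ∀ U V : Subgroup G, IsChiefFactor U V → U ≤ A →
      ⁅⁅U, zpowers g⁆, zpowers g⁆ ≤ V → ∀ u ∈ U, ⁅u, g⁆ ∈ V :=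
    fun g hgT hgQ U V hUV hUA hq u hu =>
      hno g hgT hgQ U V hUV hUA hq (commutator_mem_commutator hu (mem_zpowers g))
  obtain ⟨g0, hg0, hg0Q⟩ := SetLike.not_le_iff_exists.mp hTQ
  have hgen : ∀ D : Subgroup G, (∀ g ∈ T, g ∉ pCore p G → g ∈ D) → T ≤ D := by
    intro D hD t ht
    by_cases htQ : t ∈ pCore p G
    · have h1 : t * g0 ∈ D := hD _ (mul_mem ht hg0) fun h => hg0Q (by
        have := mul_mem (inv_mem htQ) h
        rwa [inv_mul_cancel_left] at this)
      simpa using mul_mem h1 (inv_mem (hD g0 hg0 hg0Q))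
    · exact hD t ht htQ
  set Z := A ⊓ centralizer (A : Set G) with hZ
  haveI hZn : Z.Normal := inferInstance
  have hAp : IsPGroup p A := (isPGroup_pCore p G).to_le hA.le
  have hZp : IsPGroup p Z := hAp.to_le inf_le_left
  -- chief factors inside the centre
  have hTD1 : T ≤ Chief.stabilizer Z := hgen _ fun g hgT hgQ => Chief.mem_stabilizer.mpr
    fun U V hUV hUZ => htriv g hgT hgQ U V hUV (hUZ.trans inf_le_left) (by
      refine le_trans ?_ (bot_le : ⊥ ≤ V)
      rw [← hg.quad]
      exact commutator_mono (commutator_mono hUZ (zpowers_le.mpr hgT)) (zpowers_le.mpr hgT))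
  set C := centralizer (Z : Set G) with hC
  haveI : C.Normal := inferInstance
  set π := QuotientGroup.mk' C
  haveI := Chief.stabilizer_normal (G := G) Z
  have hDp : IsPGroup p ((Chief.stabilizer Z).map π) := by
    rintro ⟨_, d, hd, rfl⟩
    obtain ⟨k, hk⟩ := Chief.exists_pow_mem_centralizer (p := p) d _ Z hZn le_rfl hZp (Chief.mem_stabilizer.mp hd)
    refine ⟨k, Subtype.ext ?_⟩
    rw [SubgroupClass.coe_pow, OneMemClass.coe_one, ← map_pow]
    exact (QuotientGroup.eq_one_iff _).mpr hk
  haveI : ((Chief.stabilizer Z).map π).Normal := Normal.map inferInstance _ (QuotientGroup.mk'_surjective C)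
  set G1 := C ⊔ T with hG1
  have hsub : G1.IsSubnormal := by
    have h2 : ((T.map π).subgroupOf ((Chief.stabilizer Z).map π)).IsSubnormal := by
      haveI := hDp.isNilpotent
      exact isSubnormal_of_isNilpotent _
    have h3 : (T.map π).IsSubnormal := IsSubnormal.trans (map_mono hTD1) h2 (Normal.isSubnormal inferInstance)
    have h4 := h3.comap π
    rwa [comap_map_eq, QuotientGroup.ker_mk', sup_comm] at h4
  obtain ⟨R, hRA, hCR, hTR, hATT, hRq⟩ := hg.rad
  -- every chief factor inside `A`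
  have hTD : T ≤ Chief.stabilizer A := hgen _ fun g hgT hgQ => Chief.mem_stabilizer.mpr fun U V hUV hUA => by
    refine htriv g hgT hgQ U V hUV hUA (le_trans (commutator_mono (commutator_mono le_rfl (zpowers_le.mpr hgT)) (zpowers_le.mpr hgT)) ?_)
    haveI := hUV.2.1
    haveI := hUV.2.2.1
    set μ := QuotientGroup.mk' V with hμ
    set N := U.map μ with hN
    haveI : N.Normal := Normal.map hUV.2.1 _ (QuotientGroup.mk'_surjective V)
    haveI := isMulCommutative_chief hUV (hAp.to_le hUA)
    set W := (U ⊓ R).map μ with hW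
    have hH : (G1.map μ).IsSubnormal := hsub.map (QuotientGroup.mk'_surjective V)
    have hHW : G1.map μ ≤ normalizer (W : Set (G ⧸ V)) := by
      refine (map_mono ?_).trans (le_normalizer_map μ)
      exact (le_inf le_normalizer_of_normal (sup_le hCR hTR)).trans inf_normalizer_le_normalizer_inf
    obtain ⟨W', hW'N, hW'H, hdis, hsup⟩ := Chief.exists_complement (chief_min hUV) hH (map_mono inf_le_left) hHW
    set T' := T.map μ with hT'
    have hT'H : T' ≤ G1.map μ := map_mono le_sup_right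
    have hUTT : ⁅⁅U, T⁆, T⁆ ≤ U ⊓ R := le_inf
      ((commutator_mono (commutator_le_left U T) le_rfl).trans (commutator_le_left U T))
      ((commutator_mono (commutator_mono hUA le_rfl) le_rfl).trans hATT)
    have hWq : ⁅⁅W, T'⁆, T'⁆ = ⊥ := by
      rw [hW, hT', ← map_commutator, ← map_commutator, eq_bot_iff, ← Subgroup.map_bot μ, ← hRq]
      exact map_mono (commutator_mono (commutator_mono inf_le_right le_rfl) le_rfl)
    have hW'q : ⁅⁅W', T'⁆, T'⁆ = ⊥ := by
      have h1 : ⁅W', T'⁆ ≤ W' := le_normalizer_iff_commutator_le_left.mp (hT'H.trans hW'H)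
      have h2 : ⁅⁅W', T'⁆, T'⁆ ≤ W := by
        rw [hW]
        refine le_trans ?_ (map_mono hUTT)
        rw [map_commutator, map_commutator]
        exact commutator_mono (commutator_mono hW'N le_rfl) le_rfl
      exact le_bot_iff.mp ((le_inf h2 ((commutator_mono h1 le_rfl).trans h1)).trans hdis.le)
    rw [← QuotientGroup.ker_mk' V, ← Subgroup.map_eq_bot_iff, map_commutator, map_commutator,
      commutator_eq_bot_iff_le_centralizer, commutator_le]
    intro x hx t ht
    rw [mem_centralizer_iff]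
    intro t' ht'
    have hx' : x ∈ W ⊔ W' := hsup.ge hx
    have key : ∀ y ∈ W ⊔ W', y ∈ N ∧ t' * ⁅y, t⁆ = ⁅y, t⁆ * t' := by
      let Y : Subgroup (G ⧸ V) :=
        { carrier := {y | y ∈ N ∧ t' * ⁅y, t⁆ = ⁅y, t⁆ * t'}
          one_mem' := ⟨N.one_mem, by simp⟩
          mul_mem' := fun {a b} ha hb => ⟨N.mul_mem ha.1 hb.1, by
            have hbN : ⁅b, t⁆ ∈ N := commutator_le_left N T' (commutator_mem_commutator hb.1 ht)
            have hc : a * ⁅b, t⁆ = ⁅b, t⁆ * a := congrArg Subtype.val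
              ((inferInstance : IsMulCommutative N).is_comm.comm (⟨a, ha.1⟩ : N) ⟨_, hbN⟩)
            have e : ⁅a * b, t⁆ = ⁅b, t⁆ * ⁅a, t⁆ := by
              have e1 : ⁅a * b, t⁆ = a * ⁅b, t⁆ * a⁻¹ * ⁅a, t⁆ := by simp only [commutatorElement_def]; group
              rw [e1, hc, mul_inv_cancel_right]
            rw [e]
            exact ((show Commute t' _ from hb.2).mul_right ha.2).eq⟩
          inv_mem' := fun {a} ha => ⟨N.inv_mem ha.1, by
            have haN : ⁅a, t⁆⁻¹ ∈ N := N.inv_mem (commutator_le_left N T' (commutator_mem_commutator ha.1 ht))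
            have hc : a⁻¹ * ⁅a, t⁆⁻¹ = ⁅a, t⁆⁻¹ * a⁻¹ := congrArg Subtype.val
              ((inferInstance : IsMulCommutative N).is_comm.comm (⟨a⁻¹, N.inv_mem ha.1⟩ : N) ⟨_, haN⟩)
            have e : ⁅a⁻¹, t⁆ = ⁅a, t⁆⁻¹ := by
              have e1 : ⁅a⁻¹, t⁆ = a⁻¹ * ⁅a, t⁆⁻¹ * a := by simp only [commutatorElement_def]; group
              rw [e1, hc, inv_mul_cancel_right]
            rw [e]
            exact (show Commute t' _ from ha.2).inv_right.eq⟩ }
      have hle : W ⊔ W' ≤ Y := by
        refine sup_le (fun y hy => ⟨hsup.le (mem_sup_left hy), ?_⟩) (fun y hy => ⟨hsup.le (mem_sup_right hy), ?_⟩)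
        · exact mem_centralizer_iff.mp (commutator_eq_bot_iff_le_centralizer.mp hWq (commutator_mem_commutator hy ht)) t' ht'
        · exact mem_centralizer_iff.mp (commutator_eq_bot_iff_le_centralizer.mp hW'q (commutator_mem_commutator hy ht)) t' ht'
      exact fun y hy => hle hy
    exact (key x hx').2
  haveI := Chief.stabilizer_normal (G := G) A
  have hDAp : IsPGroup p (Chief.stabilizer A) := by
    rintro ⟨d, hd⟩
    obtain ⟨k, hk⟩ := Chief.exists_pow_mem_centralizer (p := p) d _ A hA.normal le_rfl hAp (Chief.mem_stabilizer.mp hd)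
    obtain ⟨j, hj⟩ := hpg ⟨_, hk⟩
    refine ⟨k + j, Subtype.ext ?_⟩
    rw [SubgroupClass.coe_pow, OneMemClass.coe_one, pow_add, pow_mul]
    exact congrArg Subtype.val hj
  exact hg0Q (le_pCore hDAp (hTD hg0))

end Cfsg.Agent.Solv.KInf
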