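import Cfsg.Agent.Lib.Solv.LargeQuotient
import Cfsg.Agent.S5434

/-!
A large extraspecial subgroup in the quotient of the centralizer of a subgroup of odd order.
-/

set_option autoImplicit false
set_option linter.style.haveILetI false
set_option linter.unusedSectionVars false

namespace Cfsg.Agent.Solv.LargeOddQuotient

open Subgroup LargePair
open scoped commutatorElement

variable {G : Type*} [Group G] [Finite G]

theorem pow_odd_eq_one {A : Subgroup G} (hA : Odd (Nat.card A)) {a r : G} {k : ℕ} (ha : a ∈ A) (hc : Commute r a)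
    (hr : r ^ (2 ^ k) = 1) (hra : (r * a) ^ (2 ^ k) = 1) : a = 1 := by
  rw [hc.mul_pow, hr, one_mul] at hra
  have h1 : orderOf a ∣ Nat.card A := by
    have := orderOf_dvd_natCard (⟨a, ha⟩ : A)
    rwa [orderOf_mk] at this
  have h2 : orderOf a ∣ 2 ^ k := orderOf_dvd_of_pow_eq_one hra
  exact orderOf_eq_one_iff.mp (Nat.eq_one_of_dvd_coprimes (hA.coprime_two_right.pow_right k) h1 h2)

/-- A subgroup of twice odd order is its odd core times an involution. -/
theorem twice_odd {K : Type*} [Group K] [Finite K] {z : K} (hz : orderOf z = 2) (h4 : ¬ 4 ∣ Nat.card K) :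
    ∀ k : K, ∃ n ∈ oddCore K, k = n ∨ k = n * z := by
  haveI : Fact (Nat.Prime 2) := ⟨Nat.prime_two⟩
  have hi : ¬ 2 ∣ (zpowers z).index := by
    intro h
    apply h4
    rw [← (zpowers z).card_mul_index, Nat.card_zpowers, hz]
    exact mul_dvd_mul_left 2 h
  have hp : IsPGroup 2 (zpowers z) := IsPGroup.of_card (n := 1) (by rw [Nat.card_zpowers, hz, pow_one])
  set P : Sylow 2 K := hp.toSylow hi
  have hzz : z * z = 1 := by rw [← pow_two, ← hz, pow_orderOf_eq_one]
  have hN : normalizer ((P : Subgroup K) : Set K) ≤ centralizer ((P : Subgroup K) : Set K) := by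
    intro n hn
    refine mem_centralizer_iff.mpr fun x hx => ?_
    rcases LargeQuotient.pow_two_cases hzz (show x ∈ zpowers z from hx) with e | e
    · rw [e]; simp
    · rcases LargeQuotient.pow_two_cases hzz (show n * x * n⁻¹ ∈ zpowers z from (mem_normalizer_iff.mp hn x).mp hx)
        with e' | e'
      · rw [mul_inv_eq_one] at e'
        rw [mul_eq_left.mp e']; simp
      · exact (mul_inv_eq_iff_eq_mul.mp (e'.trans e.symm)).symm
  set f := MonoidHom.transferSylow P hN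
  have hc := MonoidHom.ker_transferSylow_isComplement' P hN
  have hle : f.ker ≤ oddCore K := by
    refine le_pPrimeCore (hN := MonoidHom.normal_ker f) ?_
    exact Nat.Coprime.symm ((Nat.Prime.coprime_iff_not_dvd Nat.prime_two).mpr
      (MonoidHom.not_dvd_card_ker_transferSylow P hN))
  intro k
  obtain ⟨⟨⟨n, hn⟩, ⟨s, hs⟩⟩, he⟩ := hc.2 k
  refine ⟨n, hle hn, ?_⟩
  rcases LargeQuotient.pow_two_cases hzz (show s ∈ zpowers z from hs) with e | e
  · left; rw [← he]; show n * s = n; rw [e, mul_one]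
  · right; rw [← he]; show n * s = n * z; rw [e]

theorem odd_quotient {z : G} (hz : orderOf z = 2) {Q : Subgroup G} (hQC : Q ≤ centralizer ({z} : Set G))
    (hF : (generalizedFittingSubgroup ↥(centralizer ({z} : Set G))).map (centralizer ({z} : Set G)).subtype = Q)
    (hQ : IsExtraspecial 2 Q) (A : Subgroup G) (hA : A ≤ centralizer ({z} : Set G))
    (hAodd : Odd (Nat.card A)) (R : Subgroup G) (hR : R = Q ⊓ centralizer (A : Set G))
    (hR32 : 32 ≤ Nat.card R)
    (hO : (oddCore ↥(centralizer ((A ⊔ R : Subgroup G) : Set G))).map (centralizer ((A ⊔ R : Subgroup G) : Set G)).subtype ≤ A)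
    (h4 : ¬ 4 ∣ Nat.card ↥(centralizer ((A ⊔ R : Subgroup G) : Set G))) (g : G) (hgR : g * z * g⁻¹ ∈ R)
    (hgZ : g * z * g⁻¹ ∉ (center Q).map Q.subtype) (M : Subgroup G) (hM : M = centralizer (A : Set G) ⊔ A)
    [hn : (A.subgroupOf M).Normal] :
    (M ⊓ centralizer ((R ⊔ A : Subgroup G) : Set G)) ⊔ A = A ⊔ (center Q).map Q.subtype ∧
      IsLargeExtraspecial ((R.subgroupOf M).map (QuotientGroup.mk' (A.subgroupOf M))) ∧
      ∃ x ∈ R ⊔ (Q.map (MulAut.conj g).toMonoidHom ⊓ centralizer (A : Set G)), x * (g * z * g⁻¹) * x⁻¹ = z := by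
  haveI : Fact (Nat.Prime 2) := ⟨Nat.prime_two⟩
  obtain ⟨hZ, hL2, hL3⟩ := LargeSimple.facts hz hQC hF hQ
  have hRQ : R ≤ Q := hR ▸ inf_le_left
  have hbig : Big Q z := Big.of_hyp Q hQ hL2 hL3 (hR32.trans (Subgroup.card_le_of_le hRQ)) z hZ
  set y := g * z * g⁻¹ with hy
  have hne : y ≠ z := fun e => hgZ (by rw [hZ, e]; exact mem_zpowers z)
  have hyQ : y ∈ Q := hRQ hgR
  set Qy := Q.map (MulAut.conj g).toMonoidHom
  have hc : Conf Q Qy z y := Conf.of_conj hbig g hyQ hne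
  have hlarge : IsLargeExtraspecial Q := hc.large hQ hL2 hL3 hZ
  have hAn : A ≤ normalizer (Q : Set G) := fun a ha =>
    LargePair.mem_norm_of_map_le fun v hv => hbig.norm a (mem_centralizer_singleton_iff.mp (hA ha)) v hv
  have hzA : z ∈ centralizer (A : Set G) := mem_centralizer_iff.mpr fun a ha => mem_centralizer_singleton_iff.mp (hA ha)
  have hzR : z ∈ R := hR ▸ ⟨hbig.zQ, hzA⟩
  have hRA : R ≤ centralizer (A : Set G) := hR ▸ inf_le_right
  have hyA : y ∈ centralizer (A : Set G) := hRA hgR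
  have hRes : IsExtraspecial 2 R := by
    by_cases hA1 : A = ⊥
    · have e : R = Q := by
        rw [hR, inf_eq_left, hA1]
        exact fun u _ => mem_centralizer_iff.mpr fun a ha => by rw [mem_bot.mp ha]; simp
      exact e ▸ hQ
    · rcases (Cfsg.Agent.S5434.result Q hlarge A hAn hAodd hA1).2.2.2 with e | e
      · exfalso
        rw [← hR, hZ] at e
        rw [e, Nat.card_zpowers, hz] at hR32
        omega
      · exact hR ▸ e
  obtain ⟨DR⟩ := ESClass.ES.exists_of hRes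
  have hRc : (center R).map R.subtype = zpowers z := by
    refine (eq_of_le_of_card_ge (zpowers_le.mpr (show z ∈ (center R).map R.subtype from ⟨⟨z, hzR⟩,
      mem_center_iff.mpr fun v => Subtype.ext (hbig.zc v (hRQ v.2)).symm, rfl⟩)) ?_).symm
    rw [card_map_subtype, hRes.2, Nat.card_zpowers, hz]
  obtain ⟨q, hq, hqy⟩ : ∃ q ∈ R, q * y * q⁻¹ = z * y := by
    by_contra hn'
    push Not at hn'
    have hmem : y ∈ (center R).map R.subtype := ⟨⟨y, hgR⟩, mem_center_iff.mpr fun v => Subtype.ext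
      ((hbig.dichotomy hyQ (hRQ v.2)).elim mul_inv_eq_iff_eq_mul.mp fun e => absurd e (hn' v v.2)), rfl⟩
    rw [hRc] at hmem
    rcases LargeQuotient.pow_two_cases hbig.zz hmem with e | e
    · exact hc.hQy.z_ne e
    · exact hne e
  obtain ⟨p, hp, hpA, hpz⟩ : ∃ p ∈ Qy, p ∈ centralizer (A : Set G) ∧ p * z * p⁻¹ = y * z := by
    by_contra hn'
    push Not at hn'
    have hAy : A ≤ normalizer (Qy : Set G) := fun a ha => LargePair.mem_norm_of_map_le fun v hv =>
      hc.hQy.norm a (mem_centralizer_iff.mp hyA a ha) v hv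
    have hp2 : IsPGroup 2 Qy := hc.hQy.isPGroup
    have hcop : (Nat.card A).Coprime (Nat.card Qy) := by
      obtain ⟨i, hi⟩ := IsPGroup.iff_card.mp hp2
      rw [hi]; exact hAodd.coprime_two_right.pow_right i
    haveI := hp2.isNilpotent
    have hsup := commutator_sup_centralizer A Qy hAy hcop (Or.inr inferInstance)
    have hzc : ∀ v ∈ Qy, ∀ a ∈ A, v * a * v⁻¹ * a⁻¹ ∈ centralizer ({z} : Set G) := by
      intro v hv a ha
      rw [mem_centralizer_singleton_iff, ← mul_inv_eq_iff_eq_mul]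
      have haz : a * z * a⁻¹ = z := mul_inv_eq_iff_eq_mul.mpr (mem_centralizer_singleton_iff.mp (hA ha))
      have hay : a * y * a⁻¹ = y := mul_inv_eq_iff_eq_mul.mpr (mem_centralizer_iff.mp hyA a ha)
      have haz' : a⁻¹ * z * a = z := by nth_rewrite 1 [← haz]; group
      have hay' : a⁻¹ * y * a = y := by nth_rewrite 1 [← hay]; group
      calc v * a * v⁻¹ * a⁻¹ * z * (v * a * v⁻¹ * a⁻¹)⁻¹
          = v * (a * (v⁻¹ * (a⁻¹ * z * a) * v) * a⁻¹) * v⁻¹ := by group
        _ = v * (v⁻¹ * z * v) * v⁻¹ := by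
          rw [haz']
          rcases hc.hQy.dichotomy hc.z_mem (Qy.inv_mem hv) with e | e <;> rw [inv_inv] at e <;> rw [e]
          · rw [haz]
          · rw [show a * (y * z) * a⁻¹ = (a * y * a⁻¹) * (a * z * a⁻¹) by group, haz, hay]
        _ = z := by group
    have hle : Qy ≤ centralizer ({z} : Set G) := by
      rw [← hsup]
      refine sup_le (commutator_le.mpr fun v hv a ha => hzc v hv a ha) fun v hv => ?_
      rcases hc.hQy.dichotomy hc.z_mem hv.1 with e | e
      · exact mem_centralizer_singleton_iff.mpr (mul_inv_eq_iff_eq_mul.mp e)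
      · exact absurd e (hn' v hv.1 hv.2)
    exact hne.symm ((hc.hQy.cent z fun v hv => (mem_centralizer_singleton_iff.mp (hle hv)).symm).resolve_left hbig.z_ne)
  have hx : (p⁻¹ * q) * y * (p⁻¹ * q)⁻¹ = z := by
    calc (p⁻¹ * q) * y * (p⁻¹ * q)⁻¹ = p⁻¹ * (q * y * q⁻¹) * p := by group
      _ = p⁻¹ * (p * z * p⁻¹) * p := by rw [hqy, hc.zy, hpz]
      _ = z := by group
  have hKz : ∀ k ∈ centralizer ((A ⊔ R : Subgroup G) : Set G), ∃ a ∈ A, k = a ∨ k = a * z := by
    intro k hk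
    have hzK : z ∈ centralizer ((A ⊔ R : Subgroup G) : Set G) := by
      have : A ⊔ R ≤ centralizer ({z} : Set G) := sup_le hA (hRQ.trans hQC)
      exact mem_centralizer_iff.mpr fun v hv => mem_centralizer_singleton_iff.mp (this hv)
    obtain ⟨n, hn', e⟩ := twice_odd (z := (⟨z, hzK⟩ : centralizer ((A ⊔ R : Subgroup G) : Set G)))
      (by rw [orderOf_mk, hz]) h4 ⟨k, hk⟩
    exact ⟨n, hO ⟨n, hn', rfl⟩, e.imp (congrArg Subtype.val) (congrArg Subtype.val)⟩
  have hdecomp : ∀ u ∈ M, ∃ c ∈ centralizer (A : Set G), ∃ a ∈ A, u = c * a := by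
    intro u hu
    have hAc : A ≤ normalizer (centralizer (A : Set G) : Set G) := fun a ha => LargePair.mem_norm_of_map_le fun c hc' =>
      mem_centralizer_iff.mpr fun b hb => by
        have hb' : a⁻¹ * b * a ∈ A := A.mul_mem (A.mul_mem (A.inv_mem ha) hb) ha
        calc b * (a * c * a⁻¹) = a * ((a⁻¹ * b * a) * c) * a⁻¹ := by group
          _ = a * (c * (a⁻¹ * b * a)) * a⁻¹ := by rw [mem_centralizer_iff.mp hc' _ hb']
          _ = a * c * a⁻¹ * b := by group
    have hu' : u ∈ ((centralizer (A : Set G) ⊔ A : Subgroup G) : Set G) := hM ▸ hu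
    rw [coe_mul_of_right_le_normalizer_left _ _ hAc] at hu'
    obtain ⟨c, hc', a, ha, e⟩ := hu'
    exact ⟨c, hc', a, ha, e.symm⟩
  refine ⟨?_, ?_, p⁻¹ * q, mul_mem (mem_sup_right (inv_mem ⟨hp, hpA⟩)) (mem_sup_left hq), hx⟩
  · rw [hZ]
    refine le_antisymm (sup_le (fun k hk => ?_) le_sup_left) (sup_le le_sup_right ?_)
    · obtain ⟨a, ha, e | e⟩ := hKz k (by rw [sup_comm]; exact hk.2)
      · exact e ▸ mem_sup_left ha
      · exact e ▸ mul_mem (mem_sup_left ha) (mem_sup_right (mem_zpowers z))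
    · refine zpowers_le.mpr (mem_sup_left ⟨hM ▸ mem_sup_left hzA, ?_⟩)
      have : R ⊔ A ≤ centralizer ({z} : Set G) := sup_le (hRQ.trans hQC) hA
      exact mem_centralizer_iff.mpr fun v hv => mem_centralizer_singleton_iff.mp (this hv)
  set f := QuotientGroup.mk' (A.subgroupOf M)
  have hCM : centralizer (A : Set G) ≤ M := hM ▸ le_sup_left
  have hRM : R ≤ M := hRA.trans hCM
  set R' := (R.subgroupOf M).map f
  have hf : ∀ u v : M, f u = f v → ∃ a ∈ A, (v : G) = u * a := fun u v e =>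
    ⟨_, show ((u⁻¹ * v : M) : G) ∈ A from (QuotientGroup.eq (s := A.subgroupOf M)).mp e, by simp⟩
  -- a coset of `A` meets the elements of two-power order once
  have hrig : ∀ u v : G, u ∈ R → v ^ 4 = 1 → ∀ a ∈ A, v = u * a → v = u := fun u v hu hv a ha e => by
    have hua : Commute u a := (mem_centralizer_iff.mp (hRA hu) a ha).symm
    have : a = 1 := pow_odd_eq_one hAodd (k := 2) ha hua (by
      rw [show (2 : ℕ) ^ 2 = 2 * 2 from rfl, pow_mul, pow_two, pow_two]
      rcases hbig.sq u (hRQ hu) with e' | e' <;> rw [e']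
      exacts [one_mul 1, hbig.zz]) (e ▸ hv)
    rw [e, this, mul_one]
  have h4R : ∀ u ∈ R, u ^ 4 = 1 := fun u hu => by
    rw [show (4 : ℕ) = 2 * 2 from rfl, pow_mul, pow_two, pow_two]
    rcases hbig.sq u (hRQ hu) with e' | e' <;> rw [e']
    exacts [one_mul 1, hbig.zz]
  have hinj : ∀ u v : M, u ∈ R.subgroupOf M → v ∈ R.subgroupOf M → f u = f v → u = v := fun u v hu hv e => by
    obtain ⟨a, ha, e'⟩ := hf u v e
    exact Subtype.ext (hrig u v hu (h4R v hv) a ha e').symm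
  let φ : R →* R' := (f.comp (inclusion hRM)).codRestrict R' fun r => ⟨_, r.2, rfl⟩
  have hφ : Function.Bijective φ := by
    refine ⟨fun r s e => Subtype.ext (congrArg Subtype.val (hinj ⟨r, hRM r.2⟩ ⟨s, hRM s.2⟩ r.2 s.2 (congrArg Subtype.val e)) :), ?_⟩
    rintro ⟨_, v, hv, rfl⟩
    exact ⟨⟨v, hv⟩, rfl⟩
  have hext : IsExtraspecial 2 R' := LargeSimple.isExtraspecial_congr (MulEquiv.ofBijective φ hφ) hRes
  have hzM : z ∈ M := hRM hzR
  have hcenmap : (center R').map R'.subtype = zpowers (f ⟨z, hzM⟩) := by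
    have hzord : orderOf (f ⟨z, hzM⟩) = 2 := by
      rw [show f ⟨z, hzM⟩ = ((φ ⟨z, hzR⟩ : R') : M ⧸ A.subgroupOf M) from rfl, orderOf_coe,
        orderOf_injective φ hφ.1, orderOf_mk, hz]
    refine (eq_of_le_of_card_ge (zpowers_le.mpr (show f ⟨z, hzM⟩ ∈ (center R').map R'.subtype from
      ⟨φ ⟨z, hzR⟩, mem_center_iff.mpr fun v => ?_, rfl⟩)) ?_).symm
    · obtain ⟨r, rfl⟩ := hφ.2 v
      rw [← map_mul, ← map_mul]
      exact congrArg φ (Subtype.ext (hbig.zc r (hRQ r.2)).symm)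
    · rw [card_map_subtype, hext.2, Nat.card_zpowers, hzord]
  have hsplit : ∀ u : M, ∃ c, ∃ hc' : c ∈ centralizer (A : Set G), f u = f ⟨c, hCM hc'⟩ := fun u => by
    obtain ⟨c, hc', a, ha, e⟩ := hdecomp u u.2
    refine ⟨c, hc', ((QuotientGroup.eq (s := A.subgroupOf M)).mpr ?_).symm⟩
    show c⁻¹ * (u : G) ∈ A
    rw [e, inv_mul_cancel_left]; exact ha
  have hfix : ∀ u r : G, ∀ hu : u ∈ centralizer (A : Set G), ∀ hr : r ∈ R,
      Commute (f ⟨u, hCM hu⟩) (f ⟨r, hRM hr⟩) → u * r = r * u := fun u r hu hr e => by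
    obtain ⟨a, ha, e'⟩ := hf ⟨r, hRM hr⟩ (⟨u, hCM hu⟩ * ⟨r, hRM hr⟩ * ⟨u, hCM hu⟩⁻¹)
      (by rw [map_mul, map_mul, map_inv, e.eq, mul_inv_cancel_right])
    exact mul_inv_eq_iff_eq_mul.mp (hrig r (u * r * u⁻¹) hr (by rw [conj_pow, h4R r hr]; group) a ha e')
  have hcentP : centralizer (R' : Set (M ⧸ A.subgroupOf M)) = (center R').map R'.subtype := by
    refine le_antisymm (fun v hv => ?_) ?_
    · obtain ⟨u, rfl⟩ := QuotientGroup.mk'_surjective _ v
      obtain ⟨c, hc', e⟩ := hsplit u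
      rw [e] at hv ⊢
      have hcK : c ∈ centralizer ((A ⊔ R : Subgroup G) : Set G) := by
        have : A ⊔ R ≤ centralizer ({c} : Set G) := sup_le
          (fun a ha => mem_centralizer_singleton_iff.mpr (mem_centralizer_iff.mp hc' a ha))
          (fun r hr => mem_centralizer_singleton_iff.mpr (hfix c r hc' hr
            (mem_centralizer_iff.mp hv _ ⟨⟨r, hRM hr⟩, hr, rfl⟩).symm).symm)
        exact mem_centralizer_iff.mpr fun v hv => mem_centralizer_singleton_iff.mp (this hv)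
      rw [hcenmap]
      obtain ⟨a, ha, e' | e'⟩ := hKz c hcK
      · rw [show f ⟨c, hCM hc'⟩ = 1 from (QuotientGroup.eq_one_iff _).mpr (show c ∈ A from e' ▸ ha)]
        exact one_mem _
      · rw [show f ⟨c, hCM hc'⟩ = f ⟨a, hM ▸ mem_sup_right ha⟩ * f ⟨z, hzM⟩ by rw [← map_mul]; exact congrArg f (Subtype.ext e'),
          show f ⟨a, hM ▸ mem_sup_right ha⟩ = 1 from (QuotientGroup.eq_one_iff _).mpr (show a ∈ A from ha), one_mul]
        exact mem_zpowers _
    · rintro _ ⟨v, hv, rfl⟩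
      exact mem_centralizer_iff.mpr fun w hw => congrArg Subtype.val (mem_center_iff.mp hv ⟨w, hw⟩)
  have hnorm : centralizer (((center R').map R'.subtype) : Set (M ⧸ A.subgroupOf M)) ≤
      normalizer (R' : Set (M ⧸ A.subgroupOf M)) := by
    rw [hcenmap, LargeBasics.centralizer_zpowers]
    refine fun v hv => LargePair.mem_norm_of_map_le fun w hw => ?_
    obtain ⟨u, rfl⟩ := QuotientGroup.mk'_surjective _ v
    obtain ⟨c, hc', e⟩ := hsplit u
    rw [e] at hv ⊢
    obtain ⟨r, hr, rfl⟩ := hw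
    refine ⟨⟨c, hCM hc'⟩ * r * ⟨c, hCM hc'⟩⁻¹, ?_, by simp only [map_mul, map_inv]⟩
    show c * (r : G) * c⁻¹ ∈ R
    rw [hR]
    refine ⟨hbig.norm c (hfix c z hc' hzR (mem_centralizer_singleton_iff.mp hv)) _ (hRQ hr), ?_⟩
    exact (centralizer (A : Set G)).mul_mem ((centralizer (A : Set G)).mul_mem hc' (hRA hr)) ((centralizer (A : Set G)).inv_mem hc')
  have hxC : p⁻¹ * q ∈ centralizer (A : Set G) := mul_mem (inv_mem hpA) (hRA hq)
  have hcard : 32 ≤ Nat.card R' := by rw [← Nat.card_congr (MulEquiv.ofBijective φ hφ).toEquiv]; exact hR32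
  have hxy : (f ⟨_, hCM hxC⟩)⁻¹ * f ⟨z, hzM⟩ * ((f ⟨_, hCM hxC⟩)⁻¹)⁻¹ = f ⟨y, hRM hgR⟩ := by
    rw [inv_inv, ← map_inv, ← map_mul, ← map_mul]
    refine congrArg f (Subtype.ext ?_)
    show (p⁻¹ * q)⁻¹ * z * (p⁻¹ * q) = y
    rw [← hx]; group
  refine (Conf.of_conj (Big.of_hyp R' hext hcentP hnorm hcard (f ⟨z, hzM⟩) hcenmap) (f ⟨_, hCM hxC⟩)⁻¹ ?_ ?_).large
    hext hcentP hnorm hcenmap
  · rw [hxy]; exact ⟨_, hgR, rfl⟩
  · rw [hxy]
    exact fun e => hne (congrArg Subtype.val (hinj ⟨y, hRM hgR⟩ ⟨z, hzM⟩ hgR hzR e))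

end Cfsg.Agent.Solv.LargeOddQuotient
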