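import Cfsg.Agent.Lib.Solv.LargeSimple
import Cfsg.Agent.Lib.Solv.ExtraspecialModels

/-!
A large extraspecial subgroup in the quotient of an involution centralizer.
-/

set_option autoImplicit false
set_option linter.style.haveILetI false
set_option linter.unusedSectionVars false

namespace Cfsg.Agent.Solv.LargeQuotient

open Subgroup LargePair
open scoped commutatorElement

variable {G : Type*} [Group G] {z t : G} {Q : Subgroup G}

theorem pow_two_cases {u v : G} (hv : v * v = 1) (h : u ∈ zpowers v) : u = 1 ∨ u = v := by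
  obtain ⟨i, rfl⟩ := mem_zpowers_iff.mp h
  rcases Int.even_or_odd i with ⟨m, rfl⟩ | ⟨m, rfl⟩
  · left; rw [← two_mul, zpow_mul, zpow_two, hv, one_zpow]
  · right; rw [zpow_add, zpow_mul, zpow_two, hv, one_zpow, one_mul, zpow_one]

/-- The centre of the centralizer of a non-central involution inside `Q`. -/
theorem center_fixed (h : Big Q z) (ht : t ∈ Q) (ht1 : t ≠ 1) (htz : t ≠ z) (htt : t * t = 1) {u : G}
    (hu : u ∈ Q) (hc : ∀ v ∈ Q, v * t = t * v → u * v = v * u) : u = 1 ∨ u = z ∨ u = t ∨ u = z * t := by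
  obtain ⟨m, hm, hmt⟩ := h.exists_move ht ht1 htz
  have hcent : ∀ s ∈ Q, (∀ v ∈ Q, v * t = t * v → s * v = v * s) → m * s * m⁻¹ = s → s = 1 ∨ s = z := by
    intro s hs hsc hsm
    refine h.cent s fun v hv => ?_
    rcases h.dichotomy ht hv with e | e
    · exact hsc v hv (mul_inv_eq_iff_eq_mul.mp e)
    · have hw : (m⁻¹ * v) * t = t * (m⁻¹ * v) := by
        refine mul_inv_eq_iff_eq_mul.mp ?_
        calc m⁻¹ * v * t * (m⁻¹ * v)⁻¹ = m⁻¹ * (v * t * v⁻¹) * m := by group
          _ = m⁻¹ * (m * t * m⁻¹) * m := by rw [e, hmt]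
          _ = t := by group
      have h1 := hsc _ (Q.mul_mem (Q.inv_mem hm) hv) hw
      calc s * v = (s * m) * (m⁻¹ * v) := by group
        _ = m * (s * (m⁻¹ * v)) := by rw [← mul_inv_eq_iff_eq_mul.mp hsm, mul_assoc]
        _ = v * s := by rw [h1]; group
  rcases h.dichotomy hu hm with e | e
  · exact (hcent u hu hc e).imp_right Or.inl
  · have h2 : m * (u * t) * m⁻¹ = u * t := by
      rw [show m * (u * t) * m⁻¹ = (m * u * m⁻¹) * (m * t * m⁻¹) by group, e, hmt,
        show z * u * (z * t) = z * (u * z) * t by group, ← h.zc u hu, ← mul_assoc, h.zz, one_mul]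
    rcases hcent (u * t) (Q.mul_mem hu ht) (fun v hv hvt => ((show Commute u v from hc v hv hvt).mul_left
      (show Commute t v from hvt.symm)).eq) h2 with e' | e'
    · right; right; left
      rw [eq_inv_of_mul_eq_one_left e', inv_eq_of_mul_eq_one_right htt]
    · right; right; right
      rw [← e', mul_assoc, htt, mul_one]

variable [Finite G]

theorem quotient_large (hz : orderOf z = 2) (hQC : Q ≤ centralizer ({z} : Set G))
    (hF : (generalizedFittingSubgroup ↥(centralizer ({z} : Set G))).map (centralizer ({z} : Set G)).subtype = Q)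
    (hQ : IsExtraspecial 2 Q) (w : ℕ) (hw : 3 ≤ w) (hcard : Nat.card Q = 2 ^ (2 * w + 1))
    (g : G) (hgQ : g * z * g⁻¹ ∈ Q) (hne : g * z * g⁻¹ ≠ z) (ht : orderOf t = 2)
    (htQ : t ∈ Q ⊓ Q.map (MulAut.conj g).toMonoidHom) (htz : ¬ IsConj z t)
    (hCP : ∀ c ∈ centralizer ({z} : Set G), (∀ x ∈ Q ⊓ centralizer ({t} : Set G),
      ∃ y ∈ closure ({t, z} : Set G), c * x * c⁻¹ = x * y) → c ∈ Q)
    [hn : ((zpowers t).subgroupOf (centralizer ({t} : Set G))).Normal] :
    IsLargeExtraspecial (((Q ⊓ centralizer ({t} : Set G)).subgroupOf (centralizer ({t} : Set G))).map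
        (QuotientGroup.mk' ((zpowers t).subgroupOf (centralizer ({t} : Set G))))) ∧
      ∃ x ∈ (Q ⊓ centralizer ({t} : Set G)) ⊔ (Q.map (MulAut.conj g).toMonoidHom ⊓ centralizer ({t} : Set G)),
        x * (g * z * g⁻¹) * x⁻¹ = z := by
  haveI : Fact (Nat.Prime 2) := ⟨Nat.prime_two⟩
  obtain ⟨hZ, hL2, hL3⟩ := LargeSimple.facts hz hQC hF hQ
  have hbig : Big Q z := Big.of_hyp Q hQ hL2 hL3 (by
    rw [hcard]; exact le_trans (by norm_num : 32 ≤ 2 ^ 5) (Nat.pow_le_pow_right (by norm_num) (by omega))) z hZ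
  set y := g * z * g⁻¹ with hy
  have hc : Conf Q (Q.map (MulAut.conj g).toMonoidHom) z y := Conf.of_conj hbig g hgQ hne
  have htt : t * t = 1 := by rw [← pow_two, ← ht, pow_orderOf_eq_one]
  have hyy : y * y = 1 := hc.hQy.zz
  have ht1 : t ≠ 1 := fun e => by rw [e, orderOf_one] at ht; omega
  have hzt : t ≠ z := fun e => htz (e ▸ IsConj.refl z)
  have hzy : IsConj z y := isConj_iff.mpr ⟨g, rfl⟩
  obtain ⟨m, hm, hmt⟩ := hbig.exists_move htQ.1 ht1 hzt
  have hztc : ¬ IsConj z (z * t) := fun hh => htz (hh.trans (IsConj.symm (isConj_iff.mpr ⟨m, hmt⟩)))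
  obtain ⟨my, hmy, hmy'⟩ := hbig.exists_move hgQ hc.hQy.z_ne hne
  have hzyc : IsConj z (z * y) := hzy.trans (isConj_iff.mpr ⟨my, hmy'⟩)
  have hty : t ≠ y := fun e => htz (e ▸ hzy)
  -- an element of `C_Q(t)` moving `y`
  obtain ⟨q, hq, hqt, hqy⟩ : ∃ q ∈ Q, q * t = t * q ∧ q * y * q⁻¹ = z * y := by
    by_contra hn'
    push Not at hn'
    rcases center_fixed hbig htQ.1 ht1 hzt htt hgQ fun v hv hvt =>
      ((hbig.dichotomy hgQ hv).elim (fun e => (mul_inv_eq_iff_eq_mul.mp e).symm) fun e => absurd e (hn' v hv hvt))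
      with e | e | e | e
    · exact hc.hQy.z_ne e
    · exact hne e
    · exact hty e.symm
    · exact hztc (e ▸ hzy)
  obtain ⟨p, hp, hpt, hpz⟩ : ∃ p ∈ Q.map (MulAut.conj g).toMonoidHom, p * t = t * p ∧ p * z * p⁻¹ = y * z := by
    by_contra hn'
    push Not at hn'
    rcases center_fixed hc.hQy htQ.2 ht1 hty htt hc.z_mem fun v hv hvt =>
      ((hc.hQy.dichotomy hc.z_mem hv).elim (fun e => (mul_inv_eq_iff_eq_mul.mp e).symm) fun e => absurd e (hn' v hv hvt))
      with e | e | e | e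
    · exact hbig.z_ne e
    · exact hne e.symm
    · exact hzt e.symm
    · refine htz ?_
      have : t = z * y := by rw [hc.zy, e, ← mul_assoc, hyy, one_mul]
      rwa [this]
  have hx : (p⁻¹ * q) * y * (p⁻¹ * q)⁻¹ = z := by
    calc (p⁻¹ * q) * y * (p⁻¹ * q)⁻¹ = p⁻¹ * (q * y * q⁻¹) * p := by group
      _ = p⁻¹ * (p * z * p⁻¹) * p := by rw [hqy, hc.zy, hpz]
      _ = z := by group
  refine ⟨?_, p⁻¹ * q, mul_mem (mem_sup_right (inv_mem ⟨hp, mem_centralizer_singleton_iff.mpr hpt⟩))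
    (mem_sup_left ⟨hq, mem_centralizer_singleton_iff.mpr hqt⟩), hx⟩
  set H := centralizer ({t} : Set G)
  set f := QuotientGroup.mk' ((zpowers t).subgroupOf H)
  set P := Q ⊓ H
  set P' := (P.subgroupOf H).map f
  have hf : ∀ u v : H, f u = f v → (v : G) = u ∨ (v : G) = u * t := by
    intro u v e
    rcases pow_two_cases htt (show ((u⁻¹ * v : H) : G) ∈ zpowers t from (QuotientGroup.eq (s := (zpowers t).subgroupOf H)).mp e) with e' | e'
    · exact Or.inl (inv_mul_eq_one.mp e').symm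
    · exact Or.inr (inv_mul_eq_iff_eq_mul.mp e')
  have htH : t ∈ H := mem_centralizer_singleton_iff.mpr rfl
  have hft : f ⟨t, htH⟩ = 1 := (QuotientGroup.eq_one_iff _).mpr (mem_zpowers t)
  have hzt' : z * t = t * z := hbig.zc t htQ.1
  have hzH : z ∈ H := mem_centralizer_singleton_iff.mpr hzt'
  have hzP : (⟨z, hzH⟩ : H) ∈ P.subgroupOf H := ⟨hbig.zQ, hzH⟩
  have htP : (⟨t, htH⟩ : H) ∈ P.subgroupOf H := ⟨htQ.1, htH⟩
  -- a member of `H` acting trivially
  have hkey : ∀ u : H, (∀ v : H, v ∈ P.subgroupOf H → f u * f v = f v * f u) →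
      f u = 1 ∨ f u = f ⟨z, hzH⟩ := by
    intro u hu
    have hut : Commute (u : G) t := mem_centralizer_singleton_iff.mp u.2
    have hact : ∀ v : H, v ∈ P.subgroupOf H →
        (u : G) * v * (u : G)⁻¹ = v ∨ (u : G) * v * (u : G)⁻¹ = v * t := fun v hv => by
      rcases hf v (u * v * u⁻¹) (by rw [map_mul, map_mul, map_inv, hu v hv, mul_inv_cancel_right]) with e | e
      · exact Or.inl e
      · exact Or.inr e
    have huz : (u : G) * z = z * u := by
      rcases hact ⟨z, hzH⟩ hzP with e | e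
      · exact mul_inv_eq_iff_eq_mul.mp e
      · exact absurd (isConj_iff.mpr ⟨(u : G), e⟩) hztc
    have huQ : (u : G) ∈ Q := by
      refine hCP u (mem_centralizer_singleton_iff.mpr huz) fun x hx' => ?_
      rcases hact ⟨x, hx'.2⟩ hx' with e | e
      · exact ⟨1, one_mem _, by rw [mul_one]; exact e⟩
      · exact ⟨t, subset_closure (Or.inl rfl), e⟩
    have hcomm : ∀ v ∈ Q, v * t = t * v → (u : G) * v = v * u := fun v hv hvt => by
      have hvH : v ∈ H := mem_centralizer_singleton_iff.mpr hvt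
      rcases hact ⟨v, hvH⟩ ⟨hv, hvH⟩ with e | e
      · exact mul_inv_eq_iff_eq_mul.mp e
      · exfalso
        have e' : (u : G) * v * (u : G)⁻¹ * v⁻¹ = t := by
          rw [show (u : G) * v * (u : G)⁻¹ = v * t from e, hvt, mul_inv_cancel_right]
        rcases hbig.cc _ huQ v hv with e'' | e''
        · exact ht1 (e'.symm.trans e'')
        · exact hzt (e'.symm.trans e'')
    rcases center_fixed hbig htQ.1 ht1 hzt htt huQ hcomm with e | e | e | e
    · left; rw [show u = 1 from Subtype.ext e, map_one]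
    · right; rw [show u = ⟨z, hzH⟩ from Subtype.ext e]
    · left; rw [show u = ⟨t, htH⟩ from Subtype.ext e, hft]
    · right
      rw [show u = ⟨z, hzH⟩ * ⟨t, htH⟩ from Subtype.ext e, map_mul, hft, mul_one]
  have hz1 : f ⟨z, hzH⟩ ≠ 1 := fun e => by
    rcases hf ⟨z, hzH⟩ 1 (by rw [e, map_one]) with e' | e'
    · exact hbig.z_ne e'.symm
    · exact hzt (mul_left_cancel (a := z) (e'.symm.trans hbig.zz.symm))
  have hzord : orderOf (f ⟨z, hzH⟩) = 2 := orderOf_eq_prime (by
    rw [pow_two, ← map_mul, show (⟨z, hzH⟩ * ⟨z, hzH⟩ : H) = 1 from Subtype.ext hbig.zz, map_one]) hz1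
  have hzmem : f ⟨z, hzH⟩ ∈ P' := ⟨_, hzP, rfl⟩
  have hone : ∀ x : G, ∀ hxH : x ∈ H, x = 1 ∨ x = z → f ⟨x, hxH⟩ = 1 ∨ f ⟨x, hxH⟩ = f ⟨z, hzH⟩ := by
    rintro x hxH (rfl | rfl)
    · exact Or.inl (map_one f)
    · exact Or.inr rfl
  have hzcent : ∀ v : H, v ∈ P.subgroupOf H → f ⟨z, hzH⟩ * f v = f v * f ⟨z, hzH⟩ := fun v hv => by
    rw [← map_mul, ← map_mul]
    exact congrArg f (Subtype.ext (hbig.zc v hv.1))
  let D : ESClass.ES 2 P' :=
    { z := ⟨_, hzmem⟩
      hz := by rw [← orderOf_coe]; exact hzord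
      cent := by
        rintro ⟨_, v, hv, rfl⟩
        exact Subtype.ext (hzcent v hv)
      comm := by
        rintro ⟨_, v, hv, rfl⟩ ⟨_, v', hv', rfl⟩
        rcases hone _ (⁅v, v'⁆).2 (by simpa [commutatorElement_def] using hbig.cc _ hv.1 _ hv'.1) with e | e
        · exact mem_zpowers_iff.mpr ⟨0, Subtype.ext (by rw [zpow_zero]; exact e.symm.trans (map_commutatorElement f v v'))⟩
        · exact mem_zpowers_iff.mpr ⟨1, Subtype.ext (by rw [zpow_one]; exact e.symm.trans (map_commutatorElement f v v'))⟩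
      pw := by
        rintro ⟨_, v, hv, rfl⟩
        rcases hone _ (v * v).2 (by simpa using hbig.sq _ hv.1) with e | e
        · exact mem_zpowers_iff.mpr ⟨0, Subtype.ext (by rw [zpow_zero]; exact e.symm.trans (by rw [← pow_two v]; exact map_pow f v 2))⟩
        · exact mem_zpowers_iff.mpr ⟨1, Subtype.ext (by rw [zpow_one]; exact e.symm.trans (by rw [← pow_two v]; exact map_pow f v 2))⟩
      nd := by
        rintro ⟨_, v, hv, rfl⟩ hh
        rcases hkey v (fun v' hv' => congrArg Subtype.val (hh ⟨_, v', hv', rfl⟩)) with e | e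
        · exact mem_zpowers_iff.mpr ⟨0, Subtype.ext (by simpa using e.symm)⟩
        · exact mem_zpowers_iff.mpr ⟨1, Subtype.ext (by simpa using e.symm)⟩ }
  have hyH : y ∈ H := mem_centralizer_singleton_iff.mpr (hc.hQy.zc t htQ.2)
  have hyP : f ⟨y, hyH⟩ ∈ P' := ⟨_, ⟨hgQ, hyH⟩, rfl⟩
  have hy1 : f ⟨y, hyH⟩ ≠ 1 := fun e => by
    rcases hf ⟨y, hyH⟩ 1 (by rw [e, map_one]) with e' | e'
    · exact hc.hQy.z_ne e'.symm
    · exact hty (mul_left_cancel (a := y) (e'.symm.trans hyy.symm))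
  have hyz : f ⟨y, hyH⟩ ≠ f ⟨z, hzH⟩ := fun e => by
    rcases hf ⟨z, hzH⟩ ⟨y, hyH⟩ e.symm with e' | e'
    · exact hne e'
    · exact hztc (e' ▸ hzy)
  have hqH : q ∈ H := mem_centralizer_singleton_iff.mpr hqt
  have hext : IsExtraspecial 2 P' := by
    refine D.isExtraspecial (a := ⟨_, ⟨(⟨q, hqH⟩ : H), ⟨hq, hqH⟩, rfl⟩⟩) (b := ⟨_, hyP⟩) fun e => ?_
    have e' : f (⟨q, hqH⟩ * ⟨y, hyH⟩) = f (⟨y, hyH⟩ * ⟨q, hqH⟩) := by
      rw [map_mul, map_mul]; exact congrArg Subtype.val e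
    rcases hf _ _ e' with e'' | e''
    · refine hbig.z_ne ?_
      have : q * y * q⁻¹ = y := mul_inv_eq_iff_eq_mul.mpr e''.symm
      exact mul_eq_right.mp (hqy.symm.trans this)
    · have h2 : q * y * q⁻¹ = z * y := hqy
      have h3 : y * q = z * y * q * t := by rw [show y * q = q * y * t from e'', ← h2]; group
      have h4 : y * q = y * q * (z * t) := by
        conv_lhs => rw [h3]
        rw [show z * y * q * t = (z * (y * q)) * t by group, hbig.zc _ (Q.mul_mem hgQ hq)]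
        group
      exact hzt (mul_left_cancel ((left_eq_mul.mp h4).trans hbig.zz.symm)).symm.symm
  have hcenmap : (center P').map P'.subtype = zpowers (f ⟨z, hzH⟩) := by
    refine (eq_of_le_of_card_ge (zpowers_le.mpr (show f ⟨z, hzH⟩ ∈ (center P').map P'.subtype from
      ⟨D.z, mem_center_iff.mpr fun v => (D.cent v).symm, rfl⟩)) ?_).symm
    rw [card_map_subtype, hext.2, Nat.card_zpowers, hzord]
  have hcentP : centralizer (P' : Set (H ⧸ (zpowers t).subgroupOf H)) = (center P').map P'.subtype := by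
    refine le_antisymm (fun u hu => ?_) ?_
    · obtain ⟨u, rfl⟩ := QuotientGroup.mk'_surjective _ u
      rw [hcenmap]
      rcases hkey u (fun v hv => (mem_centralizer_iff.mp hu _ ⟨v, hv, rfl⟩).symm) with e | e <;> rw [e]
      · exact one_mem _
      · exact mem_zpowers _
    · rintro _ ⟨u, hu, rfl⟩
      exact mem_centralizer_iff.mpr fun v hv => congrArg Subtype.val (mem_center_iff.mp hu ⟨v, hv⟩)
  have hnorm : centralizer (((center P').map P'.subtype) : Set (H ⧸ (zpowers t).subgroupOf H)) ≤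
      normalizer (P' : Set (H ⧸ (zpowers t).subgroupOf H)) := by
    rw [hcenmap, LargeBasics.centralizer_zpowers]
    refine fun u hu => LargePair.mem_norm_of_map_le fun v hv => ?_
    obtain ⟨u, rfl⟩ := QuotientGroup.mk'_surjective _ u
    obtain ⟨v, hv', rfl⟩ := hv
    have huz : (u : G) * z = z * u := by
      have e := mem_centralizer_singleton_iff.mp hu
      rcases hf ⟨z, hzH⟩ (u * ⟨z, hzH⟩ * u⁻¹) (by rw [map_mul, map_mul, map_inv, e, mul_inv_cancel_right]) with e' | e'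
      · exact mul_inv_eq_iff_eq_mul.mp e'
      · exact absurd (isConj_iff.mpr ⟨(u : G), e'⟩) hztc
    refine ⟨u * v * u⁻¹, ⟨hbig.norm _ huz _ hv'.1, (u * v * u⁻¹).2⟩, by simp only [map_mul, map_inv]; rfl⟩
  refine ((Conf.of_conj (Big.of_hyp P' hext hcentP hnorm ?_ (f ⟨z, hzH⟩) hcenmap) (f ⟨p⁻¹ * q, ?_⟩)⁻¹ ?_ ?_).large
    hext hcentP hnorm hcenmap)
  · have h1 : Nat.card Q ≤ 2 * Nat.card P := by
      have e : Nat.card Q ≤ Nat.card (Fin 2 × P) := by
        classical
        refine Nat.card_le_card_of_surjective (fun i : Fin 2 × P => (⟨m ^ (i.1 : ℕ) * i.2,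
          Q.mul_mem (Q.pow_mem hm _) i.2.2.1⟩ : Q)) fun v => ?_
        rcases hbig.dichotomy htQ.1 v.2 with e | e
        · exact ⟨(0, ⟨v, v.2, mem_centralizer_singleton_iff.mpr (mul_inv_eq_iff_eq_mul.mp e)⟩), Subtype.ext (by simp)⟩
        · refine ⟨(1, ⟨m⁻¹ * v, Q.mul_mem (Q.inv_mem hm) v.2, mem_centralizer_singleton_iff.mpr (mul_inv_eq_iff_eq_mul.mp ?_)⟩),
            Subtype.ext (by simp)⟩
          calc m⁻¹ * v * t * (m⁻¹ * v)⁻¹ = m⁻¹ * ((v : G) * t * (v : G)⁻¹) * m := by group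
            _ = m⁻¹ * (m * t * m⁻¹) * m := by rw [e, hmt]
            _ = t := by group
      simpa using e
    have h2 : Nat.card P ≤ 2 * Nat.card P' := by
      let s : P' → H := fun v => v.2.choose
      have hs : ∀ v, f (s v) = v.1 := fun v => v.2.choose_spec.2
      have hsP : ∀ v, s v ∈ P.subgroupOf H := fun v => v.2.choose_spec.1
      have e : Nat.card P ≤ Nat.card (Fin 2 × P') := by
        refine Nat.card_le_card_of_surjective (fun i : Fin 2 × P' => (⟨(s i.2 : G) * t ^ (i.1 : ℕ),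
          P.mul_mem (hsP i.2) (P.pow_mem htP _)⟩ : P)) fun v => ?_
        have hv : f ⟨v, v.2.2⟩ ∈ P' := ⟨_, v.2, rfl⟩
        rcases hf (s ⟨_, hv⟩) ⟨v, v.2.2⟩ (hs _) with e | e
        · exact ⟨(0, ⟨_, hv⟩), Subtype.ext (by simpa using e.symm)⟩
        · exact ⟨(1, ⟨_, hv⟩), Subtype.ext (by simpa using e.symm)⟩
      simpa using e
    have : 2 ^ 7 ≤ Nat.card Q := hcard ▸ Nat.pow_le_pow_right (by norm_num) (by omega)
    omega
  · exact H.mul_mem (H.inv_mem (mem_centralizer_singleton_iff.mpr hpt)) hqH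
  all_goals
    have hxy : ∀ a : H, (a : G) = p⁻¹ * q → (f a)⁻¹ * f ⟨z, hzH⟩ * ((f a)⁻¹)⁻¹ = f ⟨y, hyH⟩ := fun a ha => by
      rw [inv_inv, ← map_inv, ← map_mul, ← map_mul]
      refine congrArg f (Subtype.ext ?_)
      show (a : G)⁻¹ * z * a = y
      rw [ha, ← hx]; group
    rw [hxy _ rfl]
  · exact hyP
  · exact hyz

end Cfsg.Agent.Solv.LargeQuotient
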