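import Cfsg.Prelude.Def_MonsterType
import Cfsg.Agent.Lib.Solv.LargeBasics
import Cfsg.Agent.Lib.Solv.Misc
import Cfsg.Agent.Lib.Solv.ExtraspecialTwo
import Cfsg.Agent.Lib.Local.FStar
import Cfsg.Agent.Lib.Local.LayerLocal
import Cfsg.Agent.Lib.Struct.ClassTwoBasic

/-!
The structure of a finite group with a large extraspecial subgroup.
-/

set_option autoImplicit false
set_option linter.style.haveILetI false
set_option linter.unusedSectionVars false

namespace Cfsg.Agent.Solv.LargeStructure

open Subgroup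
open scoped commutatorElement Pointwise

variable {G : Type*} [Group G] {Q : Subgroup G} {z : G}

/-- What is used of a large extraspecial subgroup. -/
structure Core (Q : Subgroup G) (z : G) : Prop where
  two : IsPGroup 2 Q
  hz : orderOf z = 2
  zQ : z ∈ Q
  zc : ∀ q ∈ Q, z * q = q * z
  cc : ∀ u ∈ Q, ∀ v ∈ Q, u * v * u⁻¹ * v⁻¹ = 1 ∨ u * v * u⁻¹ * v⁻¹ = z
  sq : ∀ u ∈ Q, u * u = 1 ∨ u * u = z
  cent : ∀ u : G, (∀ v ∈ Q, u * v = v * u) → u = 1 ∨ u = z
  norm : ∀ k : G, k * z = z * k → ∀ v ∈ Q, k * v * k⁻¹ ∈ Q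
  odd : ∀ K : Subgroup G, Odd (Nat.card K) → Q ≤ normalizer (K : Set G) → K = ⊥

theorem Core.of_large [Finite G] (hQ : IsLargeExtraspecial Q) (hzZ : (center Q).map Q.subtype = zpowers z) :
    Core Q z := by
  obtain ⟨h1, h2, h3, h4⟩ := hQ
  haveI : Fact (Nat.Prime 2) := ⟨Nat.prime_two⟩
  obtain ⟨D⟩ := ESClass.ES.exists_of h1
  have hz : orderOf z = 2 := by rw [← Nat.card_zpowers, ← hzZ, card_map_subtype, h1.2]
  have hval : ∀ u : G, u ∈ zpowers z → u = 1 ∨ u = z := fun u hu => by
    obtain ⟨i, hi⟩ := mem_powers_iff_mem_zpowers.mpr hu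
    simp only at hi
    rw [← pow_mod_orderOf, hz] at hi
    rcases Nat.mod_two_eq_zero_or_one i with h | h <;> rw [h] at hi
    · exact Or.inl (by simpa using hi.symm)
    · exact Or.inr (by simpa using hi.symm)
  obtain ⟨⟨w, hwQ⟩, hwc, hwz⟩ := hzZ.ge (mem_zpowers z)
  simp only [Subgroup.coe_subtype] at hwz
  subst hwz
  have hDle : zpowers D.z ≤ center Q := zpowers_le.mpr (mem_center_iff.mpr fun u => (D.cent u).symm)
  have hzD : ∀ u : Q, u ∈ zpowers D.z → (u : G) = 1 ∨ (u : G) = w := fun u hu =>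
    hval _ (hzZ.le ⟨u, hDle hu, rfl⟩)
  refine ⟨?_, hz, hwQ, fun q hq => congrArg Subtype.val (mem_center_iff.mp hwc ⟨q, hq⟩).symm,
    fun u hu v hv => ?_, fun u hu => ?_, fun u hu => hval u (hzZ.le (h2.le (mem_centralizer_iff.mpr
      fun v hv => (hu v hv).symm))), fun k hk v hv => ?_, h4⟩
  · intro u
    have h := hzD _ (D.pw u)
    refine ⟨2, Subtype.ext ?_⟩
    have e : ((u : G) ^ 2) ^ 2 = 1 := by
      rcases h with h | h <;> rw [show (u : G) ^ 2 = ((u ^ 2 : Q) : G) from rfl, h]
      · exact one_pow 2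
      · exact orderOf_dvd_iff_pow_eq_one.mp (by rw [hz])
    simpa [← pow_mul] using e
  · simpa [commutatorElement_def] using hzD _ (D.comm ⟨u, hu⟩ ⟨v, hv⟩)
  · simpa [pow_two] using hzD _ (D.pw ⟨u, hu⟩)
  · exact (mem_normalizer_iff.mp (h3 (mem_centralizer_iff.mpr fun s hs => by
      obtain ⟨i, rfl⟩ := mem_zpowers_iff.mp (hzZ.le hs)
      exact ((Commute.zpow_right (show Commute k w from hk) i).eq).symm)) v).mp hv

theorem Core.zz (h : Core Q z) : z * z = 1 := by
  rw [← pow_two, ← h.hz, pow_orderOf_eq_one]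

theorem Core.inv_eq (h : Core Q z) : z⁻¹ = z := inv_eq_of_mul_eq_one_right h.zz

theorem Core.z_ne (h : Core Q z) : z ≠ 1 := fun e => by
  have := h.hz
  rw [e, orderOf_one] at this
  omega

theorem Core.pow_four (h : Core Q z) {u : G} (hu : u ∈ Q) : u ^ 4 = 1 := by
  rw [show (4 : ℕ) = 2 * 2 from rfl, pow_mul, pow_two, pow_two]
  rcases h.sq u hu with e | e <;> rw [e]
  · exact one_mul 1
  · exact h.zz

theorem card_relIndex {A B : Subgroup G} (h : A ≤ B) : Nat.card A * A.relIndex B = Nat.card B := by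
  rw [← relIndex_bot_left, relIndex_mul_relIndex ⊥ A B bot_le h, relIndex_bot_left]

variable [Finite G]

theorem pCore_pg (p : ℕ) [Fact p.Prime] (H : Type*) [Group H] [Finite H] : IsPGroup p (pCore p H) := by
  obtain ⟨P⟩ := (inferInstance : Nonempty (Sylow p H))
  exact P.isPGroup'.to_le (pCore_le_sylow P)

/-- A normal subgroup of even order meets a Sylow `2`-subgroup nontrivially. -/
theorem inf_sylow_ne_bot {W : Type*} [Group W] [Finite W] (N : Subgroup W) [N.Normal]
    (he : Even (Nat.card N)) (P : Sylow 2 W) : (P : Subgroup W) ⊓ N ≠ ⊥ := by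
  haveI : Fact (Nat.Prime 2) := ⟨Nat.prime_two⟩
  intro hb
  have h1 : (P : Subgroup W).relIndex N = Nat.card N := by
    rw [← inf_relIndex_right, hb, relIndex_bot_left]
  have h2 : (P : Subgroup W).relIndex N ∣ (P : Subgroup W).index := by
    have e : Nat.card ↥((P : Subgroup W) ⊔ N) = Nat.card N * Nat.card (P : Subgroup W) := by
      rw [← card_relIndex (A := N) (B := (P : Subgroup W) ⊔ N) le_sup_right, relIndex_sup_right,
        ← inf_relIndex_right, inf_comm, hb, relIndex_bot_left]
    have e' := card_relIndex (A := (P : Subgroup W)) (B := (P : Subgroup W) ⊔ N) le_sup_left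
    have e'' : (P : Subgroup W).relIndex ((P : Subgroup W) ⊔ N) = Nat.card N :=
      Nat.eq_of_mul_eq_mul_left Nat.card_pos (e'.trans (e.trans (mul_comm _ _)))
    rw [h1, ← e'']
    exact Dvd.intro _ (relIndex_mul_index le_sup_left)
  exact P.not_dvd_index ((even_iff_two_dvd.mp he).trans (h1 ▸ h2))

/-- The key property: a nontrivial subgroup normalized by `Q` contains `z`. -/
theorem Core.mem_of_invariant (h : Core Q z) (U : Subgroup G) (hU : Q ≤ normalizer (U : Set G))
    (hne : U ≠ ⊥) : z ∈ U := by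
  haveI : Fact (Nat.Prime 2) := ⟨Nat.prime_two⟩
  set W := normalizer (U : Set G)
  haveI : (U.subgroupOf W).Normal := normal_in_normalizer
  have he : Even (Nat.card (U.subgroupOf W)) := by
    rw [Nat.card_congr (subgroupOfEquivOfLe le_normalizer).toEquiv, ← Nat.not_odd_iff_even]
    exact fun ho => hne (h.odd U ho hU)
  obtain ⟨P, hP⟩ := (h.two.comap_of_injective W.subtype Subtype.coe_injective).exists_le_sylow
  have hN : (U.subgroupOf W).subgroupOf (P : Subgroup W) ≠ ⊥ := fun e => by
    apply inf_sylow_ne_bot (U.subgroupOf W) he P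
    rw [eq_bot_iff]
    intro x hx
    exact congrArg Subtype.val (mem_bot.mp (e.le (show (⟨x, hx.1⟩ : (P : Subgroup W)) ∈ _ from hx.2)))
  haveI : Group.IsNilpotent (P : Subgroup W) := P.isPGroup'.isNilpotent
  obtain ⟨c, hc, hc1⟩ := ((((U.subgroupOf W).subgroupOf (P : Subgroup W)) ⊓ center (P : Subgroup W)).bot_or_exists_ne_one).resolve_left
    (inf_center_ne_bot ((U.subgroupOf W).subgroupOf (P : Subgroup W)) hN)
  rcases h.cent ((c : W) : G) (fun v hv => congrArg (fun s : (P : Subgroup W) => ((s : W) : G))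
    (mem_center_iff.mp hc.2 ⟨⟨v, hU hv⟩, hP hv⟩).symm) with e | e
  · exact absurd (Subtype.ext (Subtype.ext e)) hc1
  · exact e ▸ hc.1

theorem Core.mem_normal (h : Core Q z) (N : Subgroup G) [N.Normal] (hne : N ≠ ⊥) : z ∈ N :=
  h.mem_of_invariant N (by rw [normalizer_eq_top_iff.2 inferInstance]; exact le_top) hne

/-- `z` is central in a Sylow `2`-subgroup of the group. -/
theorem Core.exists_sylow (h : Core Q z) :
    ∃ P : Sylow 2 G, ∀ x ∈ (P : Subgroup G), x * z = z * x := by
  haveI : Fact (Nat.Prime 2) := ⟨Nat.prime_two⟩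
  obtain ⟨P, hP⟩ := h.two.exists_le_sylow
  haveI : Nontrivial (P : Subgroup G) :=
    ⟨⟨⟨z, hP h.zQ⟩, 1, fun e => h.z_ne (congrArg Subtype.val e)⟩⟩
  haveI := P.isPGroup'.center_nontrivial
  obtain ⟨c, hc⟩ := exists_ne (1 : center (P : Subgroup G))
  refine ⟨P, fun x hx => ?_⟩
  rcases h.cent ((c : (P : Subgroup G)) : G) (fun v hv => congrArg Subtype.val
    (mem_center_iff.mp c.2 ⟨v, hP hv⟩).symm) with e | e
  · exact absurd (Subtype.ext (Subtype.ext e)) hc
  · rw [← e]; exact congrArg Subtype.val (mem_center_iff.mp c.2 ⟨x, hx⟩)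

omit [Finite G] in
theorem fitting_eq_bot_of (h : ∀ p : ℕ, p.Prime → pCore p G = ⊥) [Finite G] : fittingSubgroup G = ⊥ := by
  rw [fittingSubgroup_eq_iSup_pCore, eq_bot_iff]
  exact iSup_le fun q => (h _ q.2).le

theorem Core.pCore_odd (h : Core Q z) {p : ℕ} (hp : p.Prime) (hp2 : p ≠ 2) : pCore p G = ⊥ := by
  haveI : Fact p.Prime := ⟨hp⟩
  haveI := pCore_characteristic p G
  obtain ⟨i, hi⟩ := IsPGroup.iff_card.mp (pCore_pg p G)
  refine h.odd _ ?_ (Local.le_normalizer_pCore Q)
  rw [hi]
  exact (hp.odd_of_ne_two hp2).pow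

theorem Core.fitting (h : Core Q z) : fittingSubgroup G = pCore 2 G := by
  haveI : Fact (Nat.Prime 2) := ⟨Nat.prime_two⟩
  refine le_antisymm ?_ (pCore_le_fittingSubgroup 2)
  rw [fittingSubgroup_eq_iSup_pCore]
  refine iSup_le fun q => ?_
  by_cases hq : (q : ℕ) = 2
  · rw [hq]
  · rw [h.pCore_odd q.2 hq]; exact bot_le

theorem Core.pCore_case (h : Core Q z) (hne : pCore 2 G ≠ ⊥) :
    IsMulCommutative ↥(normalClosure ({z} : Set G)) ∧ generalizedFittingSubgroup G = pCore 2 G := by
  haveI : Fact (Nat.Prime 2) := ⟨Nat.prime_two⟩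
  haveI := pCore_characteristic 2 G
  haveI hn2 : (pCore 2 G).Normal := inferInstance
  constructor
  · set A := (center (pCore 2 G)).map (pCore 2 G).subtype
    haveI : A.Normal := inferInstance
    have hA : A ≠ ⊥ := by
      haveI := (nontrivial_iff_ne_bot (pCore 2 G)).mpr hne
      haveI := (pCore_pg 2 G).center_nontrivial
      rw [Ne, map_eq_bot_iff_of_injective _ (pCore 2 G).subtype_injective]
      exact (nontrivial_iff_ne_bot _).mp inferInstance
    have hle : normalClosure ({z} : Set G) ≤ A :=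
      normalClosure_le_normal (Set.singleton_subset_iff.mpr (h.mem_normal A hA))
    haveI : IsMulCommutative A := Local.commutative_center_map (pCore 2 G)
    exact ⟨⟨fun a b => Subtype.ext (show (a : G) * b = b * a from
      congrArg Subtype.val (IsMulCommutative.is_comm.comm (⟨a, hle a.2⟩ : A) ⟨b, hle b.2⟩))⟩⟩
  · have hl : layer G = ⊥ := by
      haveI := Local.layer_normal (G := G)
      by_contra hl
      have hzl := h.mem_normal _ hl
      have hzf : z ∈ pCore 2 G := h.mem_normal _ hne
      have hcz : ∀ x ∈ layer G, x * z = z * x := fun x hx =>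
        (mem_centralizer_iff.mp (Local.layer_le_centralizer_fitting hx) z (h.fitting.ge hzf)).symm
      obtain ⟨K, hK⟩ : ∃ K : Subgroup G, IsComponent K := by
        by_contra hn
        push Not at hn
        exact hl (eq_bot_iff.mpr (sSup_le fun K hK => absurd hK (hn K)))
      have hKl : K ≤ layer G := le_sSup hK
      have hKQ : ⁅K, Q⁆ ≤ pCore 2 G := by
        have h1 : ⁅layer G, Q⁆ ≤ Q ⊓ layer G := le_inf (commutator_le.mpr fun x hx q hq => by
            rw [commutatorElement_def]
            exact Q.mul_mem (h.norm x (hcz x hx) q hq) (Q.inv_mem hq))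
          (commutator_le_left _ _)
        have h2 : Q ⊓ layer G ≤ (pCore 2 ↥(layer G)).map (layer G).subtype := fun x hx => by
          haveI : (Q.comap (layer G).subtype).Normal := ⟨fun q hq k => h.norm k (hcz k k.2) q hq⟩
          exact ⟨⟨x, hx.2⟩, le_pCore (h.two.comap_of_injective (layer G).subtype Subtype.coe_injective) hx.1, rfl⟩
        refine ((commutator_mono hKl le_rfl).trans (h1.trans h2)).trans ?_
        haveI := pCore_characteristic 2 ↥(layer G)
        exact le_pCore ((pCore_pg 2 _).map _)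
      have hKc : ⁅⁅K, Q⁆, K⁆ = ⊥ := by
        refine eq_bot_iff.mpr ((commutator_mono hKQ le_rfl).trans ?_)
        rw [commutator_comm, Local.component_commutator_pCore hK]
      have := commutator_commutator_eq_bot_of_rotate (H₁ := K) (H₂ := K) (H₃ := Q)
        hKc (by rw [commutator_comm Q K]; exact hKc)
      rw [Local.component_eq_commutator hK, commutator_eq_bot_iff_le_centralizer] at this
      refine Local.component_ne_isPGroup (p := 2) hK (IsPGroup.to_le (h.two) fun x hx => ?_)
      rcases h.cent x (fun v hv => (mem_centralizer_iff.mp (this hx) v hv).symm) with e | e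
      · rw [e]; exact Q.one_mem
      · rw [e]; exact h.zQ
    rw [generalizedFittingSubgroup, hl, h.fitting, bot_sup_eq]

/-- Elements of the two subgroups of a trivially intersecting commuting pair. -/
theorem eq_of_mul_eq {A B : Subgroup G} (hAB : A ⊓ B = ⊥) {a a' b b' : G} (ha : a ∈ A) (ha' : a' ∈ A)
    (hb : b ∈ B) (hb' : b' ∈ B) (he : a * b = a' * b') : a = a' ∧ b = b' := by
  have e : a'⁻¹ * a = b' * b⁻¹ := by
    calc a'⁻¹ * a = a'⁻¹ * (a * b) * b⁻¹ := by group
      _ = b' * b⁻¹ := by rw [he]; group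
  have h1 : a'⁻¹ * a = 1 := mem_bot.mp (hAB.le ⟨A.mul_mem (A.inv_mem ha') ha, e ▸ B.mul_mem hb' (B.inv_mem hb)⟩)
  have h2 : a = a' := (inv_mul_eq_one.mp h1).symm
  exact ⟨h2, mul_left_cancel (a := a) (he.trans (by rw [h2]))⟩

/-- A group of even order in which every Sylow `2`-subgroup has order at most two is not simple nonabelian. -/
theorem simple_not_sylow_two {L : Type*} [Group L] [Finite L] [IsSimpleGroup L] (hL : ¬ IsMulCommutative L)
    (P : Sylow 2 L) (a : L) (ha : a ≠ 1) (ha2 : a * a = 1) (hP : ∀ x ∈ (P : Subgroup L), x = 1 ∨ x = a) : False := by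
  haveI : Fact (Nat.Prime 2) := ⟨Nat.prime_two⟩
  have hN : normalizer ((P : Subgroup L) : Set L) ≤ centralizer ((P : Subgroup L) : Set L) := by
    intro n hn
    refine mem_centralizer_iff.mpr fun x hx => ?_
    rcases hP x hx with e | e
    · rw [e]; simp
    · have hc : n * x * n⁻¹ ∈ (P : Subgroup L) := (mem_normalizer_iff.mp hn x).mp hx
      rcases hP _ hc with e' | e'
      · rw [mul_inv_eq_one] at e'
        exact absurd (mul_eq_left.mp e') (e ▸ ha)
      · exact (mul_inv_eq_iff_eq_mul.mp (e'.trans e.symm)).symm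
  have hc := MonoidHom.ker_transferSylow_isComplement' P hN
  rcases IsSimpleGroup.eq_bot_or_eq_top_of_normal _ (MonoidHom.normal_ker (MonoidHom.transferSylow P hN)) with e | e
  · rw [e, isComplement'_bot_left] at hc
    refine hL ⟨⟨fun x y => ?_⟩⟩
    rcases hP x (hc ▸ mem_top x) with ex | ex <;> rcases hP y (hc ▸ mem_top y) with ey | ey <;> simp [ex, ey]
  · rw [e, isComplement'_top_left] at hc
    have h2 : 2 ∣ Nat.card (P : Subgroup L) := P.dvd_card_of_dvd_card
      ((orderOf_eq_prime (by rw [pow_two, ha2]) ha) ▸ orderOf_dvd_natCard a)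
    rw [hc, card_bot] at h2
    omega


/-! The case of trivial `O₂`. -/

theorem relIndex_dvd_index' (N H : Subgroup G) [N.Normal] : H.relIndex N ∣ H.index := by
  have h1 := card_relIndex (A := N) (B := H ⊔ N) le_sup_right
  have h2 := card_relIndex (A := H) (B := H ⊔ N) le_sup_left
  have h3 := card_relIndex (A := N ⊓ H) (B := H) inf_le_right
  have h4 := card_relIndex (A := H ⊓ N) (B := N) inf_le_right
  rw [relIndex_sup_right] at h1
  rw [inf_relIndex_right] at h3 h4
  have e : H.relIndex (H ⊔ N) = H.relIndex N := by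
    refine Nat.eq_of_mul_eq_mul_left (Nat.card_pos (α := H)) ?_
    rw [h2, ← h1, ← h4, ← h3, inf_comm]
    ring
  rw [← e]
  exact Dvd.intro _ (relIndex_mul_index le_sup_left)

/-- The image of a subgroup under conjugation. -/
abbrev cj (g : G) (K : Subgroup G) : Subgroup G := K.map (MulAut.conj g).toMonoidHom

theorem mem_cj {g : G} {K : Subgroup G} {x : G} (hx : x ∈ K) : g * x * g⁻¹ ∈ cj g K := ⟨x, hx, rfl⟩

theorem cj_cj (g k : G) (K : Subgroup G) : cj g (cj k K) = cj (g * k) K := by
  rw [cj, cj, cj, map_map]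
  congr 1
  ext x
  simp [mul_assoc]

theorem cj_one (K : Subgroup G) : cj 1 K = K := by
  ext x
  simp [cj, mem_map]

theorem cj_injective (g : G) : Function.Injective (cj g) :=
  map_injective (MulAut.conj g).injective

/-- The other components. -/
def others (L : Subgroup G) : Subgroup G := sSup {K : Subgroup G | IsComponent K ∧ K ≠ L}

theorem exists_mul {A B : Subgroup G} (h : ∀ a ∈ A, ∀ b ∈ B, a * b = b * a) {x : G} (hx : x ∈ A ⊔ B) :
    ∃ a ∈ A, ∃ b ∈ B, x = a * b := by
  have e := MonoidHom.noncommCoprod_range A.subtype B.subtype fun a b => h a a.2 b b.2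
  rw [range_subtype, range_subtype] at e
  obtain ⟨⟨a, b⟩, hab⟩ := e.ge hx
  exact ⟨a, a.2, b, b.2, hab.symm⟩

theorem comm_components {K L : Subgroup G} (hK : IsComponent K) (hL : IsComponent L) (hne : K ≠ L) :
    ∀ x ∈ K, ∀ y ∈ L, x * y = y * x := fun _ hx y hy =>
  (mem_centralizer_iff.mp (commutator_eq_bot_iff_le_centralizer.mp (Local.components_commute hK hL hne) hx) y hy).symm

theorem others_commute {L : Subgroup G} (hL : IsComponent L) : ∀ x ∈ L, ∀ y ∈ others L, x * y = y * x := by
  intro x hx y hy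
  have : others L ≤ centralizer (L : Set G) := sSup_le fun K hK =>
    commutator_eq_bot_iff_le_centralizer.mp (Local.components_commute hK.1 hL hK.2)
  exact mem_centralizer_iff.mp (this hy) x hx

theorem le_layer {K : Subgroup G} (hK : IsComponent K) : K ≤ layer G := le_sSup hK

section trivialCore

variable (h : Core Q z) (h2 : pCore 2 G = ⊥)

include h h2

theorem fit_bot : fittingSubgroup G = ⊥ := h.fitting.trans h2

theorem exists_component : ∃ K : Subgroup G, IsComponent K := by
  by_contra hn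
  push Not at hn
  have hl : layer G = ⊥ := eq_bot_iff.mpr (sSup_le fun K hK => absurd hK (hn K))
  have := Local.centralizer_generalizedFitting_le (G := G)
  rw [generalizedFittingSubgroup, hl, fit_bot h h2, bot_sup_eq] at this
  exact h.z_ne (mem_bot.mp (this (mem_centralizer_iff.mpr fun u hu => by
    rw [mem_bot.mp hu, one_mul, mul_one])))

theorem component_le {K : Subgroup G} (hK : IsComponent K) : K ≤ normalClosure ({z} : Set G) := by
  refine (Local.component_le_or_commutator_eq_bot hK
    (normalClosure_normal (s := ({z} : Set G))).isSubnormal).resolve_right fun e => ?_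
  rw [commutator_eq_bot_iff_le_centralizer] at e
  set M := normalClosure ({z} : Set G)
  have hne : centralizer (M : Set G) ≠ ⊥ := fun e' => Local.component_ne_bot hK (eq_bot_iff.mpr (e.trans e'.le))
  have hz := h.mem_normal _ hne
  have hM : M ≤ centralizer (M : Set G) := normalClosure_le_normal (Set.singleton_subset_iff.mpr hz)
  haveI : IsMulCommutative M := ⟨⟨fun a b => Subtype.ext (mem_centralizer_iff.mp (hM b.2) a a.2)⟩⟩
  haveI : Group.IsNilpotent M := @CommGroup.isNilpotent M { (inferInstance : Group M) with mul_comm := IsMulCommutative.is_comm.comm }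
  have : M ≤ fittingSubgroup G := le_sSup ⟨inferInstance, inferInstance⟩
  rw [fit_bot h h2] at this
  exact h.z_ne (mem_bot.mp (this (subset_normalClosure rfl)))

theorem layer_eq : layer G = normalClosure ({z} : Set G) := by
  refine le_antisymm (sSup_le fun K hK => component_le h h2 hK) ?_
  haveI := Local.layer_normal (G := G)
  obtain ⟨K, hK⟩ := exists_component h h2
  exact normalClosure_le_normal (Set.singleton_subset_iff.mpr (h.mem_normal _ fun e =>
    Local.component_ne_bot hK (eq_bot_iff.mpr ((le_layer hK).trans e.le))))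

theorem fstar_eq : generalizedFittingSubgroup G = normalClosure ({z} : Set G) := by
  rw [generalizedFittingSubgroup, fit_bot h h2, sup_bot_eq, layer_eq h h2]

theorem eq_one_of_commute {x : G} (hx : x ∈ layer G)
    (hc : ∀ K : Subgroup G, IsComponent K → ∀ y ∈ K, y * x = x * y) : x = 1 := by
  have hl : layer G ≤ centralizer ({x} : Set G) := sSup_le fun K hK y hy =>
    mem_centralizer_singleton_iff.mpr (hc K hK y hy)
  have hmem : x ∈ (center ↥(layer G)).map (layer G).subtype :=
    ⟨⟨x, hx⟩, mem_center_iff.mpr fun y => Subtype.ext (mem_centralizer_singleton_iff.mp (hl y.2)), rfl⟩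
  rw [Local.center_layer_eq, fit_bot h h2] at hmem
  exact mem_bot.mp hmem.1

theorem component_inf_others {L : Subgroup G} (hL : IsComponent L) : L ⊓ others L = ⊥ := by
  refine eq_bot_iff.mpr fun x hx => mem_bot.mpr ?_
  refine eq_one_of_commute h h2 (le_layer hL hx.1) fun K hK y hy => ?_
  by_cases e : K = L
  · exact others_commute hL y (e ▸ hy) x hx.2
  · exact comm_components hK hL e y hy x hx.1

theorem component_simple {L : Subgroup G} (hL : IsComponent L) : IsSimpleGroup L ∧ ¬ IsMulCommutative L := by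
  have hc : center L = ⊥ := by
    refine eq_bot_iff.mpr fun x hx => mem_bot.mpr (Subtype.ext ?_)
    refine eq_one_of_commute h h2 (le_layer hL x.2) fun K hK y hy => ?_
    by_cases e : K = L
    · exact congrArg Subtype.val (mem_center_iff.mp hx ⟨y, e ▸ hy⟩)
    · exact comm_components hK hL e y hy x x.2
  haveI := Local.qs_nontrivial hL.2
  refine ⟨⟨fun N hN => ?_⟩, Local.qs_not_isMulCommutative hL.2⟩
  rcases Local.qs_normal_le_center_or_eq_top hL.2 N (hN := hN) with e | e
  · exact Or.inl (eq_bot_iff.mpr (hc ▸ e))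
  · exact Or.inr e

theorem not_centralized {K : Subgroup G} (hK : IsComponent K) : ¬ ∀ y ∈ K, y * z = z * y := by
  intro hc
  refine h.z_ne (eq_one_of_commute h h2 ((layer_eq h h2).ge (subset_normalClosure rfl)) fun L hL y hy => ?_)
  by_cases ho : ∃ q : Q, cj (q : G) K = L
  · obtain ⟨q, rfl⟩ := ho
    obtain ⟨x, hx, rfl⟩ := hy
    have e : (q : G) * z * (q : G)⁻¹ = z := by rw [← h.zc q q.2]; group
    show (q : G) * x * (q : G)⁻¹ * z = z * ((q : G) * x * (q : G)⁻¹)
    calc (q : G) * x * (q : G)⁻¹ * z = (q : G) * x * (q : G)⁻¹ * ((q : G) * z * (q : G)⁻¹) := by rw [e]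
      _ = (q : G) * (x * z) * (q : G)⁻¹ := by group
      _ = (q : G) * z * (q : G)⁻¹ * ((q : G) * x * (q : G)⁻¹) := by rw [hc x hx]; group
      _ = z * ((q : G) * x * (q : G)⁻¹) := by rw [e]
  · push Not at ho
    set U := ⨆ q : Q, cj (q : G) K
    have hUQ : Q ≤ normalizer (U : Set G) := by
      have hstep : ∀ r ∈ Q, ∀ u ∈ U, r * u * r⁻¹ ∈ U := by
        intro r hr u hu
        have hle : cj r U ≤ U := by
          rw [cj, Subgroup.map_iSup]
          exact iSup_le fun q => (cj_cj r q K).le.trans (le_iSup (fun q : Q => cj (q : G) K) ⟨_, Q.mul_mem hr q.2⟩)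
        exact hle (mem_cj hu)
      intro r hr
      refine mem_normalizer_iff.mpr fun u => ⟨hstep r hr u, fun hu => ?_⟩
      simpa [mul_assoc] using hstep r⁻¹ (Q.inv_mem hr) _ hu
    have hne : U ≠ ⊥ := fun e => Local.component_ne_bot hK (eq_bot_iff.mpr
      (((cj_one K).ge.trans (le_iSup (fun q : Q => cj (q : G) K) 1)).trans e.le))
    have hU : U ≤ centralizer (L : Set G) := iSup_le fun q =>
      commutator_eq_bot_iff_le_centralizer.mp (Local.components_commute (Local.isComponent_conj hK _) hL (ho q))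
    exact mem_centralizer_iff.mp (hU (h.mem_of_invariant U hUQ hne)) y hy

theorem transitive {L K : Subgroup G} (hL : IsComponent L) (hK : IsComponent K) :
    ∃ q ∈ Q, cj q L = K := by
  by_contra ho
  push Not at ho
  set U := ⨆ q : Q, cj (q : G) L
  have hUQ : Q ≤ normalizer (U : Set G) := by
    have hstep : ∀ r ∈ Q, ∀ u ∈ U, r * u * r⁻¹ ∈ U := by
      intro r hr u hu
      have hle : cj r U ≤ U := by
        rw [cj, Subgroup.map_iSup]
        exact iSup_le fun q => (cj_cj r q L).le.trans (le_iSup (fun q : Q => cj (q : G) L) ⟨_, Q.mul_mem hr q.2⟩)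
      exact hle (mem_cj hu)
    intro r hr
    refine mem_normalizer_iff.mpr fun u => ⟨hstep r hr u, fun hu => ?_⟩
    simpa [mul_assoc] using hstep r⁻¹ (Q.inv_mem hr) _ hu
  have hne : U ≠ ⊥ := fun e => Local.component_ne_bot hL (eq_bot_iff.mpr
    (((cj_one L).ge.trans (le_iSup (fun q : Q => cj (q : G) L) 1)).trans e.le))
  have hU : U ≤ centralizer (K : Set G) := iSup_le fun q =>
    commutator_eq_bot_iff_le_centralizer.mp (Local.components_commute (Local.isComponent_conj hL _) hK (ho q q.2))
  exact not_centralized h h2 hK fun y hy => mem_centralizer_iff.mp (hU (h.mem_of_invariant U hUQ hne)) y hy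

theorem exists_factor {L : Subgroup G} (hL : IsComponent L) {x : G} (hx : x ∈ layer G) :
    ∃ a ∈ L, ∃ b ∈ others L, x = a * b := by
  refine exists_mul (others_commute hL) ((sSup_le fun K hK => ?_ : layer G ≤ L ⊔ others L) hx)
  by_cases e : K = L
  · exact e ▸ le_sup_left
  · exact le_trans (le_sSup (show K ∈ {K : Subgroup G | IsComponent K ∧ K ≠ L} from ⟨hK, e⟩)) le_sup_right

theorem z_part {L : Subgroup G} (hL : IsComponent L) :
    ∃ a ∈ L, ∃ b ∈ others L, z = a * b ∧ a ≠ 1 ∧ a * a = 1 ∧ ∀ c ∈ L, (c * z = z * c ↔ c * a = a * c) := by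
  obtain ⟨a, ha, b, hb, e⟩ := exists_factor h h2 hL (x := z) ((layer_eq h h2).ge (subset_normalClosure rfl))
  have hcm := others_commute hL
  have hcc : ∀ c ∈ L, (c * z = z * c ↔ c * a = a * c) := fun c hc => by
    rw [e, ← mul_assoc, show a * b * c = a * c * b by rw [mul_assoc, ← hcm c hc b hb, mul_assoc]]
    exact ⟨fun e' => mul_right_cancel e', fun e' => by rw [e']⟩
  refine ⟨a, ha, b, hb, e, fun e1 => not_centralized h h2 hL fun y hy => (hcc y hy).mpr (by rw [e1, one_mul, mul_one]),
    ?_, hcc⟩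
  refine (eq_of_mul_eq (component_inf_others h h2 hL) (L.mul_mem ha ha) L.one_mem
    ((others L).mul_mem hb hb) (others L).one_mem ?_).1
  calc a * a * (b * b) = a * (a * b) * b := by group
    _ = a * (b * a) * b := congrArg (fun t => a * t * b) (hcm a ha b hb)
    _ = (a * b) * (a * b) := by group
    _ = 1 * 1 := by rw [← e, h.zz, one_mul]

omit h2 in
theorem odd_index {L : Subgroup G} (hL : IsComponent L) (hLM : L ≤ layer G) :
    ¬ 2 ∣ ((centralizer ({z} : Set G)).subgroupOf L).index := by
  haveI : Fact (Nat.Prime 2) := ⟨Nat.prime_two⟩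
  obtain ⟨P, hP⟩ := h.exists_sylow
  set C := centralizer ({z} : Set G)
  haveI := Local.layer_normal (G := G)
  haveI : (L.subgroupOf (layer G)).Normal := by
    refine ⟨fun x hx g => ?_⟩
    have hg : (g : G) ∈ normalizer (L : Set G) := by
      have : layer G ≤ normalizer (L : Set G) := sSup_le fun K hK => by
        by_cases e : K = L
        · exact e ▸ le_normalizer
        · refine fun y hy => mem_normalizer_iff.mpr fun x => ?_
          constructor
          · intro hx
            rwa [comm_components hK hL e y hy x hx, mul_inv_cancel_right]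
          · intro hx
            have e2 := comm_components hK hL e y hy _ hx
            rw [show y * (y * x * y⁻¹) = (y * (y * x)) * y⁻¹ by group,
              show y * x * y⁻¹ * y = y * x by group, mul_inv_eq_iff_eq_mul] at e2
            have e3 : y * x = x * y := mul_left_cancel (e2.trans (mul_assoc _ _ _))
            rwa [e3, mul_inv_cancel_right] at hx
      exact this g.2
    exact (mem_normalizer_iff.mp hg x).mp hx
  intro hd
  refine P.not_dvd_index (hd.trans ?_)
  have h1 : C.relIndex L ∣ C.relIndex (layer G) := by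
    rw [← relIndex_subgroupOf hLM]
    exact relIndex_dvd_index' _ _
  exact (h1.trans (relIndex_dvd_index' (layer G) C)).trans
    (index_dvd_of_le fun x hx => mem_centralizer_singleton_iff.mpr (hP x hx))

theorem exists_good {L : Subgroup G} (hL : IsComponent L) {a : G} (ha : a ∈ L) (ha1 : a ≠ 1) (ha2 : a * a = 1) :
    ∃ c ∈ L, c * z = z * c ∧ c ≠ 1 ∧ c ≠ a := by
  by_contra hn
  push Not at hn
  haveI : Fact (Nat.Prime 2) := ⟨Nat.prime_two⟩
  obtain ⟨hs, hna⟩ := component_simple h h2 hL
  set R := (centralizer ({z} : Set G)).subgroupOf L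
  have hR : ∀ x ∈ R, x = 1 ∨ x = ⟨a, ha⟩ := fun x hx => by
    by_cases e : x = 1
    · exact Or.inl e
    · exact Or.inr (Subtype.ext (hn x x.2 (mem_centralizer_singleton_iff.mp hx)
        fun e' => e (Subtype.ext e')))
  have hRp : IsPGroup 2 R := fun x => ⟨1, Subtype.ext (by
    rcases hR x x.2 with e | e <;> simp only [pow_one, SubgroupClass.coe_pow, e, OneMemClass.coe_one]
    · exact one_pow 2
    · exact Subtype.ext (by simp [pow_two, ha2]))⟩
  exact simple_not_sylow_two hna (hRp.toSylow (odd_index h hL (le_sSup hL))) ⟨a, ha⟩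
    (fun e => ha1 (congrArg Subtype.val e)) (Subtype.ext ha2) hR

omit h2 in
theorem comm_mem_Q {c q : G} (hc : c * z = z * c) (hq : q ∈ Q) : c * (q * c⁻¹ * q⁻¹) ∈ Q := by
  rw [show c * (q * c⁻¹ * q⁻¹) = (c * q * c⁻¹) * q⁻¹ by group]
  exact Q.mul_mem (h.norm c hc q hq) (Q.inv_mem hq)

theorem at_most_two {L : Subgroup G} (hL : IsComponent L) {q : G} (hq : q ∈ Q) (hne : cj q L ≠ L)
    {K : Subgroup G} (hK : IsComponent K) : K = L ∨ K = cj q L := by
  by_contra hn
  push Not at hn
  obtain ⟨hKL, hKL2⟩ := hn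
  have hL2 := Local.isComponent_conj hL q
  obtain ⟨a, ha, b, hb, e, ha1, ha2, hcc⟩ := z_part h h2 hL
  obtain ⟨c, hc, hcz, hc1, hca⟩ := exists_good h h2 hL ha ha1 ha2
  have hnc : ¬ ∀ y ∈ L, y * (z * c) = (z * c) * y := by
    intro hall
    apply hca
    have hce : z * c = (a * c) * b := by
      rw [e, mul_assoc, ← others_commute hL c hc b hb, mul_assoc]
    have hac : (⟨a * c, L.mul_mem ha hc⟩ : L) ∈ center L := mem_center_iff.mpr fun y => Subtype.ext (by
      have := hall y y.2
      rw [hce, ← mul_assoc, mul_assoc (a * c) b, ← others_commute hL y y.2 b hb, ← mul_assoc (a * c)] at this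
      exact mul_right_cancel this)
    have hac1 : a * c = 1 := by
      refine eq_one_of_commute h h2 (le_layer hL (L.mul_mem ha hc)) fun K' hK' y hy => ?_
      by_cases e' : K' = L
      · exact congrArg Subtype.val (mem_center_iff.mp hac ⟨y, e' ▸ hy⟩)
      · exact comm_components hK' hL e' y hy _ (L.mul_mem ha hc)
    exact mul_left_cancel (hac1.trans ha2.symm)
  set d := q * c⁻¹ * q⁻¹
  have hd : d ∈ cj q L := mem_cj (L.inv_mem hc)
  have hxQ : c * d ∈ Q := comm_mem_Q h hcz hq
  have hKx : ∀ y ∈ K, y * (c * d) = (c * d) * y := fun y hy =>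
    (Commute.mul_right (comm_components hK hL hKL y hy c hc) (comm_components hK hL2 hKL2 y hy d hd)).eq
  obtain ⟨r, hr, hrx⟩ : ∃ r ∈ Q, r * (c * d) * r⁻¹ = z * (c * d) := by
    by_contra hn
    push Not at hn
    have hall : ∀ v ∈ Q, (c * d) * v = v * (c * d) := fun v hv => by
      rcases h.cc v hv _ hxQ with e' | e'
      · exact (mul_inv_eq_iff_eq_mul.mp (mul_inv_eq_one.mp e')).symm
      · exact absurd (mul_inv_eq_iff_eq_mul.mp e') (hn v hv)
    rcases h.cent _ hall with e' | e'
    · refine hc1 (mem_bot.mp ((component_inf_others h h2 hL).le ⟨hc, ?_⟩))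
      rw [eq_inv_of_mul_eq_one_left e']
      exact (others L).inv_mem (le_sSup (show cj q L ∈ {K : Subgroup G | IsComponent K ∧ K ≠ L} from ⟨hL2, hne⟩) hd)
    · exact not_centralized h h2 hK fun y hy => by rw [← e']; exact hKx y hy
  set A := cj r L
  set B := cj r (cj q L)
  have hcom : ∀ K' : Subgroup G, IsComponent K' → K' ≠ A → K' ≠ B → ∀ y ∈ K',
      y * (z * (c * d)) = z * (c * d) * y := fun K' hK' hA hB y hy => by
    rw [← hrx, show r * (c * d) * r⁻¹ = (r * c * r⁻¹) * (r * d * r⁻¹) by group]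
    exact (Commute.mul_right (comm_components hK' (Local.isComponent_conj hL r) hA y hy _ (mem_cj hc))
      (comm_components hK' (Local.isComponent_conj hL2 r) hB y hy _ (mem_cj hd))).eq
  have hK' : K = A ∨ K = B := by
    by_contra hn
    push Not at hn
    refine not_centralized h h2 hK fun y hy => ?_
    have hy1 : Commute y (z * (c * d)) := hcom K hK hn.1 hn.2 y hy
    have := hy1.mul_right (Commute.inv_right (show Commute y (c * d) from hKx y hy))
    rwa [mul_inv_cancel_right] at this
  have hL' : L = A ∨ L = B := by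
    by_contra hn
    push Not at hn
    refine hnc fun y hy => ?_
    have hy1 : Commute y (z * (c * d)) := hcom L hL hn.1 hn.2 y hy
    have := hy1.mul_right (Commute.inv_right (show Commute y d from comm_components hL hL2 hne.symm y hy d hd))
    rwa [← mul_assoc, mul_inv_cancel_right] at this
  have hL2' : cj q L = A ∨ cj q L = B := by
    by_contra hn
    push Not at hn
    refine hnc fun y hy => ?_
    have hy1 : Commute (q * y * q⁻¹) (z * (c * d)) := hcom _ hL2 hn.1 hn.2 _ (mem_cj hy)
    have hy2 : Commute (q * y * q⁻¹) c := comm_components hL2 hL hne _ (mem_cj hy) c hc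
    have hcd : c * d = d * c := comm_components hL hL2 hne.symm c hc d hd
    rw [hcd, ← mul_assoc] at hy1
    have hy3 := hy1.mul_right hy2.inv_right
    rw [mul_inv_cancel_right] at hy3
    have hqz : q * z * q⁻¹ = z := by rw [← h.zc q hq]; group
    rw [show z * d = q * (z * c⁻¹) * q⁻¹ by
      calc z * d = (q * z * q⁻¹) * (q * c⁻¹ * q⁻¹) := by rw [hqz]
        _ = q * (z * c⁻¹) * q⁻¹ := by group] at hy3
    have hy4 : Commute y (z * c⁻¹) := (Commute.conj_iff q).mp hy3
    have hy5 := hy4.inv_right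
    rwa [mul_inv_rev, inv_inv, h.inv_eq, hcz] at hy5
  rcases hK' with e1 | e1 <;> rcases hL' with e2 | e2 <;> rcases hL2' with e3 | e3 <;>
    first
      | exact hKL (e1.trans e2.symm)
      | exact hKL2 (e1.trans e3.symm)
      | exact hne (e3.trans e2.symm)

theorem main_case :
    (IsSimpleGroup ↥(normalClosure ({z} : Set G)) ∧ ¬ IsMulCommutative ↥(normalClosure ({z} : Set G))) ∨
      ∃ (L : Subgroup G) (u : G), u ∈ Q ∧ IsSimpleGroup L ∧ ¬ IsMulCommutative L ∧ L ⊓ cj u L = ⊥ ∧
        (∀ x ∈ L, ∀ y ∈ cj u L, x * y = y * x) ∧ L ⊔ cj u L = normalClosure ({z} : Set G) ∧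
        ∃ z₁ ∈ L, z = z₁ * (u * z₁ * u⁻¹) ∧
          (∃ R : Sylow 2 L, (R : Subgroup L) = (centralizer ({z₁} : Set G)).subgroupOf L ∧
            (_root_.frattini ↥(R : Subgroup L)).map (L.subtype.comp (R : Subgroup L).subtype) ≤ zpowers z₁) ∧
          Q ≠ (pCore 2 ↥(centralizer ({z} : Set G))).map (centralizer ({z} : Set G)).subtype := by
  haveI : Fact (Nat.Prime 2) := ⟨Nat.prime_two⟩
  obtain ⟨L, hL⟩ := exists_component h h2
  obtain ⟨hs, hna⟩ := component_simple h h2 hL
  by_cases hone : ∀ q ∈ Q, cj q L = L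
  · left
    have e : normalClosure ({z} : Set G) = L := by
      rw [← layer_eq h h2]
      refine le_antisymm (sSup_le fun K hK => ?_) (le_sSup hL)
      obtain ⟨q, hq, rfl⟩ := transitive h h2 hL hK
      exact (hone q hq).le
    rw [e]
    exact ⟨hs, hna⟩
  push Not at hone
  obtain ⟨u, hu, hne⟩ := hone
  right
  have hK := Local.isComponent_conj hL u
  have hKo : cj u L ≤ others L := le_sSup (show cj u L ∈ {K : Subgroup G | IsComponent K ∧ K ≠ L} from ⟨hK, hne⟩)
  have hdis : L ⊓ cj u L = ⊥ := eq_bot_iff.mpr ((inf_le_inf_left L hKo).trans (component_inf_others h h2 hL).le)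
  have hoth : others L ≤ cj u L := sSup_le fun K hK' =>
    ((at_most_two h h2 hL hu hne hK'.1).resolve_left hK'.2).le
  have hcm : ∀ x ∈ L, ∀ y ∈ cj u L, x * y = y * x := comm_components hL hK hne.symm
  have hsup : L ⊔ cj u L = normalClosure ({z} : Set G) := by
    rw [← layer_eq h h2]
    refine le_antisymm (sup_le (le_sSup hL) (le_sSup hK)) (sSup_le fun K hK' => ?_)
    rcases at_most_two h h2 hL hu hne hK' with e | e <;> rw [e]
    exacts [le_sup_left, le_sup_right]
  obtain ⟨a, ha, b, hb, e, ha1, ha2, hcc⟩ := z_part h h2 hL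
  have huu : cj u (cj u L) = L :=
    (at_most_two h h2 hL hu hne (Local.isComponent_conj hK u)).resolve_right fun e' => hne (cj_injective u e')
  have hbe : b = u * a * u⁻¹ := by
    have hz1 : z = (u * b * u⁻¹) * (u * a * u⁻¹) := by
      have e0 : u * z * u⁻¹ = z := by rw [← h.zc u hu]; group
      rw [← e0]
      conv_lhs => rw [e, others_commute hL a ha b hb]
      group
    exact (eq_of_mul_eq hdis ha (huu.le (mem_cj (hoth hb))) (hoth hb) (mem_cj ha) (e.symm.trans hz1)).2
  set R := (centralizer ({a} : Set G)).subgroupOf L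
  have hRz : R = (centralizer ({z} : Set G)).subgroupOf L := by
    ext x
    simp only [R, mem_subgroupOf, mem_centralizer_singleton_iff, hcc x x.2]
  have hsq : ∀ c ∈ L, c * z = z * c → c * c = 1 ∨ c * c = a := by
    intro c hc hcz
    have hx := comm_mem_Q h hcz hu
    have hd : u * c⁻¹ * u⁻¹ ∈ cj u L := mem_cj (L.inv_mem hc)
    have e2 : c * (u * c⁻¹ * u⁻¹) * (c * (u * c⁻¹ * u⁻¹)) = c * c * ((u * c⁻¹ * u⁻¹) * (u * c⁻¹ * u⁻¹)) :=
      (Commute.mul_mul_mul_comm (hcm c hc _ hd).symm _ _)
    have hd2 := (cj u L).mul_mem hd hd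
    rcases h.sq _ hx with e' | e' <;> rw [e2] at e'
    · exact Or.inl (eq_of_mul_eq hdis (L.mul_mem hc hc) L.one_mem hd2 (one_mem _) (e'.trans (one_mul 1).symm)).1
    · exact Or.inr (eq_of_mul_eq hdis (L.mul_mem hc hc) ha hd2 (hoth hb) (e'.trans e)).1
  have hp4 : ∀ c ∈ L, c * z = z * c → c ^ 4 = 1 := fun c hc hcz => by
    rw [show (4 : ℕ) = 2 * 2 from rfl, pow_mul, pow_two, pow_two]
    rcases hsq c hc hcz with e' | e' <;> rw [e']
    exacts [one_mul 1, ha2]
  have hRp : IsPGroup 2 R := fun x => ⟨2, Subtype.ext (Subtype.ext (by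
    have hx : ((x : L) : G) ∈ centralizer ({z} : Set G) := hRz.le x.2
    simpa using hp4 _ (x : L).2 (mem_centralizer_singleton_iff.mp hx)))⟩
  have hodd : ¬ 2 ∣ R.index := hRz ▸ odd_index h hL (le_sSup hL)
  refine ⟨L, u, hu, hs, hna, hdis, hcm, hsup, a, ha, by rw [← hbe]; exact e, ⟨hRp.toSylow hodd, rfl, ?_⟩, ?_⟩
  · rintro _ ⟨x, hx, rfl⟩
    set N := (zpowers (⟨a, ha⟩ : L)).subgroupOf R
    have hpow : ∀ y : R, y ^ 2 ∈ N := fun y => by
      have hy : ((y : L) : G) ∈ centralizer ({z} : Set G) := hRz.le y.2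
      show ((y ^ 2 : R) : L) ∈ zpowers (⟨a, ha⟩ : L)
      rcases hsq _ (y : L).2 (mem_centralizer_singleton_iff.mp hy) with e' | e'
      · rw [show ((y ^ 2 : R) : L) = 1 from Subtype.ext (by simpa [pow_two] using e')]
        exact one_mem _
      · rw [show ((y ^ 2 : R) : L) = ⟨a, ha⟩ from Subtype.ext (by simpa [pow_two] using e')]
        exact mem_zpowers _
    have hN : N ≤ center R := fun v hv => mem_center_iff.mpr fun y => by
      obtain ⟨i, hi⟩ := mem_zpowers_iff.mp (show (v : L) ∈ zpowers (⟨a, ha⟩ : L) from hv)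
      have hya : Commute (y : L) ⟨a, ha⟩ := Subtype.ext (mem_centralizer_singleton_iff.mp (show ((y : L) : G) ∈ centralizer ({a} : Set G) from y.2))
      exact Subtype.ext (show (y : L) * (v : L) = (v : L) * (y : L) by rw [← hi]; exact (hya.zpow_right i).eq)
    haveI : N.Normal := ⟨fun v hv g => by rwa [mem_center_iff.mp (hN hv) g, mul_inv_cancel_right]⟩
    have hcomm : commutator R ≤ N := by
      rw [← QuotientGroup.ker_mk' N, commutator_def, ← Subgroup.map_eq_bot_iff, map_commutator, commutator_eq_bot_iff_le_centralizer]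
      rintro v ⟨v', -, rfl⟩
      refine mem_centralizer_iff.mpr ?_
      rintro w ⟨w', -, rfl⟩
      have hs2 : ∀ t : R ⧸ N, t * t = 1 := fun t => by
        obtain ⟨t', rfl⟩ := QuotientGroup.mk'_surjective N t
        rw [← map_mul, ← pow_two]
        exact (QuotientGroup.eq_one_iff _).mpr (hpow t')
      have hi : ∀ t : R ⧸ N, t⁻¹ = t := fun t => inv_eq_of_mul_eq_one_right (hs2 t)
      calc QuotientGroup.mk' N w' * QuotientGroup.mk' N v' = (QuotientGroup.mk' N w' * QuotientGroup.mk' N v')⁻¹ := (hi _).symm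
        _ = _ := by rw [mul_inv_rev, hi, hi]
    have hxN := Struct.ClassTwo.frattini_le Nat.prime_two hcomm hpow hx
    obtain ⟨i, hi⟩ := mem_zpowers_iff.mp (show ((x : R) : L) ∈ zpowers (⟨a, ha⟩ : L) from hxN)
    exact mem_zpowers_iff.mpr ⟨i, (SubgroupClass.coe_zpow (⟨a, ha⟩ : L) i).symm.trans (congrArg Subtype.val hi)⟩
  · intro hQe
    set C := centralizer ({z} : Set G)
    obtain ⟨c, hc, hcz, hc1, hca⟩ := exists_good h h2 hL ha ha1 ha2
    set N := (normalClosure ({z} : Set G)).subgroupOf C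
    have hNp : IsPGroup 2 N := by
      intro x
      refine ⟨2, Subtype.ext (Subtype.ext ?_)⟩
      have hxM : ((x : C) : G) ∈ L ⊔ cj u L := hsup.ge x.2
      obtain ⟨s, hs', t, ht, hst⟩ := exists_mul hcm hxM
      have hxz : ((x : C) : G) * z = z * ((x : C) : G) := mem_centralizer_singleton_iff.mp (x : C).2
      obtain ⟨t', ht', rfl⟩ := ht
      simp only [MulEquiv.coe_toMonoidHom, MulAut.conj_apply] at hst
      have hbK := hoth hb
      have e3 : (s * a) * ((u * t' * u⁻¹) * b) = (a * s) * (b * (u * t' * u⁻¹)) := by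
        calc (s * a) * ((u * t' * u⁻¹) * b) = s * (a * (u * t' * u⁻¹)) * b := by group
          _ = (s * (u * t' * u⁻¹)) * (a * b) := by rw [hcm a ha _ (mem_cj ht')]; group
          _ = (a * b) * (s * (u * t' * u⁻¹)) := by rw [← hst, ← e]; exact hxz
          _ = a * (b * s) * (u * t' * u⁻¹) := by group
          _ = (a * s) * (b * (u * t' * u⁻¹)) := by rw [← hcm s hs' b hbK]; group
      obtain ⟨k1, k2⟩ := eq_of_mul_eq hdis (L.mul_mem hs' ha) (L.mul_mem ha hs')
        ((cj u L).mul_mem (mem_cj ht') hbK) ((cj u L).mul_mem hbK (mem_cj ht')) e3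
      rw [hbe] at k2
      have hta : t' * a = a * t' := (Commute.conj_iff u).mp k2
      have hpc : (s * (u * t' * u⁻¹)) ^ 4 = 1 := by
        rw [(Commute.mul_pow (hcm s hs' _ (mem_cj ht'))), conj_pow, hp4 s hs' ((hcc s hs').mpr k1),
          hp4 t' ht' ((hcc t' ht').mpr hta)]
        group
      simpa [hst] using hpc
    have hle : N ≤ pCore 2 C := le_pCore hNp
    have hcQ : c ∈ Q := hQe ▸ ⟨⟨c, mem_centralizer_singleton_iff.mpr hcz⟩, hle (show c ∈ normalClosure ({z} : Set G) from
      hsup.le (mem_sup_left hc)), rfl⟩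
    rcases h.cc u hu c hcQ with e' | e'
    · exact hc1 (mem_bot.mp (hdis.le ⟨hc, by rw [← mul_inv_eq_one.mp e']; exact mem_cj hc⟩))
    · have e4 : (1 : G) * (u * c * u⁻¹) = (a * c) * b := by
        rw [one_mul, mul_inv_eq_iff_eq_mul.mp e', e, mul_assoc a c b, others_commute hL c hc b hb, mul_assoc]
      have := (eq_of_mul_eq hdis L.one_mem (L.mul_mem ha hc) (mem_cj hc) (hoth hb) e4).1
      exact hca (mul_left_cancel (this.symm.trans ha2.symm))

end trivialCore

end Cfsg.Agent.Solv.LargeStructure
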