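import Cfsg.Agent.Lib.Solv.PSolvable
import Cfsg.Agent.Lib.Solv.Gaschutz
import Cfsg.Agent.Lib.Solv.Basic

/-!
`p`-solvable groups whose maximal subgroups are `p`-nilpotent or of prime index.
-/

set_option autoImplicit false
open scoped Pointwise
open Subgroup

namespace Cfsg.Agent.Solv

universe u

/-- `G` has a normal series with factors `p'`, `p`, `p'`, `p`. -/
def HasFourSeries (p : ℕ) (G : Type u) [Group G] : Prop :=
  ∃ A B C : Subgroup G, A.Normal ∧ B.Normal ∧ C.Normal ∧ A ≤ B ∧ B ≤ C ∧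
    (Nat.card A).Coprime p ∧ (∃ k : ℕ, A.relIndex B = p ^ k) ∧ (B.relIndex C).Coprime p ∧
    ∃ k : ℕ, C.index = p ^ k

/-- Every maximal subgroup is `p`-nilpotent or has prime index. -/
def MaxNPOrPrime (p : ℕ) (G : Type u) [Group G] : Prop :=
  ∀ M : Subgroup G, IsCoatom M →
    (∃ K : Subgroup ↥M, K.Normal ∧ ¬ p ∣ Nat.card K ∧ ∃ k : ℕ, K.index = p ^ k) ∨ (M.index).Prime

theorem MaxNPOrPrime.quotient {p : ℕ} [hp : Fact p.Prime] {G : Type u} [Group G] [Finite G]
    (h : MaxNPOrPrime p G) (N : Subgroup G) [N.Normal] : MaxNPOrPrime p (G ⧸ N) := by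
  intro M hM
  have hsur := QuotientGroup.mk'_surjective N
  have hM' : IsCoatom (M.comap (QuotientGroup.mk' N)) := by
    refine ⟨fun he => hM.1 ?_, fun L hL => ?_⟩
    · rw [← map_comap_eq_self_of_surjective hsur M, he, map_top_of_surjective _ hsur]
    · have hker : (QuotientGroup.mk' N).ker ≤ L := le_trans (fun x hx => by
        show QuotientGroup.mk' N x ∈ M
        rw [MonoidHom.mem_ker.1 hx]; exact one_mem M) hL.le
      rw [← comap_map_eq_self hker, hM.2 (L.map (QuotientGroup.mk' N)) ?_, comap_top]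
      refine lt_of_le_of_ne ?_ fun he => ?_
      · rw [← map_comap_eq_self_of_surjective hsur M]; exact map_mono hL.le
      · exact hL.ne (by rw [he, comap_map_eq_self hker])
  rcases h _ hM' with ⟨K, hK, hKp, k, hk⟩ | hi
  · left
    let f : ↥(M.comap (QuotientGroup.mk' N)) →* ↥M := (QuotientGroup.mk' N).subgroupComap M
    have hf : Function.Surjective f := by
      rintro ⟨y, hy⟩
      obtain ⟨x, rfl⟩ := hsur y
      exact ⟨⟨x, hy⟩, rfl⟩
    refine ⟨K.map f, hK.map f hf, fun hd => hKp (hd.trans (card_map_dvd K f)), ?_⟩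
    obtain ⟨j, -, hj⟩ := (Nat.dvd_prime_pow hp.out).1 (hk ▸ index_map_dvd K hf)
    exact ⟨j, hj⟩
  · exact Or.inr (by rwa [index_comap_of_surjective M hsur] at hi)

theorem relIndex_dvd_of_le_right_normal {G : Type u} [Group G] (H : Subgroup G) [H.Normal]
    {X Y : Subgroup G} (h : X ≤ Y) : H.relIndex X ∣ H.relIndex Y := by
  rw [← relIndex_subgroupOf h]
  exact relIndex_dvd_index_of_normal (H.subgroupOf Y) (X.subgroupOf Y)

theorem hasFourSeries_aux {p : ℕ} [hp : Fact p.Prime] : ∀ (n : ℕ) (G : Type u) [Group G] [Finite G],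
    Nat.card G = n → Cfsg.IsPSolvable p G → MaxNPOrPrime p G → HasFourSeries p G := by
  intro n
  induction n using Nat.strong_induction_on with
  | _ n ih =>
  intro G _ _ hn hps hmax
  rcases subsingleton_or_nontrivial G with hG | hG
  · exact ⟨⊥, ⊥, ⊤, inferInstance, inferInstance, inferInstance, le_rfl, bot_le,
      by rw [card_bot]; exact Nat.coprime_one_left p, ⟨0, by simp⟩,
      by rw [relIndex_bot_left, card_top, Nat.card_unique]; exact Nat.coprime_one_left p, ⟨0, by simp⟩⟩
  have hlt : ∀ N : Subgroup G, N ≠ ⊥ → Nat.card (G ⧸ N) < n := fun N hN => by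
    have h := N.card_mul_index
    rw [hn, index_eq_card] at h
    have h1 : 1 < Nat.card N := (one_lt_card_iff_ne_bot N).2 hN
    have h2 : 0 < Nat.card (G ⧸ N) := Nat.card_pos
    nlinarith
  have pull : ∀ (N : Subgroup G) [N.Normal], N ≠ ⊥ →
      ∃ A B C : Subgroup G, A.Normal ∧ B.Normal ∧ C.Normal ∧ N ≤ A ∧ A ≤ B ∧ B ≤ C ∧
        (N.relIndex A).Coprime p ∧ (∃ k : ℕ, A.relIndex B = p ^ k) ∧ (B.relIndex C).Coprime p ∧
        ∃ k : ℕ, C.index = p ^ k := by
    intro N _ hN
    obtain ⟨A, B, C, hA, hB, hC, hAB, hBC, hAc, hk, hc, hC'⟩ :=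
      ih _ (hlt N hN) (G ⧸ N) rfl (isPSolvable_quotient hps N) (hmax.quotient N)
    have hsur := QuotientGroup.mk'_surjective N
    have hrel : ∀ X Y : Subgroup (G ⧸ N),
        (X.comap (QuotientGroup.mk' N)).relIndex (Y.comap (QuotientGroup.mk' N)) = X.relIndex Y := fun X Y => by
      rw [relIndex_comap, map_comap_eq_self_of_surjective hsur]
    refine ⟨_, _, _, hA.comap _, hB.comap _, hC.comap _, le_comap_mk' N A,
      comap_mono hAB, comap_mono hBC, ?_, by simpa only [hrel] using hk, by simpa only [hrel] using hc,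
      by simpa only [index_comap_of_surjective _ hsur] using hC'⟩
    rwa [relIndex_comap_mk']
  by_cases hP' : Cfsg.pPrimeCore p G = ⊥
  swap
  · obtain ⟨A, B, C, hA, hB, hC, hNA, hAB, hBC, hc0, hk, hc, hC'⟩ := pull _ hP'
    refine ⟨A, B, C, hA, hB, hC, hAB, hBC, ?_, hk, hc, hC'⟩
    rw [← relIndex_bot_left, ← relIndex_mul_relIndex _ _ _ bot_le hNA, relIndex_bot_left]
    exact (card_pPrimeCore_coprime p G).mul_left hc0
  have hcore : Cfsg.pCore p G ≠ ⊥ := (core_ne_bot_of_isPSolvable hps).resolve_right (not_not.2 hP')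
  obtain ⟨N, hNn, hNle, hN1, hNmin⟩ := exists_minimal_normal_le hcore
  haveI := hNn
  have hNp : IsPGroup p N := (isPGroup_pCore p G).to_le hNle
  haveI : Group.IsSolvable N := by haveI := hNp.isNilpotent; infer_instance
  haveI hNab : IsMulCommutative N := minimal_normal_isMulCommutative N hN1 hNmin
  obtain ⟨e, he⟩ := IsPGroup.iff_card.1 hNp
  obtain ⟨A, B, C, hA, hB, hC, hNA, hAB, hBC, hc0, ⟨k, hk⟩, hc, ⟨k', hC'⟩⟩ := pull N hN1
  have hNB : N ≤ B := hNA.trans hAB
  by_cases hNF : N ≤ frattini G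
  · -- the first step collapses
    have hcopA : (Nat.card (N.subgroupOf A)).Coprime (N.subgroupOf A).index := by
      rw [Nat.card_congr (subgroupOfEquivOfLe hNA).toEquiv, he]
      exact (hc0.symm).pow_left e
    haveI : IsMulCommutative (N.subgroupOf A) :=
      ⟨⟨fun a b => Subtype.ext (Subtype.ext (congrArg Subtype.val
        (mul_comm' (⟨_, a.2⟩ : N) ⟨_, b.2⟩) :))⟩⟩
    obtain ⟨R, hR⟩ := exists_right_complement'_of_coprime hcopA
    set R' : Subgroup G := R.map A.subtype
    have htop : normalizer (R' : Set G) = ⊤ := by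
      refine frattini_nongenerating (eq_top_iff.2 fun g _ => ?_)
      let φ : MulAut A := MulAut.conjNormal g
      have hNφ : (N.subgroupOf A).map φ.toMonoidHom = N.subgroupOf A := by
        refine eq_of_le_of_card_ge ?_ (card_map_of_injective φ.injective).ge
        rintro _ ⟨y, hy, rfl⟩
        exact hNn.conj_mem _ hy g
      have hRφ : IsComplement' (N.subgroupOf A) (R.map φ.toMonoidHom) := by
        refine isComplement'_of_card_mul_and_disjoint ?_ ?_
        · rw [card_map_of_injective (f := φ.toMonoidHom) φ.injective]; exact hR.card_mul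
        · rw [disjoint_iff, ← hNφ, ← map_inf _ _ φ.toMonoidHom φ.injective, disjoint_iff.1 hR.disjoint, Subgroup.map_bot]
      obtain ⟨a, ha, hae⟩ := conj_complement_of_abelian (N.subgroupOf A) hcopA R _ hR hRφ
      have hn : (a : G)⁻¹ * g ∈ normalizer (R' : Set G) := by
        rw [mem_normalizer_iff_map_conj_eq]
        refine eq_of_le_of_card_ge ?_ (card_map_of_injective (MulAut.conj _).injective).ge
        rintro _ ⟨_, ⟨y, hy, rfl⟩, rfl⟩
        obtain ⟨z, hz, hze⟩ := (hae.symm ▸ mem_map_of_mem φ.toMonoidHom hy :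
          φ.toMonoidHom y ∈ MulAut.conj a • R)
        refine ⟨z, hz, ?_⟩
        have hze' : (a : G) * z * (a : G)⁻¹ = g * y * g⁻¹ := congrArg Subtype.val hze
        show (z : G) = (a : G)⁻¹ * g * y * ((a : G)⁻¹ * g)⁻¹
        calc (z : G) = (a : G)⁻¹ * ((a : G) * z * (a : G)⁻¹) * a := by group
          _ = _ := by rw [hze']; group
      rw [show g = (a : G) * ((a : G)⁻¹ * g) by group]
      exact mul_mem (mem_sup_right (hNF ha)) (mem_sup_left hn)
    haveI : R'.Normal := normalizer_eq_top_iff.1 htop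
    have hRi : Nat.card R = N.relIndex A := hR.symm.index_eq_card.symm
    have hR1 : R' = ⊥ := le_bot_iff.1 ((le_pPrimeCore (by
      rw [card_map_of_injective A.subtype_injective, hRi]; exact hc0)).trans hP'.le)
    have hAN : N.relIndex A = 1 := by
      rw [← hRi, ← card_map_of_injective (f := A.subtype) A.subtype_injective]
      show Nat.card R' = 1
      rw [hR1, card_bot]
    refine ⟨⊥, B, C, inferInstance, hB, hC, bot_le, hBC, by rw [card_bot]; exact Nat.coprime_one_left p,
      ⟨e + k, ?_⟩, hc, k', hC'⟩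
    rw [← relIndex_mul_relIndex _ _ _ (bot_le : ⊥ ≤ N) hNB, ← relIndex_mul_relIndex _ _ _ hNA hAB,
      relIndex_bot_left, he, hAN, hk, one_mul, pow_add]
  -- a complement
  obtain ⟨M, hM, hNM⟩ : ∃ M : Subgroup G, IsCoatom M ∧ ¬ N ≤ M := by
    by_contra hall
    push_neg at hall
    refine hNF ?_
    rw [frattini, Order.radical]
    exact le_iInf₂ hall
  have hsup : N ⊔ M = ⊤ := hM.2 _ (right_lt_sup.2 hNM)
  have hinf : N ⊓ M = ⊥ := by
    haveI hnorm : (N ⊓ M).Normal := by
      rw [← normalizer_eq_top_iff, eq_top_iff, ← hsup]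
      refine sup_le (fun x hx => mem_normalizer_iff.2 fun y => ?_) (fun x hx => mem_normalizer_iff.2 fun y => ?_)
      · constructor
        · intro hy
          have : x * y = y * x := congrArg Subtype.val (mul_comm' (⟨x, hx⟩ : N) ⟨y, hy.1⟩)
          rwa [this, mul_inv_cancel_right]
        · intro hy
          have : x * (x * y * x⁻¹) = (x * y * x⁻¹) * x := congrArg Subtype.val (mul_comm' (⟨x, hx⟩ : N) ⟨_, hy.1⟩)
          rw [inv_mul_cancel_right, mul_assoc x y, mul_right_inj] at this
          have h2 : y = x * y * x⁻¹ := by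
            rw [show x * y * x⁻¹ = x * (y * x⁻¹) by group]; exact mul_left_cancel (a := x) (by rw [this])
          rw [h2]; exact hy
      · exact ⟨fun hy => ⟨hNn.conj_mem y hy.1 x, M.mul_mem (M.mul_mem hx hy.2) (M.inv_mem hx)⟩,
          fun hy => ⟨by simpa [mul_assoc] using hNn.conj_mem _ hy.1 x⁻¹,
            by simpa [mul_assoc] using M.mul_mem (M.mul_mem (M.inv_mem hx) hy.2) hx⟩⟩
    exact (hNmin _ hnorm inf_le_left).resolve_right fun he => hNM (he ▸ inf_le_right)
  have hcompl : IsComplement' N M := isComplement'_of_disjoint_and_mul_eq_univ (disjoint_iff.2 hinf)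
    (by rw [← normal_mul, hsup, coe_top])
  rcases hmax M hM with ⟨K, hK, hKp, k1, hk1⟩ | hprime
  · set K' : Subgroup G := K.map M.subtype with hK'
    haveI hNK : (N ⊔ K').Normal := by
      rw [← normalizer_eq_top_iff, eq_top_iff, ← hsup]
      refine sup_le (le_sup_left.trans le_normalizer) fun x hx => ?_
      rw [mem_normalizer_iff_map_conj_eq]
      refine eq_of_le_of_card_ge ?_ (card_map_of_injective (MulAut.conj x).injective).ge
      rw [Subgroup.map_sup, sup_le_iff]
      refine ⟨?_, ?_⟩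
      · rintro _ ⟨y, hy, rfl⟩; exact mem_sup_left (hNn.conj_mem y hy x)
      · rintro _ ⟨_, ⟨y, hy, rfl⟩, rfl⟩
        exact mem_sup_right ⟨⟨x, hx⟩ * y * (⟨x, hx⟩ : M)⁻¹, hK.conj_mem y hy _, rfl⟩
    have hcard : Nat.card (N ⊔ K' : Subgroup G) = Nat.card N * Nat.card K := by
      have hd : Disjoint (N.subgroupOf (N ⊔ K')) (K'.subgroupOf (N ⊔ K')) := by
        rw [disjoint_iff, subgroupOf, subgroupOf, ← comap_inf,
          le_bot_iff.1 ((inf_le_inf_left N (map_subtype_le K)).trans hinf.le), MonoidHom.comap_bot, ker_subtype]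
      have hc2 := isComplement'_of_disjoint_and_mul_eq_univ hd
        (by rw [← normal_mul, ← subgroupOf_sup le_sup_left le_sup_right, subgroupOf_self, coe_top])
      rw [← hc2.card_mul, Nat.card_congr (subgroupOfEquivOfLe le_sup_left).toEquiv,
        Nat.card_congr (subgroupOfEquivOfLe (le_sup_right : K' ≤ N ⊔ K')).toEquiv,
        card_map_of_injective M.subtype_injective]
    refine ⟨⊥, N, N ⊔ K', inferInstance, hNn, hNK, bot_le, le_sup_left,
      by rw [card_bot]; exact Nat.coprime_one_left p, ⟨e, by rw [relIndex_bot_left, he]⟩, ?_, k1, ?_⟩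
    · have h := relIndex_mul_relIndex ⊥ N (N ⊔ K') bot_le le_sup_left
      rw [relIndex_bot_left, relIndex_bot_left, hcard] at h
      rw [Nat.eq_of_mul_eq_mul_left Nat.card_pos h]
      exact ((hp.out.coprime_iff_not_dvd).2 hKp).symm
    · have h1 := (N ⊔ K').card_mul_index
      rw [hcard, ← hcompl.card_mul, ← K.card_mul_index, hk1, ← mul_assoc] at h1
      exact Nat.eq_of_mul_eq_mul_left (Nat.mul_pos Nat.card_pos Nat.card_pos) h1
  -- prime index
  have hNprime : Nat.card N = p := by
    rw [hcompl.index_eq_card, he] at hprime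
    rw [he, Nat.Prime.eq_one_of_pow hprime, pow_one]
  haveI : IsCyclic N := isCyclic_of_prime_card hNprime
  have hNC : N ≤ centralizer (N : Set G) := fun x hx => mem_centralizer_iff.2 fun y hy =>
    congrArg Subtype.val (mul_comm' (⟨y, hy⟩ : N) ⟨x, hx⟩)
  set D := centralizer (N : Set G) with hD
  haveI hDn : D.Normal := by
    let f : G →* MulAut N := MulAut.conjNormal
    have : D = f.ker := by
      ext g
      rw [MonoidHom.mem_ker, hD, mem_centralizer_iff]
      constructor
      · intro h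
        ext y
        show g * y * g⁻¹ = (y : G)
        rw [← h y y.2, mul_inv_cancel_right]
      · intro h y hy
        have h2 : g * y * g⁻¹ = y := congrArg Subtype.val (MulEquiv.congr_fun h ⟨y, hy⟩)
        exact (mul_inv_eq_iff_eq_mul.1 h2).symm
    rw [this]; infer_instance
  have hDi : D.index.Coprime p := by
    let f : G →* MulAut N := MulAut.conjNormal
    have hfk : f.ker ≤ D := fun g hg => mem_centralizer_iff.2 fun y hy => by
      have h2 : g * y * g⁻¹ = y := congrArg Subtype.val (MulEquiv.congr_fun (MonoidHom.mem_ker.1 hg) ⟨y, hy⟩)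
      exact (mul_inv_eq_iff_eq_mul.1 h2).symm
    have h1 : D.index ∣ p - 1 := by
      refine (index_dvd_of_le hfk).trans ?_
      rw [index_ker, ← Nat.totient_prime hp.out, ← hNprime, ← IsCyclic.card_mulAut]
      exact card_subgroup_dvd_card _
    refine Nat.Coprime.coprime_dvd_left h1 (((hp.out.coprime_iff_not_dvd).2 fun hd => ?_).symm)
    have := Nat.le_of_dvd (Nat.sub_pos_of_lt hp.out.one_lt) hd
    have := hp.out.two_le
    omega
  have hND : N ≤ D := hNC
  -- `A ⊓ D = N`
  have hAD : A ⊓ D = N := by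
    refine le_antisymm (fun x hx => ?_) (le_inf hNA hND)
    obtain ⟨y, hy, z, hz, rfl⟩ := mem_sup_of_normal_left.1 (show x ∈ N ⊔ M by rw [hsup]; exact mem_top x)
    have hzA : z ∈ A ⊓ D ⊓ M := ⟨by
      rw [show z = y⁻¹ * (y * z) by group]
      exact (A ⊓ D).mul_mem ((A ⊓ D).inv_mem ⟨hNA hy, hND hy⟩) hx, hz⟩
    haveI hR : (A ⊓ D ⊓ M).Normal := by
      rw [← normalizer_eq_top_iff, eq_top_iff, ← hsup]
      refine sup_le (fun u hu => ?_) (fun u hu => ?_)
      · refine centralizer_le_normalizer _ (mem_centralizer_iff.2 fun v hv => ?_)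
        exact (mem_centralizer_iff.1 hv.1.2 u hu).symm
      · rw [mem_normalizer_iff_map_conj_eq]
        refine eq_of_le_of_card_ge ?_ (card_map_of_injective (MulAut.conj u).injective).ge
        rintro _ ⟨v, ⟨⟨hv1, hv2⟩, hv3⟩, rfl⟩
        exact ⟨⟨hA.conj_mem v hv1 u, hDn.conj_mem v hv2 u⟩, M.mul_mem (M.mul_mem hu hv3) (M.inv_mem hu)⟩
    have hle : A ⊓ D ⊓ M ≤ Cfsg.pPrimeCore p G := by
      refine le_pPrimeCore (hc0.coprime_dvd_left ?_)
      have h1 : N.relIndex (A ⊓ D ⊓ M) ∣ N.relIndex A :=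
        relIndex_dvd_of_le_right_normal N (inf_le_left.trans inf_le_left)
      have h2 : N.relIndex (A ⊓ D ⊓ M) = Nat.card (A ⊓ D ⊓ M : Subgroup G) := by
        rw [← inf_relIndex_right, show N ⊓ (A ⊓ D ⊓ M) = ⊥ from
          le_bot_iff.1 ((inf_le_inf_left N inf_le_right).trans hinf.le), relIndex_bot_left]
      rwa [h2] at h1
    rw [hP'] at hle
    rw [(mem_bot.1 (hle hzA)), mul_one]
    exact hy
  haveI : (B ⊓ D).Normal := inferInstance
  have hk2 : ∃ j, (A ⊓ D).relIndex (B ⊓ D) = p ^ j := by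
    have h : (A ⊓ D).relIndex (B ⊓ D) ∣ A.relIndex B := by
      rw [← inf_relIndex_right (A ⊓ D), show A ⊓ D ⊓ (B ⊓ D) = A ⊓ (B ⊓ D) by
        apply le_antisymm
        · exact le_inf (inf_le_left.trans inf_le_left) inf_le_right
        · exact le_inf (le_inf inf_le_left (inf_le_right.trans inf_le_right)) inf_le_right,
        inf_relIndex_right]
      exact relIndex_dvd_of_le_right_normal A inf_le_left
    obtain ⟨j, -, hj⟩ := (Nat.dvd_prime_pow hp.out).1 (hk ▸ h)
    exact ⟨j, hj⟩
  obtain ⟨j, hj⟩ := hk2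
  refine ⟨⊥, B ⊓ D, C, inferInstance, inferInstance, hC, bot_le, inf_le_left.trans hBC,
    by rw [card_bot]; exact Nat.coprime_one_left p, ⟨e + j, ?_⟩, ?_, k', hC'⟩
  · rw [← relIndex_mul_relIndex _ _ _ (bot_le : ⊥ ≤ N) (le_inf hNB hND), relIndex_bot_left, he, pow_add, ← hj, hAD]
  · rw [← relIndex_mul_relIndex _ _ _ (inf_le_left : B ⊓ D ≤ B) hBC]
    refine Nat.Coprime.mul_left (hDi.coprime_dvd_left ?_) hc
    rw [inf_comm, inf_relIndex_right]
    exact relIndex_dvd_index_of_normal D B

theorem hasFourSeries {p : ℕ} [Fact p.Prime] {G : Type u} [Group G] [Finite G]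
    (hps : Cfsg.IsPSolvable p G) (hmax : MaxNPOrPrime p G) : HasFourSeries p G :=
  hasFourSeries_aux _ G rfl hps hmax

end Cfsg.Agent.Solv
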