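import Mathlib
import Cfsg.Agent.Lib.Solv.Coprime
import Cfsg.Agent.Lib.Fusion.FixOmega
import Cfsg.Prelude.Def_Transfer

/-!
A coprime group centralizing a maximal elementary abelian subgroup of a p-group, p odd.
-/

set_option autoImplicit false

namespace Cfsg.Agent.Solv.MaximalElementary

open Subgroup Cfsg

universe u

variable {H : Type u} [Group H] [Finite H] {p : ℕ} [Fact p.Prime]

theorem isElementaryAbelian_sup {E : Subgroup H} (hE : IsElementaryAbelian p E) {s : H}
    (hs : s ^ p = 1) (hsc : ∀ e ∈ E, e * s = s * e) : IsElementaryAbelian p (E ⊔ zpowers s) := by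
  have hEc : ∀ a ∈ E, ∀ b ∈ E, a * b = b * a := fun a ha b hb =>
    congrArg Subtype.val (hE.1.is_comm.comm (⟨a, ha⟩ : E) ⟨b, hb⟩)
  have hB : E ⊔ zpowers s ≤ centralizer ((E ⊔ zpowers s : Subgroup H) : Set H) := by
    rw [le_centralizer_iff]
    refine sup_le ?_ ?_
    · rw [le_centralizer_iff]
      exact sup_le (fun a ha => mem_centralizer_iff.2 fun b hb => hEc b hb a ha)
        (zpowers_le.2 (mem_centralizer_iff.2 fun b hb => hsc b hb))
    · rw [zpowers_le, mem_centralizer_iff]
      intro b hb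
      have hle : E ⊔ zpowers s ≤ centralizer {s} :=
        sup_le (fun a ha => mem_centralizer_singleton_iff.2 (hsc a ha)) (zpowers_le.2 (mem_centralizer_singleton_iff.2 rfl))
      exact mem_centralizer_singleton_iff.1 (hle hb)
  refine ⟨⟨⟨fun a b => Subtype.ext ((mem_centralizer_iff.1 (hB b.2)) a a.2)⟩⟩, fun x hx => ?_⟩
  rw [← closure_eq E, zpowers_eq_closure, ← Subgroup.closure_union] at hx
  have hle : closure ((E : Set H) ∪ {s}) ≤ E ⊔ zpowers s := by
    rw [Subgroup.closure_union, closure_eq, ← zpowers_eq_closure]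
  induction hx using closure_induction with
  | mem a ha =>
    rcases ha with ha | rfl
    · exact hE.2 a ha
    · exact hs
  | one => exact one_pow p
  | mul a b ha hb iha ihb =>
    have hc : Commute a b := (mem_centralizer_iff.1 (hB (hle hb))) a (hle ha)
    rw [hc.mul_pow, iha, ihb, one_mul]
  | inv a _ ih => rw [inv_pow, ih, inv_one]

/-- A coprime subgroup centralizing a maximal elementary abelian subgroup of an invariant p-group centralizes it, p odd. -/
theorem le_centralizer (hp : p ≠ 2) (S L E : Subgroup H) (hS : IsPGroup p S) (hL : (Nat.card L).Coprime p)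
    (hE : IsElementaryAbelian p E) (hES : E ≤ S) (hLS : L ≤ normalizer (S : Set H))
    (hLE : E ≤ centralizer (L : Set H))
    (hmax : ∀ s ∈ S, s ^ p = 1 → (∀ e ∈ E, e * s = s * e) → s ∈ E) :
    L ≤ centralizer (S : Set H) := by
  refine thompson_pq p E L S (hS.to_le hES) hL hS hLE (hES.trans le_normalizer) hLS fun w hw => ?_
  rw [mem_centralizer_iff]
  intro l hl
  set W := S ⊓ centralizer (E : Set H)
  have hlW : ∀ l ∈ L, ∀ v ∈ W, l * v * l⁻¹ ∈ W := by
    intro l hl v hv
    refine ⟨(mem_normalizer_iff.1 (hLS hl) v).1 hv.1, mem_centralizer_iff.2 fun e he => ?_⟩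
    have h1 : l * e * l⁻¹ = e := by
      rw [mem_centralizer_iff.1 (hLE he) l hl, mul_inv_cancel_right]
    have h2 := mem_centralizer_iff.1 hv.2 e he
    calc e * (l * v * l⁻¹) = l * e * l⁻¹ * (l * v * l⁻¹) := by rw [h1]
      _ = l * (e * v) * l⁻¹ := by group
      _ = l * (v * e) * l⁻¹ := by rw [h2]
      _ = l * v * l⁻¹ * (l * e * l⁻¹) := by group
      _ = l * v * l⁻¹ * e := by rw [h1]
  have hlN : l ∈ normalizer (W : Set H) := mem_normalizer_iff.2 fun v => ⟨hlW l hl v, fun hv => by
    simpa [mul_assoc] using hlW l⁻¹ (L.inv_mem hl) _ hv⟩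
  set α : MulAut W := W.normalizerMonoidHom ⟨l, hlN⟩
  have hα : α ^ orderOf l = 1 := by
    rw [← map_pow, ← map_one W.normalizerMonoidHom]
    congr 1
    exact Subtype.ext (pow_orderOf_eq_one l)
  have hnd : ¬ p ∣ orderOf l := (Fact.out : p.Prime).coprime_iff_not_dvd.1
    ((hL.coprime_dvd_left (Subgroup.orderOf_dvd_natCard L hl)).symm)
  have h1 := Fusion.eq_of_coprime_fix (hS.to_le inf_le_left) α hα hnd (fun x hx => Subtype.ext (by
    have hxp : (x : H) ^ p = 1 := by
      rw [← SubmonoidClass.coe_pow, hx.resolve_right fun h => hp h.1]; rfl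
    have hxE := hmax x x.2.1 hxp fun e he => mem_centralizer_iff.1 x.2.2 e he
    show l * (x : H) * l⁻¹ = x
    rw [mem_centralizer_iff.1 (hLE hxE) l hl, mul_inv_cancel_right])) ⟨w, hw⟩
  have h2 : l * w * l⁻¹ = w := congrArg Subtype.val h1
  exact mul_inv_eq_iff_eq_mul.1 h2

end Cfsg.Agent.Solv.MaximalElementary
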