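import Mathlib
import Cfsg.Prelude.Def_OddOrderLocal
import Cfsg.Agent.Lib.Solv.Coprime
import Cfsg.Agent.Lib.Solv.AbelianAction
import Cfsg.Agent.Lib.Struct.ClassTwoBasic
import Cfsg.Agent.Lib.Local.PGroup
import Cfsg.Agent.Lib.Solv.CyclicIndexP
import Cfsg.Agent.S0638

/-!
Coprime action on metacyclic `p`-groups, `p` odd.
-/

set_option autoImplicit false

universe u v

namespace Cfsg.Agent.Solv.MetaAct

open Subgroup Struct
open scoped commutatorElement

variable {p : ℕ} [Fact p.Prime]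

/-- The core: no coprime group acts without fixed quotient on a minimal non-abelian metacyclic group. -/
theorem core {P : Type u} [Group P] [Finite P] (hp : p ≠ 2) (hP : IsPGroup p P)
    {N : Subgroup P} [N.Normal] (hN : IsCyclic N) (hQ : IsCyclic (P ⧸ N))
    (z : P) (hz1 : z ≠ 1) (hzp : z ^ p = 1) (hzc : z ∈ center P) (hzN : z ∈ N)
    (hcom : ∀ g h : P, ⁅g, h⁆ ∈ zpowers z) (hnab : ∃ g h : P, ⁅g, h⁆ ≠ 1)
    {A : Type v} [Group A] [Finite A] (α : A →* MulAut P) (hcop : (Nat.card A).Coprime p)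
    (hperf : ∀ W : Subgroup P, W.Normal → (∀ (a : A) (r : P), α a r * r⁻¹ ∈ W) → W = ⊤) : False := by
  classical
  haveI := Fintype.ofFinite A
  have hp' : p.Prime := Fact.out
  have hc : ∀ a b : P, ⁅a, b⁆ ∈ center P := fun a b => (zpowers_le.2 hzc) (hcom a b)
  have hcp : ∀ a b : P, ⁅a, b⁆ ^ p = 1 := by
    intro a b
    obtain ⟨i, hi⟩ := hcom a b
    rw [← show z ^ i = ⁅a, b⁆ from hi, ← zpow_natCast, ← zpow_mul, mul_comm, zpow_mul, zpow_natCast, hzp, one_zpow]
  have hmulp : ∀ x y : P, (x * y) ^ p = x ^ p * y ^ p := by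
    intro x y
    obtain ⟨k, hk⟩ : p ∣ p.choose 2 :=
      hp'.dvd_choose_self two_ne_zero (lt_of_le_of_ne hp'.two_le (Ne.symm hp))
    rw [ClassTwo.mul_pow hc, hk, pow_mul, hcp, one_pow, mul_one]
  have hppc : ∀ x : P, x ^ p ∈ center P := fun x => mem_center_iff.2 fun g => by
    have h1 := ClassTwo.pow_left hc x g p
    rw [hcp, commutatorElement_eq_one_iff_mul_comm] at h1
    exact h1.symm
  let φ : P →* P := MonoidHom.mk' (fun x => x ^ p) hmulp
  set Φ := φ.range with hΦdef
  have hΦc : Φ ≤ center P := by rintro _ ⟨x, rfl⟩; exact hppc x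
  haveI hΦn : Φ.Normal := ⟨fun n hn g => by rw [mem_center_iff.1 (hΦc hn) g, mul_inv_cancel_right]; exact hn⟩
  have hcommute : ∀ {x y : P}, ⁅x, y⁆ = 1 → Commute x y := fun h =>
    commutatorElement_eq_one_iff_mul_comm.1 h
  obtain ⟨g0, h0, hgh⟩ := hnab
  -- generators
  obtain ⟨⟨a, haN⟩, ha⟩ := hN.exists_generator
  obtain ⟨bb, hbb⟩ := hQ.exists_generator
  obtain ⟨b, rfl⟩ := QuotientGroup.mk_surjective bb
  have hgen : ∀ g : P, ∃ i j : ℤ, g = a ^ i * b ^ j := by
    intro g
    obtain ⟨j, hj⟩ := hbb (g : P ⧸ N)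
    obtain ⟨i, hi⟩ := ha ⟨g * (b ^ j)⁻¹, (QuotientGroup.eq_one_iff _).1 (by
      rw [QuotientGroup.mk_mul, QuotientGroup.mk_inv, QuotientGroup.mk_zpow]
      exact mul_inv_eq_one.2 hj.symm)⟩
    exact ⟨i, j, by rw [show a ^ i = g * (b ^ j)⁻¹ from congrArg Subtype.val hi, inv_mul_cancel_right]⟩
  have hzΦ : z ∈ Φ := by
    obtain ⟨i, hi⟩ := ha ⟨z, hzN⟩
    have hi' : a ^ i = z := congrArg Subtype.val hi
    by_cases hpi : (p : ℤ) ∣ i
    · obtain ⟨k, rfl⟩ := hpi
      exact ⟨a ^ k, by rw [← hi', mul_comm, zpow_mul, zpow_natCast]; rfl⟩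
    · exfalso
      -- then `N = ⟨z⟩` is central and the group would be abelian
      obtain ⟨k, hk⟩ := hP a
      have hco : IsCoprime i ((p ^ k : ℕ) : ℤ) := by
        rw [Nat.cast_pow]
        exact (((Nat.prime_iff_prime_int.1 hp').coprime_iff_not_dvd.2 hpi).symm).pow_right
      obtain ⟨r, s, hrs⟩ := hco
      have hac : a ∈ center P := by
        have : a = z ^ r := by
          rw [← hi', ← zpow_mul]
          conv_lhs => rw [← zpow_one a, ← hrs]
          rw [zpow_add, mul_comm s, zpow_mul a _ s, zpow_natCast, hk, one_zpow, mul_one, mul_comm r i]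
        rw [this]; exact zpow_mem hzc r
      refine hgh ?_
      rw [commutatorElement_eq_one_iff_mul_comm]
      obtain ⟨i1, j1, rfl⟩ := hgen g0
      obtain ⟨i2, j2, rfl⟩ := hgen h0
      have hab : Commute a b := (mem_center_iff.1 hac b).symm
      exact ((((Commute.refl a).zpow_zpow i1 i2).mul_right (hab.zpow_zpow i1 j2))).mul_left
        ((hab.symm.zpow_zpow j1 i2).mul_right ((Commute.refl b).zpow_zpow j1 j2))
  have hidx : Φ.index ≤ p ^ 2 := by
    have hsurj : Function.Surjective (fun ij : Fin p × Fin p => ((a ^ (ij.1 : ℕ) * b ^ (ij.2 : ℕ) : P) : P ⧸ Φ)) := by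
      intro q
      induction q using QuotientGroup.induction_on with
      | _ g =>
        obtain ⟨i, j, rfl⟩ := hgen g
        have key : ∀ (x : P) (i : ℤ), ∃ i' : Fin p, ((x ^ (i' : ℕ) : P) : P ⧸ Φ) = ((x ^ i : P) : P ⧸ Φ) := by
          intro x i
          refine ⟨⟨(i % p).toNat, ?_⟩, ?_⟩
          · have := Int.emod_lt_of_pos i (Int.natCast_pos.2 hp'.pos)
            have := Int.emod_nonneg i (Int.natCast_ne_zero.2 hp'.ne_zero)
            omega
          · rw [← zpow_natCast, Int.toNat_of_nonneg (Int.emod_nonneg i (Int.natCast_ne_zero.2 hp'.ne_zero))]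
            have e : x ^ i = x ^ (i % p) * (x ^ (i / p)) ^ p := by
              rw [← zpow_natCast, ← zpow_mul, ← zpow_add]
              congr 1
              rw [mul_comm]
              have := Int.emod_def i (p : ℤ); linarith
            rw [e, QuotientGroup.mk_mul, (QuotientGroup.eq_one_iff ((x ^ (i / p)) ^ p)).2 (MonoidHom.mem_range.2 ⟨_, rfl⟩), mul_one]
        obtain ⟨i', hi'⟩ := key a i
        obtain ⟨j', hj'⟩ := key b j
        exact ⟨(i', j'), by simp only [QuotientGroup.mk_mul, hi', hj']⟩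
    calc Φ.index = Nat.card (P ⧸ Φ) := rfl
      _ ≤ Nat.card (Fin p × Fin p) := Nat.card_le_card_of_surjective _ hsurj
      _ = p ^ 2 := by rw [Nat.card_prod, Nat.card_fin, pow_two]
  -- centralizers
  let Z : P → Subgroup P := fun x => centralizer ({x} : Set P)
  have hmemZ : ∀ {x y : P}, y ∈ Z x ↔ Commute y x := fun {x y} => mem_centralizer_singleton_iff
  have hcyc : ∀ K : Subgroup P, K.index = p → K ≤ center P → False := by
    intro K hK hKc
    haveI : K.Normal := ⟨fun n hn g => by rw [mem_center_iff.1 (hKc hn) g, mul_inv_cancel_right]; exact hn⟩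
    haveI : IsCyclic (P ⧸ K) := isCyclic_of_prime_card (p := p) hK
    exact hgh (commutatorElement_eq_one_iff_mul_comm.2
      (commutative_of_cyclic_center_quotient (QuotientGroup.mk' K) (by rwa [QuotientGroup.ker_mk']) g0 h0))
  have hnc : ∀ x : P, x ∉ Φ → ∃ M : Subgroup P, M.index = p ∧ M ≤ Z x ∧ Z x ≤ M ∧
      (∀ m ∈ M, ∀ m' ∈ M, Commute m m') ∧ M = zpowers x ⊔ Φ := by
    intro x hx
    set M := zpowers x ⊔ Φ with hM
    have hab : ∀ m ∈ M, ∀ m' ∈ M, Commute m m' := by
      intro m hm m' hm'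
      obtain ⟨u, hu, f, hf, rfl⟩ := mem_sup_of_normal_right.1 hm
      obtain ⟨u', hu', f', hf', rfl⟩ := mem_sup_of_normal_right.1 hm'
      obtain ⟨i, rfl⟩ := mem_zpowers_iff.1 hu
      obtain ⟨i', rfl⟩ := mem_zpowers_iff.1 hu'
      have cf : ∀ g, Commute f g := fun g => (mem_center_iff.1 (hΦc hf) g).symm
      have cf' : ∀ g, Commute f' g := fun g => (mem_center_iff.1 (hΦc hf') g).symm
      exact (((Commute.refl x).zpow_zpow i i').mul_right ((cf' _).symm)).mul_left ((cf _))
    have hne1 : M.index ≠ 1 := by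
      intro e
      rw [index_eq_one] at e
      exact hgh (commutatorElement_eq_one_iff_mul_comm.2 (hab g0 (e ▸ mem_top _) h0 (e ▸ mem_top _)))
    have hlt : Φ < M := lt_of_le_not_ge le_sup_right fun h => hx (h (mem_sup_left (mem_zpowers x)))
    have hMi : M.index = p := by
      obtain ⟨k, hk⟩ := hP.index M
      have h1 : Φ.relIndex M * M.index = Φ.index := relIndex_mul_index hlt.le
      have h2 : Φ.relIndex M ≠ 1 := fun e => hlt.not_ge (relIndex_eq_one.1 e)
      obtain ⟨l, hl⟩ := (hP.to_subgroup M).index (Φ.subgroupOf M)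
      have h3 : p ≤ Φ.relIndex M := by
        rw [show Φ.relIndex M = p ^ l from hl] at h2 ⊢
        calc p = p ^ 1 := (pow_one p).symm
          _ ≤ p ^ l := Nat.pow_le_pow_right hp'.pos (by
            rcases l with _ | l
            · exact absurd (pow_zero p) h2
            · omega)
      rcases k with _ | _ | k
      · exact absurd (hk.trans (pow_zero p)) hne1
      · exact hk.trans (pow_one p)
      · exfalso
        have h4 : p * p ^ (k + 2) ≤ p ^ 2 := by
          calc p * p ^ (k + 2) ≤ Φ.relIndex M * M.index := by rw [hk]; exact Nat.mul_le_mul_right _ h3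
            _ ≤ p ^ 2 := h1.le.trans hidx
        have h5 : p ^ 2 < p * p ^ (k + 2) := by
          rw [← pow_succ']
          exact Nat.pow_lt_pow_right hp'.one_lt (by omega)
        omega
    have hMZ : M ≤ Z x := fun m hm => hmemZ.2 (hab m hm x (mem_sup_left (mem_zpowers x)))
    refine ⟨M, hMi, hMZ, ?_, hab, hM⟩
    rcases hp'.eq_one_or_self_of_dvd _ (hMi ▸ index_dvd_of_le hMZ) with e | e
    · exfalso
      rw [index_eq_one] at e
      refine hcyc M hMi fun m hm => mem_center_iff.2 fun g => ?_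
      by_cases hm' : m ∈ Φ
      · exact mem_center_iff.1 (hΦc hm') g
      · -- `m` generates `M` together with central elements
        obtain ⟨u, hu, f, hf, rfl⟩ := mem_sup_of_normal_right.1 hm
        obtain ⟨i, rfl⟩ := mem_zpowers_iff.1 hu
        exact (((hmemZ.1 (e ▸ mem_top g)).zpow_right i).mul_right (mem_center_iff.1 (hΦc hf) g)).eq
    · exact fun y hy => by
        by_contra hyM
        have hlt' : M < Z x := lt_of_le_not_ge hMZ fun h => hyM (h hy)
        exact absurd (e.trans hMi.symm) (index_strictAnti hlt').ne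
  have hpair : ∀ {x y : P}, x ∉ Φ → y ∉ Φ → Commute x y → Z x = Z y := by
    intro x y hx hy hxy
    obtain ⟨M, hM, hle, hge, hab, -⟩ := hnc x hx
    obtain ⟨M', hM', hle', hge', -, -⟩ := hnc y hy
    have hyM : y ∈ M := hge (hmemZ.2 hxy.symm)
    have h1 : M ≤ M' := fun m hm => hge' (hmemZ.2 (hab m hm y hyM))
    have h2 : M = M' := eq_of_le_of_card_ge h1 (by
      have e1 := M.card_mul_index
      have e2 := M'.card_mul_index
      rw [hM] at e1; rw [hM'] at e2
      exact le_of_eq (Nat.eq_of_mul_eq_mul_right hp'.pos (e2.trans e1.symm)))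
    exact le_antisymm (hge.trans (h2.le.trans hle')) (hge'.trans (h2.ge.trans hle))
  -- the maximal root of `z`
  obtain ⟨K, hK⟩ : ∃ K, ∀ g : P, g ^ p ^ K = 1 := by
    obtain ⟨K, hK⟩ := hP.exists_card_eq
    exact ⟨K, fun g => by rw [← hK]; exact pow_card_eq_one'⟩
  let Good : ℕ → Prop := fun s => ∃ w : P, w ^ p ^ s = z
  have hbound : ∀ s, Good s → s < K := by
    rintro s ⟨w, hw⟩
    by_contra hh
    push Not at hh
    obtain ⟨d, rfl⟩ := Nat.exists_eq_add_of_le hh
    rw [pow_add, pow_mul, hK, one_pow] at hw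
    exact hz1 hw.symm
  have hgood1 : Good 1 := by
    obtain ⟨w, hw⟩ := hzΦ
    exact ⟨w, by rw [pow_one]; exact hw⟩
  set s := Nat.findGreatest Good K with hs
  have hgs : Good s := Nat.findGreatest_spec (hbound 1 hgood1).le hgood1
  have hs1 : 1 ≤ s := Nat.le_findGreatest (hbound 1 hgood1).le hgood1
  have hmax : ¬ Good (s + 1) := fun h => by
    have := Nat.le_findGreatest (P := Good) (hbound _ h).le h
    omega
  obtain ⟨w, hw⟩ := hgs
  obtain ⟨t, ht⟩ : ∃ t, s = t + 1 := ⟨s - 1, by omega⟩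
  have hsmul : ∀ x y : P, (x * y) ^ p ^ s = x ^ p ^ s * y ^ p ^ s := by
    intro x y
    rw [ht, pow_succ', pow_mul, pow_mul, pow_mul, hmulp]
    exact Commute.mul_pow ((mem_center_iff.1 (hppc x) (y ^ p)).symm) _
  let ψ : P →* P := MonoidHom.mk' (fun x => x ^ p ^ s) hsmul
  have hwΦ : w ∉ Φ := by
    rintro ⟨u, rfl⟩
    refine hmax ⟨u, ?_⟩
    have hw' : (u ^ p) ^ p ^ s = z := hw
    rwa [← pow_mul, ← pow_succ'] at hw'
  have hkerΦ : ∀ k f : P, k ∈ ψ.ker → f ∈ Φ → k * f ≠ w := by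
    rintro k f hk ⟨u, rfl⟩ e
    refine hmax ⟨u, ?_⟩
    have h1 : ψ (k * φ u) = z := by rw [e]; exact hw
    rw [map_mul, MonoidHom.mem_ker.1 hk, one_mul] at h1
    have hw' : (u ^ p) ^ p ^ s = z := h1
    rwa [← pow_mul, ← pow_succ'] at hw'
  -- the character
  have hlam : ∀ x : A, ∃ r : ℕ, α x z = z ^ r ∧ ¬ p ∣ r := by
    intro x
    have hzord : orderOf z = p := orderOf_eq_prime hzp hz1
    have h1 : z ∈ zpowers ⁅g0, h0⁆ := by
      have h2 : zpowers ⁅g0, h0⁆ = zpowers z := eq_of_le_of_card_ge (zpowers_le.2 (hcom g0 h0)) (by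
        rw [Nat.card_zpowers, Nat.card_zpowers, hzord, orderOf_eq_prime (hcp g0 h0) hgh])
      exact h2 ▸ mem_zpowers z
    obtain ⟨i, hi⟩ := mem_zpowers_iff.1 h1
    have h3 : α x z ∈ zpowers z := by
      have e := congrArg (α x) hi
      rw [map_zpow, map_commutatorElement] at e
      exact e ▸ zpow_mem (hcom _ _) i
    obtain ⟨r, hr⟩ := mem_powers_iff_mem_zpowers.2 h3
    refine ⟨r, hr.symm, fun ⟨k, hk⟩ => hz1 ((α x).injective ?_)⟩
    rw [map_one, ← hr, hk]
    show z ^ (p * k) = 1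
    rw [pow_mul, hzp, one_pow]
  have hbil : ∀ (x : A) (r : ℕ), α x z = z ^ r → ∀ g h : P, α x ⁅g, h⁆ = ⁅g, h⁆ ^ r := by
    intro x r hr g h
    obtain ⟨i, hi⟩ := mem_zpowers_iff.1 (hcom g h)
    rw [← hi, map_zpow, hr, ← zpow_natCast, ← zpow_mul, mul_comm, zpow_mul, zpow_natCast]
  have hcancel : ∀ {r : ℕ}, ¬ p ∣ r → ∀ {g h g' h' : P}, ⁅g, h⁆ ^ r = ⁅g', h'⁆ ^ r → ⁅g, h⁆ = ⁅g', h'⁆ := by
    intro r hr g h g' h' e
    have hc1 : (⁅g, h⁆ * ⁅g', h'⁆⁻¹) ^ r = 1 := by
      rw [Commute.mul_pow ((mem_center_iff.1 (hc g h) _).symm), inv_pow, e, mul_inv_cancel]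
    have hc2 : (⁅g, h⁆ * ⁅g', h'⁆⁻¹) ^ p = 1 := by
      rw [Commute.mul_pow ((mem_center_iff.1 (hc g h) _).symm), inv_pow, hcp, hcp, inv_one, mul_one]
    exact mul_inv_eq_one.1 (orderOf_eq_one_iff.1 (Nat.eq_one_of_dvd_coprimes
      ((hp'.coprime_iff_not_dvd).2 hr).symm (orderOf_dvd_of_pow_eq_one hc1) (orderOf_dvd_of_pow_eq_one hc2)))
  have hψw : ∀ (x : A) (r : ℕ), α x z = z ^ r → α x w * (w ^ r)⁻¹ ∈ ψ.ker := by
    intro x r hr
    rw [MonoidHom.mem_ker, map_mul, map_inv, map_pow, mul_inv_eq_one]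
    show (α x w) ^ p ^ s = (w ^ p ^ s) ^ r
    rw [← map_pow, hw, hr]
  by_cases hker : ψ.ker ≤ Φ
  · obtain ⟨M, hMi, hMle, hMge, -, -⟩ := hnc w hwΦ
    haveI : M.Normal := CycP.normal_of_index_prime hP M hMi
    have hMtop := hperf M inferInstance fun x y => ?_
    · rw [hMtop, index_top] at hMi
      exact hp'.one_lt.ne hMi
    obtain ⟨r, hr, hrp⟩ := hlam x
    refine hMge (hmemZ.2 (hcommute ?_).symm)
    have h1 : ⁅α x w, α x y⁆ = ⁅w, y⁆ ^ r := by rw [← map_commutatorElement, hbil x r hr]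
    have h2 : ⁅α x w, α x y⁆ = ⁅w, α x y⁆ ^ r := by
      conv_lhs => rw [show α x w = (α x w * (w ^ r)⁻¹) * w ^ r by rw [inv_mul_cancel_right]]
      rw [ClassTwo.mul_left hc, ClassTwo.pow_left hc,
        commutatorElement_eq_one_iff_mul_comm.2 ((mem_center_iff.1 (hΦc (hker (hψw x r hr))) (α x y)).symm), one_mul]
    have h3 : ⁅w, α x y⁆ = ⁅w, y⁆ := hcancel hrp (h2.symm.trans h1)
    have h4 : ⁅w, α x y⁆ = ⁅w, α x y * y⁻¹⁆ * ⁅w, y⁆ := by
      have e := ClassTwo.mul_left hc (α x y * y⁻¹) y w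
      rw [inv_mul_cancel_right] at e
      rw [← commutatorElement_inv (α x y) w, e, mul_inv_rev, commutatorElement_inv, commutatorElement_inv]
      exact mem_center_iff.1 (hc w (α x y * y⁻¹)) _
    rw [h3] at h4
    exact mul_eq_right.1 h4.symm
  · obtain ⟨x0, hx0, hx0Φ⟩ := SetLike.not_le_iff_exists.1 hker
    obtain ⟨M, hMi, hMle, hMge, hMab, hMeq⟩ := hnc x0 hx0Φ
    have hkerM : ψ.ker ⊔ Φ ≤ M := by
      have hne : ψ.ker ⊔ Φ ≠ ⊤ := by
        intro e
        have hwm : w ∈ ψ.ker ⊔ Φ := e ▸ mem_top w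
        obtain ⟨k, hk, f, hf, e'⟩ := mem_sup_of_normal_right.1 hwm
        exact hkerΦ k f hk hf e'
      intro y hy
      by_contra hyM
      have hMsup : M ≤ ψ.ker ⊔ Φ := by
        rw [hMeq]
        exact sup_le (zpowers_le.2 (mem_sup_left hx0)) le_sup_right
      have : M < ψ.ker ⊔ Φ := lt_of_le_not_ge hMsup fun h => hyM (h hy)
      have h1 := index_strictAnti this
      rw [hMi] at h1
      obtain ⟨k, hk⟩ := hP.index (ψ.ker ⊔ Φ)
      rcases k with _ | k
      · exact hne (index_eq_one.1 (hk.trans (pow_zero p)))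
      · have : p ≤ p ^ (k + 1) := Nat.le_self_pow (Nat.succ_ne_zero k) p
        omega
    have hxw : ¬ Commute x0 w := by
      intro h
      have hwM : w ∈ zpowers x0 ⊔ Φ := hMeq ▸ hMge (hmemZ.2 h.symm)
      obtain ⟨k, hk, f, hf, e'⟩ := mem_sup_of_normal_right.1 hwM
      exact hkerΦ k f (zpowers_le.2 hx0 hk) hf e'
    have hfix : ∀ x : A, α x x0 * x0⁻¹ ∈ Φ := by
      intro x
      obtain ⟨r, hr, hrp⟩ := hlam x
      have hx'k : α x x0 ∈ ψ.ker := by
        rw [MonoidHom.mem_ker]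
        show (α x x0) ^ p ^ s = 1
        rw [← map_pow, show x0 ^ p ^ s = 1 from hx0, map_one]
      have hx'M : α x x0 ∈ M := hkerM (mem_sup_left hx'k)
      have hkM : α x w * (w ^ r)⁻¹ ∈ M := hkerM (mem_sup_left (hψw x r hr))
      have h1 : ⁅α x x0, α x w⁆ = ⁅x0, w⁆ ^ r := by rw [← map_commutatorElement, hbil x r hr]
      have h2 : ⁅α x x0, α x w⁆ = ⁅α x x0, w⁆ ^ r := by
        rw [← commutatorElement_inv (α x w) (α x x0)]
        conv_lhs => rw [show α x w = (α x w * (w ^ r)⁻¹) * w ^ r by rw [inv_mul_cancel_right]]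
        rw [ClassTwo.mul_left hc, ClassTwo.pow_left hc,
          commutatorElement_eq_one_iff_mul_comm.2 (hMab _ hkM _ hx'M), one_mul, ← inv_pow, commutatorElement_inv]
      have h3 : ⁅α x x0, w⁆ = ⁅x0, w⁆ := hcancel hrp (h2.symm.trans h1)
      by_contra hkΦ
      set k := α x x0 * x0⁻¹ with hk
      have hcw : Commute k w := by
        apply hcommute
        have e := ClassTwo.mul_left hc k x0 w
        rw [hk, inv_mul_cancel_right, h3] at e
        exact mul_eq_right.1 e.symm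
      have hcx : Commute k x0 := hMab _ (mul_mem hx'M (inv_mem (hMge (hmemZ.2 (Commute.refl x0))))) _
        (hMge (hmemZ.2 (Commute.refl x0)))
      have hw2 : w ∈ Z k := hmemZ.2 hcw.symm
      rw [hpair hkΦ hx0Φ hcx] at hw2
      exact hxw (hmemZ.1 hw2).symm
    -- the norm map to `P / Φ` kills everything
    letI : CommGroup (P ⧸ Φ) := { (inferInstance : Group (P ⧸ Φ)) with
      mul_comm := fun a' b' => by
        induction a' using QuotientGroup.induction_on with
        | _ g =>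
          induction b' using QuotientGroup.induction_on with
          | _ h =>
            rw [← QuotientGroup.mk_mul, ← QuotientGroup.mk_mul, QuotientGroup.eq,
              show (g * h)⁻¹ * (h * g) = ⁅h⁻¹, g⁻¹⁆ by rw [commutatorElement_def]; group]
            exact (zpowers_le.2 hzΦ) (hcom _ _) }
    let F : P →* P ⧸ Φ := MonoidHom.mk' (fun g => ∏ x : A, ((α x g : P) : P ⧸ Φ)) fun g h => by
      simp only [map_mul, QuotientGroup.mk_mul, Finset.prod_mul_distrib]
    have hFker : F.ker = ⊤ := hperf F.ker inferInstance fun x g => by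
      rw [MonoidHom.mem_ker, map_mul, map_inv, mul_inv_eq_one]
      show (∏ y : A, ((α y (α x g) : P) : P ⧸ Φ)) = ∏ y : A, ((α y g : P) : P ⧸ Φ)
      refine Fintype.prod_equiv (Equiv.mulRight x) _ _ fun y => ?_
      simp [map_mul]
    have hF : F x0 = 1 := MonoidHom.mem_ker.1 (hFker ▸ mem_top x0)
    have hF' : F x0 = (x0 : P ⧸ Φ) ^ Nat.card A := by
      show (∏ x : A, ((α x x0 : P) : P ⧸ Φ)) = _
      rw [Finset.prod_congr rfl (fun x _ => show ((α x x0 : P) : P ⧸ Φ) = (x0 : P ⧸ Φ) by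
        rw [← mul_inv_eq_one, ← QuotientGroup.mk_inv, ← QuotientGroup.mk_mul, QuotientGroup.eq_one_iff]
        exact hfix x), Finset.prod_const, Finset.card_univ, Nat.card_eq_fintype_card]
    rw [hF'] at hF
    have hxp : (x0 : P ⧸ Φ) ^ p = 1 := by
      rw [← QuotientGroup.mk_pow, QuotientGroup.eq_one_iff]
      exact ⟨x0, rfl⟩
    exact hx0Φ ((QuotientGroup.eq_one_iff x0).1 (orderOf_eq_one_iff.1
      (Nat.eq_one_of_dvd_coprimes hcop (orderOf_dvd_of_pow_eq_one hF) (orderOf_dvd_of_pow_eq_one hxp))))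

theorem isMetacyclic_of_injective {R : Type u} [Group R] {H : Type v} [Group H] (f : H →* R)
    (hf : Function.Injective f) (h : Cfsg.IsMetacyclic R) : Cfsg.IsMetacyclic H := by
  obtain ⟨N, hN, hNc, hQc⟩ := h
  refine ⟨N.comap f, hN.comap f, ?_, ?_⟩
  · haveI := hNc
    exact isCyclic_of_injective ((f.comp (N.comap f).subtype).codRestrict N fun x => x.2) fun a b e =>
      Subtype.ext (hf (congrArg Subtype.val e))
  · haveI := hQc
    refine isCyclic_of_injective (QuotientGroup.map (N.comap f) N f le_rfl) ?_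
    rw [injective_iff_map_eq_one]
    intro q
    induction q using QuotientGroup.induction_on with
    | _ x => intro e; exact (QuotientGroup.eq_one_iff x).2 (show f x ∈ N from (QuotientGroup.eq_one_iff (f x)).1 e)

/-- A metacyclic `p`-group with a coprime operator group without fixed quotient is abelian. -/
theorem commute_of_perfect {B : Type u} [Group B] [Finite B] (hp : p ≠ 2) (hB : IsPGroup p B)
    (hm : Cfsg.IsMetacyclic B) {A : Type v} [Group A] [Finite A] (α : A →* MulAut B)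
    (hcop : (Nat.card A).Coprime p)
    (hperf : ∀ W : Subgroup B, W.Normal → (∀ (a : A) (r : B), α a r * r⁻¹ ∈ W) → W = ⊤) :
    ∀ g h : B, g * h = h * g := by
  by_contra hne
  push Not at hne
  obtain ⟨g1, h1, hgh1⟩ := hne
  obtain ⟨N, hN, hNc, hQc⟩ := hm
  haveI := hN
  haveI := hNc
  haveI := hQc
  have hDN : _root_.commutator B ≤ N :=
    (Normal.quotient_commutative_iff_commutator_le).1 IsCyclic.isMulCommutative
  haveI : IsCyclic ↥(_root_.commutator B) := isCyclic_of_injective (inclusion hDN) (inclusion_injective hDN)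
  obtain ⟨⟨c, hcD⟩, hcg⟩ := IsCyclic.exists_generator (α := ↥(_root_.commutator B))
  have hmem : ∀ x ∈ _root_.commutator B, ∃ i : ℤ, x = c ^ i := fun x hx => by
    obtain ⟨i, hi⟩ := hcg ⟨x, hx⟩
    exact ⟨i, (congrArg Subtype.val hi).symm⟩
  have hcomm_mem : ∀ g h : B, ⁅g, h⁆ ∈ _root_.commutator B := fun g h =>
    commutator_mem_commutator (mem_top g) (mem_top h)
  set L := zpowers (c ^ p) with hL
  have hLinv : ∀ β : MulAut B, ∀ x ∈ L, β x ∈ L := by
    intro β x hx
    obtain ⟨k, rfl⟩ := mem_zpowers_iff.1 hx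
    have hβ : β c ∈ _root_.commutator B := by
      have : (_root_.commutator B).map β.toMonoidHom ≤ _root_.commutator B := by
        rw [_root_.commutator_def, map_commutator]
        exact commutator_mono le_top le_top
      exact this ⟨c, hcD, rfl⟩
    obtain ⟨i, hi⟩ := hmem _ hβ
    rw [map_zpow, map_pow, hi, ← zpow_natCast (c ^ i), ← zpow_mul c, mul_comm i, zpow_mul, zpow_natCast,
      ← zpow_mul]
    exact zpow_mem (mem_zpowers _) _
  haveI hLn : L.Normal := ⟨fun x hx g => hLinv (MulAut.conj g) x hx⟩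
  let π := QuotientGroup.mk' L
  have hPp : IsPGroup p (B ⧸ L) := hB.to_quotient L
  have hc1 : π c ≠ 1 := by
    intro e
    obtain ⟨k, hk⟩ := mem_zpowers_iff.1 ((QuotientGroup.eq_one_iff c).1 e)
    obtain ⟨n, hn⟩ := hB.exists_card_eq
    have hc0 : c = 1 := by
      obtain ⟨m, hm⟩ := hB c
      have h1 : c ^ ((p : ℤ) * k - 1) = 1 := by
        rw [zpow_sub, zpow_one, zpow_mul, zpow_natCast, hk, mul_inv_cancel]
      have hco : IsCoprime ((p : ℤ) * k - 1) ((p : ℤ) ^ m) := by
        refine IsCoprime.pow_right ⟨-1, k, by ring⟩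
      obtain ⟨r, s, hrs⟩ := hco
      rw [← zpow_one c, ← hrs, zpow_add, mul_comm r, zpow_mul, h1, one_zpow, one_mul, mul_comm s, zpow_mul,
        ← Nat.cast_pow, zpow_natCast, hm, one_zpow]
    obtain ⟨i, hi⟩ := hmem _ (hcomm_mem g1 h1)
    rw [hc0, one_zpow] at hi
    exact hgh1 (commutatorElement_eq_one_iff_mul_comm.1 hi)
  have hcp : π c ^ p = 1 := by rw [← map_pow]; exact (QuotientGroup.eq_one_iff _).2 (mem_zpowers _)
  have hcom' : ∀ g h : B ⧸ L, ⁅g, h⁆ ∈ zpowers (π c) := by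
    intro g h
    induction g using QuotientGroup.induction_on with
    | _ g =>
      induction h using QuotientGroup.induction_on with
      | _ h =>
        obtain ⟨i, hi⟩ := hmem _ (hcomm_mem g h)
        refine ⟨i, ?_⟩
        show π c ^ i = ⁅π g, π h⁆
        rw [← map_commutatorElement, hi, map_zpow]
  haveI : (zpowers (π c)).Normal := ⟨fun x hx g => by
    have e : g * x * g⁻¹ = ⁅g, x⁆ * x := by rw [commutatorElement_def]; group
    rw [e]; exact mul_mem (hcom' g x) hx⟩
  have hcent : π c ∈ center (B ⧸ L) := by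
    have hne := Local.inf_center_ne_bot hPp (zpowers (π c)) (by simpa using hc1)
    have hcard : Nat.card ↥(zpowers (π c)) = p := by rw [Nat.card_zpowers]; exact orderOf_eq_prime hcp hc1
    have hdvd := card_dvd_of_le (inf_le_left : zpowers (π c) ⊓ center (B ⧸ L) ≤ zpowers (π c))
    rw [hcard] at hdvd
    rcases (Fact.out : p.Prime).eq_one_or_self_of_dvd _ hdvd with e | e
    · exact absurd (card_eq_one.1 e) hne
    · have := eq_of_le_of_card_ge inf_le_left (by rw [hcard, e])
      exact (this.ge (mem_zpowers (π c))).2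
  haveI : (N.map π).Normal := hN.map π (QuotientGroup.mk'_surjective L)
  let αP : A →* MulAut (B ⧸ L) :=
    { toFun := fun a => QuotientGroup.congr L L (α a) (by
        refine le_antisymm ?_ fun x hx => ⟨(α a).symm x, hLinv _ x hx, (α a).apply_symm_apply x⟩
        rintro _ ⟨x, hx, rfl⟩
        exact hLinv (α a) x hx)
      map_one' := MulEquiv.ext fun q => by
        induction q using QuotientGroup.induction_on with
        | _ x => show ((α 1 x : B) : B ⧸ L) = _; rw [map_one]; rfl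
      map_mul' := fun a b => MulEquiv.ext fun q => by
        induction q using QuotientGroup.induction_on with
        | _ x => show ((α (a * b) x : B) : B ⧸ L) = _; rw [map_mul]; rfl }
  refine core (N := N.map π) hp hPp
    (isCyclic_of_surjective (π.subgroupMap N) (π.subgroupMap_surjective N)) ?_ (π c) hc1 hcp hcent
    ⟨c, hDN hcD, rfl⟩ hcom' ?_ αP hcop ?_
  · exact isCyclic_of_surjective
      (QuotientGroup.map N (N.map π) π (fun x hx => ⟨x, hx, rfl⟩))
      (fun q => by
        induction q using QuotientGroup.induction_on with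
        | _ y =>
          obtain ⟨x, rfl⟩ := QuotientGroup.mk'_surjective L y
          exact ⟨(x : B ⧸ N), rfl⟩)
  · by_contra hh
    push Not at hh
    have hle : _root_.commutator B ≤ L := by
      rw [_root_.commutator_def, commutator_le]
      intro g _ h _
      rw [← QuotientGroup.eq_one_iff]
      show π ⁅g, h⁆ = 1
      rw [map_commutatorElement]
      exact hh _ _
    exact hc1 ((QuotientGroup.eq_one_iff c).2 (hle hcD))
  · intro W hW hWa
    have h := hperf (W.comap π) (hW.comap π) fun a r => by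
      rw [mem_comap, map_mul, map_inv]
      exact hWa a (π r)
    rw [← map_comap_eq_self_of_surjective (QuotientGroup.mk'_surjective L) W]
    show (W.comap π).map π = ⊤
    rw [h, map_top_of_surjective _ (QuotientGroup.mk'_surjective L)]

/-- A non-cyclic subgroup of a non-cyclic metacyclic `p`-group contains all elements of order `p`. -/
theorem mem_of_noncyclic {R : Type u} [Group R] [Finite R] (hp : p ≠ 2) (hR : IsPGroup p R)
    (hm : Cfsg.IsMetacyclic R) (H : Subgroup R) (hH : ¬ IsCyclic H) {x : R} (hx : x ^ p = 1) : x ∈ H := by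
  have hnc : ¬ IsCyclic R := fun h => hH inferInstance
  obtain ⟨-, hR2⟩ := Cfsg.Agent.S0638.result hp hR hm hnc
  obtain ⟨-, hH2⟩ := Cfsg.Agent.S0638.result hp (hR.to_subgroup H)
    (isMetacyclic_of_injective H.subtype H.subtype_injective hm) hH
  have hle : (Cfsg.omegaOne p (⊤ : Subgroup ↥H)).map H.subtype ≤ Cfsg.omegaOne p (⊤ : Subgroup R) := by
    rw [Cfsg.omegaOne, MonoidHom.map_closure]
    apply Subgroup.closure_mono
    rintro _ ⟨y, hy, rfl⟩
    exact ⟨mem_top _, by rw [← map_pow, hy.2, map_one]⟩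
  have heq := eq_of_le_of_card_ge hle (by rw [hR2, card_map_of_injective H.subtype_injective, hH2])
  have hx' : x ∈ Cfsg.omegaOne p (⊤ : Subgroup R) := subset_closure ⟨mem_top x, hx⟩
  rw [← heq] at hx'
  obtain ⟨y, -, rfl⟩ := hx'
  exact y.2

/-- The theorem on coprime action on metacyclic groups. -/
theorem main {G : Type u} [Group G] [Finite G] (hp : p ≠ 2) (R A : Subgroup G) (hR : IsPGroup p R)
    (hRm : Cfsg.IsMetacyclic R) (hA : A ≤ normalizer (R : Set G)) (hcop : (Nat.card A).Coprime p) :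
    IsMulCommutative ↥⁅R, A⁆ ∧ ⁅R, A⁆ ⊔ (R ⊓ centralizer (A : Set G)) = R ∧
      ⁅R, A⁆ ⊓ (R ⊓ centralizer (A : Set G)) = ⊥ ∧
      (¬ IsMulCommutative R → ¬ A ≤ centralizer (R : Set G) →
        ⁅R, A⁆ ≠ ⊥ ∧ IsCyclic ↥⁅R, A⁆ ∧ (R ⊓ centralizer (A : Set G)) ≠ ⊥ ∧
          IsCyclic ↥(R ⊓ centralizer (A : Set G)) ∧ ⁅R, R⁆ ≤ ⁅R, A⁆) := by
  have hcR : (Nat.card A).Coprime (Nat.card R) := by
    obtain ⟨k, hk⟩ := hR.exists_card_eq
    rw [hk]; exact hcop.pow_right k
  haveI := hR.isNilpotent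
  have hsolv : Group.IsSolvable A ∨ Group.IsSolvable R := Or.inr inferInstance
  set B := ⁅R, A⁆ with hB
  set C := R ⊓ centralizer (A : Set G) with hC
  have hBR : B ≤ R := commutator_normalizer_le A R hA
  have hAB : A ≤ normalizer (B : Set G) := normalizer_commutator_ge_right R A
  have hBA : ⁅B, A⁆ = B := commutator_commutator_eq A R hA hcR hsolv
  have hBp : IsPGroup p ↥B := hR.to_le hBR
  have hBc : IsMulCommutative ↥B := by
    refine ⟨⟨commute_of_perfect hp hBp (isMetacyclic_of_injective (inclusion hBR) (inclusion_injective hBR) hRm)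
      (conjHom A B hAB) hcop fun W hW hWa => ?_⟩⟩
    have hle : ⁅B, A⁆ ≤ W.map B.subtype := by
      rw [commutator_le]
      intro b hb a ha
      refine ⟨⟨b, hb⟩ * (conjHom A B hAB ⟨a, ha⟩ ⟨b, hb⟩⁻¹ * (⟨b, hb⟩⁻¹)⁻¹) * ⟨b, hb⟩⁻¹,
        hW.conj_mem _ (hWa ⟨a, ha⟩ ⟨b, hb⟩⁻¹) _, ?_⟩
      simp only [map_mul, map_inv, coe_subtype, conjHom_apply, commutatorElement_def]
      group
    rw [hBA] at hle
    rw [eq_top_iff]
    intro y _
    obtain ⟨w, hw, e⟩ := hle y.2
    exact (Subtype.ext e : w = y) ▸ hw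
  have hsup : B ⊔ C = R := commutator_sup_centralizer A R hA hcR hsolv
  have hinf : B ⊓ C = ⊥ := by
    haveI := hBc
    have hcB : (Nat.card A).Coprime (Nat.card B) := hcR.coprime_dvd_right (card_dvd_of_le hBR)
    have h := commutator_inf_centralizer_eq_bot A B hAB hcB
    rw [hBA] at h
    exact eq_bot_iff.2 ((inf_le_inf_left B inf_le_right).trans h.le)
  refine ⟨hBc, hsup, hinf, fun hnab hncent => ?_⟩
  have hB1 : B ≠ ⊥ := fun e => hncent (le_centralizer_iff.1 (commutator_eq_bot_iff_le_centralizer.1 e))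
  have hC1 : C ≠ ⊥ := fun e => hnab (by rw [e, sup_bot_eq] at hsup; exact hsup ▸ hBc)
  have hkey : ∀ H K : Subgroup G, H ≤ R → K ≤ R → H ⊓ K = ⊥ → K ≠ ⊥ → IsCyclic ↥H := by
    intro H K hH hK hd hK1
    by_contra hnc
    haveI : Nontrivial ↥K := (nontrivial_iff_ne_bot K).2 hK1
    obtain ⟨k, hk0, hk⟩ := (hR.to_le hK).nontrivial_iff_card.mp inferInstance
    obtain ⟨x, hx⟩ := exists_prime_orderOf_dvd_card' (G := ↥K) p (hk ▸ dvd_pow_self p hk0.ne')
    have hx' : (⟨(x : G), hK x.2⟩ : ↥R) ^ p = 1 := Subtype.ext (by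
      show (x : G) ^ p = 1
      rw [← SubgroupClass.coe_pow, ← hx, pow_orderOf_eq_one]; rfl)
    have hm := mem_of_noncyclic hp hR hRm (H.subgroupOf R)
      (fun h => hnc ((subgroupOfEquivOfLe hH).isCyclic.1 h)) hx'
    have hxH : (x : G) ∈ H ⊓ K := ⟨mem_subgroupOf.1 hm, x.2⟩
    rw [hd, mem_bot] at hxH
    rw [show x = 1 from Subtype.ext hxH, orderOf_one] at hx
    exact (Fact.out : p.Prime).one_lt.ne hx
  have hBcyc : IsCyclic ↥B := hkey B C hBR inf_le_left hinf hC1
  have hCcyc : IsCyclic ↥C := hkey C B inf_le_left hBR (by rwa [inf_comm]) hB1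
  refine ⟨hB1, hBcyc, hC1, hCcyc, ?_⟩
  rw [commutator_le]
  intro r hr r' hr'
  obtain ⟨x, hx, c, hc, rfl⟩ := exists_commutator_mul_centralizer A R hA hcR hsolv hr
  obtain ⟨y, hy, d, hd, rfl⟩ := exists_commutator_mul_centralizer A R hA hcR hsolv hr'
  have hn : R ≤ normalizer (B : Set G) := normalizer_commutator_ge_left R A
  have hcd : c * d = d * c := by
    haveI := hCcyc
    exact congrArg Subtype.val (IsCyclic.isMulCommutative.is_comm.comm (⟨c, hc⟩ : ↥C) ⟨d, hd⟩)
  have e : ⁅x * c, y * d⁆ = x * (c * y * c⁻¹) * (d * x⁻¹ * d⁻¹) * y⁻¹ := by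
    calc ⁅x * c, y * d⁆ = x * (c * y * c⁻¹) * ((c * d) * c⁻¹) * x⁻¹ * d⁻¹ * y⁻¹ := by
          rw [commutatorElement_def]; group
      _ = x * (c * y * c⁻¹) * (d * x⁻¹ * d⁻¹) * y⁻¹ := by rw [hcd]; group
  rw [e]
  exact mul_mem (mul_mem (mul_mem hx ((mem_normalizer_iff.1 (hn hc.1) _).1 hy))
    ((mem_normalizer_iff.1 (hn hd.1) _).1 (inv_mem hx))) (inv_mem hy)

end Cfsg.Agent.Solv.MetaAct
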