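import Cfsg.Prelude.Def_SolvableStructure
import Cfsg.Agent.Lib.Solv.FpfNilpotent
import Cfsg.Agent.Lib.Solv.Misc
import Cfsg.Agent.Lib.Struct.Frobenius

/-!
Schmidt's theorem and minimal non-nilpotent / minimal non-`p`-nilpotent groups.
-/

set_option autoImplicit false
set_option linter.style.haveILetI false

namespace Cfsg.Agent.Solv

open Subgroup
open scoped Pointwise commutatorElement

universe u

variable {G : Type u} [Group G]

theorem coatom_inf_eq_bot [Finite G] [IsSimpleGroup G]
    (h : ∀ M : Subgroup G, IsCoatom M → Group.IsNilpotent M) :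
    ∀ D M N : Subgroup G, IsCoatom M → IsCoatom N → M ≠ N → D = M ⊓ N → D = ⊥ := by
  intro D
  induction D using WellFoundedGT.induction with
  | _ D ih =>
    intro M N hM hN hMN hD
    by_contra hD0
    have hDM : D < M := by
      refine lt_of_le_of_ne (hD ▸ inf_le_left) fun e => hMN ?_
      have hle : M ≤ N := inf_eq_left.mp (hD.symm.trans e)
      exact hle.lt_or_eq.resolve_left fun hlt => hN.1 (hM.2 _ hlt)
    have hDn : normalizer (D : Set G) ≠ ⊤ := fun e => by
      haveI := normalizer_eq_top_iff.mp e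
      rcases IsSimpleGroup.eq_bot_or_eq_top_of_normal D inferInstance with h1 | h1
      · exact hD0 h1
      · exact hM.1 (top_le_iff.mp (h1 ▸ hDM.le))
    obtain ⟨L, hL, hle⟩ := exists_coatom_ge hDn
    -- normalisers grow in both factors
    have grow : ∀ M : Subgroup G, IsCoatom M → D < M → D < M ⊓ L := by
      intro M hM hDM
      haveI := h M hM
      have h1 := Group.normalizerCondition_of_isNilpotent (D.subgroupOf M)
        (lt_top_iff_ne_top.mpr fun e => hDM.not_ge (subgroupOf_eq_top.mp e))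
      rw [← subgroupOf_normalizer_eq hDM.le] at h1
      refine lt_of_le_of_ne (le_inf hDM.le (le_normalizer.trans hle)) fun e => h1.ne ?_
      refine le_antisymm h1.le fun x hx => ?_
      change (x : G) ∈ D
      rw [e]
      exact ⟨x.2, hle hx⟩
    have hDN : D < N := by
      refine lt_of_le_of_ne (hD ▸ inf_le_right) fun e => hMN ?_
      have hle : N ≤ M := inf_eq_right.mp (hD.symm.trans e)
      exact (hle.lt_or_eq.resolve_left fun hlt => hM.1 (hN.2 _ hlt)).symm
    have key : ∀ M : Subgroup G, IsCoatom M → D < M → L = M := by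
      intro M hM hDM
      by_contra hne
      have hg := grow M hM hDM
      exact (lt_of_le_of_lt bot_le hg).ne' (ih _ hg M L hM hL (Ne.symm hne) rfl)
    exact hMN ((key M hM hDM).symm.trans (key N hN hDN))

/-- **Schmidt's theorem**. -/
theorem isSolvable_of_coatom_nilpotent_aux : ∀ (n : ℕ) (G : Type u) [Group G] [Finite G],
    Nat.card G ≤ n → (∀ M : Subgroup G, IsCoatom M → Group.IsNilpotent M) → Group.IsSolvable G := by
  intro n
  induction n with
  | zero => intro G _ _ hn; exact absurd hn (not_le.mpr Nat.card_pos)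
  | succ n ih =>
    intro G _ _ hn h
    by_cases hs : ∃ N : Subgroup G, N.Normal ∧ N ≠ ⊥ ∧ N ≠ ⊤
    · obtain ⟨N, hN, hNb, hNt⟩ := hs
      haveI := hN
      obtain ⟨M, hM, hle⟩ := exists_coatom_ge hNt
      haveI := h M hM
      haveI : Group.IsSolvable N := isSolvable_of_le hle inferInstance
      haveI : Group.IsSolvable (G ⧸ N) := by
        have hlt : Nat.card (G ⧸ N) < Nat.card G := by
          rw [card_eq_card_quotient_mul_card_subgroup N]
          exact lt_mul_of_one_lt_right Nat.card_pos ((one_lt_card_iff_ne_bot N).mpr hNb)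
        refine ih _ (by omega) fun Mb hMb => ?_
        set f := QuotientGroup.mk' N
        have hs : Function.Surjective f := QuotientGroup.mk'_surjective N
        have hne : Mb.comap f ≠ ⊤ := fun e => hMb.1 (comap_injective hs (e.trans (comap_top _).symm))
        obtain ⟨X, hX, hle'⟩ := exists_coatom_ge hne
        haveI := h X hX
        have : Group.IsNilpotent ↥(Mb.comap f) :=
          (Group.isNilpotent_congr (subgroupOfEquivOfLe hle')).mp inferInstance
        exact Group.nilpotent_of_surjective (f.subgroupComap Mb)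
          (MonoidHom.subgroupComap_surjective_of_surjective f Mb hs)
      exact Group.isSolvable_of_ker_le_range N.subtype (QuotientGroup.mk' N)
        (by rw [QuotientGroup.ker_mk', range_subtype])
    · push Not at hs
      rcases subsingleton_or_nontrivial G with hG | hG
      · infer_instance
      haveI : IsSimpleGroup G :=
        { eq_bot_or_eq_top_of_normal := fun N hN => or_iff_not_imp_left.mpr (hs N hN) }
      obtain ⟨M, hM, -⟩ := exists_coatom_ge (G := G) (H := ⊥) bot_ne_top
      by_cases hMb : M = ⊥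
      · -- no proper nontrivial subgroups
        obtain ⟨x, hx⟩ := exists_ne (1 : G)
        have hz : zpowers x = ⊤ := hM.2 _ (hMb ▸ bot_lt_iff_ne_bot.mpr (by rwa [Ne, zpowers_eq_bot]))
        haveI : IsCyclic G := _root_.isCyclic_iff_exists_zpowers_eq_top.mpr ⟨x, hz⟩
        exact Group.isSolvable_of_comm fun a b => (IsCyclic.commGroup (α := G)).mul_comm a b
      exfalso
      have hF : Cfsg.IsFrobeniusComplement M := by
        refine ⟨hMb, hM.1, fun g hg => ?_⟩
        have hMg : IsCoatom (MulAut.conj g • M : Subgroup G) :=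
          (OrderIso.isCoatom_iff (MulAut.conj g).mapSubgroup M).mpr hM
        refine coatom_inf_eq_bot h _ M _ hM hMg (fun e => hg ?_) rfl
        have hn : normalizer (M : Set G) = M := by
          refine (le_normalizer (H := M)).lt_or_eq.elim (fun hlt => ?_) Eq.symm
          haveI := normalizer_eq_top_iff.mp (hM.2 _ hlt)
          exact absurd ((IsSimpleGroup.eq_bot_or_eq_top_of_normal M inferInstance).resolve_left hMb) hM.1
        rw [← hn, mem_normalizer_iff]
        intro x
        conv_rhs => rw [e, mem_conj_smul]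
        simp [mul_assoc]
      obtain ⟨N, -, hN, hc⟩ := Cfsg.Agent.Struct.Frobenius.exists_kernel hF
      rcases IsSimpleGroup.eq_bot_or_eq_top_of_normal N hN with h1 | h1
      · exact hM.1 (by simpa [h1] using hc.sup_eq_top)
      · exact hMb (by simpa [h1] using disjoint_iff.mp hc.disjoint)

theorem isSolvable_of_coatom_nilpotent [Finite G]
    (h : ∀ M : Subgroup G, IsCoatom M → Group.IsNilpotent M) : Group.IsSolvable G :=
  isSolvable_of_coatom_nilpotent_aux _ G le_rfl h

theorem commute_of_sylow [Finite G] {H : Subgroup G} (hH : Group.IsNilpotent H) {x y : G}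
    (hx : x ∈ H) (hy : y ∈ H) (h : (orderOf x).Coprime (orderOf y)) : Commute x y := by
  have h1 := commute_of_coprime_orderOf_of_isNilpotent hH (x := (⟨x, hx⟩ : H)) (g := ⟨y, hy⟩)
    (by rwa [← Subgroup.orderOf_coe, ← Subgroup.orderOf_coe])
  exact congrArg Subtype.val h1

theorem le_centralizer_of_nilpotent [Finite G] {p q : ℕ} [Fact p.Prime] [Fact q.Prime] (hpq : p ≠ q)
    {H X Y : Subgroup G} (hH : Group.IsNilpotent H) (hX : X ≤ H) (hY : Y ≤ H)
    (hXp : IsPGroup p X) (hYq : IsPGroup q Y) : X ≤ centralizer (Y : Set G) := by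
  intro x hx
  rw [mem_centralizer_iff]
  intro y hy
  obtain ⟨i, hi⟩ := IsPGroup.iff_orderOf.mp hXp ⟨x, hx⟩
  obtain ⟨j, hj⟩ := IsPGroup.iff_orderOf.mp hYq ⟨y, hy⟩
  rw [← Subgroup.orderOf_coe] at hi hj
  refine (commute_of_sylow hH (hY hy) (hX hx) ?_).eq
  rw [show orderOf y = q ^ j from hj, show orderOf x = p ^ i from hi]
  exact Nat.coprime_pow_primes _ _ Fact.out Fact.out (Ne.symm hpq)

/-- Structure of a minimal non-nilpotent group. -/
theorem exists_minimalNonNilpotent_structure [Finite G] (hG : Cfsg.IsMinimalNonNilpotent G) :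
    ∃ p q : ℕ, p.Prime ∧ q.Prime ∧ p ≠ q ∧ ∃ (P : Sylow p G) (Q : Sylow q G),
      IsCyclic P ∧ (Q : Subgroup G).Normal ∧ (P : Subgroup G) ⊔ Q = ⊤ ∧
      ¬ (P : Subgroup G).Normal := by
  haveI : Nontrivial G := by
    by_contra h
    rw [not_nontrivial_iff_subsingleton] at h
    exact hG.1 inferInstance
  haveI := isSolvable_of_coatom_nilpotent fun M hM => hG.2 M hM.1
  obtain ⟨M, hM, hle⟩ := exists_coatom_ge (Group.IsSolvable.commutator_lt_top_of_nontrivial (G := G)).ne
  haveI : M.Normal := Subgroup.Normal.of_commutator_le (h := hle)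
  have hp := prime_index_of_coatom_normal M hM
  set p := M.index
  haveI := Fact.mk hp
  haveI hMnil := hG.2 M hM.1
  -- Sylow subgroups away from `p` are normal
  have hQn : ∀ (r : ℕ), r.Prime → r ≠ p → ∀ Q : Sylow r G, (Q : Subgroup G).Normal := by
    intro r hr hrp Q
    haveI := Fact.mk hr
    have hQM : (Q : Subgroup G) ≤ M := by
      refine le_of_coprime_index M ?_
      obtain ⟨i, hi⟩ := IsPGroup.iff_card.mp Q.isPGroup'
      rw [hi]
      exact ((Nat.coprime_primes hr hp).mpr hrp).pow_left i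
    haveI hn : ((Q.subtype hQM : Sylow r M) : Subgroup M).Normal :=
      ((Group.isNilpotent_of_finite_tfae (G := M)).out 0 3 rfl rfl).mp hMnil r ⟨hr⟩ _
    haveI := Sylow.characteristic_of_normal (Q.subtype hQM) hn
    have e : ((Q.subtype hQM : Sylow r M) : Subgroup M).map M.subtype = (Q : Subgroup G) := by
      rw [Sylow.coe_subtype, map_subgroupOf_eq_of_le hQM]
    rw [← e]; infer_instance
  obtain ⟨P⟩ : Nonempty (Sylow p G) := inferInstance
  have hPn : ¬ (P : Subgroup G).Normal := fun hP => hG.1 <| by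
    refine ((Group.isNilpotent_of_finite_tfae (G := G)).out 0 3 rfl rfl).mpr fun r hr Q => ?_
    by_cases hrp : r = p
    · subst hrp
      obtain ⟨g, hg⟩ := MulAction.exists_smul_eq G P Q
      haveI := hP
      rw [Sylow.smul_eq_of_normal] at hg
      exact hg ▸ hP
    · exact hQn r hr.out hrp Q
  obtain ⟨q, hq, hqp, Q, htop⟩ : ∃ q : ℕ, q.Prime ∧ q ≠ p ∧
      ∃ Q : Sylow q G, (P : Subgroup G) ⊔ Q = ⊤ := by
    by_contra hno
    push Not at hno
    have hcen : ∀ r : ℕ, r.Prime → r ≠ p → ∀ S : Sylow r G,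
        (S : Subgroup G) ≤ normalizer ((P : Subgroup G) : Set G) := fun r hr hrp S =>
      haveI := Fact.mk hr
      (le_centralizer_of_nilpotent hrp (hG.2 _ (hno r hr hrp S)) le_sup_right le_sup_left
        S.isPGroup' P.isPGroup').trans (centralizer_le_normalizer _)
    refine hPn (normalizer_eq_top_iff.mp (top_le_iff.mp ?_))
    refine (sup_sylow_eq ⊤).trans (sSup_le ?_)
    rintro R ⟨r, hr, hR, -⟩
    haveI := Fact.mk hr
    obtain ⟨S, hS⟩ := hR.exists_le_sylow
    refine hS.trans ?_
    by_cases hrp : r = p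
    · subst hrp
      suffices hi : (normalizer ((P : Subgroup G) : Set G)).index = 1 by
        rw [index_eq_one.mp hi]; exact le_top
      by_contra hne
      obtain ⟨r, hr', hd⟩ := Nat.exists_prime_and_dvd hne
      haveI := Fact.mk hr'
      obtain ⟨T⟩ : Nonempty (Sylow r G) := inferInstance
      by_cases hrp : r = M.index
      · subst hrp
        exact P.not_dvd_index (hd.trans (index_dvd_of_le le_normalizer))
      · exact T.not_dvd_index (hd.trans (index_dvd_of_le (hcen r hr' hrp T)))
    · exact (hcen r hr hrp S)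
  haveI := Fact.mk hq
  refine ⟨p, q, hp, hq, Ne.symm hqp, P, Q, ?_, hQn q hq hqp Q, htop, hPn⟩
  haveI := hQn q hq hqp Q
  obtain ⟨x, hx, hxc⟩ : ∃ x ∈ (P : Subgroup G), x ∉ centralizer ((Q : Subgroup G) : Set G) := by
    by_contra hno
    push Not at hno
    refine hPn (normalizer_eq_top_iff.mp (top_le_iff.mp ?_))
    rw [← htop]
    exact sup_le le_normalizer ((le_centralizer_iff.mp hno).trans (centralizer_le_normalizer _))
  have hxP : zpowers x = (P : Subgroup G) := by
    by_contra hne
    have hlt : zpowers x < (P : Subgroup G) := lt_of_le_of_ne (zpowers_le.mpr hx) hne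
    have hK : (Q : Subgroup G) ⊔ zpowers x ≠ ⊤ := by
      intro e
      have h1 := card_sup_dvd_of_normal (Q : Subgroup G) (zpowers x)
      rw [e, card_top] at h1
      have h2 : Nat.card (Q : Subgroup G) * Nat.card (P : Subgroup G) ∣ Nat.card G := by
        refine Nat.Coprime.mul_dvd_of_dvd_of_dvd ?_ (card_subgroup_dvd_card _) (card_subgroup_dvd_card _)
        obtain ⟨i, hi⟩ := IsPGroup.iff_card.mp Q.isPGroup'
        obtain ⟨j, hj⟩ := IsPGroup.iff_card.mp P.isPGroup'
        rw [hi, hj]
        exact Nat.coprime_pow_primes _ _ hq hp hqp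
      have h3 := Nat.le_of_dvd (Nat.mul_pos Nat.card_pos Nat.card_pos) (h2.trans h1)
      have h4 : Nat.card (zpowers x) < Nat.card (P : Subgroup G) :=
        lt_of_le_of_ne (card_le_of_le hlt.le) fun e' => hne (eq_of_le_of_card_ge hlt.le e'.ge)
      exact absurd h3 (not_le.mpr (Nat.mul_lt_mul_of_pos_left h4 Nat.card_pos))
    exact hxc (le_centralizer_of_nilpotent (Ne.symm hqp) (hG.2 _ hK) le_sup_right le_sup_left
      (P.isPGroup'.to_le (zpowers_le.mpr hx)) Q.isPGroup' (mem_zpowers x))
  exact (Subgroup.isCyclic_iff_exists_zpowers_eq_top _).mpr ⟨x, hxP⟩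

/-- A coprime element stabilising `1 ≤ ⟨d⟩` centralises. -/
theorem commute_of_conj_stable [Finite G] {x a : G}
    (hd : Commute x (x * a * x⁻¹ * a⁻¹))
    (hc : (orderOf x).Coprime (orderOf (x * a * x⁻¹ * a⁻¹))) : Commute x a := by
  set d := x * a * x⁻¹ * a⁻¹ with hd'
  have hit : ∀ i : ℕ, x ^ i * a * (x ^ i)⁻¹ = d ^ i * a := by
    intro i
    induction i with
    | zero => simp
    | succ i ih =>
      rw [pow_succ', show x * x ^ i * a * (x * x ^ i)⁻¹ = x * (x ^ i * a * (x ^ i)⁻¹) * x⁻¹ by group,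
        ih, ← mul_assoc x (d ^ i) a, (hd.pow_right i).eq, pow_succ, hd']
      group
  have h1 := hit (orderOf x)
  rw [pow_orderOf_eq_one, one_mul, inv_one, mul_one, eq_comm, mul_eq_right] at h1
  have h2 : d = 1 := orderOf_eq_one_iff.mp
    (Nat.eq_one_of_dvd_coprimes hc (orderOf_dvd_of_pow_eq_one h1) dvd_rfl)
  rw [hd', mul_inv_eq_one, mul_inv_eq_iff_eq_mul] at h2
  exact h2

/-- Structure of a non-abelian group with abelian proper subgroups. -/
theorem minimal_nonabelian_structure [Finite G] (hna : ¬ IsMulCommutative G)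
    (h : ∀ H : Subgroup G, H ≠ ⊤ → IsMulCommutative H) (hnp : ¬ ∃ p : ℕ, p.Prime ∧ IsPGroup p G) :
    ∃ p q : ℕ, p.Prime ∧ q.Prime ∧ p ≠ q ∧ ∃ (P : Sylow p G) (Q : Sylow q G),
      IsCyclic P ∧ (Q : Subgroup G).Normal ∧ Cfsg.IsElementaryAbelian q (Q : Subgroup G) ∧
        (P : Subgroup G) ⊔ Q = ⊤ := by
  have hcomm : ∀ (H : Subgroup G), H ≠ ⊤ → ∀ a ∈ H, ∀ b ∈ H, a * b = b * a := fun H hH a ha b hb =>
    congrArg Subtype.val ((h H hH).is_comm.comm ⟨a, ha⟩ ⟨b, hb⟩)
  have hnil : ¬ Group.IsNilpotent G := by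
    intro hG
    have hcen : (⊤ : Subgroup G) ≤ centralizer ((⊤ : Subgroup G) : Set G) := by
      have hSle : ∀ (r : ℕ) (R : Subgroup G), r.Prime → IsPGroup r R → R ≠ ⊤ := by
        intro r R hr hR e
        exact hnp ⟨r, hr, fun g => by
          obtain ⟨k, hk⟩ := hR ⟨g, e ▸ mem_top g⟩
          exact ⟨k, by simpa using congrArg Subtype.val hk⟩⟩
      refine (sup_sylow_eq ⊤).trans (sSup_le ?_)
      rintro R ⟨r, hr, hR, -⟩
      rw [le_centralizer_iff]
      refine (sup_sylow_eq ⊤).trans (sSup_le ?_)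
      rintro S ⟨t, ht, hS, -⟩
      haveI := Fact.mk hr
      haveI := Fact.mk ht
      intro y hy
      rw [mem_centralizer_iff]
      intro x hx
      by_cases hrt : t = r
      · subst hrt
        obtain ⟨R', hR'⟩ := hR.exists_le_sylow
        obtain ⟨S', hS'⟩ := hS.exists_le_sylow
        haveI : (R' : Subgroup G).Normal :=
          ((Group.isNilpotent_of_finite_tfae (G := G)).out 0 3 rfl rfl).mp hG t ⟨ht⟩ R'
        obtain ⟨g, hg⟩ := MulAction.exists_smul_eq G R' S'
        rw [Sylow.smul_eq_of_normal] at hg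
        subst hg
        exact hcomm _ (hSle t _ ht R'.isPGroup') x (hR' hx) y (hS' hy)
      · haveI := hG
        exact mem_centralizer_iff.mp (le_centralizer_of_nilpotent hrt (H := ⊤)
          (Group.isNilpotent_top.mpr hG) le_top le_top hS hR hy) x hx
    exact hna ⟨⟨fun a b => mem_centralizer_iff.mp (hcen (mem_top b)) a (mem_top a)⟩⟩
  have hmnn : Cfsg.IsMinimalNonNilpotent G := ⟨hnil, fun H hH => by
    haveI := h H hH
    letI : CommGroup H := { (inferInstance : Group H) with mul_comm := fun a b => mul_comm' a b }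
    exact CommGroup.isNilpotent⟩
  obtain ⟨p, q, hp, hq, hpq, P, Q, hPc, hQn, htop, hPn⟩ := exists_minimalNonNilpotent_structure hmnn
  haveI := Fact.mk hp
  haveI := Fact.mk hq
  haveI := hQn
  have hQt : (Q : Subgroup G) ≠ ⊤ := fun e => hPn (by
    have hP : (P : Subgroup G) = ⊥ := by
      rw [← inf_top_eq (P : Subgroup G), ← e]
      exact inf_eq_bot_of_coprime_card _ _ (by
        obtain ⟨i, hi⟩ := IsPGroup.iff_card.mp Q.isPGroup'
        obtain ⟨j, hj⟩ := IsPGroup.iff_card.mp P.isPGroup'
        rw [hi, hj]; exact Nat.coprime_pow_primes _ _ hp hq hpq)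
    rw [hP]; infer_instance)
  refine ⟨p, q, hp, hq, hpq, P, Q, hPc, hQn, ⟨h _ hQt, fun a ha => by_contra fun hne => ?_⟩, htop⟩
  set Ω : Subgroup G :=
    { carrier := {y | y ∈ (Q : Subgroup G) ∧ y ^ q = 1}
      one_mem' := ⟨one_mem _, one_pow q⟩
      mul_mem' := by
        rintro y z ⟨hy, hy'⟩ ⟨hz, hz'⟩
        refine ⟨mul_mem hy hz, ?_⟩
        rw [(show Commute y z from hcomm _ hQt y hy z hz).mul_pow, hy', hz', one_mul]
      inv_mem' := by
        rintro y ⟨hy, hy'⟩
        exact ⟨inv_mem hy, by rw [inv_pow, hy', inv_one]⟩ }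
  set M : Subgroup G :=
    { carrier := {y | ∃ z ∈ (Q : Subgroup G), z ^ q = y}
      one_mem' := ⟨1, one_mem _, one_pow q⟩
      mul_mem' := by
        rintro _ _ ⟨z, hz, rfl⟩ ⟨w, hw, rfl⟩
        exact ⟨z * w, mul_mem hz hw, (show Commute z w from hcomm _ hQt z hz w hw).mul_pow q⟩
      inv_mem' := by
        rintro _ ⟨z, hz, rfl⟩
        exact ⟨z⁻¹, inv_mem hz, by rw [inv_pow]⟩ }
  have hΩn : Ω.Normal := ⟨fun y hy g => ⟨hQn.conj_mem y hy.1 g, by rw [conj_pow, hy.2]; group⟩⟩
  have hMn : M.Normal := ⟨fun y hy g => by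
    obtain ⟨z, hz, rfl⟩ := hy
    exact ⟨g * z * g⁻¹, hQn.conj_mem z hz g, conj_pow⟩⟩
  -- proper invariant subgroups of `Q` are centralised by `P`
  have hcent : ∀ R : Subgroup G, R.Normal → R < (Q : Subgroup G) →
      ∀ r ∈ R, ∀ x ∈ (P : Subgroup G), x * r = r * x := by
    intro R hR hlt r hr x hx
    have hne : R ⊔ (P : Subgroup G) ≠ ⊤ := fun e => hlt.ne (le_antisymm hlt.le fun y hy => by
      haveI := hR
      obtain ⟨u, hu, v, hv, huv⟩ := mem_sup_of_normal_left.mp (e ▸ mem_top y)
      have hv' : v ∈ (P : Subgroup G) ⊓ (Q : Subgroup G) := by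
        refine ⟨hv, ?_⟩
        have := mul_mem (inv_mem (hlt.le hu)) hy
        rwa [← huv, inv_mul_cancel_left] at this
      rw [inf_eq_bot_of_coprime_card (P : Subgroup G) (Q : Subgroup G) (by
        obtain ⟨i, hi⟩ := IsPGroup.iff_card.mp Q.isPGroup'
        obtain ⟨j, hj⟩ := IsPGroup.iff_card.mp P.isPGroup'
        rw [hi, hj]; exact Nat.coprime_pow_primes _ _ hp hq hpq), mem_bot] at hv'
      rw [← huv, hv', mul_one]
      exact hu)
    exact hcomm _ hne x (mem_sup_right hx) r (mem_sup_left hr)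
  have hΩlt : Ω < (Q : Subgroup G) :=
    lt_of_le_of_ne (fun y hy => hy.1) fun e => hne ((e.symm ▸ ha : a ∈ Ω)).2
  have hMlt : M < (Q : Subgroup G) := by
    refine lt_of_le_of_ne (fun y ⟨z, hz, hzy⟩ => hzy ▸ pow_mem hz q) fun e => hne ?_
    -- `z ↦ z ^ q` would be injective
    haveI : IsMulCommutative (Q : Subgroup G) := h _ hQt
    have hsurj : Function.Surjective (fun z : (Q : Subgroup G) => z ^ q) := by
      rintro ⟨y, hy⟩
      obtain ⟨z, hz, hzy⟩ := (e.symm ▸ hy : y ∈ M)
      exact ⟨⟨z, hz⟩, Subtype.ext hzy⟩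
    have hinj := Finite.injective_iff_surjective.mpr hsurj
    obtain ⟨i, hi⟩ := IsPGroup.iff_orderOf.mp Q.isPGroup' ⟨a, ha⟩
    rcases i with _ | i
    · rw [pow_zero, orderOf_eq_one_iff] at hi
      have := congrArg Subtype.val hi
      simp only [OneMemClass.coe_one] at this
      rw [this, one_pow]
    · exfalso
      have h1 : ((⟨a, ha⟩ : (Q : Subgroup G)) ^ q ^ i) ^ q = 1 ^ q := by
        rw [← pow_mul, ← pow_succ, ← hi, pow_orderOf_eq_one, one_pow]
      have h2 := hinj h1
      have := orderOf_dvd_of_pow_eq_one h2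
      rw [hi, Nat.pow_dvd_pow_iff_le_right hq.one_lt] at this
      omega
  -- `P` centralises `Q`
  refine hPn (normalizer_eq_top_iff.mp (top_le_iff.mp ?_))
  rw [← htop]
  refine sup_le le_normalizer (le_trans ?_ (centralizer_le_normalizer _))
  intro b hb
  rw [mem_centralizer_iff]
  intro x hx
  have hdQ : x * b * x⁻¹ * b⁻¹ ∈ (Q : Subgroup G) := mul_mem (hQn.conj_mem b hb x) (inv_mem hb)
  refine (commute_of_conj_stable (hcent Ω hΩn hΩlt _ ⟨hdQ, ?_⟩ x hx) ?_).eq
  · have h1 := hcent M hMn hMlt (b ^ q) ⟨b, hb, rfl⟩ x hx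
    have h2 : (x * b * x⁻¹ * b⁻¹) ^ q = (x * b * x⁻¹) ^ q * (b⁻¹) ^ q :=
      (show Commute (x * b * x⁻¹) b⁻¹ from
        hcomm _ hQt _ (hQn.conj_mem b hb x) _ (inv_mem hb)).mul_pow q
    rw [h2, conj_pow, h1, mul_inv_cancel_right, inv_pow, mul_inv_cancel]
  · obtain ⟨i, hi⟩ := IsPGroup.iff_orderOf.mp P.isPGroup' ⟨x, hx⟩
    obtain ⟨j, hj⟩ := IsPGroup.iff_orderOf.mp Q.isPGroup' ⟨_, hdQ⟩
    rw [← Subgroup.orderOf_coe] at hi hj
    rw [show orderOf x = p ^ i from hi, show orderOf (x * b * x⁻¹ * b⁻¹) = q ^ j from hj]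
    exact Nat.coprime_pow_primes _ _ hp hq hpq

theorem quotient_minimal_nonabelian [Finite G] (hG : Cfsg.IsMinimalNonNilpotent G) (q : ℕ)
    [Fact q.Prime] (hq : q ∣ Nat.card G) (Q : Sylow q G) (hQ : (Q : Subgroup G).Normal)
    (D : Subgroup G) [D.Normal]
    (hD : D = (commutator ↥(Q : Subgroup G)).map (Q : Subgroup G).subtype) :
    ¬ IsMulCommutative (G ⧸ D) ∧ ∀ K : Subgroup (G ⧸ D), K ≠ ⊤ → IsMulCommutative K := by
  obtain ⟨p, r, hp, hr, hpr, P, R, hPc, hRn, htop, hPn⟩ := exists_minimalNonNilpotent_structure hG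
  haveI := Fact.mk hp
  haveI := Fact.mk hr
  have hqr : q = r := by
    by_contra hne
    have hqP : q ≠ p := by
      rintro rfl
      obtain ⟨g, hg⟩ := MulAction.exists_smul_eq G Q P
      haveI := hQ
      rw [Sylow.smul_eq_of_normal] at hg
      exact hPn (hg ▸ hQ)
    have h1 : Nat.card G ∣ Nat.card (R : Subgroup G) * Nat.card (P : Subgroup G) := by
      haveI := hRn
      have := card_sup_dvd_of_normal (R : Subgroup G) (P : Subgroup G)
      rwa [sup_comm, htop, card_top] at this
    obtain ⟨i, hi⟩ := IsPGroup.iff_card.mp R.isPGroup'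
    obtain ⟨j, hj⟩ := IsPGroup.iff_card.mp P.isPGroup'
    rw [hi, hj] at h1
    rcases (Fact.out : q.Prime).dvd_mul.mp (hq.trans h1) with h2 | h2
    · exact hne ((Nat.prime_dvd_prime_iff_eq Fact.out hr).mp ((Fact.out : q.Prime).dvd_of_dvd_pow h2))
    · exact hqP ((Nat.prime_dvd_prime_iff_eq Fact.out hp).mp ((Fact.out : q.Prime).dvd_of_dvd_pow h2))
  subst hqr
  obtain ⟨g, hg⟩ := MulAction.exists_smul_eq G R Q
  haveI := hRn
  rw [Sylow.smul_eq_of_normal] at hg
  subst hg
  set f := QuotientGroup.mk' D with hf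
  haveI := hPc
  obtain ⟨x, hxP⟩ := (Subgroup.isCyclic_iff_exists_zpowers_eq_top (P : Subgroup G)).mp inferInstance
  have hDQ : D ≤ (R : Subgroup G) := hD ▸ map_subtype_le _
  refine ⟨fun hab => hPn ?_, fun K hK => ?_⟩
  · -- `[Q, P] ≤ Q' ≤ Φ(Q)` forces `P` to centralise `Q`
    refine normalizer_eq_top_iff.mp (top_le_iff.mp ?_)
    rw [← htop]
    refine sup_le le_normalizer (le_trans (le_centralizer_iff.mp ?_) (centralizer_le_normalizer _))
    have hcop : (Nat.card (P : Subgroup G)).Coprime (Nat.card (R : Subgroup G)) := by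
      obtain ⟨i, hi⟩ := IsPGroup.iff_card.mp R.isPGroup'
      obtain ⟨j, hj⟩ := IsPGroup.iff_card.mp P.isPGroup'
      rw [hi, hj]; exact Nat.coprime_pow_primes _ _ hp hr hpr
    haveI : Group.IsNilpotent (R : Subgroup G) := R.isPGroup'.isNilpotent
    have hDΦ : D ≤ (frattini (R : Subgroup G)).map (R : Subgroup G).subtype := by
      rw [hD]
      refine map_mono (le_iInf fun Y => le_iInf fun hY => ?_)
      haveI := coatom_normal_of_isNilpotent inferInstance Y hY
      haveI := Fact.mk (prime_index_of_coatom_normal Y hY)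
      haveI : IsCyclic ((R : Subgroup G) ⧸ Y) :=
        isCyclic_of_prime_card (p := Y.index) (index_eq_card Y).symm
      rw [commutator_def, commutator_le]
      intro a _ b _
      rw [← QuotientGroup.eq_one_iff]
      change QuotientGroup.mk' Y ⁅a, b⁆ = 1
      rw [map_commutatorElement, commutatorElement_eq_one_iff_mul_comm]
      exact (IsCyclic.commGroup (α := (R : Subgroup G) ⧸ Y)).mul_comm _ _
    exact le_centralizer_iff.mp (le_centralizer_iff.mp
      (centralizes_of_trivial_on_frattini_quotient (P : Subgroup G) (R : Subgroup G)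
        le_normalizer_of_normal
        (hcop.coprime_dvd_right (card_subgroup_dvd_card _))
        (fun a ha b hb => hDΦ <| by
          rw [← QuotientGroup.eq_one_iff]
          change f (a * b * a⁻¹ * b⁻¹) = 1
          rw [map_mul, map_mul, map_mul, map_inv, map_inv, hab.is_comm.comm (f a) (f b)]
          group)))
  · set K' := K.comap f
    have hK' : K' ≠ ⊤ := fun e => hK (comap_injective (QuotientGroup.mk'_surjective D)
      (e.trans (comap_top _).symm))
    haveI hnil := hG.2 K' hK'
    obtain ⟨S⟩ : Nonempty (Sylow p K') := inferInstance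
    haveI : IsCyclic (S : Subgroup K') := by
      have hS : IsPGroup p ((S : Subgroup K').map K'.subtype) := S.isPGroup'.map _
      obtain ⟨T, hT⟩ := hS.exists_le_sylow
      haveI : IsCyclic (T : Subgroup G) := isCyclic_of_surjective (P.equiv T).toMonoidHom
        (P.equiv T).surjective
      haveI := Subgroup.isCyclic_of_le hT
      exact isCyclic_of_surjective ((S : Subgroup K').equivMapOfInjective K'.subtype
        K'.subtype_injective).symm.toMonoidHom (MulEquiv.surjective _)
    set X := ((S : Subgroup K').map K'.subtype).map f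
    set Y := (K' ⊓ (R : Subgroup G)).map f
    have hKle : K ≤ X ⊔ Y := by
      rw [← map_comap_eq_self_of_surjective (QuotientGroup.mk'_surjective D) K,
        ← Subgroup.map_sup]
      refine map_mono ?_
      suffices h : (((S : Subgroup K').map K'.subtype) ⊔ (K' ⊓ (R : Subgroup G))).subgroupOf K' = ⊤ by
        exact subgroupOf_eq_top.mp h
      refine index_eq_one.mp ?_
      by_contra hne
      obtain ⟨t, ht, hd⟩ := Nat.exists_prime_and_dvd hne
      haveI := Fact.mk ht
      by_cases htp : t = p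
      · subst htp
        refine S.not_dvd_index (hd.trans (index_dvd_of_le ?_))
        intro z hz
        exact mem_sup_left (mem_map_of_mem _ hz)
      · obtain ⟨T⟩ : Nonempty (Sylow t K') := inferInstance
        refine T.not_dvd_index (hd.trans (index_dvd_of_le ?_))
        intro z hz
        refine mem_sup_right ⟨z.2, mem_of_coprime_index (R : Subgroup G) ?_⟩
        obtain ⟨i, hi⟩ := IsPGroup.iff_orderOf.mp T.isPGroup' ⟨z, hz⟩
        rw [← Subgroup.orderOf_coe, ← Subgroup.orderOf_coe] at hi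
        change (orderOf (z : G)).Coprime _
        rw [show orderOf (z : G) = t ^ i from hi]
        refine Nat.Coprime.pow_left i (Nat.Coprime.coprime_dvd_right ?_
          ((Nat.coprime_primes ht hp).mpr htp |>.pow_right ((Nat.card (P : Subgroup G)).factorization p)))
        have hc : Nat.card (P : Subgroup G) = p ^ (Nat.card (P : Subgroup G)).factorization p := by
          obtain ⟨j, hj⟩ := IsPGroup.iff_card.mp P.isPGroup'
          rw [hj, hp.factorization_pow, Finsupp.single_eq_same]
        rw [← hc]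
        have h1 := card_sup_dvd_of_normal (R : Subgroup G) (P : Subgroup G)
        rw [sup_comm, htop, card_top, ← (R : Subgroup G).card_mul_index] at h1
        exact Nat.dvd_of_mul_dvd_mul_left Nat.card_pos h1
    have hXX : X ≤ centralizer (X : Set (G ⧸ D)) := by
      rintro _ ⟨a, ⟨a', ha', rfl⟩, rfl⟩
      rw [mem_centralizer_iff]
      rintro _ ⟨b, ⟨b', hb', rfl⟩, rfl⟩
      have h1 := (IsCyclic.commGroup (α := (S : Subgroup K'))).mul_comm ⟨a', ha'⟩ ⟨b', hb'⟩
      have h2 : a' * b' = b' * a' := congrArg Subtype.val h1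
      have h3 := congrArg (fun z : K' => f (z : G)) h2
      simpa using h3.symm
    have hYY : Y ≤ centralizer (Y : Set (G ⧸ D)) := by
      rintro _ ⟨a, ha, rfl⟩
      rw [mem_centralizer_iff]
      rintro _ ⟨b, hb, rfl⟩
      rw [← commutatorElement_eq_one_iff_mul_comm, ← map_commutatorElement]
      refine (QuotientGroup.eq_one_iff _).mpr ?_
      rw [hD, map_subtype_commutator]
      exact commutator_mem_commutator hb.2 ha.2
    have hXY : X ≤ centralizer (Y : Set (G ⧸ D)) := by
      rintro _ ⟨a, ha, rfl⟩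
      rw [mem_centralizer_iff]
      rintro _ ⟨b, hb, rfl⟩
      rw [← map_mul, ← map_mul]
      congr 1
      exact mem_centralizer_iff.mp (le_centralizer_of_nilpotent hpr hnil (map_subtype_le _)
        inf_le_left (S.isPGroup'.map _) (R.isPGroup'.to_le inf_le_right) ha) b hb
    refine le_centralizer_iff_isMulCommutative.mp (hKle.trans ?_)
    refine (le_trans ?_ (centralizer_le hKle))
    exact sup_le (le_centralizer_sup hXX hXY) (le_centralizer_sup (le_centralizer_iff.mp hXY) hYY)
where
  le_centralizer_sup {H : Type u} [Group H] {A X Y : Subgroup H} (hX : A ≤ centralizer (X : Set H))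
      (hY : A ≤ centralizer (Y : Set H)) : A ≤ centralizer ((X ⊔ Y : Subgroup H) : Set H) :=
    le_centralizer_iff.mp (sup_le (le_centralizer_iff.mp hX) (le_centralizer_iff.mp hY))

/-- Groups that are minimal without a normal `p`-complement. -/
theorem minimal_no_pComplement [Finite G] {p : ℕ} [Fact p.Prime]
    (h1 : ¬ Cfsg.HasNormalPComplement p G)
    (h2 : ∀ H : Subgroup G, H ≠ ⊤ → Cfsg.HasNormalPComplement p H) :
    (∀ H : Subgroup G, H ≠ ⊤ → Group.IsNilpotent H) ∧ ¬ Group.IsNilpotent G ∧
      ∀ P : Sylow p G, (P : Subgroup G).Normal := by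
  have hp : p.Prime := Fact.out
  obtain ⟨X, hX, g, hg, hgc, hgX⟩ : ∃ X : Subgroup G, IsPGroup p X ∧
      ∃ g ∈ normalizer (X : Set G), (orderOf g).Coprime p ∧ g ∉ centralizer (X : Set G) := by
    by_contra hno
    push Not at hno
    exact h1 (FrobeniusCond.hasNormalPComplement fun X hX g hg hgc => hno X hX g hg hgc)
  have hnil : ¬ Group.IsNilpotent G := fun hG => hgX <| by
    rw [mem_centralizer_iff]
    intro x hx
    obtain ⟨i, hi⟩ := IsPGroup.iff_orderOf.mp hX ⟨x, hx⟩
    rw [← Subgroup.orderOf_coe] at hi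
    exact (commute_of_coprime_orderOf_of_isNilpotent hG
      (by rw [show orderOf x = p ^ i from hi]; exact hgc.symm.pow_left i)).eq
  have htop : X ⊔ zpowers g = ⊤ := by
    by_contra hne
    refine hgX ?_
    rw [mem_centralizer_iff]
    intro x hx
    set H := X ⊔ zpowers g
    have hH := h2 H hne
    obtain ⟨i, hi⟩ := IsPGroup.iff_orderOf.mp hX ⟨x, hx⟩
    rw [← Subgroup.orderOf_coe] at hi
    have hc := frobeniusCond_of_hasNormalPComplement hH (X.subgroupOf H) hX.comap_subtype
      ⟨g, mem_sup_right (mem_zpowers g)⟩ ?_ (by rwa [← Subgroup.orderOf_coe])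
    · exact congrArg Subtype.val (mem_centralizer_iff.mp hc ⟨x, mem_sup_left hx⟩ hx)
    · rw [← subgroupOf_normalizer_eq (le_sup_left : X ≤ H)]
      exact hg
  haveI hXn : X.Normal := normalizer_eq_top_iff.mp (top_le_iff.mp
    (htop ▸ sup_le le_normalizer (zpowers_le.mpr hg)))
  have hcard : Nat.card G ∣ Nat.card X * orderOf g := by
    have := card_sup_dvd_of_normal X (zpowers g)
    rwa [htop, card_top, Nat.card_zpowers] at this
  have hPX : ∀ P : Sylow p G, (P : Subgroup G) = X := by
    intro P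
    refine (eq_of_le_of_card_ge ?_ ?_).symm
    · haveI := hXn
      obtain ⟨Q, hQ⟩ := hX.exists_le_sylow
      obtain ⟨a, ha⟩ := MulAction.exists_smul_eq G Q P
      intro x hx
      rw [← ha, Sylow.coe_subgroup_smul, mem_conj_smul]
      exact hQ (by simpa using hXn.conj_mem x hx a⁻¹)
    · refine Nat.le_of_dvd Nat.card_pos ?_
      obtain ⟨i, hi⟩ := IsPGroup.iff_card.mp P.isPGroup'
      refine Nat.Coprime.dvd_of_dvd_mul_right ?_ ((card_subgroup_dvd_card _).trans hcard)
      rw [hi]; exact hgc.symm.pow_left i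
  refine ⟨fun H hH => ?_, hnil, fun P => by rw [hPX P]; exact hXn⟩
  obtain ⟨k, hk⟩ := hasNormalPComplement_iff_index.mp (h2 H hH)
  set C := pPrimeCore p H
  -- `C` embeds in the cyclic quotient `G / X`
  let ψ : C →* G ⧸ X := (QuotientGroup.mk' X).comp (H.subtype.comp C.subtype)
  have hψ : Function.Injective ψ := by
    rw [injective_iff_map_eq_one]
    intro c hc
    have hcX : (((c : H) : G)) ∈ X := (QuotientGroup.eq_one_iff _).mp hc
    obtain ⟨i, hi⟩ := IsPGroup.iff_orderOf.mp hX ⟨_, hcX⟩
    rw [← Subgroup.orderOf_coe] at hi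
    change orderOf (((c : H) : G)) = p ^ i at hi
    rw [Subgroup.orderOf_coe, Subgroup.orderOf_coe] at hi
    have h3 := (card_pPrimeCore_coprime p H).coprime_dvd_left (C.orderOf_dvd_natCard c.2)
    refine orderOf_eq_one_iff.mp (Nat.eq_one_of_dvd_coprimes (h3.pow_right i) ?_ (dvd_of_eq hi))
    exact dvd_of_eq (Subgroup.orderOf_coe c).symm
  haveI : IsCyclic (G ⧸ X) := by
    refine _root_.isCyclic_iff_exists_zpowers_eq_top.mpr ⟨QuotientGroup.mk' X g, ?_⟩
    rw [← MonoidHom.map_zpowers, ← map_top_of_surjective _ (QuotientGroup.mk'_surjective X), ← htop,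
      Subgroup.map_sup, QuotientGroup.map_mk'_self, bot_sup_eq]
  haveI : IsCyclic C := isCyclic_of_injective ψ hψ
  have hCc : ∀ a ∈ C, ∀ b ∈ C, a * b = b * a := fun a ha b hb =>
    congrArg Subtype.val ((IsCyclic.commGroup (α := C)).mul_comm ⟨a, ha⟩ ⟨b, hb⟩)
  obtain ⟨S⟩ : Nonempty (Sylow p H) := inferInstance
  have hSC : C ⊔ (S : Subgroup H) = ⊤ := (isComplement'_pPrimeCore (h2 H hH) S).sup_eq_top
  have hSn : (S : Subgroup H) = X.subgroupOf H := by
    refine (S.is_maximal' hX.comap_subtype ?_).symm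
    intro s hs
    obtain ⟨i, hi⟩ := IsPGroup.iff_orderOf.mp S.isPGroup' ⟨s, hs⟩
    rw [← Subgroup.orderOf_coe, ← Subgroup.orderOf_coe] at hi
    refine mem_of_coprime_index X ?_
    change (orderOf (s : G)).Coprime _
    rw [show orderOf (s : G) = p ^ i from hi]
    refine (Nat.Coprime.pow_left i ?_)
    obtain ⟨P⟩ : Nonempty (Sylow p G) := inferInstance
    rw [← hPX P]
    exact (card_sylow_coprime_index P).symm
  have hcen : C ≤ center H := by
    intro c hc
    rw [mem_center_iff]
    suffices (⊤ : Subgroup H) ≤ centralizer ({c} : Set H) by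
      exact fun y => (mem_centralizer_singleton_iff.mp (this (mem_top y)))
    rw [← hSC]
    refine sup_le (fun a ha => mem_centralizer_singleton_iff.mpr (hCc a ha c hc)) fun s hs => ?_
    rw [mem_centralizer_singleton_iff]
    haveI : (S : Subgroup H).Normal := hSn ▸ hXn.subgroupOf H
    have hd : Disjoint (S : Subgroup H) C := (isComplement'_pPrimeCore (h2 H hH) S).disjoint.symm
    exact (Subgroup.commute_of_normal_of_disjoint _ _ inferInstance inferInstance hd s c hs hc).eq
  haveI : Group.IsNilpotent (H ⧸ C) := by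
    have : IsPGroup p (H ⧸ C) := IsPGroup.of_card (n := k) (by rw [← index_eq_card, hk])
    exact this.isNilpotent
  exact Subgroup.isNilpotent_of_ker_le_center (QuotientGroup.mk' C)
    (by rw [QuotientGroup.ker_mk']; exact hcen)

end Cfsg.Agent.Solv
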