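import Mathlib
import Cfsg.Agent.Lib.Local.PGroup
import Cfsg.Agent.Lib.Solv.MaximalElementary
import Cfsg.Agent.Lib.Struct.ClassTwoBasic
import Cfsg.Agent.Lib.Solv.AlperinCentralizer
import Cfsg.Prelude
import Cfsg.Agent.S0100

/-!
Basic facts on normal elementary abelian subgroups of `p`-groups, `p` odd.
-/

set_option autoImplicit false

universe u

namespace Cfsg.Agent.Solv.NarrowBasic

open Subgroup
open scoped commutatorElement

variable {P : Type u} [Group P] [Finite P] {p : ℕ} [Fact p.Prime]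

/-- A maximal abelian normal subgroup of a `p`-group is self-centralizing. -/
theorem exists_selfCentralizing_ge (hP : IsPGroup p P) (X : Subgroup P) (hXn : X.Normal)
    (hXc : ∀ x ∈ X, ∀ y ∈ X, Commute x y) :
    ∃ A : Subgroup P, X ≤ A ∧ A.Normal ∧ (∀ x ∈ A, ∀ y ∈ A, Commute x y) ∧
      ∀ x : P, (∀ y ∈ A, Commute x y) → x ∈ A := by
  have hne : {A : Subgroup P | X ≤ A ∧ A.Normal ∧ ∀ x ∈ A, ∀ y ∈ A, Commute x y}.Nonempty :=
    ⟨X, le_rfl, hXn, hXc⟩
  obtain ⟨A, ⟨hXA, hAn, hAc⟩, hmax⟩ := Set.Finite.exists_maximalFor id _ (Set.toFinite _) hne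
  refine ⟨A, hXA, hAn, hAc, fun x hx => ?_⟩
  by_contra hxA
  haveI := hAn
  let C := centralizer (A : Set P)
  haveI : C.Normal := inferInstanceAs (centralizer (A : Set P)).Normal
  let M := C.map (QuotientGroup.mk' A)
  haveI : M.Normal := Subgroup.Normal.map inferInstance _ (QuotientGroup.mk'_surjective A)
  have hxC : x ∈ C := mem_centralizer_iff.2 fun y hy => (hx y hy).eq.symm
  have hM : M ≠ ⊥ := fun e => hxA ((QuotientGroup.eq_one_iff x).1 (mem_bot.1 (e ▸ mem_map_of_mem _ hxC)))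
  obtain ⟨q, hq, hq1⟩ := (Subgroup.bot_or_exists_ne_one _).resolve_left
    (Cfsg.Agent.Local.inf_center_ne_bot (hP.to_quotient A) M hM)
  obtain ⟨⟨c, hc, rfl⟩, hqz⟩ := Subgroup.mem_inf.1 hq
  have hcA : c ∉ A := fun h => hq1 ((QuotientGroup.eq_one_iff c).2 h)
  let B := (zpowers (QuotientGroup.mk' A c)).comap (QuotientGroup.mk' A)
  haveI : (zpowers (QuotientGroup.mk' A c)).Normal := ⟨fun y hy g => by
    have hle : zpowers (QuotientGroup.mk' A c) ≤ center (P ⧸ A) := zpowers_le.2 hqz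
    rw [mem_center_iff.1 (hle hy) g, mul_inv_cancel_right]; exact hy⟩
  have hB : ∀ y ∈ B, ∃ (k : ℤ) (b : P), b ∈ A ∧ y = c ^ k * b := by
    intro y hy
    obtain ⟨k, hk⟩ := mem_zpowers_iff.1 hy
    refine ⟨k, (c ^ k)⁻¹ * y, ?_, by group⟩
    rw [← map_zpow] at hk
    exact QuotientGroup.eq.1 hk
  have hle : A ≤ B := fun y hy => by
    show QuotientGroup.mk' A y ∈ zpowers (QuotientGroup.mk' A c)
    rw [(QuotientGroup.eq_one_iff y).2 hy |> fun h => (show QuotientGroup.mk' A y = 1 from h)]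
    exact one_mem _
  have hcc : ∀ (k : ℤ) (y : P), y ∈ A → Commute (c ^ k) y := fun k y hy =>
    Commute.zpow_left (mem_centralizer_iff.1 hc y hy).symm k
  have hBc : ∀ y ∈ B, ∀ z ∈ B, Commute y z := by
    intro y hy z hz
    obtain ⟨k, b, hb, rfl⟩ := hB y hy
    obtain ⟨l, d, hd, rfl⟩ := hB z hz
    refine Commute.mul_left (Commute.mul_right ?_ (hcc k d hd)) (Commute.mul_right (hcc l b hb).symm (hAc b hb d hd))
    exact Commute.zpow_zpow (Commute.refl c) k l
  have := hmax (j := B) ⟨hXA.trans hle, inferInstance, hBc⟩ hle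
  exact hcA (this (show QuotientGroup.mk' A c ∈ zpowers _ from mem_zpowers _))

theorem exists_normal_card_cube_ge (hP : IsPGroup p P) (E N : Subgroup P) [hEn : E.Normal] [hNn : N.Normal]
    (hE2 : Nat.card E = p ^ 2) (hN : Cfsg.IsElementaryAbelian p N) (hle : E < N) :
    ∃ M : Subgroup P, M.Normal ∧ E ≤ M ∧ M ≤ N ∧ Nat.card M = p ^ 3 := by
  have hne : N.map (QuotientGroup.mk' E) ≠ ⊥ := fun e => hle.not_ge (by
    rw [Subgroup.map_eq_bot_iff, QuotientGroup.ker_mk'] at e
    exact e)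
  haveI : (N.map (QuotientGroup.mk' E)).Normal := hNn.map _ (QuotientGroup.mk'_surjective E)
  obtain ⟨q, hq, hq1⟩ := (Subgroup.bot_or_exists_ne_one _).resolve_left
    (Cfsg.Agent.Local.inf_center_ne_bot (hP.to_quotient E) _ hne)
  obtain ⟨⟨c, hc, rfl⟩, hqz⟩ := Subgroup.mem_inf.1 hq
  have hcE : c ∉ E := fun h => hq1 ((QuotientGroup.eq_one_iff c).2 h)
  have hcomm : ∀ g : P, g * c * g⁻¹ * c⁻¹ ∈ E := fun g => by
    rw [← QuotientGroup.eq_one_iff, QuotientGroup.mk_mul, QuotientGroup.mk_mul, QuotientGroup.mk_mul,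
      QuotientGroup.mk_inv, QuotientGroup.mk_inv]
    have h := mem_center_iff.1 hqz (g : P ⧸ E)
    change (g : P ⧸ E) * (c : P ⧸ E) = (c : P ⧸ E) * g at h
    rw [h]; group
  set M := E ⊔ zpowers c with hM
  have hMN : M ≤ N := sup_le hle.le (zpowers_le.2 hc)
  have hMn : M.Normal := by
    rw [← normalizer_eq_top_iff, eq_top_iff]
    intro g _
    refine mem_normalizer_fintype fun x hx => ?_
    have key : M ≤ M.comap (MulAut.conj g).toMonoidHom := by
      refine sup_le (fun e he => mem_sup_left (hEn.conj_mem e he g)) (zpowers_le.2 ?_)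
      show g * c * g⁻¹ ∈ M
      have := mul_mem (mem_sup_left (T := zpowers c) (hcomm g)) (mem_sup_right (S := E) (mem_zpowers c))
      rwa [inv_mul_cancel_right] at this
    exact key hx
  refine ⟨M, hMn, le_sup_left, hMN, ?_⟩
  have hc1 : c ≠ 1 := fun e => hcE (e ▸ one_mem E)
  have hco : Nat.card ↥(zpowers c) = p := by
    rw [Nat.card_zpowers]; exact orderOf_eq_prime (hN.2 c hc) hc1
  have hdis : Disjoint (zpowers c) E := by
    rw [disjoint_iff]
    rcases (Fact.out : p.Prime).eq_one_or_self_of_dvd _ (hco ▸ card_dvd_of_le (inf_le_left : zpowers c ⊓ E ≤ zpowers c)) with e | e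
    · exact card_eq_one.1 e
    · have := eq_of_le_of_card_ge (inf_le_left : zpowers c ⊓ E ≤ zpowers c) (by rw [hco, e])
      exact absurd (this.ge (mem_zpowers c)).2 hcE
  have h1 := card_mul_index (E.subgroupOf M)
  rw [Nat.card_congr (subgroupOfEquivOfLe (le_sup_left : E ≤ M)).toEquiv, hE2] at h1
  have h2 : (E.subgroupOf M).index = p := by
    show E.relIndex M = p
    rw [hM, sup_comm, relIndex_sup_right, ← inf_relIndex_right, inf_comm, hdis.eq_bot, relIndex_bot_left, hco]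
  rw [h2, ← pow_succ] at h1
  exact h1.symm

/-- A normal `E_{p²}` lies in a normal `E_{p³}` when the rank is at least three. -/
theorem exists_normal_cube_containing (hp : p ≠ 2) (hP : IsPGroup p P) (hr : ¬ Cfsg.PRankLE p 2 P)
    (E : Subgroup P) [E.Normal] (hE : Cfsg.IsElementaryAbelian p E) (hE2 : Nat.card E = p ^ 2) :
    ∃ M : Subgroup P, M.Normal ∧ E ≤ M ∧ Cfsg.IsElementaryAbelian p M ∧ Nat.card M = p ^ 3 := by
  obtain ⟨B, hBn, hBc, hBe, hB3⟩ : ∃ B : Subgroup P, B.Normal ∧ IsMulCommutative B ∧ (∀ a ∈ B, a ^ p = 1) ∧ Nat.card B = p ^ 3 := by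
    by_contra hh
    push Not at hh
    exact hr fun A hA hAe => Cfsg.Agent.S0100.result hp hP (fun B h1 h2 h3 => hh B h1 h2 h3) A hA hAe
  haveI := hBn
  set C := centralizer (E : Set P) with hC
  set N := E ⊔ (B ⊓ C) with hN
  haveI : N.Normal := inferInstance
  have hNe : Cfsg.IsElementaryAbelian p N := by
    have hcen : N ≤ centralizer (N : Set P) := by
      have hEC : ∀ e ∈ E, ∀ e' ∈ E, e * e' = e' * e := fun e he e' he' =>
        congrArg Subtype.val (hE.1.is_comm.comm ⟨e, he⟩ ⟨e', he'⟩)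
      have hBB : ∀ e ∈ B, ∀ e' ∈ B, e * e' = e' * e := fun e he e' he' =>
        congrArg Subtype.val (hBc.is_comm.comm ⟨e, he⟩ ⟨e', he'⟩)
      refine sup_le ?_ ?_ <;> rw [le_centralizer_iff, hN] <;> refine sup_le ?_ ?_
      · exact fun x hx y hy => (hEC x hx y hy).symm
      · exact fun x hx y hy => hx.2 y hy
      · exact fun x hx y hy => (hy.2 x hx).symm
      · exact fun x hx y hy => (hBB x hx.1 y hy.1).symm
    refine ⟨⟨⟨fun a b => Subtype.ext (hcen b.2 a a.2)⟩⟩, fun a ha => ?_⟩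
    obtain ⟨e, he, b, hb, rfl⟩ := mem_sup_of_normal_left.1 ha
    rw [(show Commute e b from hb.2 e he).mul_pow, hE.2 e he, hBe b hb.1, one_mul]
  have hlt : E < N := by
    refine lt_of_le_not_ge le_sup_left fun h => ?_
    have hBE : B ⊓ C ≤ E := le_sup_right.trans h
    have hidx : C.relIndex B ≤ p := by
      have h1 := Cfsg.Agent.Solv.AlperinC.index_centralizer_le hP 2 E inferInstance hE2
      rw [show 2 * (2 - 1) / 2 = 1 from rfl, pow_one] at h1
      refine le_trans ?_ h1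
      rw [← relIndex_top_right]
      exact relIndex_le_of_le_right le_top (by rw [relIndex_top_right]; exact index_ne_zero_of_finite)
    have hcard : Nat.card B = Nat.card ↥(B ⊓ C) * C.relIndex B := by
      rw [← inf_relIndex_right, inf_comm C B, ← relIndex_bot_left, ← relIndex_bot_left,
        relIndex_mul_relIndex ⊥ (B ⊓ C) B bot_le inf_le_left]
    have hEB : E ≤ B := by
      have h2 : p ^ 2 ≤ Nat.card ↥(B ⊓ C) := by
        by_contra hh
        push Not at hh
        have : Nat.card B < p ^ 3 := by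
          rw [hcard, pow_succ]
          calc Nat.card ↥(B ⊓ C) * C.relIndex B ≤ Nat.card ↥(B ⊓ C) * p := Nat.mul_le_mul_left _ hidx
            _ < p ^ 2 * p := Nat.mul_lt_mul_of_pos_right hh (Fact.out : p.Prime).pos
        omega
      have := eq_of_le_of_card_ge hBE (by rw [hE2]; exact h2)
      exact this.ge.trans inf_le_left
    have hCB : B ≤ C := fun b hb e he => congrArg Subtype.val (hBc.is_comm.comm ⟨e, hEB he⟩ ⟨b, hb⟩)
    have h3 := card_le_of_le ((le_inf le_rfl hCB).trans hBE)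
    rw [hB3, hE2] at h3
    have := Nat.pow_lt_pow_right (Fact.out : p.Prime).one_lt (show 2 < 3 by norm_num)
    omega
  obtain ⟨M, hMn, hEM, hMN, hM3⟩ := exists_normal_card_cube_ge hP E N hE2 hNe hlt
  exact ⟨M, hMn, hEM, ⟨⟨⟨fun a b => Subtype.ext (congrArg Subtype.val
    (hNe.1.is_comm.comm ⟨a, hMN a.2⟩ ⟨b, hMN b.2⟩) : _)⟩⟩, fun a ha => hNe.2 a (hMN ha)⟩, hM3⟩

/-- The structure around a maximal `E_{p²}` in a group of rank at least three. -/
theorem maximal_square_structure (hp : p ≠ 2) (hP : IsPGroup p P) (hr : ¬ Cfsg.PRankLE p 2 P)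
    (E : Subgroup P) (hE : Cfsg.IsElementaryAbelian p E) (hE2 : Nat.card E = p ^ 2)
    (hEmax : ∀ B : Subgroup P, Cfsg.IsElementaryAbelian p B → E ≤ B → B = E) :
    ¬ E ≤ centralizer ((closure {x : P | x ∈ Subgroup.upperCentralSeries P 2 ∧ x ^ p = 1} : Subgroup P) : Set P) ∧
      Nat.card ↥(closure {x : P | x ∈ center P ∧ x ^ p = 1}) = p ∧
      (Cfsg.IsElementaryAbelian p (closure {x : P | x ∈ Subgroup.upperCentralSeries P 2 ∧ x ^ p = 1}) ∧
        Nat.card ↥(closure {x : P | x ∈ Subgroup.upperCentralSeries P 2 ∧ x ^ p = 1}) = p ^ 2) ∧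
      (centralizer ((closure {x : P | x ∈ Subgroup.upperCentralSeries P 2 ∧ x ^ p = 1} : Subgroup P) : Set P)).Characteristic ∧
      (centralizer ((closure {x : P | x ∈ Subgroup.upperCentralSeries P 2 ∧ x ^ p = 1} : Subgroup P) : Set P)).index = p := by
  have hp' : p.Prime := Fact.out
  set Z := closure {x : P | x ∈ center P ∧ x ^ p = 1} with hZ
  set W := closure {x : P | x ∈ Subgroup.upperCentralSeries P 2 ∧ x ^ p = 1} with hW
  have hEc : ∀ a ∈ E, ∀ b ∈ E, Commute a b := fun a ha b hb =>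
    congrArg Subtype.val (hE.1.is_comm.comm ⟨a, ha⟩ ⟨b, hb⟩)
  -- an element of order `p` centralizing `E` lies in `E`
  have hin : ∀ x : P, x ^ p = 1 → (∀ e ∈ E, Commute e x) → x ∈ E := fun x hx hxE =>
    (hEmax _ (MaximalElementary.isElementaryAbelian_sup hE hx fun e he => (hxE e he).eq) le_sup_left).le
      (mem_sup_right (mem_zpowers x))
  have hz : ∀ x : P, x ∈ center P → ∀ g : P, Commute g x := fun x hx g => mem_center_iff.1 hx g
  have hZc : ∀ x ∈ Z, x ∈ center P ∧ x ^ p = 1 := by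
    intro x hx
    induction hx using closure_induction with
    | mem a ha => exact ha
    | one => exact ⟨one_mem _, one_pow p⟩
    | mul a b _ _ iha ihb => exact ⟨mul_mem iha.1 ihb.1, by rw [(hz b ihb.1 a).mul_pow, iha.2, ihb.2, one_mul]⟩
    | inv a _ ih => exact ⟨inv_mem ih.1, by rw [inv_pow, ih.2, inv_one]⟩
  have hZE : Z ≤ E := fun x hx => hin x (hZc x hx).2 fun e _ => hz x (hZc x hx).1 e
  -- rank three forces a non-central element in `E`
  obtain ⟨A, hAc, hAe, hA3⟩ : ∃ A : Subgroup P, IsMulCommutative A ∧ (∀ a ∈ A, a ^ p = 1) ∧ p ^ 2 < Nat.card A := by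
    by_contra hh
    push Not at hh
    exact hr fun A h1 h2 => hh A h1 h2
  have hPnt : Nontrivial P := by
    by_contra hh
    rw [not_nontrivial_iff_subsingleton] at hh
    have h1 : Nat.card A ≤ 1 := (Nat.card_eq_one_iff_unique.2 ⟨inferInstance, ⟨1⟩⟩).le
    have := Nat.one_le_pow 2 p hp'.pos
    omega
  have hZp : Nat.card Z = p := by
    haveI := hP.center_nontrivial
    obtain ⟨k, hk0, hk⟩ := (hP.to_subgroup (center P)).nontrivial_iff_card.mp inferInstance
    obtain ⟨x, hx⟩ := exists_prime_orderOf_dvd_card' (G := ↥(center P)) p (hk ▸ dvd_pow_self p hk0.ne')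
    have hxp : (x : P) ^ p = 1 := by rw [← SubgroupClass.coe_pow, ← hx, pow_orderOf_eq_one]; rfl
    have hle : zpowers (x : P) ≤ Z := zpowers_le.2 (subset_closure ⟨x.2, hxp⟩)
    have hcx : Nat.card ↥(zpowers (x : P)) = p := by rw [Nat.card_zpowers, Subgroup.orderOf_coe, hx]
    have hdvd := card_dvd_of_le hZE
    rw [hE2] at hdvd
    obtain ⟨i, hi, hi'⟩ := (Nat.dvd_prime_pow hp').1 hdvd
    have hpos := card_le_of_le hle
    rw [hcx, hi'] at hpos
    interval_cases i
    · rw [pow_zero] at hpos; exact absurd hpos (not_le.2 hp'.one_lt)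
    · rw [hi', pow_one]
    · exfalso
      have hZeq : Z = E := eq_of_le_of_card_ge hZE (by rw [hE2, hi'])
      have hAE : A ≤ E := fun a ha => hin a (hAe a ha) fun e he => (hz e (hZc e (hZeq.ge he)).1 a).symm
      have := card_le_of_le hAE
      omega
  obtain ⟨e, heE, heZ⟩ : ∃ e ∈ E, e ∉ Z := by
    by_contra hh
    push Not at hh
    have := card_le_of_le (show E ≤ Z from hh)
    rw [hE2, hZp, pow_two] at this
    have := hp'.two_le
    nlinarith
  have hEgen : E = Z ⊔ zpowers e := by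
    refine (eq_of_le_of_card_ge (sup_le hZE (zpowers_le.2 heE)) ?_).symm
    obtain ⟨i, hi, hi'⟩ := (Nat.dvd_prime_pow hp').1 (hE2 ▸ card_dvd_of_le (sup_le hZE (zpowers_le.2 heE)))
    have hlt : Z < Z ⊔ zpowers e := lt_of_le_not_ge le_sup_left fun h => heZ (h (mem_sup_right (mem_zpowers e)))
    have := Set.Finite.card_lt_card (Set.toFinite _) (SetLike.coe_ssubset_coe.2 hlt)
    rw [hE2, hi']
    have h1 : Nat.card Z < p ^ i := hi' ▸ this
    rw [hZp] at h1
    interval_cases i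
    · rw [pow_zero] at h1; exact absurd hp'.one_le (by omega)
    · rw [pow_one] at h1; omega
    · exact le_rfl
  -- the second centre
  have hcen : ∀ x ∈ Subgroup.upperCentralSeries P 2, ∀ g : P, ⁅x, g⁆ ∈ center P := fun x hx g => by
    have := Subgroup.mem_upperCentralSeries_succ_iff.1 hx g
    rwa [Subgroup.upperCentralSeries_one] at this
  have hbil : ∀ x ∈ Subgroup.upperCentralSeries P 2, ∀ g h : P, ⁅x, g * h⁆ = ⁅x, g⁆ * ⁅x, h⁆ := by
    intro x hx g h
    calc ⁅x, g * h⁆ = ⁅x, g⁆ * (g * ⁅x, h⁆ * g⁻¹) := by simp only [commutatorElement_def]; group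
      _ = _ := by rw [(hz _ (hcen x hx h) g).eq, mul_inv_cancel_right]
  have hbilL : ∀ x ∈ Subgroup.upperCentralSeries P 2, ∀ y ∈ Subgroup.upperCentralSeries P 2, ∀ g : P,
      ⁅x * y, g⁆ = ⁅x, g⁆ * ⁅y, g⁆ := by
    intro x hx y hy g
    calc ⁅x * y, g⁆ = x * ⁅y, g⁆ * x⁻¹ * ⁅x, g⁆ := by simp only [commutatorElement_def]; group
      _ = _ := by rw [(hz _ (hcen y hy g) x).eq, mul_inv_cancel_right, (hz _ (hcen x hx g) _).eq]
  have hcp : ∀ x ∈ Subgroup.upperCentralSeries P 2, x ^ p = 1 → ∀ g : P, ⁅x, g⁆ ∈ Z := by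
    intro x hx hxp g
    refine subset_closure ⟨hcen x hx g, ?_⟩
    have hpow : ∀ n : ℕ, ⁅x ^ n, g⁆ = ⁅x, g⁆ ^ n := by
      intro n
      induction n with
      | zero => simp
      | succ n ih => rw [pow_succ, pow_succ, hbilL _ (pow_mem hx n) x hx, ih]
    rw [← hpow, hxp, commutatorElement_one_left]
  have hWm : ∀ x ∈ W, x ∈ Subgroup.upperCentralSeries P 2 ∧ x ^ p = 1 := by
    intro x hx
    induction hx using closure_induction with
    | mem a ha => exact ha
    | one => exact ⟨one_mem _, one_pow p⟩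
    | inv a _ ih => exact ⟨inv_mem ih.1, by rw [inv_pow, ih.2, inv_one]⟩
    | mul a b _ _ iha ihb =>
      refine ⟨mul_mem iha.1 ihb.1, ?_⟩
      have hc : ∀ u v : ↥(Subgroup.upperCentralSeries P 2), ⁅u, v⁆ ∈ center ↥(Subgroup.upperCentralSeries P 2) :=
        fun u v => mem_center_iff.2 fun g => Subtype.ext (hz _ (hcen u.1 u.2 v.1) g.1).eq
      have h1 := congrArg Subtype.val (Struct.ClassTwo.mul_pow hc ⟨a, iha.1⟩ ⟨b, ihb.1⟩ p)
      push_cast at h1
      obtain ⟨k, hk⟩ : p ∣ p.choose 2 :=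
        hp'.dvd_choose_self two_ne_zero (lt_of_le_of_ne hp'.two_le (Ne.symm hp))
      have h2 : ⁅b, a⁆ ^ p = 1 := (hZc _ (hcp b ihb.1 ihb.2 a)).2
      change (a * b) ^ p = a ^ p * b ^ p * ⁅b, a⁆ ^ p.choose 2 at h1
      rw [h1, iha.2, ihb.2, hk, pow_mul, h2, one_pow, one_mul, one_mul]
  have hZW : Z ≤ W := fun x hx => subset_closure ⟨by
      rw [Subgroup.mem_upperCentralSeries_succ_iff]
      intro g
      rw [Subgroup.upperCentralSeries_one, commutatorElement_eq_one_iff_mul_comm.2 (hz x (hZc x hx).1 g).symm.eq]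
      exact one_mem _, (hZc x hx).2⟩
  haveI hZn : Z.Normal := ⟨fun n hn g => by rw [(hz n (hZc n hn).1 g).eq, mul_inv_cancel_right]; exact hn⟩
  -- `E` is not inside `W`
  have hEW : ¬ E ≤ W := by
    intro hle
    haveI : E.Normal := ⟨fun x hx g => by
      rw [show g * x * g⁻¹ = ⁅x, g⁆⁻¹ * x by simp only [commutatorElement_def]; group]
      exact mul_mem (inv_mem (hZE (hcp x (hWm x (hle hx)).1 (hWm x (hle hx)).2 g))) hx⟩
    obtain ⟨M, -, hEM, hMe, hM3⟩ := exists_normal_cube_containing hp hP hr E hE hE2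
    have h := hEmax M hMe hEM
    rw [h, hE2] at hM3
    have := Nat.pow_right_injective hp'.two_le hM3
    omega
  -- `W` is larger than `Z`
  obtain ⟨B, hBn, hBc, hBe, hB3⟩ : ∃ B : Subgroup P, B.Normal ∧ IsMulCommutative B ∧ (∀ a ∈ B, a ^ p = 1) ∧ Nat.card B = p ^ 3 := by
    by_contra hh
    push Not at hh
    exact hr fun A hA hAe => Cfsg.Agent.S0100.result hp hP (fun B h1 h2 h3 => hh B h1 h2 h3) A hA hAe
  haveI := hBn
  have hne : B.map (QuotientGroup.mk' Z) ≠ ⊥ := fun h => by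
    rw [Subgroup.map_eq_bot_iff, QuotientGroup.ker_mk'] at h
    have := card_le_of_le h
    rw [hB3, hZp] at this
    have := Nat.pow_lt_pow_right hp'.one_lt (show 1 < 3 by norm_num)
    rw [pow_one] at this
    omega
  haveI : (B.map (QuotientGroup.mk' Z)).Normal := hBn.map _ (QuotientGroup.mk'_surjective Z)
  obtain ⟨q, hq, hq1⟩ := (Subgroup.bot_or_exists_ne_one _).resolve_left
    (Cfsg.Agent.Local.inf_center_ne_bot (hP.to_quotient Z) _ hne)
  obtain ⟨⟨c, hc, rfl⟩, hqz⟩ := Subgroup.mem_inf.1 hq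
  have hcZ : c ∉ Z := fun h => hq1 ((QuotientGroup.eq_one_iff c).2 h)
  have hcW : c ∈ W := subset_closure ⟨by
    rw [Subgroup.mem_upperCentralSeries_succ_iff]
    intro g
    rw [Subgroup.upperCentralSeries_one]
    refine (hZc _ ?_).1
    rw [← QuotientGroup.eq_one_iff]
    show QuotientGroup.mk' Z ⁅c, g⁆ = 1
    rw [map_commutatorElement, commutatorElement_eq_one_iff_mul_comm]
    exact (mem_center_iff.1 hqz _).symm, hBe c hc⟩
  -- the commutator with `e`
  let θ : ↥W →* ↥Z := MonoidHom.mk' (fun w => ⟨⁅(w : P), e⁆, hcp w (hWm w w.2).1 (hWm w w.2).2 e⟩)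
    fun u v => Subtype.ext (hbilL u (hWm u u.2).1 v (hWm v v.2).1 e)
  have hker : θ.ker.map W.subtype ≤ W ⊓ E := by
    rintro _ ⟨w, hw, rfl⟩
    refine ⟨w.2, hin w (hWm w w.2).2 fun f hf => ?_⟩
    have he : Commute (w : P) e := commutatorElement_eq_one_iff_mul_comm.1 (congrArg Subtype.val hw)
    rw [hEgen] at hf
    obtain ⟨z, hz', y, hy, rfl⟩ := mem_sup_of_normal_left.1 hf
    obtain ⟨i, rfl⟩ := mem_zpowers_iff.1 hy
    exact ((hz z (hZc z hz').1 w).symm.mul_left (he.symm.zpow_left i))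
  have hWE : Nat.card ↥(W ⊓ E) ≤ p := by
    obtain ⟨i, hi, hi'⟩ := (Nat.dvd_prime_pow hp').1 (hE2 ▸ card_dvd_of_le (inf_le_right : W ⊓ E ≤ E))
    rcases Nat.lt_or_ge i 2 with h | h
    · rw [hi']; calc p ^ i ≤ p ^ 1 := Nat.pow_le_pow_right hp'.pos (by omega)
                    _ = p := pow_one p
    · exfalso
      exact hEW ((eq_of_le_of_card_ge inf_le_right (by rw [hE2, hi']; exact Nat.pow_le_pow_right hp'.pos h)).ge.trans inf_le_left)
  have hWle : Nat.card W ≤ p ^ 2 := by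
    have h1 := θ.ker.card_mul_index
    rw [Subgroup.index_ker] at h1
    have h2 : Nat.card θ.ker ≤ p := by
      rw [← card_map_of_injective W.subtype_injective]
      exact (card_le_of_le hker).trans hWE
    have h3 : Nat.card θ.range ≤ p := by
      calc Nat.card θ.range ≤ Nat.card ↥Z := card_le_card_group _
        _ = p := hZp
    rw [← h1, pow_two]
    exact Nat.mul_le_mul h2 h3
  have hW2 : Nat.card W = p ^ 2 := by
    obtain ⟨i, hi⟩ := (hP.to_subgroup W).exists_card_eq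
    have hlt : Z < W := lt_of_le_not_ge hZW fun h => hcZ (h hcW)
    have := Set.Finite.card_lt_card (Set.toFinite _) (SetLike.coe_ssubset_coe.2 hlt)
    have h1 : Nat.card Z < p ^ i := hi ▸ this
    rw [hZp] at h1
    rw [hi] at hWle ⊢
    have h2 : i ≤ 2 := (Nat.pow_le_pow_iff_right hp'.one_lt).1 hWle
    have h3 : 1 < i := (Nat.pow_lt_pow_iff_right hp'.one_lt).1 (by rwa [pow_one])
    congr 1; omega
  have hWc : IsMulCommutative W := ⟨⟨fun a b => IsPGroup.commutative_of_card_eq_prime_sq (p := p) hW2 a b⟩⟩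
  have hET : ¬ E ≤ centralizer (W : Set P) := by
    intro hle
    have hWE' : W ≤ E := fun w hw => hin w (hWm w hw).2 fun f hf => (hle hf w hw).symm
    exact hEW (eq_of_le_of_card_ge hWE' (by rw [hE2, hW2])).ge
  haveI hWch : W.Characteristic := by
    refine characteristic_iff_map_le.2 fun φ => ?_
    rw [hW, MonoidHom.map_closure]
    refine Subgroup.closure_mono ?_
    rintro _ ⟨x, ⟨hx, hxp⟩, rfl⟩
    exact ⟨(characteristic_iff_map_le.1 inferInstance φ : (Subgroup.upperCentralSeries P 2).map φ.toMonoidHom ≤ _) ⟨x, hx, rfl⟩,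
      by rw [← map_pow, hxp, map_one]⟩
  refine ⟨hET, hZp, ⟨⟨hWc, fun a ha => (hWm a ha).2⟩, hW2⟩, inferInstance, ?_⟩
  have h1 := Cfsg.Agent.Solv.AlperinC.index_centralizer_le hP 2 W inferInstance hW2
  rw [show 2 * (2 - 1) / 2 = 1 from rfl, pow_one] at h1
  obtain ⟨i, hi⟩ := hP.index (centralizer (W : Set P))
  rcases i with _ | i
  · rw [pow_zero, index_eq_one] at hi
    exact absurd (hi ▸ le_top) hET
  · rw [hi] at h1 ⊢
    exact le_antisymm h1 (Nat.le_self_pow (Nat.succ_ne_zero i) p)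

end Cfsg.Agent.Solv.NarrowBasic
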