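import Mathlib.LinearAlgebra.Matrix.SpecialLinearGroup
import Mathlib.LinearAlgebra.Determinant
import Mathlib.LinearAlgebra.Dimension.Finite
import Mathlib.FieldTheory.Finite.GaloisField
import Mathlib.RingTheory.Polynomial.Cyclotomic.Basic
import Mathlib.Algebra.CharP.Algebra
import Mathlib.Algebra.CharP.Lemmas
import Cfsg.Agent.Lib.Solv.DicksonSL2
import Cfsg.Agent.Lib.Solv.Basic

/-!
Pairs of quadratic transformations in odd characteristic: a group generated by two of them is
either a `p`-group or involves `SL(2, p)`.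
-/

set_option autoImplicit false
set_option linter.style.haveILetI false
set_option linter.unusedSectionVars false

universe u

namespace Cfsg.Agent.Solv.Quad

open Module

section Linear

variable {K : Type*} [Field K] [Fintype K] {p : ℕ} [Fact p.Prime] [CharP K p]
variable {W : Type u} [AddCommGroup W] [Module K W]

/-- Quadratic transformations: `(e - 1)² = 0`. -/
def IsQuad (e : W ≃ₗ[K] W) : Prop := ∀ w : W, e (e w - w) = e w - w

theorem IsQuad.pow_apply {e : W ≃ₗ[K] W} (he : IsQuad e) (n : ℕ) (w : W) :
    (e ^ n) w = w + n • (e w - w) := by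
  induction n generalizing w with
  | zero => simp
  | succ n ih =>
    rw [pow_succ', LinearEquiv.mul_apply, ih, map_add, map_nsmul, he, succ_nsmul]
    abel

theorem IsQuad.pow_char {e : W ≃ₗ[K] W} (he : IsQuad e) : e ^ p = 1 := by
  refine LinearEquiv.ext fun w => ?_
  rw [he.pow_apply, ← Nat.cast_smul_eq_nsmul K, CharP.cast_eq_zero, zero_smul, add_zero]
  rfl

omit [Fintype K] in
/-- The stabilizer of a subspace. -/
def stab (U : Submodule K W) : Subgroup (W ≃ₗ[K] W) where
  carrier := {h | ∀ x, x ∈ U ↔ h x ∈ U}
  one_mem' := fun _ => Iff.rfl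
  mul_mem' := fun {g h} hg hh x => (hh x).trans (hg (h x))
  inv_mem' := fun {g} hg x => ⟨fun hx => (hg (g⁻¹ x)).2 (by rwa [show g (g⁻¹ x) = x from g.apply_symm_apply x]),
    fun hx => by
      have := (hg (g⁻¹ x)).1 hx
      rwa [show g (g⁻¹ x) = x from g.apply_symm_apply x] at this⟩

theorem map_eq_of_mem_stab {U : Submodule K W} (h : stab U) :
    U.map ((h : W ≃ₗ[K] W) : W →ₗ[K] W) = U := by
  ext x
  constructor
  · rintro ⟨y, hy, rfl⟩
    exact (h.2 y).1 hy
  · intro hx
    refine ⟨(h : W ≃ₗ[K] W).symm x, (h.2 _).2 ?_, (h : W ≃ₗ[K] W).apply_symm_apply x⟩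
    rwa [(h : W ≃ₗ[K] W).apply_symm_apply]

/-- Restriction to an invariant subspace. -/
def resHom (U : Submodule K W) : stab U →* (U ≃ₗ[K] U) where
  toFun h := LinearEquiv.ofSubmodules (h : W ≃ₗ[K] W) U U (map_eq_of_mem_stab h)
  map_one' := LinearEquiv.ext fun _ => Subtype.ext rfl
  map_mul' _ _ := LinearEquiv.ext fun _ => Subtype.ext rfl

/-- The action on the quotient by an invariant subspace. -/
def quotHom (U : Submodule K W) : stab U →* ((W ⧸ U) ≃ₗ[K] (W ⧸ U)) where
  toFun h := Submodule.Quotient.equiv U U (h : W ≃ₗ[K] W) (map_eq_of_mem_stab h)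
  map_one' := LinearEquiv.ext fun x => by
    induction x using Submodule.Quotient.induction_on
    rfl
  map_mul' _ _ := LinearEquiv.ext fun x => by
    induction x using Submodule.Quotient.induction_on
    rfl

theorem isQuad_res {U : Submodule K W} (h : stab U) (hq : IsQuad (h : W ≃ₗ[K] W)) :
    IsQuad (resHom U h) := fun x => Subtype.ext (hq x)

theorem isQuad_quot {U : Submodule K W} (h : stab U) (hq : IsQuad (h : W ≃ₗ[K] W)) :
    IsQuad (quotHom U h) := fun x => by
  induction x using Submodule.Quotient.induction_on with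
  | H w =>
    change Submodule.Quotient.mk ((h : W ≃ₗ[K] W) ((h : W ≃ₗ[K] W) w - w)) = _
    rw [hq]
    rfl

/-- The range of a homomorphism on a two-generator group. -/
theorem range_eq_closure_pair {A B : Type*} [Group A] [Group B] (f : A →* B) {a b : A}
    (h : Subgroup.closure ({a, b} : Set A) = ⊤) : f.range = Subgroup.closure {f a, f b} := by
  rw [MonoidHom.range_eq_map, ← h, MonoidHom.map_closure, Set.image_pair]

theorem closure_pair_top {A : Type*} [Group A] (a b : A) :
    Subgroup.closure ({⟨a, Subgroup.subset_closure (by simp)⟩,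
      ⟨b, Subgroup.subset_closure (by simp)⟩} : Set (Subgroup.closure ({a, b} : Set A))) = ⊤ := by
  convert Subgroup.closure_closure_coe_preimage (k := ({a, b} : Set A))
  ext ⟨x, hx⟩
  simp

/-- The two-generator group theorem in linear form. -/
theorem pair_hom : ∀ (n : ℕ) {W : Type u} [AddCommGroup W] [Module K W] [Finite W],
    finrank K W ≤ n → ∀ a b : W ≃ₗ[K] W, IsQuad a → IsQuad b →
    ¬ IsPGroup p (Subgroup.closure ({a, b} : Set (W ≃ₗ[K] W))) →
    (∃ e : ℕ, orderOf (a * b) ∣ p ^ e * (Fintype.card K - 1)) →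
    ∃ φ : Subgroup.closure ({a, b} : Set (W ≃ₗ[K] W)) →* Matrix.SpecialLinearGroup (Fin 2) K,
      ¬ IsPGroup p φ.range := by
  intro n
  induction n with
  | zero =>
    intro W _ _ _ hn a b _ _ hnp _
    exfalso
    haveI : Subsingleton W := Module.finrank_zero_iff.mp (Nat.le_zero.mp hn)
    haveI : Subsingleton (W ≃ₗ[K] W) := ⟨fun x y => LinearEquiv.ext fun _ => Subsingleton.elim _ _⟩
    exact hnp fun x => ⟨0, Subsingleton.elim _ _⟩
  | succ n ih =>
    intro W _ _ _ hn a b ha hb hnp hk
    classical
    haveI : Module.Finite K W := Module.Finite.of_finite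
    set H := Subgroup.closure ({a, b} : Set (W ≃ₗ[K] W)) with hH
    have haH : a ∈ H := Subgroup.subset_closure (by simp)
    have hbH : b ∈ H := Subgroup.subset_closure (by simp)
    by_cases hred : ∃ U : Submodule K W, U ≠ ⊥ ∧ U ≠ ⊤ ∧ (∀ x ∈ U, a x ∈ U) ∧ (∀ x ∈ U, b x ∈ U)
    · obtain ⟨U, hU0, hU1, haU, hbU⟩ := hred
      have hmem : ∀ e : W ≃ₗ[K] W, (∀ x ∈ U, e x ∈ U) → e ∈ stab U := fun e he x =>
        ⟨he x, fun hx => by
          have hle : U.map (e : W →ₗ[K] W) ≤ U := by
            rintro _ ⟨y, hy, rfl⟩; exact he y hy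
          have heq : U.map (e : W →ₗ[K] W) = U :=
            Submodule.eq_of_le_of_finrank_eq hle (LinearEquiv.finrank_map_eq e U)
          rw [← heq] at hx
          obtain ⟨y, hy, hye⟩ := hx
          rwa [← e.injective hye]⟩
      have hle : H ≤ stab U := (Subgroup.closure_le _).mpr (by
        rintro e (rfl | rfl); exacts [hmem _ haU, hmem _ hbU])
      set ι : H →* stab U := Subgroup.inclusion hle
      -- recursion into one of the two factors
      have key : ∀ {W' : Type u} [AddCommGroup W'] [Module K W'] [Finite W'],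
          finrank K W' ≤ n → ∀ ψ : H →* (W' ≃ₗ[K] W'), IsQuad (ψ ⟨a, haH⟩) → IsQuad (ψ ⟨b, hbH⟩) →
          ¬ IsPGroup p ψ.range →
          ∃ φ : H →* Matrix.SpecialLinearGroup (Fin 2) K, ¬ IsPGroup p φ.range := by
        intro W' _ _ _ hn' ψ ha' hb' hnp'
        have hr : ψ.range = Subgroup.closure {ψ ⟨a, haH⟩, ψ ⟨b, hbH⟩} :=
          range_eq_closure_pair ψ (closure_pair_top a b)
        obtain ⟨e, he⟩ := hk
        obtain ⟨φ, hφ⟩ := ih hn' _ _ ha' hb' (hr ▸ hnp') ⟨e, by
          rw [← map_mul]
          refine (orderOf_map_dvd ψ _).trans ?_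
          rwa [← Subgroup.orderOf_coe]⟩
        refine ⟨φ.comp (ψ.codRestrict _ fun x => hr ▸ ⟨x, rfl⟩), ?_⟩
        rw [MonoidHom.range_comp]
        rw [show (ψ.codRestrict (Subgroup.closure {ψ ⟨a, haH⟩, ψ ⟨b, hbH⟩})
          fun x => hr ▸ ⟨x, rfl⟩).range = ⊤ from MonoidHom.range_eq_top.mpr fun ⟨y, hy⟩ => by
            rw [← hr] at hy
            obtain ⟨x, hx⟩ := hy
            exact ⟨x, Subtype.ext hx⟩]
        rwa [← MonoidHom.range_eq_map]
      by_cases h1 : IsPGroup p ((resHom U).comp ι).range
      · by_cases h2 : IsPGroup p ((quotHom U).comp ι).range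
        · exfalso
          refine hnp fun h => ?_
          obtain ⟨i, hi⟩ := h1 ⟨_, h, rfl⟩
          obtain ⟨j, hj⟩ := h2 ⟨_, h, rfl⟩
          refine ⟨i + j + 1, Subtype.ext ?_⟩
          have hi' : ((resHom U).comp ι) (h ^ p ^ (i + j)) = 1 := by
            rw [map_pow, pow_add, pow_mul]
            have := congrArg Subtype.val hi
            simp only [SubgroupClass.coe_pow, OneMemClass.coe_one] at this
            rw [this, one_pow]
          have hj' : ((quotHom U).comp ι) (h ^ p ^ (i + j)) = 1 := by
            rw [map_pow, add_comm, pow_add, pow_mul]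
            have := congrArg Subtype.val hj
            simp only [SubgroupClass.coe_pow, OneMemClass.coe_one] at this
            rw [this, one_pow]
          set g : H := h ^ p ^ (i + j) with hg
          have hq : IsQuad (g : W ≃ₗ[K] W) := fun w => by
            have hw : (g : W ≃ₗ[K] W) w - w ∈ U := by
              rw [← Submodule.Quotient.eq]
              exact LinearEquiv.congr_fun hj' (Submodule.Quotient.mk w)
            exact congrArg Subtype.val (LinearEquiv.congr_fun hi' ⟨_, hw⟩)
          rw [pow_succ, pow_mul, ← hg, SubgroupClass.coe_pow, hq.pow_char]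
          rfl
        · haveI : Finite (W ⧸ U) := Finite.of_surjective _ (Submodule.Quotient.mk_surjective U)
          refine key ?_ ((quotHom U).comp ι) (isQuad_quot _ ha) (isQuad_quot _ hb) h2
          have h3 := U.finrank_quotient_add_finrank
          have h4 : finrank K U ≠ 0 := fun e => hU0 (Submodule.finrank_eq_zero.mp e)
          omega
      · refine key ?_ ((resHom U).comp ι) (isQuad_res _ ha) (isQuad_res _ hb) h1
        have h3 := Submodule.finrank_lt hU1
        omega
    · -- no invariant subspace
      push Not at hred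
      by_cases hW : Subsingleton W
      · exfalso
        haveI : Subsingleton (W ≃ₗ[K] W) := ⟨fun x y => LinearEquiv.ext fun _ => Subsingleton.elim _ _⟩
        exact hnp fun x => ⟨0, Subsingleton.elim _ _⟩
      haveI : Nontrivial W := not_subsingleton_iff_nontrivial.mp hW
      haveI : CharP (Module.End K W) p :=
        charP_of_injective_algebraMap (algebraMap K (Module.End K W)).injective p
      obtain ⟨e, he⟩ := hk
      set f : Module.End K W := ((a * b : W ≃ₗ[K] W) : W →ₗ[K] W) with hf
      have hfpow : ∀ m : ℕ, f ^ m = (((a * b) ^ m : W ≃ₗ[K] W) : W →ₗ[K] W) := by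
        intro m
        induction m with
        | zero => rfl
        | succ m ihm => rw [pow_succ, ihm, pow_succ]; rfl
      set q := Fintype.card K with hq
      have hy : (f ^ p ^ e) ^ (q - 1) = 1 := by
        rw [← pow_mul, hfpow, orderOf_dvd_iff_pow_eq_one.mp he]
        rfl
      obtain ⟨c, hc⟩ : ∃ c : K, ¬ Function.Injective (f ^ p ^ e - algebraMap K (Module.End K W) c) := by
        by_contra hall
        push Not at hall
        obtain ⟨g, hg⟩ := IsCyclic.exists_generator (α := Kˣ)
        have hgo : orderOf g = q - 1 := by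
          rw [orderOf_eq_card_of_forall_mem_zpowers hg, Nat.card_eq_fintype_card, Fintype.card_units]
        have hq1 : 0 < q - 1 := by
          have := Fintype.one_lt_card (α := K)
          omega
        have hprim : IsPrimitiveRoot (g : K) (q - 1) :=
          (IsPrimitiveRoot.coe_units_iff).mpr (hgo ▸ IsPrimitiveRoot.orderOf g)
        have hinj : ∀ s : Finset K, Function.Injective
            (Polynomial.aeval (f ^ p ^ e) (∏ c ∈ s, (Polynomial.X - Polynomial.C c))) := by
          intro s
          induction s using Finset.induction_on with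
          | empty => rw [Finset.prod_empty, map_one]; exact fun _ _ h => h
          | insert c s hcs ihs =>
            rw [Finset.prod_insert hcs, map_mul, map_sub, Polynomial.aeval_X, Polynomial.aeval_C]
            exact (hall c).comp ihs
        have h0 := hinj (Polynomial.nthRootsFinset (q - 1) (1 : K))
        rw [← Polynomial.X_pow_sub_one_eq_prod hq1 hprim, map_sub, map_pow, Polynomial.aeval_X,
          map_one, hy, sub_self] at h0
        obtain ⟨w, hw⟩ := exists_ne (0 : W)
        exact hw (h0 (by simp))
      -- an eigenvector of `a * b`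
      obtain ⟨ν, hν⟩ : ∃ ν : K, ν ^ p ^ e = c :=
        ⟨(iterateFrobeniusEquiv K p e).symm c, (iterateFrobeniusEquiv K p e).apply_symm_apply c⟩
      have hfac : f ^ p ^ e - algebraMap K (Module.End K W) c =
          (f - algebraMap K (Module.End K W) ν) ^ p ^ e := by
        rw [sub_pow_char_pow_of_commute p e (Algebra.commutes ν f).symm, ← map_pow, hν]
      obtain ⟨w, hw0, hw⟩ : ∃ w : W, w ≠ 0 ∧ a (b w) = ν • w := by
        by_contra hno
        push Not at hno
        have hinj : Function.Injective (f - algebraMap K (Module.End K W) ν) := by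
          rw [← LinearMap.ker_eq_bot, LinearMap.ker_eq_bot']
          intro w hw
          by_contra hw0
          refine hno w hw0 ?_
          have : f w - ν • w = 0 := by simpa [Algebra.algebraMap_eq_smul_one] using hw
          exact sub_eq_zero.mp this
        apply hc
        rw [hfac]
        generalize p ^ e = m
        induction m with
        | zero => rw [pow_zero]; exact fun _ _ h => h
        | succ m ihm => rw [pow_succ]; exact ihm.comp hinj
      -- the plane spanned by `w` and `a w`
      have haaw : a (a w) = (2 : K) • a w - w := by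
        have := ha w
        rw [map_sub, sub_eq_iff_eq_add] at this
        rw [this, two_smul]; abel
      have hbw : b w = ν • ((2 : K) • w - a w) := by
        apply a.injective
        rw [hw, map_smul, map_sub, map_smul, haaw, sub_sub_cancel]
      have hν0 : ν ≠ 0 := fun h => hw0 (b.injective (by rw [hbw, h, zero_smul, map_zero]))
      set U := Submodule.span K ({w, a w} : Set W) with hU
      have hwU : w ∈ U := Submodule.subset_span (by simp)
      have hawU : a w ∈ U := Submodule.subset_span (by simp)
      have haU : ∀ x ∈ U, a x ∈ U := by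
        intro x hx
        obtain ⟨s, t, rfl⟩ := Submodule.mem_span_pair.mp hx
        rw [map_add, map_smul, map_smul, haaw]
        exact U.add_mem (U.smul_mem s hawU) (U.smul_mem t (U.sub_mem (U.smul_mem _ hawU) hwU))
      have hbwU : b w ∈ U := by
        rw [hbw]; exact U.smul_mem _ (U.sub_mem (U.smul_mem _ hwU) hawU)
      have hbawU : b (a w) ∈ U := by
        have e1 : a w = (2 : K) • w - ν⁻¹ • b w := by
          rw [hbw, smul_smul, inv_mul_cancel₀ hν0, one_smul, sub_sub_cancel]
        rw [e1, map_sub, map_smul, map_smul]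
        have hbbw : b (b w) = (2 : K) • b w - w := by
          have := hb w
          rw [map_sub, sub_eq_iff_eq_add] at this
          rw [this, two_smul]; abel
        rw [hbbw]
        exact U.sub_mem (U.smul_mem _ hbwU) (U.smul_mem _ (U.sub_mem (U.smul_mem _ hbwU) hwU))
      have hbU : ∀ x ∈ U, b x ∈ U := by
        intro x hx
        obtain ⟨s, t, rfl⟩ := Submodule.mem_span_pair.mp hx
        rw [map_add, map_smul, map_smul]
        exact U.add_mem (U.smul_mem s hbwU) (U.smul_mem t hbawU)
      have htop : U = ⊤ := by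
        by_contra hne
        obtain ⟨x, hx, hbx⟩ := hred U (fun h => hw0 (by rw [h, Submodule.mem_bot] at hwU; exact hwU))
          hne haU
        exact hbx (hbU x hx)
      have hrank2 : finrank K W ≤ 2 := by
        have h1 : U = Submodule.span K ((({w, a w} : Finset W) : Set W)) := by simp [hU]
        rw [← finrank_top K W, ← htop, h1]
        exact (finrank_span_finset_le_card _).trans Finset.card_le_two
      rcases lt_or_eq_of_le hrank2 with h1 | h2
      · exfalso
        have hf1 : finrank K W = 1 := by
          have : 0 < finrank K W := finrank_pos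
          omega
        have hs := (finrank_eq_one_iff_of_nonzero' w hw0).mp hf1
        obtain ⟨d, hd⟩ := hs (a w)
        have hd1 : d = 1 := by
          have := ha w
          rw [← hd, map_sub, map_smul, ← hd, ← sub_eq_zero] at this
          have h5 : ((d - 1) * (d - 1)) • w = (0 : W) := by
            rw [← this]
            simp only [sub_mul, mul_sub, sub_smul, smul_smul, one_mul, mul_one, one_smul]
          exact sub_eq_zero.mp (mul_self_eq_zero.mp ((smul_eq_zero.mp h5).resolve_right hw0))
        rw [hd1, one_smul] at hd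
        have hbw' : b w = ν • w := by
          rw [hbw, ← hd, two_smul, add_sub_cancel_right]
        have hν1 : ν = 1 := by
          have := hb w
          rw [hbw', map_sub, map_smul, hbw', ← sub_eq_zero] at this
          have h5 : ((ν - 1) * (ν - 1)) • w = (0 : W) := by
            rw [← this]
            simp only [sub_mul, mul_sub, sub_smul, smul_smul, one_mul, mul_one, one_smul]
          exact sub_eq_zero.mp (mul_self_eq_zero.mp ((smul_eq_zero.mp h5).resolve_right hw0))
        rw [hν1, one_smul] at hbw'
        have hone : ∀ g : W ≃ₗ[K] W, g w = w → g = 1 := fun g hg => LinearEquiv.ext fun x => by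
          obtain ⟨t, rfl⟩ := hs x
          rw [map_smul, hg]; rfl
        refine hnp fun x => ⟨0, ?_⟩
        have hx : (x : W ≃ₗ[K] W) ∈ (⊥ : Subgroup (W ≃ₗ[K] W)) :=
          (Subgroup.closure_le _).mpr (by
            rintro g (rfl | rfl)
            · exact hone _ hd.symm
            · exact hone _ hbw') x.2
        rw [pow_zero, pow_one]
        exact Subtype.ext hx
      · let bas : Basis (Fin 2) K W := Module.finBasisOfFinrankEq K W h2
        let D : (W ≃ₗ[K] W) →* Kˣ := LinearEquiv.det
        have hdet1 : ∀ g : W ≃ₗ[K] W, g ^ p = 1 → D g = 1 := by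
          intro g hg
          have h := congrArg D hg
          rw [map_pow, map_one] at h
          refine Units.ext (frobenius_inj K p ?_)
          rw [frobenius_def, frobenius_def, ← Units.val_pow_eq_pow_val, h, Units.val_one, one_pow]
        have hHdet : H ≤ D.ker := (Subgroup.closure_le _).mpr (by
          rintro g (rfl | rfl)
          · exact hdet1 _ ha.pow_char
          · exact hdet1 _ hb.pow_char)
        have hdet : ∀ g : H, (LinearMap.toMatrixAlgEquiv bas ((g : W ≃ₗ[K] W) : W →ₗ[K] W)).det = 1 := by
          intro g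
          rw [LinearMap.toMatrixAlgEquiv, AlgEquiv.ofLinearEquiv_apply, LinearMap.det_toMatrix,
            ← LinearEquiv.coe_det]
          exact congrArg Units.val (hHdet g.2)
        let φ : H →* Matrix.SpecialLinearGroup (Fin 2) K :=
          { toFun := fun g => ⟨_, hdet g⟩
            map_one' := Subtype.ext (map_one (LinearMap.toMatrixAlgEquiv bas))
            map_mul' := fun g g' => Subtype.ext (map_mul (LinearMap.toMatrixAlgEquiv bas) _ _) }
        have hφ : Function.Injective φ := fun g g' h => Subtype.ext (LinearEquiv.toLinearMap_injective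
          ((LinearMap.toMatrixAlgEquiv bas).injective (congrArg Subtype.val h)))
        exact ⟨φ, fun h => hnp (h.of_injective φ.rangeRestrict
          (fun x y hxy => hφ (congrArg Subtype.val hxy)))⟩

end Linear

section Section2

variable {p : ℕ} [Fact p.Prime]

/-- Two quadratic transformations not generating a `p`-group map to non-commuting elements of some
`SL(2, K)`, the image containing a copy of `SL(2, p)`. -/
theorem exists_hom_of_pair (hp2 : p ≠ 2) {X : Type*} [Group X] [Finite X] {W : Type u}
    [AddCommGroup W] [Module (ZMod p) W] [Finite W] (ρ : X →* (W ≃ₗ[ZMod p] W))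
    (hρ : Function.Injective ρ) (a b : X) (hgen : Subgroup.closure ({a, b} : Set X) = ⊤)
    (ha : IsQuad (ρ a)) (hb : IsQuad (ρ b)) (hnp : ¬ IsPGroup p X) :
    ∃ (K : Type) (_ : Field K) (_ : CharP K p) (χ : X →* Matrix.SpecialLinearGroup (Fin 2) K)
      (f : Matrix.SpecialLinearGroup (Fin 2) (ZMod p) →* Matrix.SpecialLinearGroup (Fin 2) K),
      Function.Injective f ∧ f.range ≤ χ.range ∧ ¬ Commute (χ a) (χ b) := by
  classical
  have hp := (Fact.out : p.Prime)
  haveI : Module.Finite (ZMod p) W := Module.Finite.of_finite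
  obtain ⟨e, k, hk, hek⟩ := Nat.exists_eq_pow_mul_and_not_dvd (orderOf_pos (a * b)).ne' p hp.ne_one
  have hk0 : k ≠ 0 := by rintro rfl; exact hk (dvd_zero _)
  set m := Nat.totient k with hm
  have hm0 : m ≠ 0 := (Nat.totient_pos.mpr (Nat.pos_of_ne_zero hk0)).ne'
  have hmod : k ∣ p ^ m - 1 := (Nat.modEq_iff_dvd' (Nat.one_le_pow _ _ hp.pos)).mp
    (Nat.ModEq.pow_totient (hp.coprime_iff_not_dvd.mpr hk)).symm
  let K := GaloisField p m
  haveI : Fintype K := Fintype.ofFinite K
  have hcard : Fintype.card K = p ^ m := by rw [← Nat.card_eq_fintype_card]; exact GaloisField.card p m hm0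
  let n := finrank (ZMod p) W
  let em : Module.End (ZMod p) W ≃ₐ[ZMod p] Matrix (Fin n) (Fin n) (ZMod p) :=
    LinearMap.toMatrixAlgEquiv (Module.finBasis (ZMod p) W)
  let Φ : Module.End (ZMod p) W →+* Module.End K (Fin n → K) :=
    ((Matrix.toLinAlgEquiv' : Matrix (Fin n) (Fin n) K ≃ₐ[K] Module.End K (Fin n → K)).toRingEquiv.toRingHom.comp
      (algebraMap (ZMod p) K).mapMatrix).comp em.toRingEquiv.toRingHom
  have hΦ : Function.Injective Φ := fun f g h =>
    em.injective ((Matrix.map_injective (algebraMap (ZMod p) K).injective)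
      ((Matrix.toLinAlgEquiv' : Matrix (Fin n) (Fin n) K ≃ₐ[K] Module.End K (Fin n → K)).injective h))
  let τ : (W ≃ₗ[ZMod p] W) →* ((Fin n → K) ≃ₗ[K] (Fin n → K)) :=
    ((LinearMap.GeneralLinearGroup.generalLinearEquiv K (Fin n → K)).toMonoidHom.comp
      (Units.map Φ.toMonoidHom)).comp
      (LinearMap.GeneralLinearGroup.generalLinearEquiv (ZMod p) W).symm.toMonoidHom
  have hτ : ∀ g : W ≃ₗ[ZMod p] W,
      ((τ g : (Fin n → K) ≃ₗ[K] (Fin n → K)) : (Fin n → K) →ₗ[K] (Fin n → K)) =
        Φ (g : W →ₗ[ZMod p] W) := fun g => LinearMap.ext fun _ => rfl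
  have hτi : Function.Injective τ := fun g g' h => LinearEquiv.toLinearMap_injective
    (hΦ (by rw [← hτ, ← hτ, h]))
  have hq : ∀ g : W ≃ₗ[ZMod p] W, IsQuad g → IsQuad (τ g) := by
    intro g hg w
    have h1 : ((g : W →ₗ[ZMod p] W) - 1) * ((g : W →ₗ[ZMod p] W) - 1) = (0 : Module.End (ZMod p) W) :=
      LinearMap.ext fun v => by
        change g (g v - v) - (g v - v) = 0
        rw [hg, sub_self]
    have h2 := LinearMap.congr_fun (congrArg Φ h1) w
    rw [map_mul, map_sub, map_one, map_zero, ← hτ] at h2
    exact sub_eq_zero.mp h2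
  set σ : X →* ((Fin n → K) ≃ₗ[K] (Fin n → K)) := τ.comp ρ
  have hσ : Function.Injective σ := hτi.comp hρ
  have hr : σ.range = Subgroup.closure {σ a, σ b} := range_eq_closure_pair σ hgen
  have hnp' : ¬ IsPGroup p (Subgroup.closure ({σ a, σ b} : Set _)) := fun h => hnp
    ((hr ▸ h : IsPGroup p σ.range).of_injective σ.rangeRestrict fun x y hxy =>
      hσ (congrArg Subtype.val hxy))
  obtain ⟨φ, hφ⟩ := pair_hom (p := p) (finrank K (Fin n → K)) le_rfl (σ a) (σ b) (hq _ ha) (hq _ hb)
    hnp' ⟨e, by
      rw [← map_mul, orderOf_injective σ hσ, hek, hcard]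
      exact mul_dvd_mul_left _ hmod⟩
  let σ' : X →* Subgroup.closure ({σ a, σ b} : Set _) := σ.codRestrict _ fun x => hr ▸ ⟨x, rfl⟩
  let χ : X →* Matrix.SpecialLinearGroup (Fin 2) K := φ.comp σ'
  have hσ'top : σ'.range = ⊤ := MonoidHom.range_eq_top.mpr fun ⟨y, hy⟩ => by
    rw [← hr] at hy
    obtain ⟨x, hx⟩ := hy
    exact ⟨x, Subtype.ext hx⟩
  have hχr : χ.range = φ.range := by
    rw [MonoidHom.range_comp, hσ'top, ← MonoidHom.range_eq_map]
  have hpow : ∀ x : X, IsQuad (ρ x) → χ x ^ p = 1 := fun x hx => by
    have : x ^ p = 1 := hρ (by rw [map_pow, hx.pow_char, map_one])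
    rw [← map_pow, this, map_one]
  have hnc : ¬ Commute (χ a) (χ b) := by
    intro hc
    refine hφ (hχr ▸ ?_)
    rw [range_eq_closure_pair χ hgen]
    haveI hcomm := Subgroup.isMulCommutative_closure (k := ({χ a, χ b} : Set _)) (by
      rintro x (rfl | rfl) y (rfl | rfl)
      exacts [rfl, hc.eq, hc.eq.symm, rfl])
    intro x
    refine ⟨1, ?_⟩
    rw [pow_one]
    obtain ⟨x, hx⟩ := x
    apply Subtype.ext
    change x ^ p = 1
    induction hx using Subgroup.closure_induction with
    | mem y hy => rcases hy with rfl | rfl; exacts [hpow a ha, hpow b hb]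
    | one => exact one_pow p
    | mul y z hy hz ihy ihz =>
      have hyz : Commute y z := congrArg Subtype.val (hcomm.is_comm.comm ⟨y, hy⟩ ⟨z, hz⟩)
      rw [hyz.mul_pow, ihy, ihz, one_mul]
    | inv y _ ih => rw [inv_pow, ih, inv_one]
  haveI : CharP K p := inferInstance
  obtain ⟨f, hf, hfle⟩ := Dickson.exists_SL2 hp2 χ.range ⟨a, rfl⟩ ⟨b, rfl⟩ (hpow a ha) (hpow b hb) hnc
  exact ⟨K, inferInstance, inferInstance, χ, f, hf, hfle, hnc⟩

/-- A group generated by two quadratic transformations of a `ZMod p`-space which is not a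
`p`-group involves `SL(2, p)`. -/
theorem involves_of_pair (hp2 : p ≠ 2) {X : Type*} [Group X] [Finite X] {W : Type u}
    [AddCommGroup W] [Module (ZMod p) W] [Finite W] (ρ : X →* (W ≃ₗ[ZMod p] W))
    (hρ : Function.Injective ρ) (a b : X) (hgen : Subgroup.closure ({a, b} : Set X) = ⊤)
    (ha : IsQuad (ρ a)) (hb : IsQuad (ρ b)) (hnp : ¬ IsPGroup p X) :
    ∃ (S : Subgroup X) (ψ : S →* Matrix.SpecialLinearGroup (Fin 2) (ZMod p)),
      Function.Surjective ψ := by
  obtain ⟨K, _, _, χ, f, hf, hfle, -⟩ := exists_hom_of_pair hp2 ρ hρ a b hgen ha hb hnp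
  let fe := MonoidHom.ofInjective hf
  let χS : f.range.comap χ →* f.range :=
    (χ.comp (f.range.comap χ).subtype).codRestrict f.range fun x => x.2
  refine ⟨f.range.comap χ, fe.symm.toMonoidHom.comp χS, fe.symm.surjective.comp ?_⟩
  rintro ⟨y, hy⟩
  obtain ⟨x, rfl⟩ := hfle hy
  exact ⟨⟨x, hy⟩, rfl⟩

end Section2

end Cfsg.Agent.Solv.Quad
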