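import Mathlib.Algebra.Algebra.Subalgebra.Lattice
import Mathlib.RingTheory.IntegralDomain
import Mathlib.LinearAlgebra.Basis.Basic
import Cfsg.Agent.Lib.Solv.QuadraticPair

/-!
A quadratic pair which is not a `p`-group has a natural `SL(2, p)`-module as a section.
-/

set_option autoImplicit false
set_option linter.style.haveILetI false
set_option linter.unusedSectionVars false

universe u v

namespace Cfsg.Agent.Solv.Quad

open Module

variable {p : ℕ} [Fact p.Prime]

/-- A subgroup with a section on which it acts as `SL(2, p)` on its natural module. -/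
def NatSec {X : Type v} [Group X] {W : Type u} [AddCommGroup W] [Module (ZMod p) W]
    (ρ : X →* (W ≃ₗ[ZMod p] W)) : Prop :=
  ∃ (S : Subgroup X) (W1 : Submodule (ZMod p) W) (u0 u1 : W)
    (χ : S →* Matrix.SpecialLinearGroup (Fin 2) (ZMod p)), Function.Surjective χ ∧
    (∀ s ∈ S, ∀ w ∈ W1, ρ s w ∈ W1) ∧
    (∀ c d : ZMod p, c • u0 + d • u1 ∈ W1 → c = 0 ∧ d = 0) ∧
    ∀ s : S,
      ρ (s : X) u0 - ((χ s : Matrix (Fin 2) (Fin 2) (ZMod p)) 0 0 • u0 +
        (χ s : Matrix (Fin 2) (Fin 2) (ZMod p)) 1 0 • u1) ∈ W1 ∧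
      ρ (s : X) u1 - ((χ s : Matrix (Fin 2) (Fin 2) (ZMod p)) 0 1 • u0 +
        (χ s : Matrix (Fin 2) (Fin 2) (ZMod p)) 1 1 • u1) ∈ W1

theorem eq_negI_of_sq {F : Type*} [Field F] [CharP F p] (hp2 : p ≠ 2)
    {g : Matrix.SpecialLinearGroup (Fin 2) F} (h : g * g = 1) (hg : g ≠ 1) : g = Dickson.negI := by
  by_contra hne
  have hns := Dickson.not_scalar hg hne
  have h1 := Cfsg.Agent.Classical.SL2.sq_eq (g : Matrix (Fin 2) (Fin 2) F)
  rw [← Dickson.val_mul, h, Dickson.val_one, g.2, one_smul] at h1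
  by_cases ht : (g : Matrix (Fin 2) (Fin 2) F).trace = 0
  · rw [ht, zero_smul, zero_sub] at h1
    have := congrFun (congrFun h1 0) 0
    simp at this
    exact Dickson.two_ne (F := F) hp2 (by linear_combination this)
  · refine hns ⟨2 / (g : Matrix (Fin 2) (Fin 2) F).trace, ?_⟩
    rw [div_eq_inv_mul, mul_smul]
    have h2 : (g : Matrix (Fin 2) (Fin 2) F).trace • (g : Matrix (Fin 2) (Fin 2) F) =
        (2 : F) • (1 : Matrix (Fin 2) (Fin 2) F) := by
      rw [two_smul]; exact eq_add_of_sub_eq h1.symm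
    rw [← h2, inv_smul_smul₀ ht]

variable {X : Type v} [Group X] [Finite X]

/-- Two quadratic elements whose product negates a vector span a natural section. -/
theorem natSec_of_plane (hp2 : p ≠ 2) {W : Type u} [AddCommGroup W] [Module (ZMod p) W]
    [Finite W] (ρ : X →* (W ≃ₗ[ZMod p] W)) (xa xb : X) (hqa : IsQuad (ρ xa)) (hqb : IsQuad (ρ xb))
    (w : W) (hw0' : w ≠ 0) (habw : ρ xa (ρ xb w) = -w) : NatSec ρ := by
  haveI : Module.Finite (ZMod p) W := Module.Finite.of_finite
  set d := ρ xa w with hd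
  have haad : ρ xa d = (2 : ZMod p) • d - w := by
    have := hqa w
    rw [map_sub, sub_eq_iff_eq_add] at this
    rw [hd, this, two_smul]; abel
  have hbw : ρ xb w = d - (2 : ZMod p) • w := by
    apply (ρ xa).injective
    rw [habw, map_sub, map_smul, haad, ← hd]; abel
  have hbbw : ρ xb (ρ xb w) = (2 : ZMod p) • ρ xb w - w := by
    have := hqb w
    rw [map_sub, sub_eq_iff_eq_add] at this
    rw [this, two_smul]; abel
  have hbd' : ρ xb d = (4 : ZMod p) • ρ xb w - w := by
    have h3 : ρ xb (d - (2 : ZMod p) • w) = (2 : ZMod p) • ρ xb w - w := by rw [← hbw]; exact hbbw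
    rw [map_sub, map_smul, sub_eq_iff_eq_add] at h3
    rw [h3, show (4 : ZMod p) = 2 + 2 by norm_num, add_smul]; abel
  have h20 := Dickson.two_ne (F := ZMod p) hp2
  have hli : ∀ c e : ZMod p, c • w + e • d = 0 → c = 0 ∧ e = 0 := by
    intro c e hce
    by_cases he : e = 0
    · rw [he, zero_smul, add_zero, smul_eq_zero] at hce
      exact ⟨hce.resolve_right hw0', he⟩
    · exfalso
      have hdw : d = (-(e⁻¹ * c)) • w := by
        have h3 := congrArg (fun v => e⁻¹ • v) hce
        simp only [smul_add, smul_smul, inv_mul_cancel₀ he, one_smul, smul_zero] at h3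
        rw [neg_smul]; exact eq_neg_of_add_eq_zero_right h3
      set t := -(e⁻¹ * c)
      rw [hdw, map_smul, ← hd, hdw, smul_smul, smul_smul, ← sub_eq_zero] at haad
      have h4 : ((t - 1) * (t - 1)) • w = (0 : W) := by
        rw [← haad]
        module
      have ht := sub_eq_zero.mp (mul_self_eq_zero.mp ((smul_eq_zero.mp h4).resolve_right hw0'))
      rw [hdw, ht, one_smul] at hbw hbd'
      rw [hbw, ← sub_eq_zero] at hbd'
      have h5 : ((2 : ZMod p) * 2) • w = (0 : W) := by
        rw [← hbd']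
        module
      exact mul_ne_zero h20 h20 ((smul_eq_zero.mp h5).resolve_right hw0')
  -- the plane and its action
  have hind : LinearIndependent (ZMod p) ![w, d] := by
    rw [LinearIndependent.pair_iff]; exact hli
  set U2 := Submodule.span (ZMod p) (Set.range ![w, d]) with hU2
  have hwU : w ∈ U2 := Submodule.subset_span ⟨0, rfl⟩
  have hdU : d ∈ U2 := Submodule.subset_span ⟨1, rfl⟩
  have hpair : U2 = Submodule.span (ZMod p) {w, d} := by
    rw [hU2, Matrix.range_cons, Matrix.range_cons, Matrix.range_empty, Set.union_empty,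
      Set.singleton_union]
  have hst : ∀ x, ρ x w ∈ U2 → ρ x d ∈ U2 → ρ x ∈ stab U2 := by
    intro x hxw hxd
    have hle : ∀ v ∈ U2, ρ x v ∈ U2 := fun v hv => by
      rw [hpair] at hv
      obtain ⟨c, e, rfl⟩ := Submodule.mem_span_pair.mp hv
      rw [map_add, map_smul, map_smul]
      exact U2.add_mem (U2.smul_mem c hxw) (U2.smul_mem e hxd)
    intro v
    refine ⟨hle v, fun hv => ?_⟩
    have hmle : U2.map ((ρ x : W ≃ₗ[ZMod p] W) : W →ₗ[ZMod p] W) ≤ U2 := by
      rintro _ ⟨y, hy, rfl⟩; exact hle y hy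
    rw [← Submodule.eq_of_le_of_finrank_eq hmle (LinearEquiv.finrank_map_eq _ U2)] at hv
    obtain ⟨y, hy, hye⟩ := hv
    rwa [← (ρ x).injective hye]
  have hbwU : ρ xb w ∈ U2 := hbw ▸ U2.sub_mem hdU (U2.smul_mem _ hwU)
  set S := Subgroup.closure ({xa, xb} : Set X) with hS
  have hSle : S ≤ (stab U2).comap ρ := (Subgroup.closure_le _).mpr (by
    rintro y (rfl | rfl)
    · exact hst _ hdU (haad ▸ U2.sub_mem (U2.smul_mem _ hdU) hwU)
    · exact hst _ hbwU (hbd' ▸ U2.sub_mem (U2.smul_mem _ hbwU) hwU))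
  let θ : S →* (U2 ≃ₗ[ZMod p] U2) :=
    (resHom U2).comp ((ρ.comp S.subtype).codRestrict (stab U2) fun s => hSle s.2)
  let b2 : Basis (Fin 2) (ZMod p) U2 := Basis.span hind
  have hb20 : (b2 0 : W) = w := Basis.coe_span_apply hind 0
  have hb21 : (b2 1 : W) = d := Basis.coe_span_apply hind 1
  let xaS : S := ⟨xa, Subgroup.subset_closure (by simp)⟩
  let xbS : S := ⟨xb, Subgroup.subset_closure (by simp)⟩
  have hθa : IsQuad (θ xaS) := isQuad_res _ hqa
  have hθb : IsQuad (θ xbS) := isQuad_res _ hqb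
  have hgS : Subgroup.closure ({xaS, xbS} : Set S) = ⊤ := closure_pair_top xa xb
  have hdet1' : ∀ g : U2 ≃ₗ[ZMod p] U2, g ^ p = 1 → LinearEquiv.det g = 1 := by
    intro g hg
    have h := congrArg (LinearEquiv.det (R := ZMod p) (M := U2)) hg
    rw [map_pow, map_one] at h
    refine Units.ext (frobenius_inj (ZMod p) p ?_)
    rw [frobenius_def, frobenius_def, ← Units.val_pow_eq_pow_val, h, Units.val_one, one_pow]
  have hdetS : ∀ s : S,
      (LinearMap.toMatrixAlgEquiv b2 ((θ s : U2 ≃ₗ[ZMod p] U2) : U2 →ₗ[ZMod p] U2)).det = 1 := by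
    intro s
    rw [LinearMap.toMatrixAlgEquiv, AlgEquiv.ofLinearEquiv_apply, LinearMap.det_toMatrix,
      ← LinearEquiv.coe_det]
    have hmem : s ∈ ((LinearEquiv.det (R := ZMod p) (M := U2)).comp θ).ker := by
      have hx : s ∈ Subgroup.closure ({xaS, xbS} : Set S) := hgS ▸ Subgroup.mem_top s
      refine (Subgroup.closure_le _).mpr ?_ hx
      rintro y (rfl | rfl)
      · exact hdet1' _ hθa.pow_char
      · exact hdet1' _ hθb.pow_char
    exact congrArg Units.val hmem
  let χ : S →* Matrix.SpecialLinearGroup (Fin 2) (ZMod p) :=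
    { toFun := fun s => ⟨_, hdetS s⟩
      map_one' := Subtype.ext (by
        change LinearMap.toMatrixAlgEquiv b2 ((θ 1 : U2 ≃ₗ[ZMod p] U2) : U2 →ₗ[ZMod p] U2) = 1
        rw [map_one]
        exact map_one (LinearMap.toMatrixAlgEquiv b2))
      map_mul' := fun x y => Subtype.ext (by
        change LinearMap.toMatrixAlgEquiv b2 ((θ (x * y) : U2 ≃ₗ[ZMod p] U2) : U2 →ₗ[ZMod p] U2) = _
        rw [map_mul]
        exact map_mul (LinearMap.toMatrixAlgEquiv b2) _ _) }
  have hχp : ∀ s, IsQuad (θ s) → χ s ^ p = 1 := fun s hs => by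
    rw [← map_pow]
    refine Subtype.ext ?_
    change LinearMap.toMatrixAlgEquiv b2 ((θ (s ^ p) : U2 ≃ₗ[ZMod p] U2) : U2 →ₗ[ZMod p] U2) = 1
    rw [map_pow, hs.pow_char]
    exact map_one (LinearMap.toMatrixAlgEquiv b2)
  have hχnc : ¬ Commute (χ xaS) (χ xbS) := by
    intro hc
    rw [commute_iff_eq, ← map_mul, ← map_mul] at hc
    have h3 : ((θ (xaS * xbS) : U2 ≃ₗ[ZMod p] U2) : U2 →ₗ[ZMod p] U2) =
        ((θ (xbS * xaS) : U2 ≃ₗ[ZMod p] U2) : U2 →ₗ[ZMod p] U2) :=
      (LinearMap.toMatrixAlgEquiv b2).injective (congrArg Subtype.val hc)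
    have h4 : ρ (xa * xb) w = ρ (xb * xa) w :=
      congrArg Subtype.val (LinearMap.congr_fun h3 ⟨w, hwU⟩)
    rw [map_mul, map_mul] at h4
    change ρ xa (ρ xb w) = ρ xb (ρ xa w) at h4
    rw [habw, ← hd, hbd', hbw] at h4
    have h5 : ((-8 : ZMod p)) • w + (4 : ZMod p) • d = 0 := by
      rw [← sub_eq_zero.mpr h4.symm]
      module
    have h6 := (hli _ _ h5).2
    exact mul_ne_zero h20 h20 (by linear_combination h6)
  obtain ⟨f', hf', hf'le⟩ := Dickson.exists_SL2 hp2 χ.range ⟨xaS, rfl⟩ ⟨xbS, rfl⟩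
    (hχp _ hθa) (hχp _ hθb) hχnc
  have hsurj : Function.Surjective χ := fun g => by
    obtain ⟨y, hy⟩ := (Finite.injective_iff_surjective.mp hf') g
    exact hf'le ⟨y, hy⟩
  refine ⟨S, ⊥, w, d, χ, hsurj, fun s _ v hv => ?_, fun c e h => hli c e ((Submodule.mem_bot _).mp h),
    fun s => ?_⟩
  · rw [Submodule.mem_bot] at hv
    rw [hv, map_zero]
    exact Submodule.zero_mem _
  · have hcol : ∀ j, ρ (s : X) (b2 j : W) =
        (χ s : Matrix (Fin 2) (Fin 2) (ZMod p)) 0 j • w +
        (χ s : Matrix (Fin 2) (Fin 2) (ZMod p)) 1 j • d := by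
      intro j
      have h3 := b2.sum_repr (θ s (b2 j))
      rw [Fin.sum_univ_two] at h3
      have h4 : ∀ i, (χ s : Matrix (Fin 2) (Fin 2) (ZMod p)) i j = b2.repr (θ s (b2 j)) i := fun i =>
        LinearMap.toMatrixAlgEquiv_apply b2 _ i j
      rw [h4, h4, ← hb20, ← hb21]
      exact (congrArg Subtype.val h3).symm
    have e0 := hcol 0
    have e1 := hcol 1
    rw [hb20] at e0
    rw [hb21] at e1
    exact ⟨by rw [e0, sub_self]; exact Submodule.zero_mem _, by rw [e1, sub_self]; exact Submodule.zero_mem _⟩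


/-- A two-dimensional faithful quadratic pair over a finite field gives a natural section. -/
theorem natSec_of_field (hp2 : p ≠ 2) {W : Type u} [AddCommGroup W] [Module (ZMod p) W]
    [Finite W] [Nontrivial W] (ρ : X →* (W ≃ₗ[ZMod p] W)) (a b : X)
    (hgen : Subgroup.closure ({a, b} : Set X) = ⊤) (ha : IsQuad (ρ a)) (hb : IsQuad (ρ b))
    (hnp : ¬ IsPGroup p ρ.range) {F : Type*} [Field F] [Fintype F] [CharP F p] [Module F W]
    [Module.Finite F W] (σ : X →* (W ≃ₗ[F] W)) (hσ : ∀ x w, σ x w = ρ x w)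
    (h2 : finrank F W = 2) : NatSec ρ := by
  classical
  let bas : Basis (Fin 2) F W := Module.finBasisOfFinrankEq F W h2
  have hquad : ∀ x, IsQuad (ρ x) → IsQuad (σ x) := fun x h w => by
    rw [hσ, hσ]; exact h w
  have hdet1 : ∀ g : W ≃ₗ[F] W, g ^ p = 1 → LinearEquiv.det g = 1 := by
    intro g hg
    have h := congrArg (LinearEquiv.det (R := F) (M := W)) hg
    rw [map_pow, map_one] at h
    refine Units.ext (frobenius_inj F p ?_)
    rw [frobenius_def, frobenius_def, ← Units.val_pow_eq_pow_val, h, Units.val_one, one_pow]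
  have hdet : ∀ x : X, (LinearMap.toMatrixAlgEquiv bas ((σ x : W ≃ₗ[F] W) : W →ₗ[F] W)).det = 1 := by
    intro x
    rw [LinearMap.toMatrixAlgEquiv, AlgEquiv.ofLinearEquiv_apply, LinearMap.det_toMatrix,
      ← LinearEquiv.coe_det]
    have hmem : x ∈ ((LinearEquiv.det (R := F) (M := W)).comp σ).ker := by
      have hx : x ∈ Subgroup.closure ({a, b} : Set X) := hgen ▸ Subgroup.mem_top x
      refine (Subgroup.closure_le _).mpr ?_ hx
      rintro y (rfl | rfl)
      · exact hdet1 _ ((hquad _ ha).pow_char)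
      · exact hdet1 _ ((hquad _ hb).pow_char)
    exact congrArg Units.val hmem
  let τ : X →* Matrix.SpecialLinearGroup (Fin 2) F :=
    { toFun := fun x => ⟨_, hdet x⟩
      map_one' := Subtype.ext (by
        change LinearMap.toMatrixAlgEquiv bas ((σ 1 : W ≃ₗ[F] W) : W →ₗ[F] W) = 1
        rw [map_one]
        exact map_one (LinearMap.toMatrixAlgEquiv bas))
      map_mul' := fun x y => Subtype.ext (by
        change LinearMap.toMatrixAlgEquiv bas ((σ (x * y) : W ≃ₗ[F] W) : W →ₗ[F] W) = _
        rw [map_mul]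
        exact map_mul (LinearMap.toMatrixAlgEquiv bas) _ _) }
  have hker : ∀ x, τ x = 1 → ρ x = 1 := fun x hx => LinearEquiv.ext fun w => by
    have h3 : ((σ x : W ≃ₗ[F] W) : W →ₗ[F] W) = 1 :=
      (LinearMap.toMatrixAlgEquiv bas).injective
        ((congrArg Subtype.val hx).trans (map_one (LinearMap.toMatrixAlgEquiv bas)).symm)
    exact (hσ x w).symm.trans (LinearMap.congr_fun h3 w)
  have hpow : ∀ x, IsQuad (ρ x) → τ x ^ p = 1 := fun x hx => by
    rw [← map_pow]
    refine Subtype.ext ?_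
    change LinearMap.toMatrixAlgEquiv bas ((σ (x ^ p) : W ≃ₗ[F] W) : W →ₗ[F] W) = 1
    rw [map_pow, (hquad x hx).pow_char]
    exact map_one (LinearMap.toMatrixAlgEquiv bas)
  have hnc : ¬ Commute (τ a) (τ b) := by
    intro hc
    apply hnp
    have hp' : IsPGroup p τ.range := by
      rw [range_eq_closure_pair τ hgen]
      haveI hcomm := Subgroup.isMulCommutative_closure (k := ({τ a, τ b} : Set _)) (by
        rintro y (rfl | rfl) z (rfl | rfl)
        exacts [rfl, hc.eq, hc.eq.symm, rfl])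
      rintro ⟨y, hy⟩
      refine ⟨1, Subtype.ext ?_⟩
      rw [pow_one]
      change y ^ p = 1
      induction hy using Subgroup.closure_induction with
      | mem z hz => rcases hz with rfl | rfl; exacts [hpow a ha, hpow b hb]
      | one => exact one_pow p
      | mul y z hy hz ihy ihz =>
        have hyz : Commute y z :=
          congrArg Subtype.val (hcomm.is_comm.comm ⟨y, hy⟩ ⟨z, hz⟩)
        rw [hyz.mul_pow, ihy, ihz, one_mul]
      | inv y _ ih => rw [inv_pow, ih, inv_one]
    rintro ⟨_, x, rfl⟩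
    obtain ⟨k, hk⟩ := hp' ⟨_, x, rfl⟩
    refine ⟨k, Subtype.ext ?_⟩
    rw [SubgroupClass.coe_pow, OneMemClass.coe_one, ← map_pow]
    apply hker
    rw [map_pow]
    exact congrArg Subtype.val hk
  obtain ⟨f, hf, hfle⟩ := Dickson.exists_SL2 hp2 τ.range ⟨a, rfl⟩ ⟨b, rfl⟩ (hpow a ha) (hpow b hb) hnc
  -- elements of order `p` act quadratically
  have hquadp : ∀ x, τ x ^ p = 1 → IsQuad (ρ x) := by
    intro x hx w
    have h3 := Dickson.sub_one_sq (τ x)
    rw [(Dickson.pow_p_eq_one_iff hp2 _).mp hx, sub_self, zero_smul, pow_two] at h3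
    have h4 : (((σ x : W ≃ₗ[F] W) : W →ₗ[F] W) - 1) * (((σ x : W ≃ₗ[F] W) : W →ₗ[F] W) - 1) = 0 := by
      apply (LinearMap.toMatrixAlgEquiv bas).injective
      rw [map_mul, map_sub, map_one, map_zero]
      exact h3
    have h5 := sub_eq_zero.mp (LinearMap.congr_fun h4 w)
    change σ x (σ x w - w) = σ x w - w at h5
    rwa [hσ, hσ] at h5
  set la : Matrix.SpecialLinearGroup (Fin 2) (ZMod p) := Dickson.up 1
  set lb : Matrix.SpecialLinearGroup (Fin 2) (ZMod p) := Dickson.low (-4)
  set lz : Matrix.SpecialLinearGroup (Fin 2) (ZMod p) := Dickson.negI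
  obtain ⟨xa, hxa⟩ := hfle ⟨la, rfl⟩
  obtain ⟨xb, hxb⟩ := hfle ⟨lb, rfl⟩
  obtain ⟨xg, hxg⟩ := hfle ⟨lz * (la * lb), rfl⟩
  have hla : la ^ p = 1 := Dickson.up_pow_p hp2 1
  have hlb : lb ^ p = 1 := by
    rw [Dickson.pow_p_eq_one_iff hp2, Dickson.trace_eq]; simp [lb]; norm_num
  have hlg : (lz * (la * lb)) ^ p = 1 := by
    rw [Dickson.pow_p_eq_one_iff hp2, Dickson.trace_eq, Dickson.neg_coe]
    simp [la, lb, Matrix.mul_apply, Fin.sum_univ_two]
    norm_num
  have hqa : IsQuad (ρ xa) := hquadp xa (by rw [hxa, ← map_pow, hla, map_one])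
  have hqb : IsQuad (ρ xb) := hquadp xb (by rw [hxb, ← map_pow, hlb, map_one])
  have hqg : IsQuad (ρ xg) := hquadp xg (by rw [hxg, ← map_pow, hlg, map_one])
  have hz2 : lz * lz = 1 := Dickson.sl_ext (by rw [Dickson.neg_coe, Dickson.negI_coe, neg_neg]; rfl)
  have hfz : f lz = Dickson.negI := by
    refine eq_negI_of_sq hp2 (by rw [← map_mul, hz2, map_one]) fun h => ?_
    have h3 := congrArg (fun g : Matrix.SpecialLinearGroup (Fin 2) (ZMod p) =>
      (g : Matrix (Fin 2) (Fin 2) (ZMod p)) 0 0) (hf (h.trans (map_one f).symm))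
    simp [lz, Dickson.negI_coe] at h3
    exact Dickson.two_ne (F := ZMod p) hp2 (by linear_combination -h3)
  have hprod : ∀ v, ρ (xa * xb) v = -(ρ xg v) := by
    intro v
    have h3 : τ (xa * xb) = Dickson.negI * τ xg := by
      rw [map_mul, hxa, hxb, hxg, map_mul, map_mul, hfz, ← mul_assoc Dickson.negI]
      rw [show (Dickson.negI : Matrix.SpecialLinearGroup (Fin 2) F) * Dickson.negI = 1 from
        Dickson.sl_ext (by rw [Dickson.neg_coe, Dickson.negI_coe, neg_neg]; rfl), one_mul]
    have h4 : ((σ (xa * xb) : W ≃ₗ[F] W) : W →ₗ[F] W) = -((σ xg : W ≃ₗ[F] W) : W →ₗ[F] W) := by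
      apply (LinearMap.toMatrixAlgEquiv bas).injective
      rw [map_neg]
      exact (congrArg Subtype.val h3).trans (Dickson.neg_coe _)
    exact (hσ _ v).symm.trans ((LinearMap.congr_fun h4 v).trans (congrArg Neg.neg (hσ xg v)))
  obtain ⟨w, hw0', hgw⟩ : ∃ w : W, w ≠ 0 ∧ ρ xg w = w := by
    by_cases h : ∀ v, ρ xg v - v = 0
    · obtain ⟨w, hw⟩ := exists_ne (0 : W)
      exact ⟨w, hw, sub_eq_zero.mp (h w)⟩
    · push Not at h
      obtain ⟨v, hv⟩ := h
      exact ⟨_, hv, hqg v⟩
  have habw : ρ xa (ρ xb w) = -w := by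
    have := hprod w
    rw [map_mul, hgw] at this
    exact this
  exact natSec_of_plane hp2 ρ xa xb hqa hqb w hw0' habw

theorem natSec_of_irreducible (hp2 : p ≠ 2) {W : Type u} [AddCommGroup W] [Module (ZMod p) W]
    [Finite W] [Nontrivial W] (ρ : X →* (W ≃ₗ[ZMod p] W)) (a b : X)
    (hgen : Subgroup.closure ({a, b} : Set X) = ⊤) (ha : IsQuad (ρ a)) (hb : IsQuad (ρ b))
    (hnp : ¬ IsPGroup p ρ.range)
    (hirr : ∀ U : Submodule (ZMod p) W, (∀ x ∈ U, ρ a x ∈ U) → (∀ x ∈ U, ρ b x ∈ U) → U = ⊥ ∨ U = ⊤) :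
    NatSec ρ := by
  classical
  haveI : Module.Finite (ZMod p) W := Module.Finite.of_finite
  let E : X → Module.End (ZMod p) W := fun x => ((ρ x : W ≃ₗ[ZMod p] W) : W →ₗ[ZMod p] W)
  have hE : ∀ x y, E (x * y) = E x * E y := fun x y => LinearMap.ext fun w => by
    change ρ (x * y) w = ρ x (ρ y w)
    rw [map_mul]; rfl
  have hE1 : E 1 = 1 := LinearMap.ext fun w => by
    change ρ 1 w = w
    rw [map_one]; rfl
  set α := E a - 1 with hα
  set β := E b - 1 with hβ
  have hα2 : α * α = 0 := LinearMap.ext fun v => by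
    change ρ a (ρ a v - v) - (ρ a v - v) = 0
    rw [ha, sub_self]
  have hβ2 : β * β = 0 := LinearMap.ext fun v => by
    change ρ b (ρ b v - v) - (ρ b v - v) = 0
    rw [hb, sub_self]
  set Z := α * β + β * α with hZ
  have hZα : Commute Z α := by
    change Z * α = α * Z
    rw [hZ, add_mul, mul_add, mul_assoc β α α, hα2, mul_zero, add_zero, ← mul_assoc α α β, hα2,
      zero_mul, zero_add, mul_assoc]
  have hZβ : Commute Z β := by
    change Z * β = β * Z
    rw [hZ, add_mul, mul_add, mul_assoc α β β, hβ2, mul_zero, zero_add, ← mul_assoc β β α, hβ2,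
      zero_mul, add_zero, mul_assoc]
  have hZX : ∀ x : X, Commute Z (E x) := by
    intro x
    have hx : x ∈ Subgroup.closure ({a, b} : Set X) := hgen ▸ Subgroup.mem_top x
    induction hx using Subgroup.closure_induction with
    | mem y hy =>
      rcases hy with rfl | rfl
      · have e : E y = α + 1 := (sub_add_cancel _ _).symm
        rw [e]; exact hZα.add_right (Commute.one_right Z)
      · have e : E y = β + 1 := (sub_add_cancel _ _).symm
        rw [e]; exact hZβ.add_right (Commute.one_right Z)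
    | one => rw [hE1]; exact Commute.one_right Z
    | mul y z _ _ hy hz => rw [hE]; exact hy.mul_right hz
    | inv y _ hy =>
      have h1 : E y * E y⁻¹ = 1 := by rw [← hE, mul_inv_cancel, hE1]
      have h2 : E y⁻¹ * E y = 1 := by rw [← hE, inv_mul_cancel, hE1]
      change Z * E y⁻¹ = E y⁻¹ * Z
      calc Z * E y⁻¹ = E y⁻¹ * E y * (Z * E y⁻¹) := by rw [h2, one_mul]
        _ = E y⁻¹ * (E y * Z) * E y⁻¹ := by simp only [mul_assoc]
        _ = E y⁻¹ * (Z * E y) * E y⁻¹ := by rw [hy.eq]
        _ = E y⁻¹ * Z * (E y * E y⁻¹) := by simp only [mul_assoc]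
        _ = E y⁻¹ * Z := by rw [h1, mul_one]
  -- the field generated by `Z`
  let F := Algebra.adjoin (ZMod p) ({Z} : Set (Module.End (ZMod p) W))
  have hFcomm : ∀ f : F, ∀ x : X, Commute (f : Module.End (ZMod p) W) (E x) := by
    intro f x
    have hle : F ≤ Subalgebra.centralizer (ZMod p) (Set.range E) := by
      refine Algebra.adjoin_le ?_
      intro z hz
      rw [Set.mem_singleton_iff] at hz
      subst hz
      rw [SetLike.mem_coe, Subalgebra.mem_centralizer_iff]
      rintro _ ⟨y, rfl⟩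
      exact (hZX y).eq.symm
    exact ((Subalgebra.mem_centralizer_iff (R := ZMod p)).mp (hle f.2) _ ⟨x, rfl⟩).symm
  haveI hFm : IsMulCommutative F := Algebra.isMulCommutative_adjoin (ZMod p) (by
    intro x hx y hy
    rw [Set.mem_singleton_iff] at hx hy
    rw [hx, hy])
  letI : CommRing F := { (inferInstance : Ring F) with mul_comm := fun x y => hFm.is_comm.comm x y }
  haveI : Finite (Module.End (ZMod p) W) := Finite.of_injective (fun f => (f : W → W)) DFunLike.coe_injective
  haveI : Finite F := Finite.of_injective (Subtype.val : F → Module.End (ZMod p) W) Subtype.val_injective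
  have hinj : ∀ f : F, f ≠ 0 → Function.Injective (f : Module.End (ZMod p) W) := by
    intro f hf
    rw [← LinearMap.ker_eq_bot]
    have hinv : ∀ x : X, ∀ w ∈ LinearMap.ker (f : Module.End (ZMod p) W),
        ρ x w ∈ LinearMap.ker (f : Module.End (ZMod p) W) := by
      intro x w hw
      have h := LinearMap.congr_fun (hFcomm f x).eq w
      rw [LinearMap.mem_ker] at hw ⊢
      change (f : Module.End (ZMod p) W) (ρ x w) = E x ((f : Module.End (ZMod p) W) w) at h
      rw [h, hw, map_zero]
    rcases hirr _ (hinv a) (hinv b) with h | h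
    · exact h
    · exact absurd (Subtype.ext (LinearMap.ker_eq_top.mp h)) hf
  haveI : Nontrivial F := ⟨⟨0, 1, fun h => by
    obtain ⟨w, hw⟩ := exists_ne (0 : W)
    exact hw (LinearMap.congr_fun (congrArg Subtype.val h) w).symm⟩⟩
  haveI : NoZeroDivisors F := ⟨fun {x y} h => by
    by_contra hne
    push Not at hne
    obtain ⟨w, hw⟩ := exists_ne (0 : W)
    have h1 : ((x : Module.End (ZMod p) W) * (y : Module.End (ZMod p) W)) w = 0 := by
      rw [← MulMemClass.coe_mul, h]; rfl
    have h2 : (y : Module.End (ZMod p) W) w = 0 :=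
      hinj x hne.1 (h1.trans (map_zero _).symm)
    exact hw (hinj y hne.2 (h2.trans (map_zero _).symm))⟩
  haveI : IsDomain F := NoZeroDivisors.to_isDomain F
  letI : Field F := (Finite.isField_of_domain F).toField
  letI : Fintype F := Fintype.ofFinite F
  haveI : CharP F p := charP_of_injective_algebraMap (algebraMap (ZMod p) F).injective p
  have hsmul : ∀ (f : F) (w : W), f • w = (f : Module.End (ZMod p) W) w := fun _ _ => rfl
  have hlin : ∀ (x : X) (f : F) (w : W), ρ x (f • w) = f • ρ x w := fun x f w =>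
    (LinearMap.congr_fun (hFcomm f x).eq w).symm
  let σ : X →* (W ≃ₗ[F] W) :=
    { toFun := fun x => { (ρ x).toAddEquiv with map_smul' := hlin x }
      map_one' := LinearEquiv.ext fun w => by
        change ρ 1 w = w
        rw [map_one]; rfl
      map_mul' := fun x y => LinearEquiv.ext fun w => by
        change ρ (x * y) w = ρ x (ρ y w)
        rw [map_mul]; rfl }
  have hσ : ∀ x w, σ x w = ρ x w := fun _ _ => rfl
  -- a fixed vector of `a`
  obtain ⟨w0, hw0, haw0⟩ : ∃ w0 : W, w0 ≠ 0 ∧ ρ a w0 = w0 := by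
    by_cases h : ∀ v, ρ a v - v = 0
    · obtain ⟨w, hw⟩ := exists_ne (0 : W)
      exact ⟨w, hw, sub_eq_zero.mp (h w)⟩
    · push Not at h
      obtain ⟨v, hv⟩ := h
      exact ⟨_, hv, ha v⟩
  set w1 := ρ b w0 - w0 with hw1
  have hbw1 : ρ b w1 = w1 := hb w0
  have hαw1 : ρ a w1 = w1 + (⟨Z, Algebra.subset_adjoin rfl⟩ : F) • w0 := by
    rw [hsmul]
    change ρ a w1 = w1 + (α (β w0) + β (α w0))
    have e1 : α w0 = 0 := by
      change ρ a w0 - w0 = 0
      rw [haw0, sub_self]
    rw [e1, map_zero, add_zero]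
    change ρ a w1 = w1 + (ρ a w1 - w1)
    abel
  set U := Submodule.span F ({w0, w1} : Set W) with hU
  have hw0U : w0 ∈ U := Submodule.subset_span (by simp)
  have hw1U : w1 ∈ U := Submodule.subset_span (by simp)
  have hUtop : U = ⊤ := by
    have hinvU : ∀ x : X, σ x w0 ∈ U → σ x w1 ∈ U →
        ∀ v ∈ U.restrictScalars (ZMod p), ρ x v ∈ U.restrictScalars (ZMod p) := by
      intro x h0 h1 v hv
      obtain ⟨c, d, rfl⟩ := Submodule.mem_span_pair.mp hv
      change ρ x (c • w0 + d • w1) ∈ U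
      rw [map_add, hlin, hlin]
      exact U.add_mem (U.smul_mem c h0) (U.smul_mem d h1)
    rcases hirr (U.restrictScalars (ZMod p))
      (hinvU a (by rw [hσ, haw0]; exact hw0U)
        (by rw [hσ, hαw1]; exact U.add_mem hw1U (U.smul_mem _ hw0U)))
      (hinvU b (by rw [hσ, show ρ b w0 = w1 + w0 by rw [hw1, sub_add_cancel]]; exact U.add_mem hw1U hw0U)
        (by rw [hσ, hbw1]; exact hw1U)) with h | h
    · have hm : w0 ∈ U.restrictScalars (ZMod p) := hw0U
      rw [h, Submodule.mem_bot] at hm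
      exact absurd hm hw0
    · exact (Submodule.restrictScalars_eq_top_iff (ZMod p) F W).mp h
  haveI : Module.Finite F W := Module.Finite.of_finite
  have hrank2 : finrank F W ≤ 2 := by
    have h1 : U = Submodule.span F ((({w0, w1} : Finset W) : Set W)) := by simp [hU]
    rw [← finrank_top F W, ← hUtop, h1]
    exact (finrank_span_finset_le_card _).trans Finset.card_le_two
  rcases lt_or_eq_of_le hrank2 with h1 | h2
  · exfalso
    have hf1 : finrank F W = 1 := by
      have : 0 < finrank F W := finrank_pos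
      omega
    have hs := (finrank_eq_one_iff_of_nonzero' w0 hw0).mp hf1
    obtain ⟨d, hd⟩ := hs (ρ b w0)
    have hd1 : d = 1 := by
      have := hb w0
      rw [← hd, map_sub, hlin, ← hd, ← sub_eq_zero] at this
      have h5 : ((d - 1) * (d - 1)) • w0 = (0 : W) := by
        rw [← this]
        simp only [sub_mul, mul_sub, sub_smul, smul_smul, one_mul, mul_one, one_smul]
      exact sub_eq_zero.mp (mul_self_eq_zero.mp ((smul_eq_zero.mp h5).resolve_right hw0))
    rw [hd1, one_smul] at hd
    have hone : ∀ x : X, ρ x = 1 := by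
      intro x
      have hx : x ∈ Subgroup.closure ({a, b} : Set X) := hgen ▸ Subgroup.mem_top x
      induction hx using Subgroup.closure_induction with
      | mem y hy =>
        refine LinearEquiv.ext fun w => ?_
        obtain ⟨t, rfl⟩ := hs w
        rw [hlin]
        rcases hy with rfl | rfl
        · rw [haw0]; rfl
        · rw [← hd]; rfl
      | one => exact map_one ρ
      | mul y z _ _ hy hz => rw [map_mul, hy, hz, one_mul]
      | inv y _ hy => rw [map_inv, hy, inv_one]
    refine hnp fun g => ⟨0, ?_⟩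
    obtain ⟨x, hx⟩ := g.2
    rw [pow_zero, pow_one]
    exact Subtype.ext (by rw [← hx, hone]; rfl)
  · exact natSec_of_field hp2 ρ a b hgen ha hb hnp σ hσ h2

/-- A quadratic pair which is not a `p`-group has a natural section. -/
theorem natSec_of_pair (hp2 : p ≠ 2) : ∀ (n : ℕ) {W : Type u} [AddCommGroup W] [Module (ZMod p) W]
    [Finite W], finrank (ZMod p) W ≤ n → ∀ (ρ : X →* (W ≃ₗ[ZMod p] W)) (a b : X),
    Subgroup.closure ({a, b} : Set X) = ⊤ → IsQuad (ρ a) → IsQuad (ρ b) → ¬ IsPGroup p ρ.range →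
    NatSec ρ := by
  intro n
  induction n with
  | zero =>
    intro W _ _ _ hn ρ a b _ _ _ hnp
    exfalso
    haveI : Module.Finite (ZMod p) W := Module.Finite.of_finite
    haveI : Subsingleton W := Module.finrank_zero_iff.mp (Nat.le_zero.mp hn)
    exact hnp fun x => ⟨0, Subtype.ext (LinearEquiv.ext fun _ => Subsingleton.elim _ _)⟩
  | succ n ih =>
    intro W _ _ _ hn ρ a b hgen ha hb hnp
    classical
    haveI : Module.Finite (ZMod p) W := Module.Finite.of_finite
    by_cases hred : ∃ U : Submodule (ZMod p) W, U ≠ ⊥ ∧ U ≠ ⊤ ∧ (∀ x ∈ U, ρ a x ∈ U) ∧ (∀ x ∈ U, ρ b x ∈ U)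
    · obtain ⟨U, hU0, hU1, haU, hbU⟩ := hred
      have hmem : ∀ e : W ≃ₗ[ZMod p] W, (∀ x ∈ U, e x ∈ U) → e ∈ stab U := fun e he x =>
        ⟨he x, fun hx => by
          have hle : U.map (e : W →ₗ[ZMod p] W) ≤ U := by
            rintro _ ⟨y, hy, rfl⟩; exact he y hy
          rw [← Submodule.eq_of_le_of_finrank_eq hle (LinearEquiv.finrank_map_eq e U)] at hx
          obtain ⟨y, hy, hye⟩ := hx
          rwa [← e.injective hye]⟩
      have hle : ∀ x, ρ x ∈ stab U := fun x => by
        have hx : x ∈ Subgroup.closure ({a, b} : Set X) := hgen ▸ Subgroup.mem_top x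
        have : Subgroup.closure ({a, b} : Set X) ≤ (stab U).comap ρ := (Subgroup.closure_le _).mpr (by
          rintro y (rfl | rfl); exacts [hmem _ haU, hmem _ hbU])
        exact this hx
      set ι : X →* stab U := ρ.codRestrict (stab U) hle
      by_cases h1 : IsPGroup p ((resHom U).comp ι).range
      · by_cases h2 : IsPGroup p ((quotHom U).comp ι).range
        · exfalso
          refine hnp fun g => ?_
          obtain ⟨_, x, rfl⟩ := g
          obtain ⟨i, hi⟩ := h1 ⟨_, x, rfl⟩
          obtain ⟨j, hj⟩ := h2 ⟨_, x, rfl⟩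
          refine ⟨i + j + 1, Subtype.ext ?_⟩
          have hi' : ((resHom U).comp ι) (x ^ p ^ (i + j)) = 1 := by
            have := congrArg Subtype.val hi
            simp only [SubgroupClass.coe_pow, OneMemClass.coe_one] at this
            rw [map_pow, pow_add, pow_mul, this, one_pow]
          have hj' : ((quotHom U).comp ι) (x ^ p ^ (i + j)) = 1 := by
            have := congrArg Subtype.val hj
            simp only [SubgroupClass.coe_pow, OneMemClass.coe_one] at this
            rw [map_pow, add_comm, pow_add, pow_mul, this, one_pow]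
          rw [SubgroupClass.coe_pow, OneMemClass.coe_one, pow_succ, pow_mul, ← map_pow]
          set g := x ^ p ^ (i + j) with hg
          have hq : IsQuad (ρ g) := fun w => by
            have hw : ρ g w - w ∈ U := by
              rw [← Submodule.Quotient.eq]
              exact LinearEquiv.congr_fun hj' (Submodule.Quotient.mk w)
            exact congrArg Subtype.val (LinearEquiv.congr_fun hi' ⟨_, hw⟩)
          exact hq.pow_char
        · haveI : Finite (W ⧸ U) := Finite.of_surjective _ (Submodule.Quotient.mk_surjective U)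
          have hn' : finrank (ZMod p) (W ⧸ U) ≤ n := by
            have h3 := U.finrank_quotient_add_finrank
            have h4 : finrank (ZMod p) U ≠ 0 := fun e => hU0 (Submodule.finrank_eq_zero.mp e)
            omega
          obtain ⟨S, W1, u0, u1, χ, hχ, hinv, hindp, hrel⟩ :=
            ih hn' ((quotHom U).comp ι) a b hgen (isQuad_quot _ ha) (isQuad_quot _ hb) h2
          obtain ⟨v0, rfl⟩ := Submodule.Quotient.mk_surjective U u0
          obtain ⟨v1, rfl⟩ := Submodule.Quotient.mk_surjective U u1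
          refine ⟨S, W1.comap U.mkQ, v0, v1, χ, hχ, fun s hs w hw => hinv s hs _ hw,
            fun c e h => hindp c e ?_, fun s => ⟨?_, ?_⟩⟩
          · simpa using h
          · have := (hrel s).1
            simp only [Submodule.mem_comap, map_sub, map_add, map_smul]
            exact this
          · have := (hrel s).2
            simp only [Submodule.mem_comap, map_sub, map_add, map_smul]
            exact this
      · have hn' : finrank (ZMod p) U ≤ n := by
          have h3 := Submodule.finrank_lt hU1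
          omega
        obtain ⟨S, W1, u0, u1, χ, hχ, hinv, hindp, hrel⟩ :=
          ih hn' ((resHom U).comp ι) a b hgen (isQuad_res _ ha) (isQuad_res _ hb) h1
        refine ⟨S, W1.map U.subtype, u0, u1, χ, hχ, ?_, fun c e h => hindp c e ?_, fun s => ⟨?_, ?_⟩⟩
        · rintro s hs _ ⟨w, hw, rfl⟩
          exact ⟨_, hinv s hs w hw, rfl⟩
        · obtain ⟨w, hw, hwe⟩ := h
          rwa [show c • u0 + e • u1 = w from Subtype.ext (by simpa using hwe.symm)]
        · exact ⟨_, (hrel s).1, rfl⟩
        · exact ⟨_, (hrel s).2, rfl⟩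
    · push Not at hred
      by_cases hW : Subsingleton W
      · exfalso
        exact hnp fun x => ⟨0, Subtype.ext (LinearEquiv.ext fun _ => Subsingleton.elim _ _)⟩
      haveI : Nontrivial W := not_subsingleton_iff_nontrivial.mp hW
      refine natSec_of_irreducible hp2 ρ a b hgen ha hb hnp fun U h1 h2 => ?_
      by_contra hne
      push Not at hne
      obtain ⟨x, hx, hbx⟩ := hred U hne.1 hne.2 h1
      exact hbx (h2 x hx)

end Cfsg.Agent.Solv.Quad
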