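import Cfsg.Agent.Lib.Solv.MinimalNonNilpotent

/-!
Nilpotent Hall subgroups: Wielandt's conjugacy theorem and normal complement criteria.
-/

set_option autoImplicit false
set_option linter.style.haveILetI false

namespace Cfsg.Agent.Solv

open Subgroup Cfsg
open scoped Pointwise commutatorElement

universe u

variable {G : Type u} [Group G]

theorem not_dvd_index_of_hall [Finite G] {H : Subgroup G}
    (hHall : (Nat.card H).Coprime H.index) {p : ℕ} (hp : p.Prime) (hd : p ∣ Nat.card H) :
    ¬ p ∣ H.index := fun h => hp.one_lt.ne' (Nat.eq_one_of_dvd_coprimes hHall hd h)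

/-- A Hall subgroup contains a Sylow subgroup for each of its primes. -/
theorem exists_sylow_le_of_not_dvd [Finite G] {H : Subgroup G} {p : ℕ} [Fact p.Prime]
    (h : ¬ p ∣ H.index) (X : Sylow p H) :
    ∃ P : Sylow p G, (P : Subgroup G) = (X : Subgroup H).map H.subtype := by
  have hi : ¬ p ∣ ((X : Subgroup H).map H.subtype).index := by
    rw [index_map_subtype]
    exact fun hd => ((Fact.out : p.Prime).dvd_mul.mp hd).elim X.not_dvd_index h
  exact ⟨(X.isPGroup'.map H.subtype).toSylow hi, IsPGroup.toSylow_coe _ _⟩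

theorem nilpotent_of_le [Finite G] {H K : Subgroup G} (hH : Group.IsNilpotent H) (hKH : K ≤ H) :
    Group.IsNilpotent K :=
  (Group.isNilpotent_congr (subgroupOfEquivOfLe hKH)).mp inferInstance

theorem nilpotent_conj [Finite G] {H : Subgroup G} (hH : Group.IsNilpotent H) (x : G) :
    Group.IsNilpotent ↥(MulAut.conj x • H : Subgroup G) :=
  (Group.isNilpotent_congr (Subgroup.equivSMul (MulAut.conj x) H)).mp hH

/-- Wielandt: a subgroup of order prime to the index of a nilpotent Hall subgroup lies in a
conjugate of it. -/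
theorem wielandt_nilpotent_hall_aux : ∀ (n : ℕ) (G : Type u) [Group G] [Finite G],
    Nat.card G ≤ n → ∀ H : Subgroup G, Group.IsNilpotent H → (Nat.card H).Coprime H.index →
    ∀ K : Subgroup G, (Nat.card K).Coprime H.index → ∃ x : G, K ≤ MulAut.conj x • H := by
  intro n
  induction n with
  | zero => intro G _ _ hn; exact absurd hn (not_le.mpr Nat.card_pos)
  | succ n ih =>
    intro G _ _ hn H hH hHall K
    induction K using WellFoundedLT.induction with
    | _ K ihK =>
      intro hK
      rcases eq_or_ne K ⊥ with rfl | hKb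
      · exact ⟨1, bot_le⟩
      haveI : Nontrivial K := (nontrivial_iff_ne_bot K).mpr hKb
      haveI : Group.IsSolvable K := isSolvable_of_coatom_nilpotent fun M hM => by
        have hlt : M.map K.subtype < K := lt_of_le_of_ne (map_subtype_le M) fun e => hM.1 (by
          apply map_injective K.subtype_injective
          rw [e, ← MonoidHom.range_eq_map, range_subtype])
        obtain ⟨x, hx⟩ := ihK _ hlt (hK.coprime_dvd_left (card_dvd_of_le hlt.le))
        exact (Group.isNilpotent_congr (M.equivMapOfInjective _ K.subtype_injective)).mpr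
          (nilpotent_of_le (nilpotent_conj hH x) hx)
      obtain ⟨T₀, hT₀, -, hT₀b, hT₀min⟩ := exists_minimal_normal_le (N := (⊤ : Subgroup K))
        (fun h => bot_ne_top h.symm)
      haveI := hT₀
      obtain ⟨-, p, hp, hexp⟩ := minimal_normal_elementary T₀ hT₀b hT₀min
      haveI := Fact.mk hp
      set T := T₀.map K.subtype
      have hTK : T ≤ K := map_subtype_le _
      have hTp : IsPGroup p T :=
        (show IsPGroup p T₀ from
          fun x => ⟨1, by rw [pow_one]; exact Subtype.ext (hexp x x.2)⟩).map _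
      have hTb : T ≠ ⊥ := fun e => hT₀b ((map_eq_bot_iff_of_injective _ K.subtype_injective).mp e)
      have hKT : K ≤ normalizer (T : Set G) := by
        refine le_normalizer_of_conj_mem fun k hk x hx => ?_
        obtain ⟨t, ht, rfl⟩ := hx
        exact ⟨⟨k, hk⟩ * t * ⟨k, hk⟩⁻¹, hT₀.conj_mem t ht _, rfl⟩
      have hpK : p ∣ Nat.card K := by
        obtain ⟨i, hi⟩ := IsPGroup.iff_card.mp hTp
        rcases i with _ | i
        · exact absurd (Subgroup.card_eq_one.mp (hi.trans (pow_zero p))) hTb
        · exact (hi ▸ dvd_pow_self p i.succ_ne_zero : p ∣ Nat.card T).trans (card_dvd_of_le hTK)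
      have hpi : ¬ p ∣ H.index := fun h => hp.one_lt.ne' (Nat.eq_one_of_dvd_coprimes hK hpK h)
      obtain ⟨X⟩ : Nonempty (Sylow p H) := inferInstance
      obtain ⟨P, hP⟩ := exists_sylow_le_of_not_dvd hpi X
      -- make `T` fully normalised in `P`
      set N₁ := normalizer (T : Set G)
      obtain ⟨R, hR⟩ := (hTp.comap_subtype (K := N₁)).exists_le_sylow
      obtain ⟨P', hP'⟩ := (R.isPGroup'.map N₁.subtype).exists_le_sylow
      obtain ⟨g, hg⟩ := MulAction.exists_smul_eq G P P'
      set T' := MulAut.conj g⁻¹ • T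
      set N := normalizer (T' : Set G)
      set R' := MulAut.conj g⁻¹ • ((R : Subgroup N₁).map N₁.subtype)
      have hconj : ∀ (A : Subgroup G) (x : G),
          x ∈ normalizer ((MulAut.conj g⁻¹ • A : Subgroup G) : Set G) ↔
            g * x * g⁻¹ ∈ normalizer (A : Set G) := by
        intro A x
        simp only [mem_normalizer_iff]
        constructor
        · intro h y
          have := h (g⁻¹ * y * g)
          simp only [SetLike.mem_coe, mem_conj_smul, inv_inv] at this
          simpa [mul_assoc] using this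
        · intro h y
          have := h (g * y * g⁻¹)
          simp only [SetLike.mem_coe, mem_conj_smul, inv_inv]
          simpa [mul_assoc] using this
      have hR'P : R' ≤ (P : Subgroup G) := by
        intro x hx
        rw [mem_conj_smul, inv_inv] at hx
        have h1 : g * x * g⁻¹ ∈ (P' : Subgroup G) := hP' hx
        rw [← hg, Sylow.coe_subgroup_smul, mem_conj_smul] at h1
        simpa [mul_assoc] using h1
      have hR'N : R' ≤ N := fun x hx => (hconj T x).mpr (by
        rw [mem_conj_smul, inv_inv] at hx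
        exact map_subtype_le _ hx)
      have hT'R : T' ≤ R' := by
        intro x hx
        rw [mem_conj_smul, inv_inv] at hx ⊢
        exact ⟨⟨_, le_normalizer hx⟩, hR hx, rfl⟩
      have hPH : (P : Subgroup G) ≤ H := hP ▸ map_subtype_le _
      have hT'H : T' ≤ H := (hT'R.trans hR'P).trans hPH
      -- `H ⊓ N` is a Hall subgroup of `N`
      set HN := (H ⊓ N).subgroupOf N
      have hidx : ∀ r : ℕ, r.Prime → r ∣ Nat.card H → ¬ r ∣ HN.index := by
        intro r hr hrd hd
        haveI := Fact.mk hr
        by_cases hrp : r = p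
        · subst hrp
          have hle : R'.subgroupOf N ≤ HN := fun x hx => ⟨hPH (hR'P hx), x.2⟩
          have hnd : ¬ r ∣ (R'.subgroupOf N).index := by
            intro hd'
            have h1 := (R'.subgroupOf N).index_mul_card
            rw [card_subgroupOf hR'N, card_conj_smul, card_map_subtype] at h1
            have hN : Nat.card N = Nat.card N₁ :=
              (Nat.card_congr
                { toFun := fun x => ⟨g * x * g⁻¹, (hconj T x).mp x.2⟩
                  invFun := fun y => ⟨g⁻¹ * y * g, (hconj T _).mpr (by simpa [mul_assoc] using y.2)⟩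
                  left_inv := fun x => Subtype.ext (by simp [mul_assoc])
                  right_inv := fun y => Subtype.ext (by simp [mul_assoc]) } :
                Nat.card N = Nat.card N₁)
            rw [hN, ← (R : Subgroup N₁).index_mul_card] at h1
            rw [Nat.eq_of_mul_eq_mul_right Nat.card_pos h1] at hd'
            exact R.not_dvd_index hd'
          exact hnd (hd.trans (index_dvd_of_le hle))
        · obtain ⟨Y⟩ : Nonempty (Sylow r H) := inferInstance
          obtain ⟨Q, hQ⟩ := exists_sylow_le_of_not_dvd (not_dvd_index_of_hall hHall hr hrd) Y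
          have hQH : (Q : Subgroup G) ≤ H := hQ ▸ map_subtype_le _
          have hQN : (Q : Subgroup G) ≤ N :=
            (le_centralizer_of_nilpotent hrp hH hQH hT'H Q.isPGroup'
              (P.isPGroup'.to_le (hT'R.trans hR'P))).trans (centralizer_le_normalizer _)
          have hle : (Q : Subgroup G).subgroupOf N ≤ HN := fun x hx => ⟨hQH hx, x.2⟩
          exact (Q.subtype hQN).not_dvd_index (hd.trans (index_dvd_of_le hle))
      have hHNcop : (Nat.card HN).Coprime HN.index := by
        refine Nat.coprime_of_dvd fun r hr h1 h2 => hidx r hr ?_ h2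
        rw [card_subgroupOf inf_le_right] at h1
        exact h1.trans (card_dvd_of_le inf_le_left)
      set K' := MulAut.conj g⁻¹ • K
      have hK'N : K' ≤ N := fun x hx => (hconj T x).mpr (by
        rw [mem_conj_smul, inv_inv] at hx
        exact hKT hx)
      have hK'c : (Nat.card K').Coprime H.index := by rwa [card_conj_smul]
      suffices h : ∃ x : G, K' ≤ MulAut.conj x • H by
        obtain ⟨x, hx⟩ := h
        refine ⟨g * x, fun k hk => ?_⟩
        have := hx (show g⁻¹ * k * g ∈ K' by rw [mem_conj_smul]; simpa [mul_assoc] using hk)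
        rw [mem_conj_smul] at this ⊢
        simpa [mul_assoc] using this
      by_cases hNt : N = ⊤
      · haveI : T'.Normal := normalizer_eq_top_iff.mp hNt
        set f := QuotientGroup.mk' T'
        have hlt : Nat.card (G ⧸ T') < Nat.card G := by
          rw [card_eq_card_quotient_mul_card_subgroup T']
          refine lt_mul_of_one_lt_right Nat.card_pos ((one_lt_card_iff_ne_bot T').mpr fun e => hTb ?_)
          apply Subgroup.card_eq_one.mp
          rw [← card_conj_smul g⁻¹ T, show MulAut.conj g⁻¹ • T = ⊥ from e, card_bot]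
        have hker : f.ker ≤ H := by rw [QuotientGroup.ker_mk']; exact hT'H
        have hidx' : (H.map f).index = H.index := index_map_eq H (QuotientGroup.mk'_surjective T') hker
        haveI := hH
        obtain ⟨xb, hxb⟩ := ih _ (by omega) (H.map f)
          (Group.nilpotent_of_surjective _ (f.subgroupMap_surjective H))
          (by rw [hidx']; exact hHall.coprime_dvd_left (card_map_dvd H f)) (K'.map f)
          (by rw [hidx']; exact hK'c.coprime_dvd_left (card_map_dvd K' f))
        obtain ⟨x, rfl⟩ := QuotientGroup.mk'_surjective T' xb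
        refine ⟨x, fun k hk => ?_⟩
        have h1 := hxb (mem_map_of_mem f hk)
        rw [mem_conj_smul, ← map_inv, ← map_mul, ← map_mul] at h1
        have h2 : x⁻¹ * k * x ∈ (H.map f).comap f := h1
        rw [comap_map_eq_self hker] at h2
        rwa [mem_conj_smul]
      · have hlt : Nat.card N < Nat.card G :=
          lt_of_le_of_ne (card_le_card_group _) fun e => hNt (eq_top_of_card_eq _ e)
        obtain ⟨y, hy⟩ := ih N (by omega) HN
          ((Group.isNilpotent_congr (subgroupOfEquivOfLe (inf_le_right : H ⊓ N ≤ N))).mpr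
            (nilpotent_of_le hH inf_le_left)) hHNcop (K'.subgroupOf N)
          (Nat.coprime_of_dvd fun r hr h1 h2 => by
            rw [card_subgroupOf hK'N] at h1
            refine hidx r hr ?_ h2
            have h3 : r ∣ H.index * Nat.card H := by
              rw [index_mul_card]; exact h1.trans (card_subgroup_dvd_card K')
            exact (hr.dvd_mul.mp h3).resolve_left
              fun h => hr.one_lt.ne' (Nat.eq_one_of_dvd_coprimes hK'c h1 h))
        refine ⟨y, fun k hk => ?_⟩
        have h1 := hy (show (⟨k, hK'N hk⟩ : N) ∈ K'.subgroupOf N from hk)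
        rw [mem_conj_smul] at h1 ⊢
        exact h1.1

theorem wielandt_nilpotent_hall [Finite G] {H : Subgroup G} (hH : Group.IsNilpotent H)
    (hHall : (Nat.card H).Coprime H.index) {K : Subgroup G} (hK : (Nat.card K).Coprime H.index) :
    ∃ x : G, K ≤ MulAut.conj x • H :=
  wielandt_nilpotent_hall_aux _ G le_rfl H hH hHall K hK

/-- Intersecting the normal `p`-complements gives a complement to a Hall subgroup. -/
theorem exists_complement_of_forall_pComplement [Finite G] {H : Subgroup G}
    (hHall : (Nat.card H).Coprime H.index)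
    (h : ∀ p : ℕ, p.Prime → p ∣ Nat.card H → HasNormalPComplement p G) :
    ∃ N : Subgroup G, N.Normal ∧ IsComplement' N H := by
  set N := ⨅ p : {p : ℕ // p.Prime ∧ p ∣ Nat.card H}, pPrimeCore (p : ℕ) G
  haveI hN : N.Normal := Subgroup.normal_iInf_normal fun p => inferInstance
  have hNc : (Nat.card N).Coprime (Nat.card H) :=
    Nat.coprime_of_dvd fun r hr h1 h2 => hr.one_lt.ne' (Nat.eq_one_of_dvd_coprimes
      ((card_pPrimeCore_coprime r G).coprime_dvd_left
        (card_dvd_of_le (iInf_le (fun p : {p : ℕ // p.Prime ∧ p ∣ Nat.card H} =>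
          pPrimeCore (p : ℕ) G) ⟨r, hr, h2⟩))) h1 dvd_rfl)
  have hidx : N.index.Coprime H.index := Nat.coprime_of_dvd fun r hr h1 h2 => by
    haveI := Fact.mk hr
    obtain ⟨R⟩ : Nonempty (Sylow r G) := inferInstance
    refine R.not_dvd_index (h1.trans (index_dvd_of_le ?_))
    intro x hx
    rw [mem_iInf]
    intro p
    haveI := Fact.mk p.2.1
    refine mem_pPrimeCore_of_orderOf_coprime (h p p.2.1 p.2.2) ?_
    obtain ⟨i, hi⟩ := IsPGroup.iff_orderOf.mp R.isPGroup' ⟨x, hx⟩
    rw [← Subgroup.orderOf_coe] at hi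
    rw [show orderOf x = r ^ i from hi]
    exact ((Nat.coprime_primes hr p.2.1).mpr fun e => hr.one_lt.ne'
      (Nat.eq_one_of_dvd_coprimes hHall (e ▸ p.2.2) h2)).pow_left i
  refine ⟨N, hN, isComplement'_of_card_mul_and_disjoint ?_
    (disjoint_iff.mpr (inf_eq_bot_of_coprime_card N H hNc))⟩
  have e1 : N.index * Nat.card N = H.index * Nat.card H := by
    rw [index_mul_card, index_mul_card]
  have h1 : N.index ∣ Nat.card H := hidx.dvd_of_dvd_mul_left (Dvd.intro _ e1)
  have h2 : Nat.card H ∣ N.index := hNc.symm.dvd_of_dvd_mul_right (Dvd.intro_left _ e1.symm)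
  rw [← Nat.dvd_antisymm h1 h2, mul_comm, index_mul_card]

theorem hasNormalPComplement_of_hall_fusion [Finite G] {H : Subgroup G} (hH : Group.IsNilpotent H)
    (hHall : (Nat.card H).Coprime H.index) {p : ℕ} [Fact p.Prime] (hd : p ∣ Nat.card H)
    (hfus : ∀ x ∈ H, (∃ k : ℕ, orderOf x = p ^ k) → ∀ g : G, g * x * g⁻¹ ∈ H →
      ∃ h ∈ H, h * x * h⁻¹ = g * x * g⁻¹) : HasNormalPComplement p G := by
  obtain ⟨X⟩ : Nonempty (Sylow p H) := inferInstance
  obtain ⟨P, hP⟩ := exists_sylow_le_of_not_dvd (not_dvd_index_of_hall hHall Fact.out hd) X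
  haveI hXn : (X : Subgroup H).Normal :=
    ((Group.isNilpotent_of_finite_tfae (G := H)).out 0 3 rfl rfl).mp hH p inferInstance X
  obtain ⟨C, hC⟩ := exists_right_complement'_of_coprime (N := (X : Subgroup H)) X.card_coprime_index
  refine hasNormalPComplement_of_fusion P fun x hx g hgx => ?_
  have hPH : (P : Subgroup G) ≤ H := hP ▸ map_subtype_le _
  obtain ⟨k, hk⟩ := IsPGroup.iff_orderOf.mp P.isPGroup' ⟨x, hx⟩
  rw [← Subgroup.orderOf_coe] at hk
  obtain ⟨h, hh, he⟩ := hfus x (hPH hx) ⟨k, hk⟩ g (hPH hgx)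
  obtain ⟨a, ha, c, hc, hac⟩ := mem_sup_of_normal_left.mp (hC.sup_eq_top ▸ mem_top (⟨h, hh⟩ : H))
  refine ⟨a, show (a : G) ∈ (P : Subgroup G) by rw [hP]; exact mem_map_of_mem H.subtype ha, ?_⟩
  have hcx : Commute (c : G) x := by
    refine commute_of_sylow hH c.2 (hPH hx) ?_
    rw [Subgroup.orderOf_coe, show orderOf x = p ^ k from hk]
    refine Nat.Coprime.pow_right k ?_
    refine (Nat.Coprime.coprime_dvd_left ?_ (card_sylow_coprime_index X))
    rw [hC.symm.index_eq_card]
    exact Subgroup.orderOf_dvd_natCard C hc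
  rw [← he, show h = (a : G) * c by rw [← Subgroup.coe_mul, hac]]
  calc (a : G) * x * (a : G)⁻¹ = (a : G) * (x * c) * ((a : G) * c)⁻¹ := by group
    _ = (a : G) * c * x * ((a : G) * c)⁻¹ := by rw [← hcx.eq]; group

theorem exists_complement_iff_fusion [Finite G] {H : Subgroup G} (hH : Group.IsNilpotent H)
    (hHall : (Nat.card H).Coprime H.index) :
    (∃ N : Subgroup G, N.Normal ∧ IsComplement' N H) ↔
      ∀ x ∈ H, ∀ y ∈ H, (∃ g : G, g * x * g⁻¹ = y) → ∃ h ∈ H, h * x * h⁻¹ = y := by
  constructor
  · rintro ⟨N, hN, hc⟩ x hx y hy ⟨g, rfl⟩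
    haveI := hN
    obtain ⟨n, hn, h, hh, rfl⟩ := mem_sup_of_normal_left.mp (hc.sup_eq_top ▸ mem_top g)
    refine ⟨h, hh, ?_⟩
    have hm : h * x * h⁻¹ ∈ H := mul_mem (mul_mem hh hx) (inv_mem hh)
    have h1 : n * (h * x * h⁻¹) * n⁻¹ * (h * x * h⁻¹)⁻¹ ∈ N := by
      have := mul_mem hn (hN.conj_mem n⁻¹ (inv_mem hn) (h * x * h⁻¹))
      simpa [mul_assoc] using this
    have h2 : n * (h * x * h⁻¹) * n⁻¹ * (h * x * h⁻¹)⁻¹ ∈ H := by
      rw [show n * (h * x * h⁻¹) * n⁻¹ = n * h * x * (n * h)⁻¹ by group]
      exact mul_mem hy (inv_mem hm)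
    have h3 := Subgroup.disjoint_def.mp hc.disjoint h1 h2
    rw [mul_inv_eq_one] at h3
    rw [← h3]; group
  · intro hfus
    refine exists_complement_of_forall_pComplement hHall fun p hp hd => ?_
    haveI := Fact.mk hp
    exact hasNormalPComplement_of_hall_fusion hH hHall hd
      fun x hx _ g hgx => hfus x hx _ hgx ⟨g, rfl⟩

/-- Burnside's theorem for Hall subgroups. -/
theorem exists_complement_of_normalizer_le_centralizer [Finite G] (H : Subgroup G)
    (hHall : (Nat.card H).Coprime H.index)
    (h : normalizer (H : Set G) ≤ centralizer (H : Set G)) :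
    ∃ N : Subgroup G, N.Normal ∧ IsComplement' N H := by
  have hab : H ≤ centralizer (H : Set G) := le_normalizer.trans h
  haveI : IsMulCommutative H := le_centralizer_iff_isMulCommutative.mp hab
  have hH : Group.IsNilpotent H := by
    letI : CommGroup H := { (inferInstance : Group H) with mul_comm := fun a b => mul_comm' a b }
    exact CommGroup.isNilpotent
  refine (exists_complement_iff_fusion hH hHall).mpr fun x hx y hy hg => ⟨1, one_mem H, ?_⟩
  obtain ⟨g, hg⟩ := hg
  set C := centralizer ({y} : Set G)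
  have hHC : H ≤ C := fun z hz =>
    mem_centralizer_singleton_iff.mpr (mem_centralizer_iff.mp (hab hy) z hz)
  have hgC : MulAut.conj g • H ≤ C := by
    intro z hz
    rw [mem_conj_smul] at hz
    rw [mem_centralizer_singleton_iff, ← hg]
    have h1 : (g⁻¹ * z * g) * x = x * (g⁻¹ * z * g) := mem_centralizer_iff.mp (hab hx) _ hz
    calc z * (g * x * g⁻¹) = g * ((g⁻¹ * z * g) * x) * g⁻¹ := by group
      _ = g * x * g⁻¹ * z := by rw [h1]; group
  have hdvd : (H.subgroupOf C).index ∣ H.index := by
    have h1 := relIndex_mul_index hHC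
    exact Dvd.intro _ h1
  obtain ⟨c, hc⟩ := wielandt_nilpotent_hall (H := H.subgroupOf C)
    ((Group.isNilpotent_congr (subgroupOfEquivOfLe hHC)).mpr hH)
    (by rw [card_subgroupOf hHC]; exact hHall.coprime_dvd_right hdvd)
    (K := (MulAut.conj g • H).subgroupOf C)
    (by rw [card_subgroupOf hgC, card_conj_smul]; exact hHall.coprime_dvd_right hdvd)
  have hle : MulAut.conj g • H ≤ MulAut.conj (c : G) • H := by
    intro z hz
    have := hc (show (⟨z, hgC hz⟩ : C) ∈ (MulAut.conj g • H).subgroupOf C from hz)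
    rw [mem_conj_smul] at this ⊢
    exact this
  have heq : MulAut.conj g • H = MulAut.conj (c : G) • H :=
    eq_of_le_of_card_ge hle (le_of_eq (by rw [card_conj_smul, card_conj_smul]))
  have hn : (c : G)⁻¹ * g ∈ normalizer (H : Set G) := by
    rw [mem_normalizer_iff]
    intro z
    have e : MulAut.conj ((c : G)⁻¹ * g) • H = H := by
      rw [map_mul, mul_smul, heq, ← mul_smul, ← map_mul, inv_mul_cancel, map_one, one_smul]
    conv_rhs => rw [← e]
    rw [mem_conj_smul]; simp [mul_assoc]
  have h3 : ((c : G)⁻¹ * g) * x = x * ((c : G)⁻¹ * g) :=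
    (mem_centralizer_iff.mp (h hn) x hx).symm
  have h4 : (c : G) * y = y * c := mem_centralizer_singleton_iff.mp c.2
  have h5 : x = y := by
    have e1 : (c : G)⁻¹ * y * c = x := by
      rw [← hg]
      calc (c : G)⁻¹ * (g * x * g⁻¹) * c = (((c : G)⁻¹ * g) * x) * ((c : G)⁻¹ * g)⁻¹ := by group
        _ = x := by rw [h3]; group
    rw [← e1, mul_assoc, ← h4, inv_mul_cancel_left]
  rw [h5]; group

theorem exists_complement_of_sylow_normalizers [Finite G] (H : Subgroup G)
    (hnot : ∀ p : ℕ, p.Prime → ∀ P : Sylow p G, (P : Subgroup G) ≠ H)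
    (hnorm : ∀ p : ℕ, p.Prime → p ∣ Nat.card H → ∀ P : Sylow p H,
      normalizer (((P : Subgroup H).map H.subtype : Subgroup G) : Set G) = H) :
    ∃ N : Subgroup G, N.Normal ∧ IsComplement' N H := by
  -- the Sylow subgroups of `H` are Sylow subgroups of `G`
  have hsyl : ∀ p : ℕ, p.Prime → p ∣ Nat.card H → ¬ p ∣ H.index := by
    intro p hp hd hdi
    haveI := Fact.mk hp
    obtain ⟨X⟩ : Nonempty (Sylow p H) := inferInstance
    obtain ⟨S, hS⟩ := (X.isPGroup'.map H.subtype).exists_le_sylow
    set PX := (X : Subgroup H).map H.subtype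
    by_cases heq : PX = (S : Subgroup G)
    · refine S.not_dvd_index ?_
      rw [← heq]
      exact hdi.trans (index_dvd_of_le (map_subtype_le _))
    · haveI := S.isPGroup'.isNilpotent
      have h1 := Group.normalizerCondition_of_isNilpotent (PX.subgroupOf (S : Subgroup G))
        (lt_top_iff_ne_top.mpr fun e => heq (le_antisymm hS (subgroupOf_eq_top.mp e)))
      rw [← subgroupOf_normalizer_eq hS, hnorm p hp hd X] at h1
      obtain ⟨s, hs, hsn⟩ := SetLike.exists_of_lt h1
      have hSH : ((S : Subgroup G) ⊓ H).subgroupOf H = (X : Subgroup H) :=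
        X.is_maximal' (S.isPGroup'.to_le inf_le_left).comap_subtype
          fun x hx => ⟨hS (mem_map_of_mem _ hx), x.2⟩
      refine hsn ?_
      have h2 : (⟨(s : G), hs⟩ : H) ∈ (X : Subgroup H) := hSH ▸ ⟨s.2, hs⟩
      exact mem_map_of_mem H.subtype h2
  have hHall : (Nat.card H).Coprime H.index :=
    Nat.coprime_of_dvd fun p hp h1 h2 => hsyl p hp h1 h2
  have hH : Group.IsNilpotent H := by
    refine ((Group.isNilpotent_of_finite_tfae (G := H)).out 0 3 rfl rfl).mpr fun p hp X => ?_
    by_cases hd : p ∣ Nat.card H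
    · have h1 := hnorm p hp.out hd X
      refine normalizer_eq_top_iff.mp (top_le_iff.mp fun y _ => ?_)
      have hy : (y : G) ∈ normalizer (((X : Subgroup H).map H.subtype : Subgroup G) : Set G) := by
        rw [h1]; exact y.2
      rw [mem_normalizer_iff] at hy ⊢
      intro x
      have h2 := hy (x : G)
      have e : ∀ z : H, (z : G) ∈ (X : Subgroup H).map H.subtype ↔ z ∈ (X : Subgroup H) :=
        fun z => ⟨fun ⟨w, hw, hwz⟩ => (Subtype.ext hwz : w = z) ▸ hw, fun hz => mem_map_of_mem _ hz⟩
      rw [← e, ← e]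
      exact h2
    · have : (X : Subgroup H) = ⊥ := by
        obtain ⟨i, hi⟩ := IsPGroup.iff_card.mp X.isPGroup'
        rcases i with _ | i
        · exact Subgroup.card_eq_one.mp (hi.trans (pow_zero p))
        · exact absurd ((hi ▸ dvd_pow_self p i.succ_ne_zero :
            p ∣ Nat.card (X : Subgroup H)).trans (card_subgroup_dvd_card _)) hd
      rw [this]; infer_instance
  refine exists_complement_of_forall_pComplement hHall fun p hp hd => ?_
  haveI := Fact.mk hp
  refine hasNormalPComplement_of_hall_fusion hH hHall hd fun x hx hxo g hgx => ?_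
  -- a second prime
  obtain ⟨q, hq, hqd, hqp⟩ : ∃ q : ℕ, q.Prime ∧ q ∣ Nat.card H ∧ q ≠ p := by
    by_contra hno
    push Not at hno
    obtain ⟨X⟩ : Nonempty (Sylow p H) := inferInstance
    obtain ⟨P, hP⟩ := exists_sylow_le_of_not_dvd (hsyl p hp hd) X
    refine hnot p hp P (le_antisymm (hP ▸ map_subtype_le _) ?_)
    have hHp : IsPGroup p H := by
      refine IsPGroup.of_card (n := (Nat.card H).factorization p) ?_
      have h2 := Nat.eq_prime_pow_of_unique_prime_dvd (n := Nat.card H) (p := p) Nat.card_pos.ne'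
        (fun {d} hd' hdd => hno d hd' hdd)
      conv_rhs => rw [h2]
      rw [hp.factorization_pow, Finsupp.single_eq_same, ← h2]
    rw [hP, show (X : Subgroup H) = ⊤ from (X.is_maximal' (hHp.to_subgroup ⊤) le_top).symm,
      ← MonoidHom.range_eq_map, range_subtype]
  haveI := Fact.mk hq
  obtain ⟨Y⟩ : Nonempty (Sylow q H) := inferInstance
  obtain ⟨Q, hQ⟩ := exists_sylow_le_of_not_dvd (hsyl q hq hqd) Y
  have hQH : (Q : Subgroup G) ≤ H := hQ ▸ map_subtype_le _
  obtain ⟨k, hk⟩ := hxo
  set C := centralizer ({g * x * g⁻¹} : Set G)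
  have hcomm : ∀ z ∈ (Q : Subgroup G), ∀ w ∈ H, orderOf w = p ^ k → Commute z w := by
    intro z hz w hw hwo
    refine commute_of_sylow hH (hQH hz) hw ?_
    obtain ⟨i, hi⟩ := IsPGroup.iff_orderOf.mp Q.isPGroup' ⟨z, hz⟩
    rw [← Subgroup.orderOf_coe] at hi
    rw [show orderOf z = q ^ i from hi, hwo]
    exact Nat.coprime_pow_primes _ _ hq hp hqp
  have hko : orderOf (g * x * g⁻¹) = p ^ k := by
    rw [show g * x * g⁻¹ = MulAut.conj g x from rfl, MulEquiv.orderOf_eq, hk]
  have hQC : (Q : Subgroup G) ≤ C := fun z hz =>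
    mem_centralizer_singleton_iff.mpr (hcomm z hz _ hgx hko).eq
  have hgQC : ((g • Q : Sylow q G) : Subgroup G) ≤ C := by
    intro z hz
    rw [Sylow.coe_subgroup_smul, mem_conj_smul] at hz
    rw [mem_centralizer_singleton_iff]
    have h1 := (hcomm _ hz x hx hk).eq
    calc z * (g * x * g⁻¹) = g * ((g⁻¹ * z * g) * x) * g⁻¹ := by group
      _ = g * x * g⁻¹ * z := by rw [h1]; group
  obtain ⟨c, hc⟩ := MulAction.exists_smul_eq C (Q.subtype hQC) ((g • Q).subtype hgQC)
  rw [Sylow.smul_subtype] at hc
  have hc' : (c : G) • Q = g • Q := Sylow.subtype_injective hc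
  have hn : (c : G)⁻¹ * g ∈ H := by
    have h5 := Sylow.smul_eq_iff_mem_normalizer.mp
      (show ((c : G)⁻¹ * g) • Q = Q by rw [mul_smul, ← hc', inv_smul_smul])
    rw [← hnorm q hq hqd Y, ← hQ]
    exact h5
  refine ⟨(c : G)⁻¹ * g, hn, ?_⟩
  have h4 : (c : G) * (g * x * g⁻¹) = g * x * g⁻¹ * c := mem_centralizer_singleton_iff.mp c.2
  calc (c : G)⁻¹ * g * x * ((c : G)⁻¹ * g)⁻¹ = (c : G)⁻¹ * (g * x * g⁻¹ * c) := by group
    _ = g * x * g⁻¹ := by rw [← h4, inv_mul_cancel_left]

end Cfsg.Agent.Solv
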