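import Cfsg.Agent.Lib.Struct.NormalElementary
import Cfsg.Agent.Lib.Solv.NarrowBasic

/-! A normal elementary abelian subgroup of order `p²` in a `p`-group of rank at least three,
for any prime `p`, and the connected component of it. -/

set_option autoImplicit false

namespace Cfsg.Agent.Solv.RankThreeComp

open Subgroup

variable {P : Type*} [Group P] [Finite P] {p : ℕ} [Fact p.Prime]

theorem exists_of_noncyclic (hP : IsPGroup p P) (A : Subgroup P) [A.Normal]
    (hAc : ∀ x ∈ A, ∀ y ∈ A, Commute x y) (hA : ¬ IsCyclic A) :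
    ∃ U : Subgroup P, U.Normal ∧ Cfsg.IsElementaryAbelian p U ∧ Nat.card U = p ^ 2 := by
  classical
  let W : Subgroup P :=
    { carrier := {x | x ∈ A ∧ x ^ p = 1}
      one_mem' := ⟨one_mem A, one_pow p⟩
      mul_mem' := fun {x y} hx hy => ⟨mul_mem hx.1 hy.1, by
        rw [(hAc x hx.1 y hy.1).mul_pow, hx.2, hy.2, one_mul]⟩
      inv_mem' := fun {x} hx => ⟨inv_mem hx.1, by rw [inv_pow, hx.2, inv_one]⟩ }
  have hW : W.Normal := ⟨fun x hx g => ⟨(inferInstance : A.Normal).conj_mem x hx.1 g, by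
    rw [conj_pow, hx.2, mul_one, mul_inv_cancel]⟩⟩
  haveI := hW
  obtain ⟨k, hk⟩ := (hP.to_subgroup W).exists_card_eq
  have h2 : 2 ≤ k := by
    by_contra hk2
    apply hA
    haveI : IsMulCommutative A := ⟨⟨fun x y => Subtype.ext (hAc x x.2 y y.2)⟩⟩
    by_contra hnc
    have hWc : IsCyclic W := by
      rcases (show k = 0 ∨ k = 1 by omega) with rfl | rfl
      · haveI := (Nat.card_eq_one_iff_unique.mp (by rw [hk, pow_zero])).1
        infer_instance
      · exact isCyclic_of_prime_card (by rw [hk, pow_one])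
    haveI : Fintype A := Fintype.ofFinite A
    have hWA : W ≤ A := fun x hx => hx.1
    obtain ⟨M, hM, hM1⟩ : ∃ M : Subgroup A, IsCyclic M ∧ ∀ x : A, x ^ p = 1 → x ∈ M := by
      refine ⟨W.subgroupOf A, ?_, fun x hx => ⟨x.2, by simpa using congrArg Subtype.val hx⟩⟩
      exact isCyclic_of_surjective (Subgroup.subgroupOfEquivOfLe hWA).symm.toMonoidHom
        (Subgroup.subgroupOfEquivOfLe hWA).symm.surjective
    haveI := hM
    apply hnc
    obtain ⟨n, hn⟩ := (hP.to_subgroup A).exists_card_eq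
    have hpow : ∀ (j : ℕ), (Finset.univ.filter fun x : A => x ^ p ^ j = 1).card ≤ p ^ j := by
      intro j
      induction j with
      | zero => simp [Finset.card_le_one]
      | succ j ih =>
        have h1 : (Finset.univ.filter fun x : A => x ^ p ^ (j + 1) = 1).card ≤
            (Finset.univ.filter fun x : A => x ^ p ^ j = 1).card * p := by
          rw [mul_comm]
          refine Finset.card_le_mul_card_image_of_maps_to (f := fun x : A => x ^ p) ?_ p ?_
          · intro x hx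
            simp only [Finset.mem_filter, Finset.mem_univ, true_and] at hx ⊢
            rw [← pow_mul, ← pow_succ']; exact hx
          · intro y _
            by_cases hy : ∃ x : A, x ^ p = y
            · obtain ⟨x, rfl⟩ := hy
              calc _ ≤ (Finset.univ.filter fun z : A => z ^ p = 1).card := by
                    refine Finset.card_le_card_of_injOn (fun z => x⁻¹ * z) ?_ (fun a _ b _ h => mul_left_cancel h)
                    intro z hz
                    simp only [Finset.coe_filter, Finset.mem_filter, Finset.mem_univ, true_and,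
                      Set.mem_setOf_eq] at hz ⊢
                    rw [(show Commute x⁻¹ z from Subtype.ext (hAc _ (x⁻¹).2 _ z.2)).mul_pow, hz.2, inv_pow,
                      inv_mul_cancel]
                _ ≤ p := by
                    rw [← Nat.card_eq_finsetCard]
                    have hWk : Nat.card W ≤ p := by
                      rw [hk]
                      calc p ^ k ≤ p ^ 1 := Nat.pow_le_pow_right (Fact.out : p.Prime).pos (by omega)
                        _ = p := pow_one p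
                    refine le_trans (Nat.card_le_card_of_injective
                      (fun z => (⟨z.1.1, z.1.2, by
                        have := (Finset.mem_filter.mp z.2).2
                        simpa using congrArg Subtype.val this⟩ : W)) ?_) hWk
                    intro a b h
                    exact Subtype.ext (Subtype.ext (congrArg (fun w : W => (w : P)) h))
            · rw [Finset.card_eq_zero.mpr (Finset.filter_eq_empty_iff.mpr fun x _ e => hy ⟨x, e⟩)]
              exact Nat.zero_le _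
        calc _ ≤ _ := h1
          _ ≤ p ^ j * p := Nat.mul_le_mul_right _ ih
          _ = _ := (pow_succ p j).symm
    refine isCyclic_of_card_pow_eq_one_le fun m hm => ?_
    obtain ⟨j, -, hj⟩ := (Nat.dvd_prime_pow (Fact.out : p.Prime)).mp (hn ▸ Nat.gcd_dvd_right m (Nat.card A))
    calc (Finset.univ.filter fun x : A => x ^ m = 1).card
        ≤ (Finset.univ.filter fun x : A => x ^ p ^ j = 1).card := Finset.card_le_card fun x hx => by
          simp only [Finset.mem_filter, Finset.mem_univ, true_and] at hx ⊢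
          rw [← hj, pow_gcd_eq_one]
          exact ⟨hx, by rw [← hn]; exact pow_card_eq_one'⟩
      _ ≤ p ^ j := hpow j
      _ ≤ m := hj ▸ Nat.le_of_dvd hm (Nat.gcd_dvd_left _ _)
  obtain ⟨U, hUn, hUW, hU⟩ := AlperinC.exists_normal_card hP (k - 2) 2 W hW
    (by rw [hk]; congr 1; omega)
  exact ⟨U, hUn, ⟨⟨⟨fun x y => Subtype.ext (hAc x (hUW x.2).1 y (hUW y.2).1)⟩⟩, fun x hx => (hUW hx).2⟩, hU⟩

theorem exists_normal_sq (hP : IsPGroup p P) (hr : ¬ Cfsg.PRankLE p 2 P) :
    ∃ U : Subgroup P, U.Normal ∧ Cfsg.IsElementaryAbelian p U ∧ Nat.card U = p ^ 2 := by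
  classical
  have hp := (Fact.out : p.Prime)
  obtain ⟨E, hEc, hEe, hEcard⟩ : ∃ E : Subgroup P, IsMulCommutative E ∧ (∀ a ∈ E, a ^ p = 1) ∧
      p ^ 2 < Nat.card E := by
    by_contra hh
    push Not at hh
    exact hr fun A h1 h2 => hh A h1 h2
  by_cases h2 : p = 2
  swap
  · have hnc : ¬ IsCyclic P := by
      intro h
      obtain ⟨g, hg⟩ := IsCyclic.exists_generator (α := E)
      have h1 : Nat.card E = orderOf g := (orderOf_eq_card_of_forall_mem_zpowers hg).symm
      have h3 : orderOf g ∣ p := orderOf_dvd_of_pow_eq_one (Subtype.ext (hEe g g.2))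
      have := Nat.le_of_dvd hp.pos h3
      have : p ≤ p ^ 2 := Nat.le_self_pow (by norm_num) p
      omega
    obtain ⟨A, hA, hcard, hcomm, hexp⟩ := Cfsg.Agent.Struct.exists_normal_elementary hP h2 hnc
    exact ⟨A, hA, ⟨⟨⟨fun x y => Subtype.ext (hcomm x x.2 y y.2)⟩⟩, hexp⟩, hcard⟩
  subst h2
  obtain ⟨A, -, hAn, hAc, hself⟩ := NarrowBasic.exists_selfCentralizing_ge hP ⊥ inferInstance
    (fun x hx y _ => by rw [Subgroup.mem_bot.1 hx]; exact Commute.one_left y)
  haveI := hAn
  by_cases hA : IsCyclic A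
  swap
  · exact exists_of_noncyclic hP A hAc hA
  obtain ⟨⟨a, haA⟩, hgen⟩ := hA.exists_generator
  have hAa : ∀ x ∈ A, ∃ i : ℤ, a ^ i = x := fun x hx => by
    obtain ⟨i, hi⟩ := Subgroup.mem_zpowers_iff.1 (hgen ⟨x, hx⟩)
    exact ⟨i, congrArg Subtype.val hi⟩
  have hcen : ∀ x : P, x * a * x⁻¹ = a → x ∈ A := fun x hx => hself x fun y hy => by
    obtain ⟨i, rfl⟩ := hAa y hy
    exact (show Commute x a from mul_inv_eq_iff_eq_mul.mp hx).zpow_right i
  obtain ⟨n, hn⟩ := hP.exists_card_eq |>.imp fun m hm => hm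
  obtain ⟨j, -, hj⟩ := (Nat.dvd_prime_pow Nat.prime_two).mp (hn ▸ orderOf_dvd_natCard a)
  -- at most two involutions (or trivial elements) lie in `A`
  have hsmall : ∀ x ∈ A, x ^ 2 = 1 → x = 1 ∨ x = a ^ ((2 ^ (j - 1) : ℕ) : ℤ) := by
    intro x hx hx2
    obtain ⟨i, rfl⟩ := hAa x hx
    rw [← zpow_natCast, ← zpow_mul, ← orderOf_dvd_iff_zpow_eq_one, hj] at hx2
    rcases Nat.eq_zero_or_pos j with rfl | hj0
    · left
      rw [show a = 1 from orderOf_eq_one_iff.mp (by rw [hj, pow_zero]), one_zpow]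
    obtain ⟨j', rfl⟩ : ∃ j', j = j' + 1 := ⟨j - 1, by omega⟩
    obtain ⟨t, rfl⟩ : ((2 ^ j' : ℕ) : ℤ) ∣ i := by
      rw [pow_succ] at hx2
      push_cast at hx2 ⊢
      exact Int.dvd_of_mul_dvd_mul_right (by norm_num) hx2
    rcases Int.even_or_odd t with ⟨s, rfl⟩ | ⟨s, rfl⟩
    · left
      rw [← orderOf_dvd_iff_zpow_eq_one, hj]
      exact ⟨s, by push_cast; ring⟩
    · right
      rw [Nat.add_sub_cancel, mul_add, mul_one, zpow_add, show ((2 ^ j' : ℕ) : ℤ) * (2 * s) =
        ((2 ^ (j' + 1) : ℕ) : ℤ) * s by push_cast; ring, zpow_mul, zpow_natCast a (2 ^ (j' + 1)), ← hj,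
        pow_orderOf_eq_one, one_zpow, one_mul]
  set h : ℤ := ((2 ^ (j - 1) : ℕ) : ℤ) with hh
  -- the possible actions of an involution
  have hval : ∀ e : P, e ^ 2 = 1 → ∃ v ∈ ({a, a⁻¹, a * a ^ h, a⁻¹ * a ^ h} : Finset P), e * a * e⁻¹ = v := by
    intro e he
    obtain ⟨r, hr'⟩ := hAa (e * a * e⁻¹) (hAn.conj_mem a haA e)
    refine ⟨_, ?_, hr'.symm⟩
    have h1 : a ^ (r * r - 1) = 1 := by
      have h2 : e * (e * a * e⁻¹) * e⁻¹ = a := by
        calc e * (e * a * e⁻¹) * e⁻¹ = (e * e) * a * (e * e)⁻¹ := by group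
          _ = a := by rw [← pow_two, he]; group
      rw [← hr', ← conj_zpow, ← hr', ← zpow_mul] at h2
      rw [zpow_sub_one, h2, mul_inv_cancel]
    rw [← orderOf_dvd_iff_zpow_eq_one, hj] at h1
    rcases Nat.lt_or_ge j 2 with hj2 | hj2
    · have : a * a = 1 := by
        rw [← pow_two, ← orderOf_dvd_iff_pow_eq_one, hj]
        calc 2 ^ j ∣ 2 ^ 1 := Nat.pow_dvd_pow 2 (by omega)
          _ = 2 := pow_one 2
      rcases Int.even_or_odd r with ⟨s, rfl⟩ | ⟨s, rfl⟩
      · have : a ^ (s + s) = 1 := by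
          rw [← two_mul, zpow_mul, zpow_two, this, one_zpow]
        rw [this] at hr'
        rw [eq_comm, conj_eq_one_iff] at hr'
        simp [hr']
      · rw [zpow_add, zpow_mul, zpow_two, this, one_zpow, one_mul, zpow_one]
        simp
    obtain ⟨j', rfl⟩ : ∃ j', j = j' + 2 := ⟨j - 2, by omega⟩
    rcases Int.even_or_odd r with ⟨s, rfl⟩ | ⟨s, rfl⟩
    · exfalso
      have hd : (2 : ℤ) ∣ (s + s) * (s + s) - 1 := dvd_trans ⟨2 ^ (j' + 1), by push_cast; ring⟩ h1
      obtain ⟨c, hc⟩ := hd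
      have : (2 : ℤ) ∣ 1 := ⟨2 * s * s - c, by linarith⟩
      omega
    have h4 : (2 : ℤ) ^ j' ∣ s * (s + 1) := by
      have : ((2 ^ (j' + 2) : ℕ) : ℤ) = 4 * 2 ^ j' := by push_cast; ring
      rw [this, show (2 * s + 1) * (2 * s + 1) - 1 = 4 * (s * (s + 1)) by ring] at h1
      exact Int.dvd_of_mul_dvd_mul_left (by norm_num) h1
    have hjj : h = 2 ^ (j' + 1) := by
      rw [hh, show j' + 2 - 1 = j' + 1 from rfl]; push_cast; ring
    have hoh : ∀ i : ℤ, a ^ ((2 : ℤ) ^ (j' + 2) * i) = 1 := fun i => by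
      rw [← orderOf_dvd_iff_zpow_eq_one, hj]; exact ⟨i, by push_cast; ring⟩
    simp only [Finset.mem_insert, Finset.mem_singleton]
    have hcop : ∀ t : ℤ, Odd t → (2 : ℤ) ^ j' ∣ s * (s + 1) → (t = s + 1 → (2 : ℤ) ^ j' ∣ s) ∧
        (t = s → (2 : ℤ) ^ j' ∣ s + 1) := by
      intro t ht hd
      have hc : IsCoprime ((2 : ℤ) ^ j') t := by
        refine IsCoprime.pow_left ?_
        obtain ⟨u, rfl⟩ := ht
        exact ⟨-u, 1, by ring⟩
      exact ⟨fun e => (e ▸ hc).dvd_of_dvd_mul_right hd, fun e => (e ▸ hc).dvd_of_dvd_mul_left hd⟩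
    rcases Int.even_or_odd s with hs | hs
    · obtain ⟨t, rfl⟩ := (hcop (s + 1) (hs.add_one) h4).1 rfl
      rcases Int.even_or_odd t with ⟨u, rfl⟩ | ⟨u, rfl⟩
      · left
        rw [show 2 * (2 ^ j' * (u + u)) + 1 = 2 ^ (j' + 2) * u + 1 by ring, zpow_add, hoh, one_mul,
          zpow_one]
      · right; right; left
        rw [show 2 * (2 ^ j' * (2 * u + 1)) + 1 = 2 ^ (j' + 2) * u + (1 + h) by rw [hjj]; ring,
          zpow_add, hoh, one_mul, zpow_one_add]
    · obtain ⟨t, ht⟩ := (hcop s hs h4).2 rfl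
      rcases Int.even_or_odd t with ⟨u, rfl⟩ | ⟨u, rfl⟩
      · right; left
        rw [show 2 * s + 1 = 2 ^ (j' + 2) * u + (-1) by linear_combination (2 : ℤ) * ht, zpow_add, hoh,
          one_mul, zpow_neg_one]
      · right; right; right
        rw [show 2 * s + 1 = 2 ^ (j' + 2) * u + ((-1) + h) by rw [hjj]; linear_combination (2 : ℤ) * ht,
          zpow_add, hoh, one_mul, zpow_add, zpow_neg_one]
  -- an involution of `E` acting as `a ↦ a * a ^ h`
  obtain ⟨e, heE, hea, hne⟩ : ∃ e ∈ E, e * a * e⁻¹ = a * a ^ h ∧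
      a * a ^ h ≠ a ∧ a * a ^ h ≠ a⁻¹ := by
    by_contra hcon
    push Not at hcon
    haveI : Fintype P := Fintype.ofFinite P
    let SE : Finset P := Finset.univ.filter (fun x => x ∈ E)
    have hSE : SE.card = Nat.card E := by
      rw [Nat.card_eq_fintype_card, Fintype.card_subtype]
    have himg : (SE.image fun e => e * a * e⁻¹) ⊆ ({a, a⁻¹, a⁻¹ * a ^ h} : Finset P) := by
      intro v hv
      obtain ⟨e, he, rfl⟩ := Finset.mem_image.mp hv
      have heE : e ∈ E := (Finset.mem_filter.mp he).2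
      obtain ⟨w, hw, e1⟩ := hval e (hEe e heE)
      rw [e1]
      simp only [Finset.mem_insert, Finset.mem_singleton] at hw ⊢
      rcases hw with hw | hw | hw | hw
      · exact Or.inl hw
      · exact Or.inr (Or.inl hw)
      · by_cases h5 : a * a ^ h = a
        · exact Or.inl (hw.trans h5)
        · exact Or.inr (Or.inl (hw.trans (hcon e heE (e1.trans hw) h5)))
      · exact Or.inr (Or.inr hw)
    have hfib : ∀ v ∈ SE.image (fun e => e * a * e⁻¹), (SE.filter fun e => e * a * e⁻¹ = v).card ≤ 2 := by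
      intro v hv
      obtain ⟨e0, he0, rfl⟩ := Finset.mem_image.mp hv
      refine le_trans (Finset.card_le_card (t := ({e0, e0 * a ^ h} : Finset P)) ?_) Finset.card_le_two
      intro e he
      obtain ⟨he1, he2⟩ := Finset.mem_filter.mp he
      have hE0 : e0 ∈ E := (Finset.mem_filter.mp he0).2
      have hE1 : e ∈ E := (Finset.mem_filter.mp he1).2
      have hA1 : e0⁻¹ * e ∈ A := hcen _ (by
        calc e0⁻¹ * e * a * (e0⁻¹ * e)⁻¹ = e0⁻¹ * (e * a * e⁻¹) * e0 := by group
          _ = a := by rw [he2]; group)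
      simp only [Finset.mem_insert, Finset.mem_singleton]
      rcases hsmall _ hA1 (hEe _ (mul_mem (inv_mem hE0) hE1)) with h5 | h5
      · exact Or.inl (inv_mul_eq_one.mp h5).symm
      · exact Or.inr (by rw [← h5, mul_inv_cancel_left])
    have h6 := Finset.card_le_mul_card_image SE 2 hfib
    have h7 := le_trans (Finset.card_le_card himg) (Finset.card_le_three)
    obtain ⟨k, hk⟩ := (hP.to_subgroup E).exists_card_eq
    rw [hSE, hk] at h6
    rw [hk] at hEcard
    have h8 : 3 ≤ k := by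
      by_contra
      have := Nat.pow_le_pow_right (show 0 < 2 by norm_num) (show k ≤ 2 by omega)
      omega
    have := Nat.pow_le_pow_right (show 0 < 2 by norm_num) h8
    omega
  obtain ⟨hne1, hne2⟩ := hne
  have hz1 : a ^ h ≠ 1 := fun e => hne1 (by rw [e, mul_one])
  have hj3 : 3 ≤ j := by
    by_contra hj3
    rcases (show j = 0 ∨ j = 1 ∨ j = 2 by omega) with rfl | rfl | rfl
    · exact hz1 (by rw [show a = 1 from orderOf_eq_one_iff.mp (by rw [hj, pow_zero]), one_zpow])
    · have e2 : a ^ 2 = 1 := by rw [← orderOf_dvd_iff_pow_eq_one, hj, pow_one]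
      have hea' := hea
      rw [show h = 1 from rfl, zpow_one, ← pow_two, e2, conj_eq_one_iff] at hea'
      exact hz1 (by rw [hea', one_zpow])
    · refine hne2 (eq_inv_of_mul_eq_one_left ?_)
      rw [show h = 2 from rfl, ← zpow_one_add, ← zpow_add_one, ← orderOf_dvd_iff_zpow_eq_one, hj]
      norm_num
  have hzA : a ^ h ∈ A := zpow_mem haA h
  have hz2 : (a ^ h) ^ 2 = 1 := by
    rw [← zpow_natCast, ← zpow_mul, ← orderOf_dvd_iff_zpow_eq_one, hj, hh]
    obtain ⟨j', rfl⟩ : ∃ j', j = j' + 1 := ⟨j - 1, by omega⟩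
    exact ⟨1, by rw [Nat.add_sub_cancel]; push_cast; ring⟩
  have hzc : ∀ g : P, g * a ^ h * g⁻¹ = a ^ h := by
    intro g
    have h9 : g * a ^ h * g⁻¹ ∈ A := hAn.conj_mem _ hzA g
    rcases hsmall _ h9 (by rw [conj_pow, hz2, mul_one, mul_inv_cancel]) with h5 | h5
    · exact absurd (conj_eq_one_iff.mp h5) hz1
    · exact h5
  have hez : Commute e (a ^ h) := mul_inv_eq_iff_eq_mul.mp (hzc e)
  have heA : e ∉ A := fun h' => hne1 (by
    rw [← hea, (hAc e h' a haA).eq, mul_inv_cancel_right])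
  have hee : e * e = 1 := by rw [← pow_two]; exact hEe e heE
  have hzz : a ^ h * a ^ h = 1 := by rw [← pow_two]; exact hz2
  let U : Subgroup P :=
    { carrier := {x | x = 1 ∨ x = a ^ h ∨ x = e ∨ x = e * a ^ h}
      one_mem' := Or.inl rfl
      mul_mem' := fun {x y} hx hy => by
        simp only [Set.mem_setOf_eq] at hx hy ⊢
        have e1 : a ^ h * e = e * a ^ h := hez.symm.eq
        have e2 : e * a ^ h * e = a ^ h := by rw [mul_assoc, e1, ← mul_assoc, hee, one_mul]
        have e3 : e * a ^ h * a ^ h = e := by rw [mul_assoc, hzz, mul_one]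
        have e4 : a ^ h * (e * a ^ h) = e := by rw [← e1, ← mul_assoc, hzz, one_mul]
        have e5 : e * (e * a ^ h) = a ^ h := by rw [← mul_assoc, hee, one_mul]
        have e6 : e * a ^ h * (e * a ^ h) = 1 := by rw [← mul_assoc, e2, hzz]
        rcases hx with rfl | rfl | rfl | rfl <;> rcases hy with rfl | rfl | rfl | rfl <;>
          simp only [one_mul, mul_one, e1, e2, e3, e4, e5, e6, hee, hzz, true_or, or_true]
      inv_mem' := fun {x} hx => by
        simp only [Set.mem_setOf_eq] at hx ⊢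
        rcases hx with rfl | rfl | rfl | rfl
        · simp
        · exact Or.inr (Or.inl (inv_eq_of_mul_eq_one_right hzz))
        · exact Or.inr (Or.inr (Or.inl (inv_eq_of_mul_eq_one_right hee)))
        · refine Or.inr (Or.inr (Or.inr (inv_eq_of_mul_eq_one_right ?_)))
          calc e * a ^ h * (e * a ^ h) = e * a ^ h * (a ^ h * e) := by rw [hez.eq]
            _ = e * (a ^ h * a ^ h) * e := by group
            _ = 1 := by rw [hzz, mul_one, hee] }
  have hgeg : ∀ g : P, g * e * g⁻¹ = e ∨ g * e * g⁻¹ = e * a ^ h := by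
    intro g
    obtain ⟨s, hs⟩ := hAa (g⁻¹ * a * g) (by simpa using hAn.conj_mem a haA g⁻¹)
    have h1 : (g * e * g⁻¹) * a * (g * e * g⁻¹)⁻¹ = e * a * e⁻¹ := by
      calc (g * e * g⁻¹) * a * (g * e * g⁻¹)⁻¹ = g * (e * (g⁻¹ * a * g) * e⁻¹) * g⁻¹ := by group
        _ = g * (a ^ s * (a ^ h) ^ s) * g⁻¹ := by
          rw [← hs, ← conj_zpow, hea, (Commute.zpow_right (Commute.refl a) h).mul_zpow]
        _ = (g * a ^ s * g⁻¹) * (g * a ^ h * g⁻¹) ^ s := by rw [conj_zpow]; group
        _ = a * (a ^ h) ^ s := by rw [hzc, hs]; group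
        _ = e * a * e⁻¹ := by
          rw [hea]; congr 1
          rcases Int.even_or_odd s with ⟨u, rfl⟩ | ⟨u, rfl⟩
          · exfalso
            have h6 : (g⁻¹ * a * g) ^ (2 ^ (j - 1) : ℕ) = 1 := by
              rw [← hs, ← zpow_natCast, ← zpow_mul, show (u + u) * ((2 ^ (j - 1) : ℕ) : ℤ) = h * 2 * u by
                rw [hh]; ring, zpow_mul, zpow_mul]
              rw [show ((a ^ h) ^ (2 : ℤ)) = (a ^ h) ^ (2 : ℕ) from zpow_natCast _ 2, hz2, one_zpow]
            rw [show g⁻¹ * a * g = g⁻¹ * a * g⁻¹⁻¹ by rw [inv_inv], conj_pow, conj_eq_one_iff] at h6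
            exact hz1 (by rw [hh, zpow_natCast]; exact h6)
          · rw [zpow_add, zpow_mul, zpow_one, show ((a ^ h) ^ (2 : ℤ)) = (a ^ h) ^ (2 : ℕ) from
              zpow_natCast _ 2, hz2, one_zpow, one_mul]
    have h2 : e⁻¹ * (g * e * g⁻¹) ∈ A := hcen _ (by
      calc e⁻¹ * (g * e * g⁻¹) * a * (e⁻¹ * (g * e * g⁻¹))⁻¹
          = e⁻¹ * ((g * e * g⁻¹) * a * (g * e * g⁻¹)⁻¹) * e := by group
        _ = a := by rw [h1]; group)
    obtain ⟨i, hi⟩ := hAa _ h2
    have h3 : g * e * g⁻¹ = e * a ^ i := by rw [hi, mul_inv_cancel_left]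
    have h4 : e * a ^ i * e⁻¹ * a ^ i = 1 := by
      have h5 : (e * a ^ i) * (e * a ^ i) = 1 := by
        rw [← h3, ← pow_two, conj_pow, hEe e heE, mul_one, mul_inv_cancel]
      rw [show e⁻¹ = e from inv_eq_of_mul_eq_one_right hee, mul_assoc (e * a ^ i)]
      exact h5
    rw [← conj_zpow, hea, (Commute.zpow_right (Commute.refl a) h).mul_zpow, ← zpow_mul, ← zpow_add,
      ← zpow_add, ← orderOf_dvd_iff_zpow_eq_one, hj] at h4
    obtain ⟨j', rfl⟩ : ∃ j', j = j' + 3 := ⟨j - 3, by omega⟩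
    have h7 : ((2 : ℤ) ^ (j' + 2)) ∣ i := by
      have hhj : h = 2 ^ (j' + 2) := by rw [hh, show j' + 3 - 1 = j' + 2 from rfl]; push_cast; ring
      rw [show i + h * i + i = 2 * ((1 + 2 ^ (j' + 1)) * i) by rw [hhj]; ring,
        show ((2 ^ (j' + 3) : ℕ) : ℤ) = 2 * 2 ^ (j' + 2) by push_cast; ring] at h4
      have hc : IsCoprime ((2 : ℤ) ^ (j' + 2)) (1 + 2 ^ (j' + 1)) :=
        IsCoprime.pow_left ⟨-(2 : ℤ) ^ j', 1, by ring⟩
      exact hc.dvd_of_dvd_mul_left (Int.dvd_of_mul_dvd_mul_left (by norm_num) h4)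
    have h8 : (a ^ i) ^ 2 = 1 := by
      obtain ⟨t, rfl⟩ := h7
      rw [← zpow_natCast, ← zpow_mul, ← orderOf_dvd_iff_zpow_eq_one, hj]
      exact ⟨t, by push_cast; ring⟩
    rcases hsmall _ (zpow_mem haA i) h8 with h9 | h9
    · exact Or.inl (by rw [h3, h9, mul_one])
    · exact Or.inr (by rw [h3, h9])
  refine ⟨U, ⟨fun x hx g => ?_⟩, ⟨⟨⟨?_⟩⟩, ?_⟩, ?_⟩
  · rcases hx with rfl | rfl | rfl | rfl
    · exact Or.inl (by group)
    · exact Or.inr (Or.inl (hzc g))
    · rcases hgeg g with h' | h'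
      · exact Or.inr (Or.inr (Or.inl h'))
      · exact Or.inr (Or.inr (Or.inr h'))
    · rw [show g * (e * a ^ h) * g⁻¹ = (g * e * g⁻¹) * (g * a ^ h * g⁻¹) by group, hzc]
      rcases hgeg g with h' | h' <;> rw [h']
      · exact Or.inr (Or.inr (Or.inr rfl))
      · exact Or.inr (Or.inr (Or.inl (by rw [mul_assoc, hzz, mul_one])))
  · rintro ⟨x, hx⟩ ⟨y, hy⟩
    apply Subtype.ext
    have c1 : Commute x e ∧ Commute x (a ^ h) := by
      rcases hx with rfl | rfl | rfl | rfl
      · exact ⟨Commute.one_left _, Commute.one_left _⟩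
      · exact ⟨hez.symm, Commute.refl _⟩
      · exact ⟨Commute.refl _, hez⟩
      · exact ⟨(Commute.refl e).mul_left hez.symm, hez.mul_left (Commute.refl _)⟩
    rcases hy with rfl | rfl | rfl | rfl
    · simp
    · exact c1.2.eq
    · exact c1.1.eq
    · exact (c1.1.mul_right c1.2).eq
  · rintro x (rfl | rfl | rfl | rfl)
    · simp
    · exact hz2
    · exact hEe _ heE
    · rw [hez.mul_pow, hEe e heE, hz2, one_mul]
  · have he1 : e ≠ 1 := fun h' => heA (h' ▸ one_mem A)
    have h3 : e * a ^ h ≠ 1 := fun h' => heA (by rw [eq_inv_of_mul_eq_one_left h']; exact inv_mem hzA)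
    have h4 : e ≠ a ^ h := fun h' => heA (h' ▸ hzA)
    have h5 : (U : Set P) = {1, a ^ h, e, e * a ^ h} := rfl
    rw [← SetLike.coe_sort_coe, Nat.card_coe_set_eq, h5, Set.ncard_eq_toFinset_card']
    simp [hz1.symm, he1.symm, h3.symm, h4.symm, he1, hz1]

theorem le_of_rankLE {C : Subgroup P} (hC : Cfsg.PRankLE p 2 ↥C) {Y : Subgroup P} (hY : Y ≤ C)
    (h : Cfsg.IsElementaryAbelian p Y) : Nat.card Y ≤ p ^ 2 := by
  rw [← Nat.card_congr (subgroupOfEquivOfLe hY).toEquiv]
  refine hC _ ⟨⟨fun a b => Subtype.ext (Subtype.ext ?_)⟩⟩ fun a ha => Subtype.ext (h.2 a.1 ha)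
  have := congrArg Subtype.val (h.1.is_comm.comm ⟨_, a.2⟩ ⟨_, b.2⟩)
  simpa using this

theorem exists_big {C : Subgroup P} (hC : ¬ Cfsg.PRankLE p 2 ↥C) :
    ∃ Y : Subgroup P, Y ≤ C ∧ Cfsg.IsElementaryAbelian p Y ∧ p ^ 2 < Nat.card Y := by
  by_contra hh
  push Not at hh
  refine hC fun A hA1 hA2 => ?_
  rw [← Subgroup.card_map_of_injective C.subtype_injective]
  refine hh _ (map_subtype_le A) ⟨Subgroup.map_isMulCommutative A _, ?_⟩
  rintro _ ⟨a, ha, rfl⟩
  rw [← map_pow, hA2 a ha, map_one]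

theorem elementary_join {A B : Subgroup P} (hA : Cfsg.IsElementaryAbelian p A)
    (hB : Cfsg.IsElementaryAbelian p B) (h : ∀ a ∈ A, ∀ b ∈ B, a * b = b * a) :
    Cfsg.IsElementaryAbelian p (A ⊔ B) := by
  have hc : A ⊔ B ≤ centralizer ((A : Set P) ∪ B) := by
    refine sup_le (fun x hx => ?_) (fun x hx => ?_) <;> rintro y (hy | hy)
    · exact congrArg Subtype.val (hA.1.is_comm.comm ⟨y, hy⟩ ⟨x, hx⟩)
    · exact (h x hx y hy).symm
    · exact h y hy x hx
    · exact congrArg Subtype.val (hB.1.is_comm.comm ⟨y, hy⟩ ⟨x, hx⟩)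
  have hcc : ∀ x ∈ A ⊔ B, ∀ y ∈ A ⊔ B, x * y = y * x := by
    intro x hx y hy
    have hle : A ⊔ B ≤ centralizer ({x} : Set P) := sup_le
      (fun z hz => mem_centralizer_singleton_iff.2 ((hc hx) z (Or.inl hz)))
      (fun z hz => mem_centralizer_singleton_iff.2 ((hc hx) z (Or.inr hz)))
    exact (mem_centralizer_singleton_iff.1 (hle hy)).symm
  refine ⟨⟨⟨fun x y => Subtype.ext (hcc x x.2 y y.2)⟩⟩, fun x hx => ?_⟩
  induction (Subgroup.sup_eq_closure A B ▸ hx : x ∈ closure ((A : Set P) ∪ B)) using Subgroup.closure_induction with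
  | mem y hy => rcases hy with hy | hy; exacts [hA.2 y hy, hB.2 y hy]
  | one => exact one_pow p
  | mul y z hy hz ihy ihz =>
    rw [← Subgroup.sup_eq_closure] at hy hz
    rw [(show Commute y z from hcc y hy z hz).mul_pow, ihy hy, ihz hz, one_mul]
  | inv y hy ih =>
    rw [← Subgroup.sup_eq_closure] at hy
    rw [inv_pow, ih hy, inv_one]

theorem component (hP : IsPGroup p P) (hr : ¬ Cfsg.PRankLE p 2 P) :
    ∃ U : Subgroup P, U.Normal ∧ Cfsg.IsElementaryAbelian p U ∧ Nat.card ↥U = p ^ 2 ∧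
      ∀ X : Subgroup P, Cfsg.IsElementaryAbelian p X → p ^ 2 ≤ Nat.card ↥X →
        (Relation.ReflTransGen (fun A B : Subgroup P => Cfsg.IsElementaryAbelian p A ∧
            p ^ 2 ≤ Nat.card ↥A ∧ Cfsg.IsElementaryAbelian p B ∧ p ^ 2 ≤ Nat.card ↥B ∧
            ∀ a ∈ A, ∀ b ∈ B, a * b = b * a) X U ↔
          ¬ Cfsg.PRankLE p 2 ↥(Subgroup.centralizer (X : Set P))) := by
  obtain ⟨U, hUn, hUe, hU⟩ := exists_normal_sq hP hr
  refine ⟨U, hUn, hUe, hU, fun X hXe hX => ?_⟩
  have hp := (Fact.out : p.Prime)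
  -- a big elementary subgroup meets `C(U)` in a big one
  have hbig : ∀ E : Subgroup P, Cfsg.IsElementaryAbelian p E → p ^ 2 < Nat.card E →
      p ^ 2 ≤ Nat.card ↥(E ⊓ centralizer (U : Set P)) := by
    intro E hE hEc
    set C := centralizer (U : Set P)
    have hidx : C.relIndex E ≤ p := by
      have h1 := AlperinC.index_centralizer_le hP 2 U hUn hU
      rw [show 2 * (2 - 1) / 2 = 1 from rfl, pow_one] at h1
      refine le_trans ?_ h1
      rw [← relIndex_top_right]
      exact relIndex_le_of_le_right le_top (by rw [relIndex_top_right]; exact index_ne_zero_of_finite)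
    have hcard : Nat.card E = Nat.card ↥(E ⊓ C) * C.relIndex E := by
      rw [← inf_relIndex_right, inf_comm C E, ← relIndex_bot_left, ← relIndex_bot_left,
        relIndex_mul_relIndex ⊥ (E ⊓ C) E bot_le inf_le_left]
    obtain ⟨k, hk⟩ := (hP.to_subgroup E).exists_card_eq
    have h3 : p ^ 3 ≤ Nat.card E := by
      rw [hk] at hEc ⊢
      exact Nat.pow_le_pow_right hp.pos ((Nat.pow_lt_pow_iff_right hp.one_lt).mp hEc)
    by_contra hh
    push Not at hh
    have : Nat.card E < p ^ 3 := by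
      rw [hcard, pow_succ]
      calc Nat.card ↥(E ⊓ C) * C.relIndex E ≤ Nat.card ↥(E ⊓ C) * p := Nat.mul_le_mul_left _ hidx
        _ < p ^ 2 * p := Nat.mul_lt_mul_of_pos_right hh hp.pos
    omega
  have hsub : ∀ E D : Subgroup P, Cfsg.IsElementaryAbelian p E → D ≤ E → Cfsg.IsElementaryAbelian p D :=
    fun E D hE hDE => ⟨⟨⟨fun a b => Subtype.ext (congrArg Subtype.val
      (hE.1.is_comm.comm ⟨a, hDE a.2⟩ ⟨b, hDE b.2⟩) : _)⟩⟩, fun a ha => hE.2 a (hDE ha)⟩
  constructor
  · intro hpath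
    induction hpath using Relation.ReflTransGen.head_induction_on with
    | refl =>
      intro hle
      obtain ⟨E, hEc, hEe, hEcard⟩ : ∃ E : Subgroup P, IsMulCommutative E ∧ (∀ a ∈ E, a ^ p = 1) ∧
          p ^ 2 < Nat.card E := by
        by_contra hh
        push Not at hh
        exact hr fun A h1 h2 => hh A h1 h2
      set D := E ⊓ centralizer (U : Set P) with hD
      have hDe := hsub E D ⟨hEc, hEe⟩ inf_le_left
      have hc : ∀ d ∈ D, ∀ u ∈ U, d * u = u * d := fun d hd u hu => ((hd.2) u hu).symm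
      have hUC : U ≤ centralizer (U : Set P) := fun x hx y hy =>
        congrArg Subtype.val (hUe.1.is_comm.comm ⟨y, hy⟩ ⟨x, hx⟩)
      have hJ := le_of_rankLE hle (sup_le inf_le_right hUC) (elementary_join hDe hUe hc)
      have hDU : D ⊔ U = U := (eq_of_le_of_card_ge le_sup_right (by rw [hU]; exact hJ)).symm
      have hDle : D ≤ U := hDU ▸ le_sup_left
      have hDeq : D = U := eq_of_le_of_card_ge hDle (by rw [hU]; exact hbig E ⟨hEc, hEe⟩ hEcard)
      have hUE : U ≤ E := hDeq ▸ inf_le_left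
      have hEC : E ≤ centralizer (U : Set P) := fun x hx y hy =>
        congrArg Subtype.val (hEc.is_comm.comm ⟨y, hUE hy⟩ ⟨x, hx⟩)
      have := le_of_rankLE hle hEC ⟨hEc, hEe⟩
      omega
    | head hstep _ ih =>
      rename_i X' A' _
      obtain ⟨hX'e, hX', hA'e, hA', hc⟩ := hstep
      intro hle
      have hXC : X' ≤ centralizer (X' : Set P) := fun x hx y hy =>
        congrArg Subtype.val (hX'e.1.is_comm.comm ⟨y, hy⟩ ⟨x, hx⟩)
      have hAC : A' ≤ centralizer (X' : Set P) := fun x hx y hy => hc y hy x hx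
      have hJ := le_of_rankLE hle (sup_le hXC hAC) (elementary_join hX'e hA'e hc)
      have h1 : X' = X' ⊔ A' := eq_of_le_of_card_ge le_sup_left (hJ.trans hX')
      have h2 : A' = X' ⊔ A' := eq_of_le_of_card_ge le_sup_right (hJ.trans hA')
      refine ih hA'e hA' ?_
      rw [h2, ← h1]; exact hle
  · intro hC
    obtain ⟨E, hEC, hEe, hEcard⟩ := exists_big hC
    have hD := hbig E hEe hEcard
    have hDe := hsub E (E ⊓ centralizer (U : Set P)) hEe inf_le_left
    refine Relation.ReflTransGen.head ⟨hXe, hX, hEe, hEcard.le, fun x hx e he => hEC he x hx⟩ ?_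
    refine Relation.ReflTransGen.head ⟨hEe, hEcard.le, hDe, hD, fun x hx d hd =>
      congrArg Subtype.val (hEe.1.is_comm.comm ⟨x, hx⟩ ⟨d, hd.1⟩)⟩ ?_
    exact Relation.ReflTransGen.single ⟨hDe, hD, hUe, hU.ge, fun d hd u hu => ((hd.2) u hu).symm⟩

end Cfsg.Agent.Solv.RankThreeComp
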