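import Cfsg.Agent.Lib.Solv.OddNarrow
import Cfsg.Agent.Lib.Solv.PSolvable

/-!
The derived subgroup lies in the Fitting subgroup, from the action on the prime cores.
-/

set_option autoImplicit false
set_option linter.style.haveILetI false

namespace Cfsg.Agent.Solv.OddRankTwo

open Subgroup
open scoped commutatorElement

/-- When an element centralizes `O_r(G)`, from an action statement. -/
theorem centralizes_of_action {G : Type*} [Group G] [Finite G]
    (hact : ∀ (r : ℕ), r.Prime → r ∣ Nat.card G → ∀ f : G →* MulAut (pCore r G),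
      ∀ w ∈ commutator G, ∀ q : ℕ, q.Prime → q ∣ orderOf (f w) → q = r)
    {r : ℕ} (hr0 : r.Prime) (x : G) (hxc : x ∈ commutator G)
    (hx : ∀ q : ℕ, q.Prime → q ∣ orderOf x → q ≠ r) :
    x ∈ Subgroup.centralizer (pCore r G : Set G) := by
  haveI : Fact r.Prime := ⟨hr0⟩
  by_cases h0 : pCore r G = ⊥
  · rw [h0]
    exact Subgroup.mem_centralizer_iff.2 fun y hy => by
      rw [Subgroup.mem_bot.1 hy, one_mul, mul_one]
  have hd : r ∣ Nat.card G := by
    obtain ⟨k, hk⟩ := (isPGroup_pCore r G).exists_card_eq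
    have hk0 : k ≠ 0 := fun h => h0 (Subgroup.eq_bot_of_card_eq _ (by rw [hk, h, pow_zero]))
    exact (dvd_pow_self r hk0).trans (hk ▸ Subgroup.card_subgroup_dvd_card _)
  let f : G →* MulAut (pCore r G) := MulAut.conjNormal
  have hf : f x = 1 := orderOf_eq_one_iff.1 (Nat.eq_one_iff_not_exists_prime_dvd.2 fun q hq hdq =>
    hx q hq (hdq.trans (orderOf_map_dvd f x)) (hact r hr0 hd f x hxc q hq hdq))
  refine Subgroup.mem_centralizer_iff.2 fun y hy => ?_
  have h := congrArg (fun e : MulAut (pCore r G) => ((e ⟨y, hy⟩ : pCore r G) : G)) hf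
  simp only [f, MulAut.conjNormal_apply, MulAut.one_apply] at h
  exact (mul_inv_eq_iff_eq_mul.1 h).symm

theorem commutator_le_fitting_of_action {G : Type*} [Group G] [Finite G] [Group.IsSolvable G] (hodd : Odd (Nat.card G))
    (hact : ∀ (r : ℕ), r.Prime → r ∣ Nat.card G → ∀ f : G →* MulAut (pCore r G),
      ∀ w ∈ commutator G, ∀ q : ℕ, q.Prime → q ∣ orderOf (f w) → q = r) : commutator G ≤ fittingSubgroup G := by
  refine (Solv.sup_sylow_eq (commutator G)).trans (sSup_le ?_)
  rintro S ⟨q, hq, hS, hSle⟩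
  haveI : Fact q.Prime := ⟨hq⟩
  haveI : ∀ r : Nat.Primes, (pCore (r : ℕ) G).Normal := fun r => inferInstance
  set M : Subgroup G := commutator G ⊓ ⨅ r : {r : Nat.Primes // (r : ℕ) ≠ q}, centralizer (pCore ((r : Nat.Primes) : ℕ) G : Set G)
    with hM
  haveI : (⨅ r : {r : Nat.Primes // (r : ℕ) ≠ q}, centralizer (pCore ((r : Nat.Primes) : ℕ) G : Set G)).Normal :=
    Subgroup.normal_iInf_normal fun r => inferInstance
  haveI hMn : M.Normal := inferInstance
  have hSM : S ≤ M := fun x hx => Subgroup.mem_inf.2 ⟨hSle hx, Subgroup.mem_iInf.2 fun r =>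
    centralizes_of_action hact r.1.2 x (hSle hx) fun s hs hd => by
      obtain ⟨k, hk⟩ := (IsPGroup.iff_orderOf.1 hS) ⟨x, hx⟩
      rw [← Subgroup.orderOf_coe] at hk
      rw [hk] at hd
      rw [(Nat.prime_dvd_prime_iff_eq hs hq).1 (hs.dvd_of_dvd_pow hd)]
      exact Ne.symm r.2⟩
  refine hSM.trans (@le_fittingSubgroup G _ M hMn ?_)
  -- every element of `M` has a `q`-power in the centre of `M`
  have hF : fittingSubgroup G ≤ pCore q G ⊔ centralizer (M : Set G) := by
    rw [fittingSubgroup_eq_iSup_pCore]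
    refine iSup_le fun r => ?_
    by_cases h : (r : ℕ) = q
    · rw [h]; exact le_sup_left
    · refine le_trans ?_ le_sup_right
      rw [Subgroup.le_centralizer_iff]
      exact inf_le_right.trans (iInf_le _ (⟨r, h⟩ : {r : Nat.Primes // (r : ℕ) ≠ q}))
  have hcenter : IsPGroup q (M ⧸ center M) := by
    intro y
    obtain ⟨m, rfl⟩ := QuotientGroup.mk_surjective y
    by_cases h0 : pCore q G = ⊥
    · refine ⟨0, ?_⟩
      have hmF : (m : G) ∈ fittingSubgroup G := by
        refine centralizer_fittingSubgroup_le ?_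
        have : (m : G) ∈ centralizer (fittingSubgroup G : Set G) := by
          refine (Subgroup.le_centralizer_iff.1 ?_) m.2
          rw [fittingSubgroup_eq_iSup_pCore]
          refine iSup_le fun r => ?_
          by_cases h : (r : ℕ) = q
          · rw [h, h0]; exact bot_le
          · rw [Subgroup.le_centralizer_iff]
            exact inf_le_right.trans (iInf_le _ (⟨r, h⟩ : {r : Nat.Primes // (r : ℕ) ≠ q}))
        exact this
      rw [pow_zero, pow_one, QuotientGroup.eq_one_iff]
      have hm2 := hF hmF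
      rw [h0, bot_sup_eq] at hm2
      exact Subgroup.mem_center_iff.2 fun z => Subtype.ext (Subgroup.mem_centralizer_iff.1 hm2 z z.2)
    have hd : q ∣ Nat.card G := by
      obtain ⟨k, hk⟩ := (isPGroup_pCore q G).exists_card_eq
      have hk0 : k ≠ 0 := fun h => h0 (Subgroup.eq_bot_of_card_eq _ (by rw [hk, h, pow_zero]))
      exact (dvd_pow_self q hk0).trans (hk ▸ Subgroup.card_subgroup_dvd_card _)
    let f : G →* MulAut (pCore q G) := MulAut.conjNormal
    have h1 := hact q hq hd f
    have hfm : orderOf (f m) = q ^ (orderOf (f m)).primeFactorsList.length :=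
      Nat.eq_prime_pow_of_unique_prime_dvd (orderOf_pos _).ne' fun {d} hd1 hd2 => h1 m (Subgroup.mem_inf.1 m.2).1 d hd1 hd2
    set k := (orderOf (f m)).primeFactorsList.length
    set j : M := m ^ q ^ k with hj
    have hjq : (j : G) ∈ centralizer (pCore q G : Set G) := by
      have hfj : f (j : G) = 1 := by
        rw [hj, Subgroup.coe_pow, map_pow, ← hfm, pow_orderOf_eq_one]
      refine Subgroup.mem_centralizer_iff.2 fun y hy => ?_
      have h := congrArg (fun e : MulAut (pCore q G) => ((e ⟨y, hy⟩ : pCore q G) : G)) hfj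
      simp only [f, MulAut.conjNormal_apply, MulAut.one_apply] at h
      exact (mul_inv_eq_iff_eq_mul.1 h).symm
    have hjF : (j : G) ∈ fittingSubgroup G := by
      refine centralizer_fittingSubgroup_le ?_
      have : fittingSubgroup G ≤ centralizer ({(j : G)} : Set G) := by
        rw [fittingSubgroup_eq_iSup_pCore]
        refine iSup_le fun r x hx => Subgroup.mem_centralizer_singleton_iff.2 ?_
        by_cases h : (r : ℕ) = q
        · rw [h] at hx
          exact Subgroup.mem_centralizer_iff.1 hjq x hx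
        · exact Subgroup.mem_centralizer_iff.1
            (Subgroup.mem_iInf.1 (Subgroup.mem_inf.1 j.2).2 ⟨r, h⟩) x hx
      exact Subgroup.mem_centralizer_iff.2 fun x hx => Subgroup.mem_centralizer_singleton_iff.1 (this hx)
    obtain ⟨o, ho, c, hc, hoc⟩ := Subgroup.mem_sup_of_normal_right.1 (hF hjF)
    obtain ⟨l, hl⟩ := (isPGroup_pCore q G) ⟨o, ho⟩
    refine ⟨k + l, (QuotientGroup.eq_one_iff _).2 ?_⟩
    have hmem : ((j : G)) ^ q ^ l ∈ centralizer (M : Set G) := by
      refine (QuotientGroup.eq_one_iff _).1 ?_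
      rw [← hoc, QuotientGroup.mk_pow, QuotientGroup.mk_mul, (QuotientGroup.eq_one_iff c).2 hc, mul_one,
        ← QuotientGroup.mk_pow, show o ^ q ^ l = 1 from congrArg Subtype.val hl]
      rfl
    refine Subgroup.mem_center_iff.2 fun z => Subtype.ext ?_
    have h := Subgroup.mem_centralizer_iff.1 hmem z z.2
    rw [hj, Subgroup.coe_pow, ← pow_mul, ← pow_add] at h
    simpa using h
  haveI : Group.IsNilpotent (M ⧸ center M) := hcenter.isNilpotent
  exact Group.of_quotient_center_nilpotent inferInstance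

end Cfsg.Agent.Solv.OddRankTwo
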