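import Mathlib
import Cfsg.Agent.Lib.Fusion.GLTwoSylow

/-!
Solvable groups of odd order in `GL₂(p)`: the derived group has exponent `p`.
-/

set_option autoImplicit false
set_option linter.style.haveILetI false

namespace Cfsg.Agent.Solv.OddLinearTwo

open Matrix
open scoped commutatorElement

variable {K : Type*} [Field K]

local notation "M2" => Matrix (Fin 2) (Fin 2) K

/-- Scalar matrices. -/
def IsSc (c : M2) : Prop := c 0 1 = 0 ∧ c 1 0 = 0 ∧ c 0 0 = c 1 1

theorem isSc_comm {c : M2} (h : IsSc c) (u : M2) : c * u = u * c := by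
  obtain ⟨h1, h2, h3⟩ := h
  ext i j
  fin_cases i <;> fin_cases j <;> simp [Matrix.mul_apply, Fin.sum_univ_two, h1, h2, h3] <;> ring

theorem isSc_mul {a b : M2} (ha : IsSc a) (hb : IsSc b) : IsSc (a * b) := by
  obtain ⟨a1, a2, a3⟩ := ha
  obtain ⟨b1, b2, b3⟩ := hb
  refine ⟨?_, ?_, ?_⟩ <;> simp [Matrix.mul_apply, Fin.sum_univ_two, a1, a2, a3, b1, b2, b3]

theorem isSc_one : IsSc (1 : M2) := by simp [IsSc]

theorem isSc_pow {a : M2} (ha : IsSc a) (n : ℕ) : IsSc (a ^ n) := by
  induction n with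
  | zero => rw [pow_zero]; exact isSc_one
  | succ n ih => rw [pow_succ]; exact isSc_mul ih ha

theorem eq_one_of_det {a : M2} (ha : IsSc a) (h : a 0 0 = 1) : a = 1 := by
  obtain ⟨a1, a2, a3⟩ := ha
  ext i j
  fin_cases i <;> fin_cases j <;> simp [a1, a2, h, ← a3]

/-- `(M - t)^2 = 0` when the discriminant vanishes, `t` being half the trace. -/
theorem sq_eq_zero {M : M2} {t : K} (ht : t + t = M 0 0 + M 1 1)
    (hq : (M 0 0 - M 1 1) ^ 2 + 4 * (M 0 1 * M 1 0) = 0) (h2 : (2 : K) ≠ 0) :
    (M - t • (1 : M2)) ^ 2 = 0 := by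
  have hq' : (M 0 0 - t) * (M 0 0 - t) + M 0 1 * M 1 0 = 0 := by
    refine (mul_eq_zero.1 (?_ : (2 * 2 : K) * _ = 0)).resolve_left (mul_ne_zero h2 h2)
    have e : M 0 0 - M 1 1 = 2 * (M 0 0 - t) := by linear_combination ht
    linear_combination hq - (M 0 0 - M 1 1 + 2 * (M 0 0 - t)) * e
  have e1 : M 1 1 = t + t - M 0 0 := by linear_combination -ht
  rw [pow_two]
  ext i j
  fin_cases i <;> fin_cases j <;> simp [Matrix.mul_apply, Fin.sum_univ_two, e1] <;>
    first | linear_combination hq' | ring1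

theorem centralizer_comm {c u v : M2} (hq : (c 0 0 - c 1 1) ^ 2 + 4 * (c 0 1 * c 1 0) ≠ 0)
    (hu : c * u = u * c) (hv : c * v = v * c) : u * v = v * u := by
  have key : ∀ w : M2, c * w = w * c → ∃ y : K, w 0 1 = y * c 0 1 ∧ w 1 0 = y * c 1 0 ∧
      w 0 0 - w 1 1 = y * (c 0 0 - c 1 1) := by
    intro w hw
    have e00 := congrFun (congrFun hw 0) 0
    have e01 := congrFun (congrFun hw 0) 1
    have e10 := congrFun (congrFun hw 1) 0
    simp only [Matrix.mul_apply, Fin.sum_univ_two] at e00 e01 e10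
    set q := (c 0 0 - c 1 1) ^ 2 + 4 * (c 0 1 * c 1 0) with hqd
    refine ⟨((w 0 0 - w 1 1) * (c 0 0 - c 1 1) + 2 * (w 0 1 * c 1 0 + c 0 1 * w 1 0)) / q, ?_, ?_, ?_⟩
    · rw [div_mul_eq_mul_div, eq_div_iff hq, hqd]
      linear_combination (c 0 0 - c 1 1) * e01 + 2 * c 0 1 * (-e00)
    · rw [div_mul_eq_mul_div, eq_div_iff hq, hqd]
      linear_combination -(c 0 0 - c 1 1) * e10 + 2 * c 1 0 * e00
    · rw [div_mul_eq_mul_div, eq_div_iff hq, hqd]
      linear_combination -2 * c 1 0 * e01 + 2 * c 0 1 * e10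
  obtain ⟨y, y1, y2, y3⟩ := key u hu
  obtain ⟨z, z1, z2, z3⟩ := key v hv
  have yu : u 0 0 = u 1 1 + y * (c 0 0 - c 1 1) := by linear_combination y3
  have zv : v 0 0 = v 1 1 + z * (c 0 0 - c 1 1) := by linear_combination z3
  ext i j
  fin_cases i <;> fin_cases j <;> simp [Matrix.mul_apply, Fin.sum_univ_two, y1, y2, yu, z1, z2, zv] <;> ring

/-- An element commuting with `c` with the same trace and determinant is `c` or its conjugate root. -/
theorem eq_or_eq_sub {c d : M2} (hq : (c 0 0 - c 1 1) ^ 2 + 4 * (c 0 1 * c 1 0) ≠ 0) (h2 : (2 : K) ≠ 0)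
    (hd : c * d = d * c) (ht : d.trace = c.trace) (hdet : d.det = c.det) :
    d = c ∨ d = c.trace • (1 : M2) - c := by
  rw [Matrix.trace_fin_two, Matrix.trace_fin_two] at ht
  rw [Matrix.det_fin_two, Matrix.det_fin_two] at hdet
  have e00 := congrFun (congrFun hd 0) 0
  have e01 := congrFun (congrFun hd 0) 1
  have e10 := congrFun (congrFun hd 1) 0
  simp only [Matrix.mul_apply, Fin.sum_univ_two] at e00 e01 e10
  set q := (c 0 0 - c 1 1) ^ 2 + 4 * (c 0 1 * c 1 0) with hqd
  set y := ((d 0 0 - d 1 1) * (c 0 0 - c 1 1) + 2 * (d 0 1 * c 1 0 + c 0 1 * d 1 0)) / q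
  have y1 : d 0 1 = y * c 0 1 := by
    rw [div_mul_eq_mul_div, eq_div_iff hq, hqd]
    linear_combination (c 0 0 - c 1 1) * e01 + 2 * c 0 1 * (-e00)
  have y2 : d 1 0 = y * c 1 0 := by
    rw [div_mul_eq_mul_div, eq_div_iff hq, hqd]
    linear_combination -(c 0 0 - c 1 1) * e10 + 2 * c 1 0 * e00
  have y3 : d 0 0 - d 1 1 = y * (c 0 0 - c 1 1) := by
    rw [div_mul_eq_mul_div, eq_div_iff hq, hqd]
    linear_combination -2 * c 1 0 * e01 + 2 * c 0 1 * e10
  have hyq : y ^ 2 * q = q := by
    have hdq : (d 0 0 - d 1 1) ^ 2 + 4 * (d 0 1 * d 1 0) = q := by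
      rw [hqd]
      linear_combination (d 0 0 + d 1 1 + (c 0 0 + c 1 1)) * ht - 4 * hdet
    rw [y1, y2, y3] at hdq
    rw [hqd] at hdq ⊢
    linear_combination hdq
  have hy : y = 1 ∨ y = -1 := mul_self_eq_one_iff.1 (by
    have := mul_right_cancel₀ hq (hyq.trans (one_mul q).symm)
    linear_combination this)
  rcases hy with rfl_y | rfl_y <;> rw [rfl_y] at y1 y2 y3
  · left
    have a00 : d 0 0 = c 0 0 := mul_left_cancel₀ h2 (by linear_combination ht + y3)
    have a11 : d 1 1 = c 1 1 := by linear_combination ht - a00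
    ext i j
    fin_cases i <;> fin_cases j <;> simp [a00, a11, y1, y2]
  · right
    have a00 : d 0 0 = c 1 1 := mul_left_cancel₀ h2 (by linear_combination ht + y3)
    have a11 : d 1 1 = c 0 0 := by linear_combination ht - a00
    ext i j
    fin_cases i <;> fin_cases j <;> simp [a00, a11, y1, y2, Matrix.trace_fin_two]

/-- The kernel of a nonzero singular `2 × 2` matrix is a line. -/
theorem exists_smul {u : M2} (hu : u ≠ 0) {v w : Fin 2 → K} (hv : v ≠ 0) (h1 : u *ᵥ v = 0) (h2 : u *ᵥ w = 0) :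
    ∃ a : K, w = a • v := by
  have a0 := congrFun h1 0
  have a1 := congrFun h1 1
  have b0 := congrFun h2 0
  have b1 := congrFun h2 1
  simp only [Matrix.mulVec, dotProduct, Fin.sum_univ_two, Pi.zero_apply] at a0 a1 b0 b1
  set D := v 0 * w 1 - v 1 * w 0 with hD
  have hD0 : D = 0 := by
    by_contra h
    refine hu ?_
    ext i j
    fin_cases i <;> fin_cases j <;> simp only [Matrix.zero_apply, Fin.zero_eta, Fin.mk_one, Fin.isValue]
    · exact (mul_eq_zero.1 (show u 0 0 * D = 0 by rw [hD]; linear_combination w 1 * a0 - v 1 * b0)).resolve_right h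
    · exact (mul_eq_zero.1 (show u 0 1 * D = 0 by rw [hD]; linear_combination -(w 0) * a0 + v 0 * b0)).resolve_right h
    · exact (mul_eq_zero.1 (show u 1 0 * D = 0 by rw [hD]; linear_combination w 1 * a1 - v 1 * b1)).resolve_right h
    · exact (mul_eq_zero.1 (show u 1 1 * D = 0 by rw [hD]; linear_combination -(w 0) * a1 + v 0 * b1)).resolve_right h
  by_cases hv0 : v 0 = 0
  · have hv1 : v 1 ≠ 0 := fun h => hv (by ext i; fin_cases i <;> simp [hv0, h])
    refine ⟨w 1 / v 1, ?_⟩
    have hw0 : w 0 = 0 := by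
      rw [hD, hv0] at hD0
      exact (mul_eq_zero.1 (show v 1 * w 0 = 0 by linear_combination -hD0)).resolve_left hv1
    ext i; fin_cases i <;> simp [hv0, hw0, hv1]
  · refine ⟨w 0 / v 0, ?_⟩
    ext i; fin_cases i <;> simp [hv0]
    field_simp
    linear_combination hD0

variable {p : ℕ} [Fact p.Prime]

local notation "G2" => GL (Fin 2) (ZMod p)
local notation "M2p" => Matrix (Fin 2) (Fin 2) (ZMod p)

theorem two_ne_zero' (hp : p ≠ 2) : (2 : ZMod p) ≠ 0 := by
  intro h
  have h' : ((2 : ℕ) : ZMod p) = 0 := by exact_mod_cast h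
  rw [ZMod.natCast_eq_zero_iff] at h'
  exact hp ((Nat.prime_dvd_prime_iff_eq Fact.out Nat.prime_two).1 h')

theorem mem_zpowers_sq {G : Type*} [Group G] (w : G) (h : Odd (orderOf w)) :
    ∃ k : ℕ, w = (w ^ 2) ^ k := by
  obtain ⟨m, hm⟩ := h
  refine ⟨m + 1, ?_⟩
  rw [← pow_mul, show 2 * (m + 1) = (2 * m + 1) + 1 by ring, pow_succ, ← hm, pow_orderOf_eq_one, one_mul]

/-- A solvable subgroup of odd order of `GL₂(p)`: either it is commutative or it has a common eigenvector. -/
theorem dichotomy (hp : p ≠ 2) (X : Subgroup G2) (hodd : Odd (Nat.card X)) [Group.IsSolvable X] :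
    (∀ a ∈ X, ∀ b ∈ X, a * b = b * a) ∨
      ∃ v : Fin 2 → ZMod p, v ≠ 0 ∧ ∀ w ∈ X, ∃ a : ZMod p, (w : Matrix (Fin 2) (Fin 2) (ZMod p)) *ᵥ v = a • v := by
  classical
  have h2 := two_ne_zero' (p := p) hp
  obtain ⟨N, ⟨hNX, hNn, hNc⟩, hmax⟩ := Set.Finite.exists_maximalFor id
    {N : Subgroup G2 | N ≤ X ∧ (∀ w ∈ X, ∀ n ∈ N, w * n * w⁻¹ ∈ N) ∧ ∀ a ∈ N, ∀ b ∈ N, a * b = b * a}
    (Set.toFinite _) ⟨⊥, bot_le, fun w _ n hn => by rw [Subgroup.mem_bot.1 hn]; simp,
      fun a ha b hb => by rw [Subgroup.mem_bot.1 ha, Subgroup.mem_bot.1 hb]⟩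
  have hoddX : ∀ w ∈ X, Odd (orderOf w) := fun w hw =>
    hodd.of_dvd_nat (Subgroup.orderOf_dvd_natCard X hw)
  by_cases hΩ : ∃ n ∈ N, n ^ p = 1 ∧ n ≠ 1
  · right
    obtain ⟨n, hn, hnp, hn1⟩ := hΩ
    have fixvec : ∀ m : G2, m ^ p = 1 → ∃ v : Fin 2 → ZMod p, v ≠ 0 ∧ ((m : M2p) - 1) *ᵥ v = 0 := by
      intro m hm
      refine Matrix.exists_mulVec_eq_zero_iff.2 (pow_eq_zero_iff (Fact.out : p.Prime).ne_zero |>.1 ?_)
      rw [← Matrix.det_pow, sub_pow_char_of_commute p (Commute.one_right _), one_pow, ← Units.val_pow_eq_pow_val,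
        hm, Units.val_one, sub_self, Matrix.det_zero]
    obtain ⟨v, hv, hnv⟩ := fixvec n hnp
    have hu : ((n : M2p) - 1) ≠ 0 := fun h => hn1 (Units.ext (sub_eq_zero.1 h))
    refine ⟨v, hv, fun w hw => exists_smul hu hv hnv ?_⟩
    -- `w⁻¹ n w` fixes `v`
    have hm := hNn w⁻¹ (inv_mem hw) n hn
    rw [inv_inv] at hm
    have hmp : (w⁻¹ * n * w) ^ p = 1 := by
      have := conj_pow (i := p) (a := w⁻¹) (b := n)
      rw [inv_inv] at this
      rw [this, hnp]
      simp
    set m := w⁻¹ * n * w with hmdef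
    have hcomm : (n : M2p) * m = m * n := congrArg Units.val (hNc n hn m hm)
    have hnv' : (n : M2p) *ᵥ v = v := by rwa [Matrix.sub_mulVec, Matrix.one_mulVec, sub_eq_zero] at hnv
    obtain ⟨a, ha⟩ := exists_smul hu hv hnv (w := (m : M2p) *ᵥ v) (by
      rw [Matrix.sub_mulVec, Matrix.one_mulVec, Matrix.mulVec_mulVec, hcomm, ← Matrix.mulVec_mulVec, hnv', sub_self])
    have hk : ∀ k : ℕ, ((m : M2p) ^ k) *ᵥ v = a ^ k • v := by
      intro k
      induction k with
      | zero => simp
      | succ k ih => rw [pow_succ', ← Matrix.mulVec_mulVec, ih, Matrix.mulVec_smul, ha, smul_smul, ← pow_succ]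
    have hap : a = 1 := by
      have h := hk p
      rw [← Units.val_pow_eq_pow_val, hmp, Units.val_one, Matrix.one_mulVec, ZMod.pow_card] at h
      obtain ⟨i, hi⟩ : ∃ i, v i ≠ 0 := by
        by_contra! hh
        exact hv (funext hh)
      have := congrFun h i
      simp only [Pi.smul_apply, smul_eq_mul] at this
      exact (mul_right_cancel₀ hi ((one_mul (v i)).trans this)).symm
    rw [hap, one_smul] at ha
    have hwn : (n : M2p) * w = w * m := by
      rw [← Units.val_mul, ← Units.val_mul, hmdef]; congr 1; group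
    rw [Matrix.sub_mulVec, Matrix.one_mulVec, Matrix.mulVec_mulVec, hwn, ← Matrix.mulVec_mulVec, ha, sub_self]
  · left
    push Not at hΩ
    by_cases hsc : ∃ c ∈ N, ¬ IsSc (c : M2p)
    · obtain ⟨c, hc, hcs⟩ := hsc
      set C : Matrix (Fin 2) (Fin 2) (ZMod p) := (c : M2p) with hC
      have hq : (C 0 0 - C 1 1) ^ 2 + 4 * (C 0 1 * C 1 0) ≠ 0 := by
        intro hq
        set t : ZMod p := (C 0 0 + C 1 1) / 2 with htd
        have ht : t + t = C 0 0 + C 1 1 := by rw [htd]; field_simp; ring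
        have hsq := sq_eq_zero ht hq h2
        have hcp : C ^ p = (t • (1 : M2p)) ^ p := by
          have h := sub_pow_char_of_commute p (x := C) (y := t • (1 : M2p))
            ((Commute.one_right C).smul_right t)
          rw [pow_eq_zero_of_le (Fact.out : p.Prime).two_le hsq] at h
          exact sub_eq_zero.1 h.symm
        have hcsp : IsSc (C ^ p) := by
          rw [hcp]; exact isSc_pow (by simp [IsSc]) _
        have hcop : (orderOf c).Coprime p := by
          refine Nat.Coprime.symm ((Fact.out : p.Prime).coprime_iff_not_dvd.2 fun h => ?_)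
          have h1 := orderOf_pow_orderOf_div (orderOf_pos c).ne' h
          refine (Nat.Prime.one_lt (Fact.out : p.Prime)).ne' ?_
          rw [← h1, hΩ _ (pow_mem hc _) (orderOf_dvd_iff_pow_eq_one.1 h1.dvd), orderOf_one]
        obtain ⟨k, hk⟩ := exists_pow_eq_self_of_coprime hcop.symm
        refine hcs ?_
        have : C = (C ^ p) ^ k := by
          rw [hC, ← Units.val_pow_eq_pow_val, ← Units.val_pow_eq_pow_val, hk]
        rw [this]
        exact isSc_pow hcsp _
      have hcent : ∀ w ∈ X, C * (w : M2p) = w * C := by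
        intro w hw
        set d := w * c * w⁻¹ with hd
        have hdc : C * (d : M2p) = d * C := congrArg Units.val (hNc c hc d (hNn w hw c hc))
        have ht : (d : M2p).trace = C.trace := by
          rw [hd, Units.val_mul, Units.val_mul, Matrix.trace_mul_comm, ← mul_assoc, Units.inv_mul, one_mul]
        have hdet : (d : M2p).det = C.det := by
          rw [hd, Units.val_mul, Units.val_mul, Matrix.det_units_conj]
        have hsq : C * ((w ^ 2 : G2) : M2p) = ((w ^ 2 : G2) : M2p) * C := by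
          have hwc : (w : M2p) * C = d * w := by
            rw [hd, hC, ← Units.val_mul, ← Units.val_mul]; congr 1; group
          rcases eq_or_eq_sub hq h2 hdc ht hdet with h | h
          · rw [h] at hwc
            rw [Units.val_pow_eq_pow_val]
            exact (Commute.pow_right (show Commute C (w : M2p) from hwc.symm) 2).eq
          · rw [h] at hwc
            have hC2 : C * (w : M2p) = w * (C.trace • 1 - C) := by
              rw [mul_sub, hwc, Matrix.mul_smul, mul_one, Matrix.sub_mul, Matrix.smul_mul, one_mul, sub_sub_cancel]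
            rw [Units.val_pow_eq_pow_val, pow_two, ← mul_assoc, hC2, mul_assoc, ← hwc, mul_assoc]
        obtain ⟨k, hk⟩ := mem_zpowers_sq w (hoddX w hw)
        rw [hk, Units.val_pow_eq_pow_val]
        exact (Commute.pow_right hsq k).eq
      exact fun a ha b hb => Units.ext (centralizer_comm hq (hcent a ha) (hcent b hb))
    · push Not at hsc
      by_contra hX
      push Not at hX
      obtain ⟨a₀, ha₀, b₀, hb₀, hab₀⟩ := hX
      have hex : ∃ k, (derivedSeries X k).map X.subtype ≤ N := by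
        obtain ⟨k, hk⟩ := (Group.isSolvable_def X).1 inferInstance
        exact ⟨k, by rw [hk, Subgroup.map_bot]; exact bot_le⟩
      have h0 : Nat.find hex ≠ 0 := fun h => by
        have := Nat.find_spec hex
        rw [h, derivedSeries_zero, ← MonoidHom.range_eq_map, Subgroup.range_subtype] at this
        exact hab₀ (Units.ext (isSc_comm (hsc a₀ (this ha₀)) _))
      obtain ⟨j, hj⟩ := Nat.exists_eq_succ_of_ne_zero h0
      set D₀ := (derivedSeries X j).map X.subtype with hD₀
      have hnot : ¬ D₀ ≤ N := Nat.find_min hex (by omega)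
      have hD₁ : ∀ a ∈ D₀, ∀ b ∈ D₀, a * b = b * a := by
        intro a ha b hb
        have hN' : ⁅a, b⁆ ∈ N := by
          have h := Nat.find_spec hex
          rw [hj, derivedSeries_succ, Subgroup.map_commutator] at h
          exact h (Subgroup.commutator_mem_commutator ha hb)
        have hsc' := hsc _ hN'
        have hXm : ⁅a, b⁆ ∈ X := hNX hN'
        have hdet1 : ((⁅a, b⁆ : G2) : M2p).det = 1 := by
          have : Matrix.GeneralLinearGroup.det (⁅a, b⁆ : G2) = 1 := by
            rw [map_commutatorElement, commutatorElement_eq_one_iff_mul_comm]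
            exact mul_comm _ _
          exact congrArg Units.val this
        obtain ⟨s1, s2, s3⟩ := hsc'
        rw [Matrix.det_fin_two, s1, s2, ← s3, mul_zero, sub_zero] at hdet1
        have hsqone : (⁅a, b⁆ : G2) ^ 2 = 1 := by
          refine Units.ext ?_
          rw [Units.val_pow_eq_pow_val, Units.val_one]
          exact eq_one_of_det (isSc_pow ⟨s1, s2, s3⟩ 2) (by simp [pow_two, Matrix.mul_apply, Fin.sum_univ_two, s1, hdet1])
        obtain ⟨k, hk⟩ := mem_zpowers_sq _ (hoddX _ hXm)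
        rw [hsqone, one_pow] at hk
        exact commutatorElement_eq_one_iff_mul_comm.1 hk
      have hD₀X : D₀ ≤ X := Subgroup.map_subtype_le _
      have hD₀n : ∀ w ∈ X, ∀ n ∈ D₀, w * n * w⁻¹ ∈ D₀ := by
        rintro w hw n ⟨n', hn', rfl⟩
        exact ⟨⟨w, hw⟩ * n' * ⟨w, hw⟩⁻¹, (derivedSeries_normal X j).conj_mem n' hn' _, rfl⟩
      refine hnot (le_sup_right.trans (hmax (j := N ⊔ D₀) ⟨sup_le hNX hD₀X, ?_, ?_⟩ le_sup_left))
      · intro w hw n hn
        refine (?_ : N ⊔ D₀ ≤ (N ⊔ D₀).comap (MulAut.conj w).toMonoidHom) hn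
        exact sup_le (fun x hx => Subgroup.mem_sup_left (hNn w hw x hx))
          (fun x hx => Subgroup.mem_sup_right (hD₀n w hw x hx))
      · have h1 : N ⊔ D₀ ≤ Subgroup.centralizer ((N ⊔ D₀ : Subgroup G2) : Set G2) := by
          rw [Subgroup.le_centralizer_iff]
          refine sup_le (fun x hx => Subgroup.mem_centralizer_iff.2 fun y hy => ?_) ?_
          · exact (Units.ext (isSc_comm (hsc x hx) _)).symm
          · rw [Subgroup.le_centralizer_iff]
            refine sup_le (fun x hx => Subgroup.mem_centralizer_iff.2 fun y _ => ?_)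
              (fun x hx => Subgroup.mem_centralizer_iff.2 fun y hy => hD₁ y hy x hx)
            exact (Units.ext (isSc_comm (hsc x hx) _)).symm
        exact fun a ha b hb => Subgroup.mem_centralizer_iff.1 (h1 hb) a ha

theorem pow_p_eq_one_of_mem_commutator (hp : p ≠ 2) {W : Type*} [Group W] [Finite W] [Group.IsSolvable W]
    (hodd : Odd (Nat.card W)) (g : W →* G2) {w : W} (hw : w ∈ commutator W) : g w ^ p = 1 := by
  haveI : Group.IsSolvable g.range := Group.isSolvable_of_surjective g.rangeRestrict_surjective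
  have hX : Odd (Nat.card g.range) := hodd.of_dvd_nat (Subgroup.card_range_dvd g)
  have hdet : commutator W ≤ ((Matrix.GeneralLinearGroup.det).comp g).ker := by
    refine Abelianization.commutator_subset_ker _
  rcases dichotomy hp g.range hX with h | ⟨v, hv, h⟩
  · have : commutator W ≤ g.ker := by
      rw [commutator_def, Subgroup.commutator_le]
      intro a _ b _
      rw [MonoidHom.mem_ker, map_commutatorElement, commutatorElement_eq_one_iff_mul_comm]
      exact h _ ⟨a, rfl⟩ _ ⟨b, rfl⟩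
    rw [this hw, one_pow]
  · have hfix : (g w : M2p) *ᵥ v = v := by
      let S : Subgroup W :=
        { carrier := {x | (g x : M2p) *ᵥ v = v}
          one_mem' := show (g 1 : M2p) *ᵥ v = v by rw [map_one, Units.val_one, Matrix.one_mulVec]
          mul_mem' := fun {a b} ha hb => by
            show (g (a * b) : M2p) *ᵥ v = v
            rw [map_mul, Units.val_mul, ← Matrix.mulVec_mulVec, hb, ha]
          inv_mem' := fun {a} ha => by
            show (g a⁻¹ : M2p) *ᵥ v = v
            conv_lhs => rw [← (show (g a : M2p) *ᵥ v = v from ha)]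
            rw [Matrix.mulVec_mulVec, ← Units.val_mul, ← map_mul, inv_mul_cancel, map_one, Units.val_one,
              Matrix.one_mulVec] }
      refine (?_ : commutator W ≤ S) hw
      rw [commutator_def, Subgroup.commutator_le]
      intro a _ b _
      show (g ⁅a, b⁆ : M2p) *ᵥ v = v
      obtain ⟨α, hα⟩ := h _ ⟨a, rfl⟩
      obtain ⟨β, hβ⟩ := h _ ⟨b, rfl⟩
      have hba : (g (b * a) : M2p) *ᵥ v = (β * α) • v := by
        rw [map_mul, Units.val_mul, ← Matrix.mulVec_mulVec, hα, Matrix.mulVec_smul, hβ, smul_smul, mul_comm]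
      have hab : (g (a * b) : M2p) *ᵥ v = (β * α) • v := by
        rw [map_mul, Units.val_mul, ← Matrix.mulVec_mulVec, hβ, Matrix.mulVec_smul, hα, smul_smul]
      have hne : β * α ≠ 0 := fun h0 => hv (by
        have h3 : (((g (b * a))⁻¹ * g (b * a) : G2) : M2p) *ᵥ v = 0 := by
          rw [Units.val_mul, ← Matrix.mulVec_mulVec, hba, h0, zero_smul, Matrix.mulVec_zero]
        rwa [inv_mul_cancel, Units.val_one, Matrix.one_mulVec] at h3)
      have key : (g ⁅a, b⁆ : M2p) *ᵥ ((β * α) • v) = (β * α) • v := by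
        conv_lhs => rw [← hba]
        rw [Matrix.mulVec_mulVec, ← Units.val_mul, ← map_mul, commutatorElement_def]
        rw [show a * b * a⁻¹ * b⁻¹ * (b * a) = a * b by group, hab]
      rw [Matrix.mulVec_smul] at key
      exact smul_right_injective _ hne key
    have hd1 : (g w : M2p).det = 1 := congrArg Units.val (hdet hw)
    set A : Matrix (Fin 2) (Fin 2) (ZMod p) := (g w : M2p)
    have h0 : (A - 1).det = 0 := Matrix.exists_mulVec_eq_zero_iff.1
      ⟨v, hv, by rw [Matrix.sub_mulVec, hfix, Matrix.one_mulVec, sub_self]⟩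
    rw [Matrix.det_fin_two] at hd1 h0
    simp at h0
    have htr : A 0 0 + A 1 1 = 1 + 1 := by linear_combination hd1 - h0
    have hsq := sq_eq_zero (M := A) (t := 1) htr.symm (by linear_combination (A 0 0 + A 1 1 + 2) * htr - 4 * hd1)
      (two_ne_zero' hp)
    rw [one_smul] at hsq
    have hAp : (A - 1) ^ p = 0 := pow_eq_zero_of_le (Fact.out : p.Prime).two_le hsq
    rw [sub_pow_char_of_commute p (Commute.one_right A), one_pow, sub_eq_zero] at hAp
    exact Units.ext (by rw [Units.val_pow_eq_pow_val, Units.val_one]; exact hAp)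

theorem prime_lt (hp : p ≠ 2) {q : ℕ} (hq : q.Prime) (hq2 : q ≠ 2) (hqp : q ≠ p) {x : G2}
    (hx : q ∣ orderOf x) : q < p := by
  have hd : q ∣ (p ^ 2 - 1) * (p ^ 2 - p) := by
    have := hx.trans (orderOf_dvd_natCard x)
    rwa [Fusion.GLTwoSylow.card_gl2, ZMod.card] at this
  have hP : p.Prime := Fact.out
  have h1 := hP.two_le
  obtain ⟨m, hm⟩ := hP.odd_of_ne_two hp
  have hsmall : ∀ n, n ∣ p + 1 ∨ n ∣ p - 1 → n = q → q < p := by
    rintro n hn rfl
    have hc : Nat.Coprime n 2 := (Nat.coprime_primes hq Nat.prime_two).2 hq2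
    rcases hn with h | h
    · have : n ∣ m + 1 := hc.dvd_of_dvd_mul_left (by rw [show 2 * (m + 1) = p + 1 by omega]; exact h)
      have := Nat.le_of_dvd (by omega) this
      omega
    · have := Nat.le_of_dvd (by omega) h
      omega
  rw [show p ^ 2 - 1 = (p + 1) * (p - 1) by rw [← Nat.sq_sub_sq, one_pow],
    show p ^ 2 - p = p * (p - 1) by rw [Nat.mul_sub, mul_one, pow_two]] at hd
  rcases (hq.dvd_mul.1 hd) with h | h <;> rcases hq.dvd_mul.1 h with h | h
  · exact hsmall q (Or.inl h) rfl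
  · exact hsmall q (Or.inr h) rfl
  · exact absurd ((Nat.prime_dvd_prime_iff_eq hq hP).1 h) hqp
  · exact hsmall q (Or.inr h) rfl

end Cfsg.Agent.Solv.OddLinearTwo
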