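import Mathlib
import Cfsg.Prelude
import Cfsg.Agent.Lib.Solv.OddLinearTwo
import Cfsg.Agent.Lib.Fusion.Critical
import Cfsg.Agent.Lib.Solv.AlperinCentralizer
import Cfsg.Agent.Lib.Solv.NarrowBasic
import Cfsg.Agent.Lib.Solv.StructMisc
import Cfsg.Agent.Lib.Solv.Coprime
import Cfsg.Agent.Lib.Struct.ClassTwoBasic
import Cfsg.Agent.Lib.Block.CoreKernel

/-!
Groups of odd order acting on a `p`-group of rank at most two.
-/

set_option autoImplicit false
set_option linter.style.haveILetI false

namespace Cfsg.Agent.Solv.OddRankTwo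

open Subgroup Matrix
open scoped commutatorElement

universe u

variable {R : Type u} [Group R] [Finite R] {p : ℕ} [Fact p.Prime]

theorem card_exponent_le (hR : IsPGroup p R) (hr : Cfsg.PRankLE p 2 R) (D : Subgroup R) (hD : ∀ x ∈ D, x ^ p = 1) :
    Nat.card D ≤ p ^ 3 ∧ ((∀ a ∈ D, ∀ b ∈ D, a * b = b * a) → Nat.card D ≤ p ^ 2) := by
  refine ⟨?_, fun h => hr D ⟨⟨fun a b => Subtype.ext (h a a.2 b b.2)⟩⟩ hD⟩
  obtain ⟨A, -, hAn, hAc, hAsc⟩ := NarrowBasic.exists_selfCentralizing_ge (hR.to_subgroup D) ⊥ inferInstance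
    (fun x hx y _ => by rw [Subgroup.mem_bot.1 hx]; exact Commute.one_left y)
  have hA2 : Nat.card A ≤ p ^ 2 := by
    rw [← Solv.card_map_subtype D A]
    refine hr (A.map D.subtype) ⟨⟨?_⟩⟩ ?_
    · rintro ⟨_, a, ha, rfl⟩ ⟨_, b, hb, rfl⟩
      exact Subtype.ext (congrArg D.subtype (hAc a ha b hb).eq)
    · rintro _ ⟨a, -, rfl⟩
      exact hD a a.2
  have hC : centralizer (A : Set D) = A :=
    le_antisymm (fun x hx => hAsc x fun y hy => (hx y hy).symm) (fun x hx y hy => (hAc y hy x hx).eq)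
  obtain ⟨b, hb⟩ := (hR.to_subgroup D).to_subgroup A |>.exists_card_eq
  have hb2 : b ≤ 2 := (Nat.pow_le_pow_iff_right (Fact.out : p.Prime).one_lt).1 (hb ▸ hA2)
  have hidx := AlperinC.index_centralizer_le (hR.to_subgroup D) b A hAn hb
  rw [hC] at hidx
  rw [← Subgroup.card_mul_index A, show (3 : ℕ) = 2 + 1 from rfl, pow_succ]
  refine Nat.mul_le_mul hA2 (hidx.trans ?_)
  conv_rhs => rw [← pow_one p]
  refine Nat.pow_le_pow_right (Fact.out : p.Prime).pos ?_
  interval_cases b <;> norm_num

theorem frattini_index_le (hR : IsPGroup p R) (hr : Cfsg.PRankLE p 2 R) (D : Subgroup R) (hD : ∀ x ∈ D, x ^ p = 1) :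
    (frattini D).index ≤ p ^ 2 := by
  obtain ⟨h3, h2⟩ := card_exponent_le hR hr D hD
  have hmul := Subgroup.card_mul_index (frattini D)
  by_cases hab : ∀ a ∈ D, ∀ b ∈ D, a * b = b * a
  · exact ((Nat.le_mul_of_pos_left _ Nat.card_pos).trans hmul.le).trans (h2 hab)
  haveI := (hR.to_subgroup D).isNilpotent
  have hne : frattini D ≠ ⊥ := fun h => hab fun a ha b hb => by
    have := Solv.commutator_le_frattini (G := D) (commutator_mem_commutator (mem_top ⟨a, ha⟩) (mem_top ⟨b, hb⟩))
    rw [h, mem_bot, commutatorElement_eq_one_iff_mul_comm] at this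
    exact congrArg Subtype.val this
  obtain ⟨k, hk⟩ := ((hR.to_subgroup D).to_subgroup (frattini D)).exists_card_eq
  have hk0 : k ≠ 0 := fun h => hne (Subgroup.eq_bot_of_card_eq _ (by rw [hk, h, pow_zero]))
  have hp : p ≤ Nat.card (frattini D) := hk ▸ Nat.le_self_pow hk0 p
  refine Nat.le_of_mul_le_mul_left ?_ (Fact.out : p.Prime).pos
  calc p * (frattini D).index ≤ Nat.card (frattini D) * (frattini D).index := Nat.mul_le_mul_right _ hp
    _ = Nat.card D := hmul
    _ ≤ p ^ 3 := h3
    _ = p * p ^ 2 := by ring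

/-- An automorphism of prime order `q ≠ p` trivial on the Frattini quotient fixes every element. -/
theorem eq_self_of_trivial_mod_frattini (hR : IsPGroup p R) (e : R ≃* R) {q : ℕ} (hq : q.Prime) (hqp : q ≠ p)
    (heq : ∀ x, (⇑e)^[q] x = x) (h : ∀ x, x⁻¹ * e x ∈ frattini R) : ∀ x, e x = x := by
  classical
  haveI : Fact q.Prime := ⟨hq⟩
  haveI := Fintype.ofFinite R
  let C : Subgroup R :=
    { carrier := {x | e x = x}
      one_mem' := map_one e
      mul_mem' := fun {a b} (ha : e a = a) (hb : e b = b) => show e (a * b) = a * b by rw [map_mul, ha, hb]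
      inv_mem' := fun {a} (ha : e a = a) => show e a⁻¹ = a⁻¹ by rw [map_inv, ha] }
  suffices C = ⊤ from fun x => show x ∈ C by rw [this]; exact Subgroup.mem_top x
  refine frattini_nongenerating (eq_top_iff.2 fun x _ => ?_)
  let α := {y : R // x⁻¹ * y ∈ frattini R}
  have hmem : ∀ y : R, x⁻¹ * e y ∈ frattini R ↔ x⁻¹ * y ∈ frattini R := by
    intro y
    rw [show x⁻¹ * e y = (x⁻¹ * y) * (y⁻¹ * e y) by group]
    exact Subgroup.mul_mem_cancel_right _ (h y)
  let σ : Equiv.Perm α := Equiv.Perm.subtypePerm e.toEquiv (fun y => hmem y)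
  have hσn : ∀ (n : ℕ) (y : α), (((σ ^ n : Equiv.Perm α) y : α) : R) = (⇑e)^[n] y := by
    intro n
    induction n with
    | zero => intro y; rfl
    | succ n ih => intro y; rw [pow_succ', Equiv.Perm.mul_apply, Function.iterate_succ_apply', ← ih]; rfl
  have hσ : σ ^ q ^ 1 = 1 := by
    rw [pow_one]
    exact Equiv.ext fun y => Subtype.ext ((hσn q y).trans (heq _))
  have hcard : ¬ q ∣ Fintype.card α := by
    obtain ⟨k, hk⟩ := (hR.to_subgroup (frattini R)).exists_card_eq
    have e1 : Fintype.card α = p ^ k := by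
      rw [← Nat.card_eq_fintype_card, ← hk]
      exact Nat.card_congr ⟨fun y => ⟨x⁻¹ * y.1, y.2⟩, fun z => ⟨x * z.1, by simp⟩,
        fun y => Subtype.ext (by simp), fun z => Subtype.ext (by simp)⟩
    rw [e1]
    exact fun hd => hqp ((Nat.prime_dvd_prime_iff_eq hq Fact.out).1 (hq.dvd_of_dvd_pow hd))
  obtain ⟨y, hy⟩ := Equiv.Perm.exists_fixed_point_of_prime hcard hσ
  rw [show x = y.1 * (x⁻¹ * y.1)⁻¹ by group]
  exact Subgroup.mul_mem_sup (congrArg Subtype.val hy : e y.1 = y.1) (inv_mem y.2)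

/-- A representation in `GL₂(p)` whose kernel contains no automorphism of prime order other than `p`. -/
theorem exists_linear (hp : p ≠ 2) (hR : IsPGroup p R) (hr : Cfsg.PRankLE p 2 R) :
    ∃ ρ : MulAut R →* GL (Fin 2) (ZMod p), ∀ α : MulAut R, ∀ q : ℕ, q.Prime → q ≠ p → orderOf α = q → ρ α ≠ 1 := by
  classical
  obtain ⟨D, hDc, hDexp, hDfaith⟩ := Fusion.exists_small_faithful hR
  have hD : ∀ x ∈ D, x ^ p = 1 := fun x hx => (hDexp x hx).resolve_right fun h => hp h.1
  have hidx := frattini_index_le hR hr D hD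
  set Φ := frattini D with hΦ
  haveI : Φ.Normal := inferInstance
  haveI := (hR.to_subgroup D).isNilpotent
  have hcomm : ∀ a b : D ⧸ Φ, a * b = b * a := fun a b => by
    induction a using QuotientGroup.induction_on with
    | _ a =>
      induction b using QuotientGroup.induction_on with
      | _ b =>
        refine commutatorElement_eq_one_iff_mul_comm.1 ?_
        show (QuotientGroup.mk' Φ) ⁅a, b⁆ = 1
        exact (QuotientGroup.eq_one_iff _).2
          (Solv.commutator_le_frattini (commutator_mem_commutator (mem_top a) (mem_top b)))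
  have hpow : ∀ a : D ⧸ Φ, a ^ p = 1 := fun a => by
    induction a using QuotientGroup.induction_on with
    | _ a => rw [← QuotientGroup.mk_pow, show a ^ p = 1 from Subtype.ext (hD a a.2)]; rfl
  letI : CommGroup (D ⧸ Φ) := { (inferInstance : Group (D ⧸ Φ)) with mul_comm := hcomm }
  letI : Module (ZMod p) (Additive (D ⧸ Φ)) := AddCommGroup.zmodModule (n := p) fun v =>
    Additive.toMul.injective (hpow (Additive.toMul v))
  haveI : Module.Finite (ZMod p) (Additive (D ⧸ Φ)) := Module.Finite.of_finite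
  have hcardV : Nat.card (Additive (D ⧸ Φ)) = p ^ Module.finrank (ZMod p) (Additive (D ⧸ Φ)) := by
    exact (FiniteField.pow_finrank_eq_natCard p (Additive (D ⧸ Φ))).symm
  have hn : Module.finrank (ZMod p) (Additive (D ⧸ Φ)) ≤ 2 := by
    refine (Nat.pow_le_pow_iff_right (Fact.out : p.Prime).one_lt).1 ?_
    rw [← hcardV]
    exact hidx
  let L : ((Additive (D ⧸ Φ)) × (Fin (2 - Module.finrank (ZMod p) (Additive (D ⧸ Φ))) → ZMod p)) ≃ₗ[ZMod p] (Fin 2 → ZMod p) :=
    LinearEquiv.ofFinrankEq _ _ (by rw [Module.finrank_prod, Module.finrank_fin_fun, Module.finrank_fin_fun]; omega)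
  have hmap : ∀ α : MulAut R, ∀ x : D, α (x : R) ∈ D := fun α x =>
    (Subgroup.characteristic_iff_le_comap.1 hDc α) x.2
  let res : MulAut R → (D →* D) := fun α => (α.toMonoidHom.comp D.subtype).codRestrict D (hmap α)
  have hΦres : ∀ α : MulAut R, Φ ≤ Φ.comap (res α) := by
    intro α
    let e : D ≃* D := (α.subgroupMap D).trans (MulEquiv.subgroupCongr (Subgroup.characteristic_iff_map_eq.1 hDc α))
    have he : res α = e.toMonoidHom := MonoidHom.ext fun x => rfl
    rw [he]
    exact Subgroup.characteristic_iff_le_comap.1 frattini_characteristic e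
  let g : MulAut R → Module.End (ZMod p) (Additive (D ⧸ Φ)) := fun α =>
    (MonoidHom.toAdditive (QuotientGroup.map Φ Φ (res α) (hΦres α))).toZModLinearMap p
  have hg : ∀ (α : MulAut R) (x : D), g α (Additive.ofMul (x : D ⧸ Φ)) = Additive.ofMul ((res α x : D) : D ⧸ Φ) :=
    fun α x => rfl
  have hg1 : g 1 = 1 := LinearMap.ext fun v => by
    obtain ⟨a, rfl⟩ : ∃ a : D, Additive.ofMul (a : D ⧸ Φ) = v := QuotientGroup.mk_surjective (Additive.toMul v)
    exact (hg 1 a).trans rfl
  have hgm : ∀ α β, g (α * β) = g α * g β := fun α β => LinearMap.ext fun v => by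
    obtain ⟨a, rfl⟩ : ∃ a : D, Additive.ofMul (a : D ⧸ Φ) = v := QuotientGroup.mk_surjective (Additive.toMul v)
    rw [Module.End.mul_apply, hg, hg, hg]
    rfl
  let φ : MulAut R →* Matrix (Fin 2) (Fin 2) (ZMod p) :=
    { toFun := fun α => LinearMap.toMatrixAlgEquiv' (L.conj ((g α).prodMap LinearMap.id))
      map_one' := by
        rw [hg1, show ((1 : Module.End (ZMod p) (Additive (D ⧸ Φ))).prodMap (LinearMap.id :
            (Fin (2 - Module.finrank (ZMod p) (Additive (D ⧸ Φ))) → ZMod p) →ₗ[ZMod p] _)) = LinearMap.id from LinearMap.prodMap_id,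
          LinearEquiv.conj_id]
        exact map_one _
      map_mul' := fun α β => by
        rw [← map_mul, hgm]
        congr 1
        rw [Module.End.mul_eq_comp, Module.End.mul_eq_comp, ← LinearEquiv.conj_comp]
        congr 1 }
  refine ⟨φ.toHomUnits, fun α q hq hqp hα h1 => ?_⟩
  have hφ : LinearMap.toMatrixAlgEquiv' (L.conj ((g α).prodMap LinearMap.id)) = 1 := congrArg Units.val h1
  rw [← map_one (LinearMap.toMatrixAlgEquiv' (R := ZMod p) (n := Fin 2)), EmbeddingLike.apply_eq_iff_eq,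
    Module.End.one_eq_id, ← L.conj_id, EmbeddingLike.apply_eq_iff_eq] at hφ
  have hgα : ∀ v, g α v = v := fun v => congrArg Prod.fst (LinearMap.congr_fun hφ (v, 0))
  have hcop : (orderOf α).Coprime p := hα ▸ (Nat.coprime_primes hq Fact.out).2 hqp
  refine hq.one_lt.ne' (hα ▸ orderOf_eq_one_iff.2 (hDfaith α hcop fun x hx => ?_))
  let e : D ≃* D := (α.subgroupMap D).trans (MulEquiv.subgroupCongr (Subgroup.characteristic_iff_map_eq.1 hDc α))
  have hit : ∀ (n : ℕ) (y : D), (((⇑e)^[n] y : D) : R) = (α ^ n) y := by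
    intro n
    induction n with
    | zero => intro y; rfl
    | succ n ih =>
      intro y
      rw [Function.iterate_succ_apply', pow_succ', MulAut.mul_apply, ← ih]
      rfl
  refine congrArg Subtype.val (eq_self_of_trivial_mod_frattini (hR.to_subgroup D) e hq hqp
    (fun y => Subtype.ext ((hit q y).trans (by rw [← hα, pow_orderOf_eq_one]; rfl))) (fun y => ?_) ⟨x, hx⟩)
  exact QuotientGroup.eq.1 (Additive.ofMul.injective ((hg α y).symm.trans (hgα _))).symm

/-- Odd order solvable groups acting on a `p`-group of rank two. -/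
theorem rank_two_action (hp : p ≠ 2) (hR : IsPGroup p R) (hr : Cfsg.PRankLE p 2 R) {W : Type*} [Group W] [Finite W]
    [Group.IsSolvable W] (hodd : Odd (Nat.card W)) (f : W →* MulAut R) :
    (∀ w ∈ commutator W, ∀ q : ℕ, q.Prime → q ∣ orderOf (f w) → q = p) ∧
      ∀ w : W, ∀ q : ℕ, q.Prime → q ∣ orderOf (f w) → q ≠ p → q < p := by
  obtain ⟨ρ, hρ⟩ := exists_linear hp hR hr
  have key : ∀ (w : W) (q : ℕ), q.Prime → q ∣ orderOf (f w) → q ≠ p →
      ∃ k : ℕ, orderOf (ρ (f (w ^ k))) = q := by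
    intro w q hq hd hqp
    haveI : Fact q.Prime := ⟨hq⟩
    refine ⟨orderOf (f w) / q, orderOf_eq_prime ?_ (hρ _ q hq hqp ?_)⟩
    · rw [← map_pow, ← map_pow, ← pow_mul, Nat.div_mul_cancel hd, map_pow, pow_orderOf_eq_one, map_one]
    · rw [map_pow]
      exact orderOf_pow_orderOf_div (orderOf_pos _).ne' hd
  refine ⟨fun w hw q hq hd => ?_, fun w q hq hd hqp => ?_⟩
  · by_contra hqp
    obtain ⟨k, hk⟩ := key w q hq hd hqp
    have h := OddLinearTwo.pow_p_eq_one_of_mem_commutator hp hodd (ρ.comp f) (pow_mem hw k)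
    have := orderOf_dvd_of_pow_eq_one h
    rw [MonoidHom.comp_apply, hk] at this
    exact hqp ((Nat.prime_dvd_prime_iff_eq hq Fact.out).1 this)
  · obtain ⟨k, hk⟩ := key w q hq hd hqp
    refine OddLinearTwo.prime_lt hp hq (fun h2 => ?_) hqp (x := ρ (f (w ^ k))) hk.symm.dvd
    have h4 : 2 ∣ Nat.card W := by
      rw [← h2, ← hk]
      exact (orderOf_map_dvd (ρ.comp f) (w ^ k)).trans (orderOf_dvd_natCard _)
    obtain ⟨a, ha⟩ := hodd
    omega

theorem prime_ne_two {G : Type*} [Group G] (hodd : Odd (Nat.card G)) {q : ℕ} (h : q ∣ Nat.card G) : q ≠ 2 := by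
  rintro rfl
  obtain ⟨a, ha⟩ := hodd
  omega

theorem isPGroup_iff_prime_dvd {G : Type*} [Group G] [Finite G] :
    IsPGroup p G ↔ ∀ x : G, ∀ q : ℕ, q.Prime → q ∣ orderOf x → q = p := by
  constructor
  · intro h x q hq hd
    obtain ⟨k, hk⟩ := (IsPGroup.iff_orderOf.1 h) x
    exact (Nat.prime_dvd_prime_iff_eq hq Fact.out).1 (hq.dvd_of_dvd_pow (hk ▸ hd))
  · intro h
    rw [IsPGroup.iff_orderOf]
    exact fun x => ⟨_, Nat.eq_prime_pow_of_unique_prime_dvd (orderOf_pos x).ne' fun {d} hd1 hd2 => h x d hd1 hd2⟩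

theorem prankLE_quotient {G : Type*} [Group G] [Finite G] (hr : Cfsg.PRankLE p 2 G) (N : Subgroup G) [N.Normal]
    (hN : (Nat.card N).Coprime p) : Cfsg.PRankLE p 2 (G ⧸ N) := by
  intro A hAc hAe
  set H := A.comap (QuotientGroup.mk' N) with hH
  obtain ⟨S⟩ := Sylow.nonempty (p := p) (G := H)
  set T := (S : Subgroup H).map H.subtype with hT
  have hTp : IsPGroup p T := S.isPGroup'.map _
  have hTH : T ≤ H := Subgroup.map_subtype_le _
  have hTN : T ⊓ N = ⊥ := inf_eq_bot_of_isPGroup hTp hN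
  have hinj : ∀ x ∈ T, QuotientGroup.mk' N x = 1 → x = 1 := fun x hx h =>
    Subgroup.mem_bot.1 (hTN ▸ Subgroup.mem_inf.2 ⟨hx, (QuotientGroup.eq_one_iff x).1 h⟩)
  have hle : Nat.card T ≤ p ^ 2 := by
    refine hr T ⟨⟨fun a b => Subtype.ext ?_⟩⟩ fun a ha => ?_
    · refine commutatorElement_eq_one_iff_mul_comm.1 (hinj _ (by
        simp only [commutatorElement_def]
        exact mul_mem (mul_mem (mul_mem a.2 b.2) (inv_mem a.2)) (inv_mem b.2)) ?_)
      rw [map_commutatorElement, commutatorElement_eq_one_iff_mul_comm]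
      exact congrArg Subtype.val (hAc.is_comm.comm ⟨_, hTH a.2⟩ ⟨_, hTH b.2⟩)
    · refine hinj _ (pow_mem ha p) ?_
      rw [map_pow]
      exact hAe _ (hTH ha)
  have hAp : IsPGroup p A := fun a => ⟨1, Subtype.ext (by rw [pow_one]; exact hAe a a.2)⟩
  obtain ⟨i, hi⟩ := hAp.exists_card_eq
  have hcard : Nat.card H = Nat.card N * p ^ i := by rw [hH, card_comap_mk', hi]
  refine le_trans (le_of_eq ?_) hle
  rw [hi, hT, card_map_subtype, Sylow.card_eq_multiplicity, hcard]
  congr 1
  rw [Nat.factorization_mul Nat.card_pos.ne' (pow_ne_zero _ (Fact.out : p.Prime).ne_zero), Finsupp.add_apply,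
    Nat.factorization_eq_zero_of_not_dvd ((Fact.out : p.Prime).coprime_iff_not_dvd.1 hN.symm),
    (Fact.out : p.Prime).factorization_pow, Finsupp.single_eq_same, zero_add]

/-- When an element centralizes `O_r(G)`. -/
theorem centralizes_pCore {G : Type*} [Group G] [Finite G] [Group.IsSolvable G] (hodd : Odd (Nat.card G))
    (hr : ∀ q : ℕ, q.Prime → Cfsg.PRankLE q 2 (pCore q G)) {r : ℕ} (hr0 : r.Prime) (x : G)
    (hx : ∀ q : ℕ, q.Prime → q ∣ orderOf x → q ≠ r ∧ (x ∈ commutator G ∨ r ≤ q)) :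
    x ∈ Subgroup.centralizer (pCore r G : Set G) := by
  haveI : Fact r.Prime := ⟨hr0⟩
  by_cases h0 : pCore r G = ⊥
  · rw [h0]
    exact Subgroup.mem_centralizer_iff.2 fun y hy => by
      rw [Subgroup.mem_bot.1 hy, one_mul, mul_one]
  have hd : r ∣ Nat.card G := by
    obtain ⟨k, hk⟩ := (isPGroup_pCore r G).exists_card_eq
    have hk0 : k ≠ 0 := fun h => h0 (Subgroup.eq_bot_of_card_eq _ (by rw [hk, h, pow_zero]))
    exact (dvd_pow_self r hk0).trans (hk ▸ Subgroup.card_subgroup_dvd_card _)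
  let f : G →* MulAut (pCore r G) := MulAut.conjNormal
  obtain ⟨h1, h2⟩ := rank_two_action (prime_ne_two hodd hd) (isPGroup_pCore r G) (hr r hr0) hodd f
  have hf : f x = 1 := orderOf_eq_one_iff.1 (Nat.eq_one_iff_not_exists_prime_dvd.2 fun q hq hdq => by
    obtain ⟨hqr, hx'⟩ := hx q hq (hdq.trans (orderOf_map_dvd f x))
    rcases hx' with h | h
    · exact hqr (h1 x h q hq hdq)
    · exact (h2 x q hq hdq hqr).not_ge h)
  refine Subgroup.mem_centralizer_iff.2 fun y hy => ?_
  have h := congrArg (fun e : MulAut (pCore r G) => ((e ⟨y, hy⟩ : pCore r G) : G)) hf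
  simp only [f, MulAut.conjNormal_apply, MulAut.one_apply] at h
  exact (mul_inv_eq_iff_eq_mul.1 h).symm

theorem commutator_le_fitting {G : Type*} [Group G] [Finite G] [Group.IsSolvable G] (hodd : Odd (Nat.card G))
    (hr : ∀ q : ℕ, q.Prime → Cfsg.PRankLE q 2 (pCore q G)) : commutator G ≤ fittingSubgroup G := by
  refine (Solv.sup_sylow_eq (commutator G)).trans (sSup_le ?_)
  rintro S ⟨q, hq, hS, hSle⟩
  haveI : Fact q.Prime := ⟨hq⟩
  haveI : ∀ r : Nat.Primes, (pCore (r : ℕ) G).Normal := fun r => inferInstance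
  set M : Subgroup G := commutator G ⊓ ⨅ r : {r : Nat.Primes // (r : ℕ) ≠ q}, centralizer (pCore ((r : Nat.Primes) : ℕ) G : Set G)
    with hM
  haveI : (⨅ r : {r : Nat.Primes // (r : ℕ) ≠ q}, centralizer (pCore ((r : Nat.Primes) : ℕ) G : Set G)).Normal :=
    Subgroup.normal_iInf_normal fun r => inferInstance
  haveI hMn : M.Normal := inferInstance
  have hSM : S ≤ M := fun x hx => Subgroup.mem_inf.2 ⟨hSle hx, Subgroup.mem_iInf.2 fun r =>
    centralizes_pCore hodd hr r.1.2 x fun s hs hd => by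
      obtain ⟨k, hk⟩ := (IsPGroup.iff_orderOf.1 hS) ⟨x, hx⟩
      rw [← Subgroup.orderOf_coe] at hk
      rw [hk] at hd
      rw [(Nat.prime_dvd_prime_iff_eq hs hq).1 (hs.dvd_of_dvd_pow hd)]
      exact ⟨Ne.symm r.2, Or.inl (hSle hx)⟩⟩
  refine hSM.trans (@le_fittingSubgroup G _ M hMn ?_)
  -- every element of `M` has a `q`-power in the centre of `M`
  have hF : fittingSubgroup G ≤ pCore q G ⊔ centralizer (M : Set G) := by
    rw [fittingSubgroup_eq_iSup_pCore]
    refine iSup_le fun r => ?_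
    by_cases h : (r : ℕ) = q
    · rw [h]; exact le_sup_left
    · refine le_trans ?_ le_sup_right
      rw [Subgroup.le_centralizer_iff]
      exact inf_le_right.trans (iInf_le _ (⟨r, h⟩ : {r : Nat.Primes // (r : ℕ) ≠ q}))
  have hcenter : IsPGroup q (M ⧸ center M) := by
    intro y
    obtain ⟨m, rfl⟩ := QuotientGroup.mk_surjective y
    by_cases h0 : pCore q G = ⊥
    · refine ⟨0, ?_⟩
      have hmF : (m : G) ∈ fittingSubgroup G := by
        refine centralizer_fittingSubgroup_le ?_
        have : (m : G) ∈ centralizer (fittingSubgroup G : Set G) := by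
          refine (Subgroup.le_centralizer_iff.1 ?_) m.2
          rw [fittingSubgroup_eq_iSup_pCore]
          refine iSup_le fun r => ?_
          by_cases h : (r : ℕ) = q
          · rw [h, h0]; exact bot_le
          · rw [Subgroup.le_centralizer_iff]
            exact inf_le_right.trans (iInf_le _ (⟨r, h⟩ : {r : Nat.Primes // (r : ℕ) ≠ q}))
        exact this
      rw [pow_zero, pow_one, QuotientGroup.eq_one_iff]
      have hm2 := hF hmF
      rw [h0, bot_sup_eq] at hm2
      exact Subgroup.mem_center_iff.2 fun z => Subtype.ext (Subgroup.mem_centralizer_iff.1 hm2 z z.2)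
    have hd : q ∣ Nat.card G := by
      obtain ⟨k, hk⟩ := (isPGroup_pCore q G).exists_card_eq
      have hk0 : k ≠ 0 := fun h => h0 (Subgroup.eq_bot_of_card_eq _ (by rw [hk, h, pow_zero]))
      exact (dvd_pow_self q hk0).trans (hk ▸ Subgroup.card_subgroup_dvd_card _)
    let f : G →* MulAut (pCore q G) := MulAut.conjNormal
    have h1 := (rank_two_action (prime_ne_two hodd hd) (isPGroup_pCore q G) (hr q hq) hodd f).1
    have hfm : orderOf (f m) = q ^ (orderOf (f m)).primeFactorsList.length :=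
      Nat.eq_prime_pow_of_unique_prime_dvd (orderOf_pos _).ne' fun {d} hd1 hd2 => h1 m (Subgroup.mem_inf.1 m.2).1 d hd1 hd2
    set k := (orderOf (f m)).primeFactorsList.length
    set j : M := m ^ q ^ k with hj
    have hjq : (j : G) ∈ centralizer (pCore q G : Set G) := by
      have hfj : f (j : G) = 1 := by
        rw [hj, Subgroup.coe_pow, map_pow, ← hfm, pow_orderOf_eq_one]
      refine Subgroup.mem_centralizer_iff.2 fun y hy => ?_
      have h := congrArg (fun e : MulAut (pCore q G) => ((e ⟨y, hy⟩ : pCore q G) : G)) hfj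
      simp only [f, MulAut.conjNormal_apply, MulAut.one_apply] at h
      exact (mul_inv_eq_iff_eq_mul.1 h).symm
    have hjF : (j : G) ∈ fittingSubgroup G := by
      refine centralizer_fittingSubgroup_le ?_
      have : fittingSubgroup G ≤ centralizer ({(j : G)} : Set G) := by
        rw [fittingSubgroup_eq_iSup_pCore]
        refine iSup_le fun r x hx => Subgroup.mem_centralizer_singleton_iff.2 ?_
        by_cases h : (r : ℕ) = q
        · rw [h] at hx
          exact Subgroup.mem_centralizer_iff.1 hjq x hx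
        · exact Subgroup.mem_centralizer_iff.1
            (Subgroup.mem_iInf.1 (Subgroup.mem_inf.1 j.2).2 ⟨r, h⟩) x hx
      exact Subgroup.mem_centralizer_iff.2 fun x hx => Subgroup.mem_centralizer_singleton_iff.1 (this hx)
    obtain ⟨o, ho, c, hc, hoc⟩ := Subgroup.mem_sup_of_normal_right.1 (hF hjF)
    obtain ⟨l, hl⟩ := (isPGroup_pCore q G) ⟨o, ho⟩
    refine ⟨k + l, (QuotientGroup.eq_one_iff _).2 ?_⟩
    have hmem : ((j : G)) ^ q ^ l ∈ centralizer (M : Set G) := by
      refine (QuotientGroup.eq_one_iff _).1 ?_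
      rw [← hoc, QuotientGroup.mk_pow, QuotientGroup.mk_mul, (QuotientGroup.eq_one_iff c).2 hc, mul_one,
        ← QuotientGroup.mk_pow, show o ^ q ^ l = 1 from congrArg Subtype.val hl]
      rfl
    refine Subgroup.mem_center_iff.2 fun z => Subtype.ext ?_
    have h := Subgroup.mem_centralizer_iff.1 hmem z z.2
    rw [hj, Subgroup.coe_pow, ← pow_mul, ← pow_add] at h
    simpa using h
  haveI : Group.IsNilpotent (M ⧸ center M) := hcenter.isNilpotent
  exact Group.of_quotient_center_nilpotent inferInstance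

theorem choose_two_dvd {m : ℕ} (hm : Odd m) : m ∣ m.choose 2 := by
  obtain ⟨a, rfl⟩ := hm
  exact ⟨a, by rw [Nat.choose_two_right, show 2 * a + 1 - 1 = 2 * a by omega,
    show (2 * a + 1) * (2 * a) = 2 * ((2 * a + 1) * a) by ring, Nat.mul_div_cancel_left _ two_pos]⟩

theorem hall_gt {G : Type*} [Group G] [Finite G] [Group.IsSolvable G] (hodd : Odd (Nat.card G))
    (hr : ∀ q : ℕ, q.Prime → Cfsg.PRankLE q 2 (pCore q G)) (hF : commutator G ≤ fittingSubgroup G) (p : ℕ) :
    ∃ N : Subgroup G, N.Characteristic ∧ Cfsg.IsPiHall {q | q.Prime ∧ p < q} N := by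
  set π : Set ℕ := {q | q.Prime ∧ p < q} with hπ
  set X : Set G := {x | ∀ q : ℕ, q.Prime → q ∣ orderOf x → p < q} with hX
  set H := Subgroup.closure X with hH
  refine ⟨H, ?_, ?_, ?_⟩
  · rw [Subgroup.characteristic_iff_le_comap]
    intro e
    rw [hH, Subgroup.closure_le]
    intro x hx
    exact Subgroup.subset_closure (show e x ∈ X from fun q hq hd => hx q hq (by
      rwa [MulEquiv.orderOf_eq] at hd))
  · have hHK : ∀ r : ℕ, r.Prime → r ≤ p → H ≤ centralizer (pCore r G : Set G) := by
      intro r hr0 hrp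
      rw [hH, Subgroup.closure_le]
      intro x hx
      exact centralizes_pCore hodd hr hr0 x fun q hq hd =>
        ⟨fun h => by have := hx q hq hd; omega, Or.inr (by have := hx q hq hd; omega)⟩
    set Fπ := piCore π G with hFπ
    have hFle : fittingSubgroup G ≤ Fπ ⊔ centralizer (H : Set G) := by
      rw [fittingSubgroup_eq_iSup_pCore]
      refine iSup_le fun r => ?_
      haveI : Fact (r : ℕ).Prime := ⟨r.2⟩
      by_cases h : (r : ℕ) ≤ p
      · refine le_trans ?_ le_sup_right
        rw [Subgroup.le_centralizer_iff]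
        exact hHK r r.2 h
      · refine le_trans (le_sSup (s := {N : Subgroup G | N.Normal ∧ ∀ s : ℕ, s.Prime → s ∣ Nat.card N → s ∈ π})
          ⟨inferInstance, fun s hs hd => ?_⟩) le_sup_left
        obtain ⟨k, hk⟩ := (isPGroup_pCore (r : ℕ) G).exists_card_eq
        rw [hk] at hd
        have := (Nat.prime_dvd_prime_iff_eq hs r.2).1 (hs.dvd_of_dvd_pow hd)
        exact ⟨hs, by omega⟩
    set mk := QuotientGroup.mk' Fπ with hmk
    have hcent : ∀ a b : H.map mk, ⁅a, b⁆ ∈ center (H.map mk) := by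
      intro a b
      obtain ⟨a', ha', ea⟩ := a.2
      obtain ⟨b', hb', eb⟩ := b.2
      obtain ⟨u, hu, v, hv, huv⟩ := Subgroup.mem_sup_of_normal_left.1 (hFle (hF
        (commutator_mem_commutator (Subgroup.mem_top a') (Subgroup.mem_top b'))))
      refine Subgroup.mem_center_iff.2 fun c => Subtype.ext ?_
      obtain ⟨c', hc', ec⟩ := c.2
      have e : ((⁅a, b⁆ : H.map mk) : G ⧸ Fπ) = mk v := by
        have : ((⁅a, b⁆ : H.map mk) : G ⧸ Fπ) = mk ⁅a', b'⁆ := by
          rw [map_commutatorElement, ea, eb]; rfl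
        rw [this, ← huv, map_mul, show mk u = 1 from (QuotientGroup.eq_one_iff u).2 hu, one_mul]
      rw [Subgroup.coe_mul, Subgroup.coe_mul, e, ← ec, ← map_mul, ← map_mul,
        Subgroup.mem_centralizer_iff.1 hv c' hc']
    have hkey : ∀ g, g ∈ H → ∀ q : ℕ, q.Prime → q ∣ orderOf (mk g) → p < q := by
      intro g hg
      induction hg using Subgroup.closure_induction with
      | mem x hx => exact fun q hq hd => hx q hq (hd.trans (orderOf_map_dvd mk x))
      | one => exact fun q hq hd => absurd (by simpa using hd) hq.one_lt.ne'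
      | inv x _ ih => exact fun q hq hd => ih q hq (by rwa [map_inv, orderOf_inv] at hd)
      | mul x y hx hy ihx ihy =>
        intro q hq hd
        let a : H.map mk := ⟨mk x, Subgroup.mem_map_of_mem _ hx⟩
        let b : H.map mk := ⟨mk y, Subgroup.mem_map_of_mem _ hy⟩
        set m := orderOf (mk x) * orderOf (mk y) with hm
        have hoddo : ∀ z : G, Odd (orderOf (mk z)) := fun z =>
          hodd.of_dvd_nat ((orderOf_map_dvd mk z).trans (orderOf_dvd_natCard z))
        have ha : a ^ m = 1 := Subtype.ext (by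
          show (mk x) ^ m = 1
          rw [hm, pow_mul, pow_orderOf_eq_one, one_pow])
        have hb : b ^ m = 1 := Subtype.ext (by
          show (mk y) ^ m = 1
          rw [hm, mul_comm, pow_mul, pow_orderOf_eq_one, one_pow])
        have hab : (a * b) ^ m = 1 := by
          obtain ⟨t, ht⟩ := choose_two_dvd ((hoddo x).mul (hoddo y))
          rw [Struct.ClassTwo.mul_pow hcent, ha, hb, one_mul, one_mul, show m.choose 2 = m * t from ht,
            pow_mul, ← Struct.ClassTwo.pow_left hcent, hb, commutatorElement_one_left, one_pow]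
        have hd' : orderOf (mk (x * y)) ∣ m := orderOf_dvd_of_pow_eq_one (by
          have := congrArg Subtype.val hab
          simpa [a, b] using this)
        rcases hq.dvd_mul.1 (hd.trans hd') with h | h
        · exact ihx q hq h
        · exact ihy q hq h
    intro q hq hd
    refine ⟨hq, ?_⟩
    haveI : Fact q.Prime := ⟨hq⟩
    obtain ⟨x, hx⟩ := exists_prime_orderOf_dvd_card' q hd
    rw [← Subgroup.orderOf_coe] at hx
    by_cases hxF : (x : G) ∈ Fπ
    · exact (Block.piCore_card π q hq (hx ▸ Subgroup.orderOf_dvd_natCard Fπ hxF)).2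
    · refine hkey x x.2 q hq ?_
      rw [orderOf_eq_prime (p := q) (x := mk (x : G)) (by rw [← map_pow, ← hx, pow_orderOf_eq_one, map_one])
        (fun h => hxF ((QuotientGroup.eq_one_iff _).1 h))]
  · intro q hq hqπ
    haveI : Fact q.Prime := ⟨hq⟩
    obtain ⟨S⟩ := Sylow.nonempty (p := q) (G := G)
    have hle : (S : Subgroup G) ≤ H := fun x hx => Subgroup.subset_closure (show x ∈ X from fun s hs hd => by
      obtain ⟨k, hk⟩ := (IsPGroup.iff_orderOf.1 S.isPGroup') ⟨x, hx⟩
      rw [← Subgroup.orderOf_coe] at hk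
      rw [hk] at hd
      rw [(Nat.prime_dvd_prime_iff_eq hs hq).1 (hs.dvd_of_dvd_pow hd)]
      exact hqπ.2)
    exact fun h => S.not_dvd_index (h.trans (Subgroup.index_dvd_of_le hle))

theorem normal_of_char_le_commutator {G : Type*} [Group G] [Finite G] (hF : commutator G ≤ fittingSubgroup G)
    {q : ℕ} [Fact q.Prime] (S : Sylow q G) (T : Subgroup (S : Subgroup G)) (hT : T.Characteristic)
    (hTle : T.map (S : Subgroup G).subtype ≤ ⁅(S : Subgroup G), (S : Subgroup G)⁆) :
    (T.map (S : Subgroup G).subtype).Normal := by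
  set T' := T.map (S : Subgroup G).subtype with hT'
  have hT'c : T' ≤ commutator G := hTle.trans (by rw [commutator_def]; exact commutator_mono le_top le_top)
  have hT'O : T' ≤ pCore q G := by
    haveI := fittingSubgroup_isNilpotent G
    obtain ⟨P⟩ := Sylow.nonempty (p := q) (G := fittingSubgroup G)
    haveI : (P : Subgroup (fittingSubgroup G)).Normal :=
      ((Group.isNilpotent_of_finite_tfae (G := fittingSubgroup G)).out 0 3 rfl rfl).mp inferInstance q inferInstance P
    have hp : (P : Subgroup (fittingSubgroup G)) ≤ pCore q (fittingSubgroup G) := le_pCore P.isPGroup'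
    have hq' : IsPGroup q (T'.subgroupOf (fittingSubgroup G)) :=
      IsPGroup.comap_subtype (S.isPGroup'.to_le (map_subtype_le T))
    obtain ⟨P', hP'⟩ := hq'.exists_le_sylow
    haveI : Unique (Sylow q (fittingSubgroup G)) := Sylow.unique_of_normal P inferInstance
    rw [Subsingleton.elim P' P] at hP'
    intro x hx
    have hx' : (⟨x, hF (hT'c hx)⟩ : fittingSubgroup G) ∈ pCore q (fittingSubgroup G) := hp (hP' hx)
    have := Subgroup.mem_map_of_mem (fittingSubgroup G).subtype hx'
    rw [pCore_map_subtype] at this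
    exact this.1
  have hFN : fittingSubgroup G ≤ normalizer (T' : Set G) := by
    rw [fittingSubgroup_eq_iSup_pCore]
    refine iSup_le fun r => ?_
    haveI : Fact (r : ℕ).Prime := ⟨r.2⟩
    by_cases h : (r : ℕ) = q
    · rw [h]
      refine (pCore_le_sylow S).trans fun g hg => ?_
      refine Subgroup.mem_normalizer_iff.2 fun x => ⟨?_, ?_⟩
      · rintro ⟨t, ht, rfl⟩
        exact ⟨⟨g, hg⟩ * t * ⟨g, hg⟩⁻¹, (Subgroup.normal_of_characteristic T).conj_mem t ht _, rfl⟩
      · rintro ⟨t, ht, e⟩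
        refine ⟨⟨g, hg⟩⁻¹ * t * ⟨g, hg⟩, by
          simpa using (Subgroup.normal_of_characteristic T).conj_mem t ht (⟨g, hg⟩⁻¹), ?_⟩
        show g⁻¹ * (t : G) * g = x
        rw [show (t : G) = g * x * g⁻¹ from e]; group
    · refine le_trans ?_ (Subgroup.centralizer_le_normalizer _)
      rw [Subgroup.le_centralizer_iff]
      refine hT'O.trans ?_
      rw [← commutator_eq_bot_iff_le_centralizer]
      refine commutator_eq_bot_of_disjoint (disjoint_iff.2 (inf_eq_bot_of_isPGroup (isPGroup_pCore q G) ?_))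
      obtain ⟨k, hk⟩ := (isPGroup_pCore (r : ℕ) G).exists_card_eq
      rw [hk]
      exact ((Nat.coprime_primes r.2 Fact.out).2 h).pow_left k
  set H := (S : Subgroup G) ⊔ commutator G with hH
  haveI : H.Normal := Subgroup.Normal.of_commutator_le _ le_sup_right
  have hfr := Sylow.normalizer_sup_eq_top (S.subtype (le_sup_left : (S : Subgroup G) ≤ H))
  rw [Sylow.coe_subtype, Subgroup.subgroupOf_map_subtype, inf_eq_left.2 (le_sup_left : (S : Subgroup G) ≤ H)] at hfr
  have hNS : normalizer ((S : Subgroup G) : Set G) ≤ normalizer (T' : Set G) := by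
    intro g hg
    refine Subgroup.mem_normalizer_fintype ?_
    rintro _ ⟨t, ht, rfl⟩
    exact ⟨(Subgroup.normalizerMonoidHom (S : Subgroup G)) ⟨g, hg⟩ t,
      Subgroup.characteristic_iff_le_comap.1 hT _ ht, rfl⟩
  rw [← Subgroup.normalizer_eq_top_iff, eq_top_iff, ← hfr]
  exact sup_le hNS (sup_le (le_normalizer.trans hNS) (hF.trans hFN))

end Cfsg.Agent.Solv.OddRankTwo
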