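import Mathlib
import Cfsg.Prelude
import Cfsg.Agent.Lib.Solv.OddRankTwo
import Cfsg.Agent.Lib.Solv.NarrowBasic

/-!
Automorphisms of odd order of a `p`-group with a maximal elementary abelian subgroup of order `p ^ 2`.
-/

set_option autoImplicit false
set_option linter.style.haveILetI false

namespace Cfsg.Agent.Solv.OddNarrow

open Subgroup
open scoped commutatorElement

universe u

variable {R : Type u} [Group R] [Finite R] {p : ℕ} [Fact p.Prime]

/-- The automorphisms killed by every homomorphism to an abelian group of exponent dividing `p - 1`. -/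
def kerAb (p : ℕ) (R : Type u) [Group R] : Subgroup (MulAut R) :=
  Subgroup.closure ({c | ∃ a b : MulAut R, c = ⁅a, b⁆} ∪ {c | ∃ a : MulAut R, c = a ^ (p - 1)})

omit [Finite R] in
theorem char_apply_mem {H : Subgroup R} (hH : H.Characteristic) (e : MulAut R) {x : R} (hx : x ∈ H) : e x ∈ H :=
  Subgroup.characteristic_iff_le_comap.1 hH e hx

/-- `kerAb` acts trivially on a characteristic section of order `p`. -/
theorem layer (N M : Subgroup R) [hMn : M.Normal] (hN : N.Characteristic) (hM : M.Characteristic) (hMN : M ≤ N)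
    (hidx : M.relIndex N = p) : ∀ a ∈ kerAb p R, ∀ n ∈ N, n⁻¹ * a n ∈ M := by
  classical
  intro a ha n hn
  have hp : p.Prime := Fact.out
  set π := QuotientGroup.mk' M with hπ
  have hπ1 : ∀ {u v : R}, π u = π v ↔ u⁻¹ * v ∈ M := fun {u v} => QuotientGroup.eq
  refine hπ1.1 ?_
  set Q := N.map π with hQ
  have hQc : Nat.card Q = p := by
    rw [hQ, ← hidx, ← Subgroup.relIndex_ker, hπ, QuotientGroup.ker_mk']
  haveI : IsCyclic Q := isCyclic_of_prime_card hQc
  obtain ⟨g, hg⟩ := IsCyclic.exists_monoid_generator (α := Q)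
  obtain ⟨y, hy, hyg⟩ := g.2
  have hog : orderOf (π y) = p := by
    rw [hyg, Subgroup.orderOf_coe, ← hQc]
    exact orderOf_eq_card_of_forall_mem_zpowers fun z => by
      obtain ⟨k, hk⟩ := hg z
      exact ⟨k, by simpa using hk⟩
  have hgen : ∀ m ∈ N, ∃ k : ℕ, π m = π y ^ k := fun m hm => by
    obtain ⟨k, hk⟩ := hg ⟨π m, Subgroup.mem_map_of_mem _ hm⟩
    exact ⟨k, by rw [hyg, ← SubmonoidClass.coe_pow]; exact congrArg Subtype.val hk.symm⟩
  -- each automorphism acts as a power
  have hstep : ∀ (b : MulAut R) (m m' : R), π m = π m' → π (b m) = π (b m') := fun b m m' h =>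
    hπ1.2 (by rw [← map_inv, ← map_mul]; exact char_apply_mem hM b (hπ1.1 h))
  have hpw : ∀ (b : MulAut R) (m : R) (k : ℕ), π m = π y ^ k → π (b m) = π (b y) ^ k := fun b m k h => by
    rw [hstep b m (y ^ k) (by rw [map_pow]; exact h), map_pow, map_pow]
  have hcop : ∀ (b : MulAut R) (k : ℕ), π (b y) = π y ^ k → Nat.Coprime p k := by
    intro b k hk
    rw [hp.coprime_iff_not_dvd]
    rintro ⟨t, rfl⟩
    rw [pow_mul, ← hog, pow_orderOf_eq_one, one_pow] at hk
    have h1 := hstep b⁻¹ (b y) 1 (by rw [hk, map_one])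
    rw [MulAut.inv_apply_self, map_one, map_one] at h1
    rw [h1, orderOf_one] at hog
    exact hp.one_lt.ne hog
  have hfix : π (a y) = π y := by
    induction ha using Subgroup.closure_induction with
    | mem c hc =>
      rcases hc with ⟨b, d, rfl⟩ | ⟨b, rfl⟩
      · obtain ⟨kb, hkb⟩ := hgen _ (char_apply_mem hN b hy)
        obtain ⟨kd, hkd⟩ := hgen _ (char_apply_mem hN d hy)
        obtain ⟨kc, hkc⟩ := hgen _ (char_apply_mem hN ⁅b, d⁆ hy)
        have e1 : π ((b * d) y) = π y ^ (kb * kd) := by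
          rw [MulAut.mul_apply, hpw b _ kd hkd, hkb, ← pow_mul]
        have e2 : π ((d * b) y) = π y ^ (kd * kb) := by
          rw [MulAut.mul_apply, hpw d _ kb hkb, hkd, ← pow_mul]
        have e3 : π ((⁅b, d⁆ * (d * b)) y) = π y ^ (kc * (kd * kb)) := by
          rw [MulAut.mul_apply, hpw _ _ _ e2, hkc, ← pow_mul]
        rw [show ⁅b, d⁆ * (d * b) = b * d by rw [commutatorElement_def]; group, e1, pow_eq_pow_iff_modEq, hog,
          mul_comm kd kb] at e3
        have h1 : 1 * (kb * kd) ≡ kc * (kb * kd) [MOD p] := by rw [one_mul]; exact e3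
        have h2 := Nat.ModEq.cancel_right_of_coprime ((hcop b kb hkb).mul_right (hcop d kd hkd)) h1
        rw [hkc]
        conv_rhs => rw [← pow_one (π y)]
        rw [pow_eq_pow_iff_modEq, hog]
        exact h2.symm
      · obtain ⟨kb, hkb⟩ := hgen _ (char_apply_mem hN b hy)
        have hj : ∀ j : ℕ, π ((b ^ j) y) = π y ^ (kb ^ j) := by
          intro j
          induction j with
          | zero => rw [pow_zero, pow_zero, pow_one]; rfl
          | succ j ih => rw [pow_succ', MulAut.mul_apply, hpw b _ _ ih, hkb, ← pow_mul, pow_succ']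
        rw [hj]
        conv_rhs => rw [← pow_one (π y)]
        rw [pow_eq_pow_iff_modEq, hog]
        have := Nat.ModEq.pow_totient (hcop b kb hkb).symm
        rwa [Nat.totient_prime hp] at this
    | one => rfl
    | mul b d _ _ hb hd => rw [MulAut.mul_apply, hstep b _ _ hd, hb]
    | inv b _ hb =>
      have := hstep b⁻¹ _ _ hb
      rw [MulAut.inv_apply_self] at this
      exact this.symm
  obtain ⟨k, hk⟩ := hgen n hn
  rw [hk, hpw a n k hk, hfix]

/-- One step of a stabilized series. -/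
theorem fix_of_layer (γ : MulAut R) {q : ℕ} (hq : γ ^ q = 1) (hqp : q.Coprime p) (N M : Subgroup R)
    (hexp : ∀ x ∈ M, x ^ p = 1) (hfix : ∀ x ∈ M, γ x = x) (htriv : ∀ n ∈ N, n⁻¹ * γ n ∈ M) :
    ∀ n ∈ N, γ n = n := by
  intro n hn
  set c := n⁻¹ * γ n with hc
  have hcM := htriv n hn
  have hi : ∀ i : ℕ, (γ ^ i) n = n * c ^ i := by
    intro i
    induction i with
    | zero => simp
    | succ i ih =>
      rw [pow_succ', MulAut.mul_apply, ih, map_mul, map_pow, hfix c hcM, pow_succ', ← mul_assoc n c,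
        hc, mul_inv_cancel_left]
  have h1 := hi q
  rw [hq, MulAut.one_apply, left_eq_mul] at h1
  have h2 : c = 1 := (pow_left_bijective_of_coprime c h1 (hexp c hcM) hqp)
  rw [hc, inv_mul_eq_one] at h2
  exact h2.symm
where
  pow_left_bijective_of_coprime (c : R) {q p : ℕ} (h1 : c ^ q = 1) (h2 : c ^ p = 1) (h : q.Coprime p) : c = 1 := by
    have := (pow_gcd_eq_one (a := c)).2 ⟨h1, h2⟩
    rwa [h.gcd_eq_one, pow_one] at this

theorem fix_chain (hR : IsPGroup p R) (T : Subgroup R) (x : R) (Z₀ : Subgroup R) (hZ₀ : Nat.card Z₀ ≤ p)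
    (hx : ∀ u ∈ T, u ^ p = 1 → Commute u x → u ∈ Z₀) {γ : MulAut R} (hγ : γ ∈ kerAb p R) {q : ℕ}
    (hq : γ ^ q = 1) (hqp : q.Coprime p) :
    ∀ N : Subgroup R, N.Characteristic → N ≤ T → (∀ u ∈ N, u ^ p = 1) → ∀ n ∈ N, γ n = n := by
  intro N
  induction N using WellFoundedLT.induction with
  | _ N ih =>
    intro hN hNT hexp
    by_cases h0 : N = ⊥
    · intro n hn
      rw [h0, Subgroup.mem_bot] at hn
      rw [hn, map_one]
    haveI := Subgroup.normal_of_characteristic N
    haveI hnil := hR.isNilpotent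
    set M := ⁅N, (⊤ : Subgroup R)⁆ with hM
    have hlt : M < N := Solv.commutator_lt_of_nilpotent
      ((Group.isNilpotent_congr Subgroup.topEquiv).2 hnil) le_top
      (by rw [Subgroup.normalizer_eq_top]) h0
    have hMc : M.Characteristic := Subgroup.commutator_characteristic N ⊤
    haveI := Subgroup.normal_of_characteristic M
    -- the index is at most `p`
    have hle : Nat.card N ≤ Nat.card M * p := by
      let φ : N → M := fun n => ⟨⁅(n : R), x⁆, Subgroup.commutator_mem_commutator n.2 (Subgroup.mem_top x)⟩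
      haveI := Fintype.ofFinite N
      haveI := Fintype.ofFinite M
      classical
      rw [Nat.card_eq_fintype_card, Nat.card_eq_fintype_card, mul_comm]
      refine Finset.card_le_mul_card_image_of_maps_to (f := φ) (fun _ _ => Finset.mem_univ _) p fun m _ => ?_
      rcases Finset.eq_empty_or_nonempty (Finset.univ.filter fun n => φ n = m) with h | ⟨n₀, hn₀⟩
      · rw [h, Finset.card_empty]; exact Nat.zero_le _
      · haveI := Fintype.ofFinite Z₀
        refine le_trans ?_ ((Nat.card_eq_fintype_card (α := Z₀)).symm.le.trans hZ₀)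
        rw [← Finset.card_univ (α := Z₀)]
        have key : ∀ n ∈ Finset.univ.filter (fun n => φ n = m), (n : R)⁻¹ * n₀ ∈ Z₀ := by
          intro n hn
          have e := congrArg Subtype.val ((Finset.mem_filter.1 hn).2.trans (Finset.mem_filter.1 hn₀).2.symm)
          simp only [φ, commutatorElement_def] at e
          refine hx _ (hNT (mul_mem (inv_mem n.2) n₀.2)) (hexp _ (mul_mem (inv_mem n.2) n₀.2)) ?_
          have e' : (n : R) * x * (n : R)⁻¹ = (n₀ : R) * x * (n₀ : R)⁻¹ := mul_right_cancel e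
          show (n : R)⁻¹ * n₀ * x = x * ((n : R)⁻¹ * n₀)
          calc (n : R)⁻¹ * n₀ * x = (n : R)⁻¹ * ((n₀ : R) * x * (n₀ : R)⁻¹) * n₀ := by group
            _ = (n : R)⁻¹ * ((n : R) * x * (n : R)⁻¹) * n₀ := by rw [e']
            _ = x * ((n : R)⁻¹ * n₀) := by group
        refine Finset.card_le_card_of_injOn (fun n => if h : (n : R)⁻¹ * n₀ ∈ Z₀ then ⟨_, h⟩ else 1)
          (fun n _ => Finset.mem_univ _) fun a ha b hb h => ?_
        simp only [key a ha, key b hb, dif_pos, Subtype.mk.injEq, mul_left_inj, inv_inj] at h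
        exact Subtype.ext h
    have hidx : M.relIndex N = p := by
      have hcM := Subgroup.card_mul_index (M.subgroupOf N)
      rw [Nat.card_congr (Subgroup.subgroupOfEquivOfLe hlt.le).toEquiv] at hcM
      change Nat.card M * M.relIndex N = Nat.card N at hcM
      obtain ⟨i, hi⟩ := (hR.to_subgroup N).index (M.subgroupOf N)
      change M.relIndex N = p ^ i at hi
      have hi0 : i ≠ 0 := fun h => hlt.not_ge (Subgroup.relIndex_eq_one.1 (by rw [hi, h, pow_zero]))
      have h1 : p ^ i ≤ p := by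
        rw [← hi]
        exact Nat.le_of_mul_le_mul_left (hcM.le.trans hle) Nat.card_pos
      have hi1 : i ≤ 1 := (Nat.pow_le_pow_iff_right (Fact.out : p.Prime).one_lt).1 (by rwa [pow_one])
      rw [hi, show i = 1 by omega, pow_one]
    exact fix_of_layer γ hq hqp N M (fun u hu => hexp u (hlt.le hu))
      (ih M hlt hMc (hlt.le.trans hNT) fun u hu => hexp u (hlt.le hu)) (layer N M hN hMc hlt.le hidx γ hγ)

/-- Odd groups of automorphisms of a group with a maximal elementary abelian subgroup of order `p ^ 2`. -/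
theorem rank_three_action (hp : p ≠ 2) (hR : IsPGroup p R) (hr : ¬ Cfsg.PRankLE p 2 R) (E : Subgroup R)
    (hE : Cfsg.IsElementaryAbelian p E) (hE2 : Nat.card E = p ^ 2)
    (hEmax : ∀ B : Subgroup R, Cfsg.IsElementaryAbelian p B → E ≤ B → B = E)
    {W : Type*} [Group W] [Finite W] (f : W →* MulAut R) :
    (∀ w ∈ commutator W, ∀ q : ℕ, q.Prime → q ∣ orderOf (f w) → q = p) ∧
      ∀ w : W, ∀ q : ℕ, q.Prime → q ∣ orderOf (f w) → q ≠ p → q < p := by
  obtain ⟨hET, hZp, ⟨-, -⟩, hTc, hTi⟩ := NarrowBasic.maximal_square_structure hp hR hr E hE hE2 hEmax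
  set T := centralizer ((closure {x : R | x ∈ Subgroup.upperCentralSeries R 2 ∧ x ^ p = 1} : Subgroup R) : Set R)
  obtain ⟨x, hxE, hxT⟩ := SetLike.not_le_iff_exists.1 hET
  set Z := closure {x : R | x ∈ center R ∧ x ^ p = 1} with hZ
  have hin : ∀ y : R, y ^ p = 1 → (∀ e ∈ E, Commute e y) → y ∈ E := fun y hy hyE =>
    (hEmax _ (MaximalElementary.isElementaryAbelian_sup hE hy fun e he => (hyE e he).eq) le_sup_left).le
      (Subgroup.mem_sup_right (Subgroup.mem_zpowers y))
  have hZE : Z ≤ E := by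
    rw [hZ, Subgroup.closure_le]
    exact fun z hz => hin z hz.2 fun e _ => Subgroup.mem_center_iff.1 hz.1 e
  have hxZ : x ∉ Z := fun h => hxT (Subgroup.mem_centralizer_iff.2 fun w _ => by
    have hc : Z ≤ center R := by rw [hZ, Subgroup.closure_le]; exact fun z hz => hz.1
    exact Subgroup.mem_center_iff.1 (hc h) w)
  have hEeq : E = Z ⊔ zpowers x := by
    refine (Subgroup.eq_of_le_of_card_ge (sup_le hZE (zpowers_le.2 hxE)) ?_).symm
    obtain ⟨i, hi, hi'⟩ := (Nat.dvd_prime_pow (Fact.out : p.Prime)).1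
      (hE2 ▸ Subgroup.card_dvd_of_le (sup_le hZE (zpowers_le.2 hxE)))
    have hlt : Z < Z ⊔ zpowers x := lt_of_le_not_ge le_sup_left fun h =>
      hxZ (h (Subgroup.mem_sup_right (Subgroup.mem_zpowers x)))
    have h1 := Set.Finite.card_lt_card (Set.toFinite _) (SetLike.coe_ssubset_coe.2 hlt)
    rw [hE2, hi']
    have h2 : Nat.card Z < p ^ i := hi' ▸ h1
    rw [hZp] at h2
    interval_cases i
    · rw [pow_zero] at h2; exact absurd (Fact.out : p.Prime).one_le (by omega)
    · rw [pow_one] at h2; omega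
    · exact le_rfl
  -- the elements of order `p` in `T` centralizing `x`
  have hCE : Nat.card ↥(E ⊓ T) ≤ p := by
    have hlt : E ⊓ T < E := lt_of_le_not_ge inf_le_left fun h => hxT (Subgroup.mem_inf.1 (h hxE)).2
    obtain ⟨i, hi, hi'⟩ := (Nat.dvd_prime_pow (Fact.out : p.Prime)).1 (hE2 ▸ Subgroup.card_dvd_of_le hlt.le)
    have h1 : Nat.card ↥(E ⊓ T) < Nat.card E := Set.Finite.card_lt_card (Set.toFinite _) (SetLike.coe_ssubset_coe.2 hlt)
    rw [hi', hE2, Nat.pow_lt_pow_iff_right (Fact.out : p.Prime).one_lt] at h1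
    rw [hi']
    calc p ^ i ≤ p ^ 1 := Nat.pow_le_pow_right (Fact.out : p.Prime).pos (by omega)
      _ = p := pow_one p
  have hx : ∀ u ∈ T, u ^ p = 1 → Commute u x → u ∈ E ⊓ T := fun u hu hup hux =>
    Subgroup.mem_inf.2 ⟨hin u hup fun e he => by
      rw [hEeq] at he
      have hle : Z ⊔ zpowers x ≤ centralizer ({u} : Set R) := sup_le
        (by
          rw [hZ, Subgroup.closure_le]
          exact fun z hz => Subgroup.mem_centralizer_singleton_iff.2 (Subgroup.mem_center_iff.1 hz.1 u).symm)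
        (zpowers_le.2 (Subgroup.mem_centralizer_singleton_iff.2 hux.eq.symm))
      exact Subgroup.mem_centralizer_singleton_iff.1 (hle he), hu⟩
  obtain ⟨D, hDc, hDexp, hDfaith⟩ := Fusion.exists_small_faithful hR
  have hD : ∀ y ∈ D, y ^ p = 1 := fun y hy => (hDexp y hy).resolve_right fun h => hp h.1
  have hkill : ∀ γ ∈ kerAb p R, ∀ q : ℕ, q.Prime → q ≠ p → orderOf γ = q → False := by
    intro γ hγ q hq hqp hord
    have hqc : q.Coprime p := (Nat.coprime_primes hq Fact.out).2 hqp
    have hγq : γ ^ q = 1 := hord ▸ pow_orderOf_eq_one γ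
    haveI := hTc
    haveI := hDc
    haveI : T.Normal := Subgroup.normal_of_characteristic T
    haveI hD1 : (D ⊓ T).Characteristic := inferInstance
    haveI : (D ⊓ T).Normal := Subgroup.normal_of_characteristic _
    have hfix1 := fix_chain hR T x (E ⊓ T) hCE hx hγ hγq hqc (D ⊓ T) inferInstance inf_le_right
      fun u hu => hD u hu.1
    have hfixD : ∀ y ∈ D, γ y = y := by
      rcases ((Nat.dvd_prime (Fact.out : p.Prime)).1
          (hTi ▸ Subgroup.relIndex_dvd_index_of_normal (H := T) (K := D))) with h | h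
      · exact fun y hy => hfix1 y ⟨hy, Subgroup.relIndex_eq_one.1 h hy⟩
      · exact fix_of_layer γ hγq hqc D (D ⊓ T) (fun u hu => hD u hu.1) hfix1
          (layer D (D ⊓ T) hDc inferInstance inf_le_left (by rw [Subgroup.inf_relIndex_left, h]) γ hγ)
    exact hq.one_lt.ne' (hord ▸ orderOf_eq_one_iff.2 (hDfaith γ (hord ▸ hqc) hfixD))
  have hpow : ∀ (a : MulAut R) (q : ℕ), q.Prime → q ≠ p → q ∣ orderOf a → a ∈ kerAb p R → False := by
    intro a q hq hqp hd ha
    exact hkill _ (pow_mem ha (orderOf a / q)) q hq hqp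
      (orderOf_pow_orderOf_div (orderOf_pos a).ne' hd)
  refine ⟨fun w hw q hq hd => ?_, fun w q hq hd hqp => ?_⟩
  · by_contra hqp
    refine hpow (f w) q hq hqp hd ?_
    have hle : commutator W ≤ (kerAb p R).comap f := by
      rw [_root_.commutator_def, Subgroup.commutator_le]
      intro a _ b _
      show f ⁅a, b⁆ ∈ kerAb p R
      rw [map_commutatorElement]
      exact Subgroup.subset_closure (Or.inl ⟨_, _, rfl⟩)
    exact hle hw
  · by_contra hlt
    have h1 : ¬ q ∣ p - 1 := fun h => hlt (by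
      have := Nat.le_of_dvd (by have := (Fact.out : p.Prime).two_le; omega) h
      have := (Fact.out : p.Prime).two_le
      omega)
    refine hpow (f w ^ (p - 1)) q hq hqp ?_ (Subgroup.subset_closure (Or.inr ⟨_, rfl⟩))
    rw [orderOf_pow]
    have hg : Nat.Coprime q (Nat.gcd (orderOf (f w)) (p - 1)) :=
      hq.coprime_iff_not_dvd.2 fun h => h1 (h.trans (Nat.gcd_dvd_right _ _))
    refine hg.dvd_of_dvd_mul_right ?_
    rwa [Nat.div_mul_cancel (Nat.gcd_dvd_left _ _)]

/-- Rank at most two in the centralizer of a small element. -/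
theorem exists_maximal (hp : p ≠ 2) (hR : IsPGroup p R) (hr : ¬ Cfsg.PRankLE p 2 R) (e : R) (he : e ^ p = 1)
    (hC : ∀ A : Subgroup R, Cfsg.IsElementaryAbelian p A → (∀ a ∈ A, Commute a e) → Nat.card A ≤ p ^ 2) :
    ∃ E : Subgroup R, Cfsg.IsElementaryAbelian p E ∧ Nat.card E = p ^ 2 ∧
      ∀ B : Subgroup R, Cfsg.IsElementaryAbelian p B → E ≤ B → B = E := by
  have _ := hp
  have hce : e ∉ center R := fun hec => hr fun A hAc hAe => hC A ⟨hAc, hAe⟩
    fun a _ => Subgroup.mem_center_iff.1 hec a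
  haveI : Nontrivial R := ⟨⟨e, 1, fun h => hce (h ▸ one_mem _)⟩⟩
  haveI := hR.center_nontrivial
  obtain ⟨k, hk0, hk⟩ := (hR.to_subgroup (center R)).nontrivial_iff_card.mp inferInstance
  obtain ⟨z, hz⟩ := exists_prime_orderOf_dvd_card' (G := ↥(center R)) p (hk ▸ dvd_pow_self p hk0.ne')
  have hzp : (z : R) ^ p = 1 := by rw [← SubgroupClass.coe_pow, ← hz, pow_orderOf_eq_one]; rfl
  have hZe : Cfsg.IsElementaryAbelian p (zpowers (z : R)) := ⟨inferInstance, fun a ha => by
    obtain ⟨i, rfl⟩ := Subgroup.mem_zpowers_iff.1 ha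
    rw [← zpow_natCast, zpow_comm, zpow_natCast, hzp, one_zpow]⟩
  set E := zpowers (z : R) ⊔ zpowers e with hE
  have hEe : Cfsg.IsElementaryAbelian p E := MaximalElementary.isElementaryAbelian_sup hZe he fun a ha => by
    obtain ⟨i, rfl⟩ := Subgroup.mem_zpowers_iff.1 ha
    exact ((show Commute e (z : R) from Subgroup.mem_center_iff.1 z.2 e).zpow_right i).eq.symm
  have hEc : ∀ a ∈ E, Commute a e := fun a ha => congrArg Subtype.val
    (hEe.1.is_comm.comm ⟨a, ha⟩ ⟨e, Subgroup.mem_sup_right (Subgroup.mem_zpowers e)⟩)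
  have h2 := hC E hEe hEc
  have hlt : zpowers (z : R) < E := lt_of_le_not_ge le_sup_left fun h => hce
    ((zpowers_le.2 z.2 : zpowers (z : R) ≤ center R) (h (Subgroup.mem_sup_right (Subgroup.mem_zpowers e))))
  obtain ⟨i, hi⟩ := (hR.to_subgroup E).exists_card_eq
  have h1 : Nat.card ↥(zpowers (z : R)) < Nat.card E := Set.Finite.card_lt_card (Set.toFinite _) (SetLike.coe_ssubset_coe.2 hlt)
  rw [Nat.card_zpowers, Subgroup.orderOf_coe, hz, hi] at h1
  rw [hi] at h2
  have hi2 := (Nat.pow_le_pow_iff_right (Fact.out : p.Prime).one_lt).1 h2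
  have hi1 : 1 < i := (Nat.pow_lt_pow_iff_right (Fact.out : p.Prime).one_lt).1 (by rwa [pow_one])
  refine ⟨E, hEe, by rw [hi]; congr 1; omega, fun B hB hle => (Subgroup.eq_of_le_of_card_ge hle ?_).symm⟩
  rw [hi, show i = 2 by omega]
  exact hC B hB fun b hb => congrArg Subtype.val
    (hB.1.is_comm.comm ⟨b, hb⟩ ⟨e, hle (Subgroup.mem_sup_right (Subgroup.mem_zpowers e))⟩)

/-- The action statement, either case. -/
theorem action_of_centralizer (hp : p ≠ 2) (hR : IsPGroup p R) (e : R) (he : e ^ p = 1)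
    (hC : ∀ A : Subgroup R, Cfsg.IsElementaryAbelian p A → (∀ a ∈ A, Commute a e) → Nat.card A ≤ p ^ 2)
    {W : Type*} [Group W] [Finite W] [Group.IsSolvable W] (hodd : Odd (Nat.card W)) (f : W →* MulAut R) :
    (∀ w ∈ commutator W, ∀ q : ℕ, q.Prime → q ∣ orderOf (f w) → q = p) ∧
      ∀ w : W, ∀ q : ℕ, q.Prime → q ∣ orderOf (f w) → q ≠ p → q < p := by
  by_cases hr : Cfsg.PRankLE p 2 R
  · exact OddRankTwo.rank_two_action hp hR hr hodd f
  · obtain ⟨E, h1, h2, h3⟩ := exists_maximal hp hR hr e he hC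
    exact rank_three_action hp hR hr E h1 h2 h3 f

theorem action_of_narrow (hp : p ≠ 2) (hR : IsPGroup p R) (hn : Cfsg.IsNarrow p R)
    {W : Type*} [Group W] [Finite W] [Group.IsSolvable W] (hodd : Odd (Nat.card W)) (f : W →* MulAut R) :
    (∀ w ∈ commutator W, ∀ q : ℕ, q.Prime → q ∣ orderOf (f w) → q = p) ∧
      ∀ w : W, ∀ q : ℕ, q.Prime → q ∣ orderOf (f w) → q ≠ p → q < p := by
  rcases hn with hr | ⟨R₀, R₁, hR₀, hR₁, hinf, hcomm, hsup⟩
  · exact OddRankTwo.rank_two_action hp hR hr hodd f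
  obtain ⟨e, he⟩ := (isCyclic_of_prime_card hR₀).exists_generator
  have heo : (e : R) ^ p = 1 := by
    rw [← hR₀, ← SubgroupClass.coe_pow, pow_card_eq_one']; rfl
  refine action_of_centralizer hp hR (e : R) heo (fun A hA hAe => ?_) hodd f
  have hAC : A ≤ R₀ ⊔ R₁ := by
    rw [hsup]
    intro a ha
    refine Subgroup.mem_centralizer_iff.2 fun r hr => ?_
    obtain ⟨i, hi⟩ := Subgroup.mem_zpowers_iff.1 (he ⟨r, hr⟩)
    have h1 : (e : R) ^ i = r := by rw [← Subgroup.coe_zpow, hi]
    rw [← h1]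
    exact ((hAe a ha).zpow_right i).eq.symm
  classical
  haveI := hR₁
  haveI := Fintype.ofFinite R₁
  let B := {b : R₁ // b ^ p = 1}
  have hB : Nat.card B ≤ p := by
    rw [Nat.card_eq_fintype_card, Fintype.card_subtype]
    exact IsCyclic.card_pow_eq_one_le (Fact.out : p.Prime).pos
  have hdec : ∀ a : A, ∃ c : R₀ × B, (a : R) = (c.1 : R) * ((c.2.1 : R₁) : R) := by
    intro a
    obtain ⟨u, hu, v, hv, huv⟩ : ∃ u ∈ R₀, ∃ v ∈ R₁, (a : R) = u * v := by
      have hnorm : R₁ ≤ Subgroup.normalizer (R₀ : Set R) := fun v hv =>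
        Subgroup.centralizer_le_normalizer _ (Subgroup.mem_centralizer_iff.2 fun u hu => hcomm u hu v hv)
      have hmem : (a : R) ∈ ((R₀ ⊔ R₁ : Subgroup R) : Set R) := hAC a.2
      rw [Subgroup.coe_mul_of_right_le_normalizer_left R₀ R₁ hnorm] at hmem
      obtain ⟨u, hu, v, hv, h⟩ := hmem
      exact ⟨u, hu, v, hv, h.symm⟩
    have hvp : (⟨v, hv⟩ : R₁) ^ p = 1 := by
      have h1 := hA.2 a a.2
      rw [huv, (show Commute u v from hcomm u hu v hv).mul_pow] at h1
      have hup : u ^ p = 1 := by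
        rw [← hR₀]
        exact congrArg Subtype.val (pow_card_eq_one' (x := (⟨u, hu⟩ : R₀)))
      rw [hup, one_mul] at h1
      exact Subtype.ext h1
    exact ⟨(⟨u, hu⟩, ⟨⟨v, hv⟩, hvp⟩), huv⟩
  choose c hc using hdec
  refine (Nat.card_le_card_of_injective c fun a b h => Subtype.ext ((hc a).trans (h ▸ (hc b).symm))).trans ?_
  rw [Nat.card_prod, hR₀, pow_two]
  exact Nat.mul_le_mul_left _ hB

theorem structure_of_action {G : Type*} [Group G] [Finite G] [Group.IsSolvable G] (hodd : Odd (Nat.card G))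
    (hact : ∀ f : (G ⧸ Cfsg.pPrimeCore p G) →* MulAut (Cfsg.pCore p (G ⧸ Cfsg.pPrimeCore p G)),
      (∀ w ∈ commutator (G ⧸ Cfsg.pPrimeCore p G), ∀ q : ℕ, q.Prime → q ∣ orderOf (f w) → q = p) ∧
        ∀ w, ∀ q : ℕ, q.Prime → q ∣ orderOf (f w) → q ≠ p → q < p) :
    (∀ q : ℕ, q.Prime → q ∣ (Cfsg.pPrimeCore p G).index → q ≤ p) ∧
      ((p = 3 ∨ ∀ q : ℕ, q.Prime → q ∣ Nat.card G → p ≤ q) → Cfsg.HasNormalPComplement p G) ∧
      Cfsg.HasNormalPComplement p ↥(commutator G) ∧
      (∀ L : Subgroup ↥(commutator G), (Nat.card L).Coprime p → L ≤ Cfsg.pPrimeCore p ↥(commutator G)) ∧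
      commutator G ≤ Cfsg.pPrimePCore p G ∧ ((Cfsg.pPrimePCore p G).index).Coprime p := by
  set N := pPrimeCore p G with hN
  have hNc : (Nat.card N).Coprime p := Cfsg.Agent.Solv.card_pPrimeCore_coprime p G
  have hoddQ : Odd (Nat.card (G ⧸ N)) := hodd.of_dvd_nat (Subgroup.card_quotient_dvd_card N)
  haveI : Group.IsSolvable (G ⧸ N) := Group.isSolvable_of_surjective (QuotientGroup.mk'_surjective N)
  set P0 := pCore p (G ⧸ N) with hP0
  have hP0p : IsPGroup p P0 := Cfsg.Agent.Solv.isPGroup_pCore p _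
  let f : (G ⧸ N) →* MulAut P0 := MulAut.conjNormal
  have hcent : Subgroup.centralizer (P0 : Set (G ⧸ N)) ≤ P0 :=
    Cfsg.Agent.Solv.centralizer_pCore_le_of_isSolvable (Cfsg.Agent.Solv.pPrimeCore_quotient_pPrimeCore p)
  have hker : ∀ x, f x = 1 → x ∈ P0 := fun x hx => hcent (Subgroup.mem_centralizer_iff.2 fun y hy => by
    have h := congrArg (fun e : MulAut P0 => ((e ⟨y, hy⟩ : P0) : G ⧸ N)) hx
    simp only [f, MulAut.conjNormal_apply, MulAut.one_apply] at h
    exact (mul_inv_eq_iff_eq_mul.1 h).symm)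
  obtain ⟨h1, h2⟩ := hact f
  have hord : ∀ x : G ⧸ N, ∀ q : ℕ, q.Prime → q ∣ orderOf x → q = p ∨ q ∣ orderOf (f x) := by
    intro x q hq hd
    have hx : x ^ orderOf (f x) ∈ P0 := hker _ (by rw [map_pow, pow_orderOf_eq_one])
    obtain ⟨k, hk⟩ := (IsPGroup.iff_orderOf.1 hP0p) ⟨_, hx⟩
    rw [← Subgroup.orderOf_coe] at hk
    have hd' : orderOf x ∣ orderOf (f x) * p ^ k := orderOf_dvd_of_pow_eq_one (by
      rw [pow_mul, ← hk]
      exact pow_orderOf_eq_one _)
    rcases hq.dvd_mul.1 (hd.trans hd') with h | h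
    · exact Or.inr h
    · exact Or.inl ((Nat.prime_dvd_prime_iff_eq hq Fact.out).1 (hq.dvd_of_dvd_pow h))
  have hcomm : commutator (G ⧸ N) ≤ P0 := by
    haveI : (commutator (G ⧸ N)).Normal := inferInstance
    refine Cfsg.Agent.Solv.le_pCore (Cfsg.Agent.Solv.OddRankTwo.isPGroup_iff_prime_dvd.2 fun x q hq hd => ?_)
    rw [← Subgroup.orderOf_coe] at hd
    exact (hord x q hq hd).elim id (fun h => h1 x x.2 q hq h)
  have hidx : (P0.index).Coprime p := by
    obtain ⟨S⟩ := Sylow.nonempty (p := p) (G := G ⧸ N)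
    have hS : P0 ≤ S := Cfsg.Agent.Solv.pCore_le_sylow S
    haveI : (S : Subgroup (G ⧸ N)).Normal := Subgroup.Normal.of_commutator_le _ (hcomm.trans hS)
    have he : (S : Subgroup (G ⧸ N)) = P0 := le_antisymm (Cfsg.Agent.Solv.le_pCore S.isPGroup') hS
    rw [← he]
    exact Cfsg.Agent.Solv.card_sylow_coprime_index S
  have hle : ∀ q : ℕ, q.Prime → q ∣ N.index → q ≤ p := by
    intro q hq hd
    haveI : Fact q.Prime := ⟨hq⟩
    rw [Subgroup.index_eq_card] at hd
    obtain ⟨x, hx⟩ := exists_prime_orderOf_dvd_card' q hd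
    by_cases hqp : q = p
    · exact hqp.le
    · exact (h2 x q hq ((hord x q hq hx.symm.dvd).resolve_left hqp) hqp).le
  have hcomap : commutator G ≤ pPrimePCore p G := by
    intro g hg
    show QuotientGroup.mk' N g ∈ P0
    refine hcomm ?_
    rw [commutator_def] at hg ⊢
    have := Subgroup.mem_map_of_mem (QuotientGroup.mk' N) hg
    rw [Subgroup.map_commutator] at this
    exact Subgroup.commutator_mono le_top le_top this
  set M : Subgroup (commutator G) := N.subgroupOf (commutator G) with hM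
  haveI : M.Normal := inferInstance
  have hMc : (Nat.card M).Coprime p := by
    refine Nat.Coprime.coprime_dvd_left ?_ hNc
    rw [← Cfsg.Agent.Solv.card_map_subtype, hM, Subgroup.subgroupOf_map_subtype]
    exact Subgroup.card_dvd_of_le inf_le_left
  have hpow : ∀ x : commutator G, ∃ k : ℕ, x ^ p ^ k ∈ M := by
    intro x
    obtain ⟨k, hk⟩ := hP0p ⟨QuotientGroup.mk' N x, hcomap x.2⟩
    refine ⟨k, Subgroup.mem_subgroupOf.2 ((QuotientGroup.eq_one_iff _).1 ?_)⟩
    have := congrArg Subtype.val hk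
    rw [SubmonoidClass.coe_pow, ← map_pow] at this
    simpa using this
  have hQp : IsPGroup p (commutator G ⧸ M) := fun y => by
    obtain ⟨x, rfl⟩ := QuotientGroup.mk_surjective y
    obtain ⟨k, hk⟩ := hpow x
    exact ⟨k, by rw [← QuotientGroup.mk_pow]; exact (QuotientGroup.eq_one_iff _).2 hk⟩
  have npc : ∀ {H : Type _} [Group H] [Finite H] (K : Subgroup H), K.Normal → (Nat.card K).Coprime p →
      (∃ a, K.index = p ^ a) → HasNormalPComplement p H := by
    intro H _ _ K hKn hKc ⟨a, ha⟩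
    obtain ⟨S⟩ := Sylow.nonempty (p := p) (G := H)
    refine ⟨S, K, hKn, Subgroup.isComplement'_of_coprime ?_ ?_⟩
    · rw [← K.card_mul_index, ha]
      congr 1
      rw [Sylow.card_eq_multiplicity, ← K.card_mul_index, ha, Nat.factorization_mul Nat.card_pos.ne'
        (pow_ne_zero _ (Fact.out : p.Prime).ne_zero), Finsupp.add_apply,
        Nat.factorization_eq_zero_of_not_dvd ((Fact.out : p.Prime).coprime_iff_not_dvd.1 hKc.symm),
        (Fact.out : p.Prime).factorization_pow, Finsupp.single_eq_same, zero_add]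
    · obtain ⟨b, hb⟩ := S.isPGroup'.exists_card_eq
      rw [hb]
      exact hKc.pow_right b
  refine ⟨hle, fun h => ?_, ?_, fun L hL => ?_, hcomap, ?_⟩
  · refine npc N inferInstance hNc ⟨_, Nat.eq_prime_pow_of_unique_prime_dvd Subgroup.index_ne_zero_of_finite
      fun {q} hq hd => le_antisymm (hle q hq hd) ?_⟩
    rcases h with h | h
    · have hq2 := Cfsg.Agent.Solv.OddRankTwo.prime_ne_two hodd (hd.trans N.index_dvd_card)
      have := hq.two_le
      omega
    · exact h q hq (hd.trans N.index_dvd_card)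
  · obtain ⟨a, ha⟩ := hQp.exists_card_eq
    exact npc M inferInstance hMc ⟨a, by rw [Subgroup.index_eq_card, ha]⟩
  · refine le_trans ?_ (Cfsg.Agent.Solv.le_pPrimeCore (N := M) hMc)
    refine Cfsg.Agent.Solv.le_of_coprime_index M ?_
    obtain ⟨a, ha⟩ := hQp.exists_card_eq
    rw [Subgroup.index_eq_card, ha]
    exact hL.pow_right a
  · rw [pPrimePCore, Subgroup.index_comap_of_surjective _ (QuotientGroup.mk'_surjective _)]
    exact hidx

/-- With a maximal pair, either case. -/
theorem action_of_pair (hp : p ≠ 2) (hR : IsPGroup p R) (E : Subgroup R) (hE : Cfsg.IsElementaryAbelian p E)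
    (hC : ∀ A : Subgroup R, Cfsg.IsElementaryAbelian p A → (∀ a ∈ A, ∀ b ∈ E, Commute a b) → Nat.card A ≤ p ^ 2)
    {W : Type*} [Group W] [Finite W] [Group.IsSolvable W] (hodd : Odd (Nat.card W)) (f : W →* MulAut R) :
    (∀ w ∈ commutator W, ∀ q : ℕ, q.Prime → q ∣ orderOf (f w) → q = p) ∧
      ∀ w : W, ∀ q : ℕ, q.Prime → q ∣ orderOf (f w) → q ≠ p → q < p := by
  by_cases hr : Cfsg.PRankLE p 2 R
  · exact OddRankTwo.rank_two_action hp hR hr hodd f
  have hEc : ∀ a ∈ E, ∀ b ∈ E, Commute a b := fun a ha b hb =>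
    congrArg Subtype.val (hE.1.is_comm.comm ⟨a, ha⟩ ⟨b, hb⟩)
  obtain ⟨i, hi⟩ := (hR.to_subgroup E).exists_card_eq
  have h2 : i ≤ 2 := (Nat.pow_le_pow_iff_right (Fact.out : p.Prime).one_lt).1 (hi ▸ hC E hE hEc)
  interval_cases i
  · refine action_of_centralizer hp hR 1 (one_pow p) (fun A hA _ => hC A hA fun a _ b hb => ?_) hodd f
    rw [Subgroup.eq_bot_of_card_eq E (by rw [hi, pow_zero]), Subgroup.mem_bot] at hb
    rw [hb]; exact Commute.one_right a
  · obtain ⟨e, he⟩ := (isCyclic_of_prime_card (by rw [hi, pow_one] : Nat.card E = p)).exists_generator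
    refine action_of_centralizer hp hR (e : R) (hE.2 e e.2) (fun A hA hAe => hC A hA fun a ha b hb => ?_) hodd f
    obtain ⟨j, hj⟩ := Subgroup.mem_zpowers_iff.1 (he ⟨b, hb⟩)
    have h1 : (e : R) ^ j = b := by rw [← Subgroup.coe_zpow, hj]
    exact h1 ▸ (hAe a ha).zpow_right j
  · refine rank_three_action hp hR hr E hE hi (fun B hB hle => (Subgroup.eq_of_le_of_card_ge hle ?_).symm) f
    rw [hi]
    exact hC B hB fun a ha b hb => congrArg Subtype.val (hB.1.is_comm.comm ⟨a, ha⟩ ⟨b, hle hb⟩)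

end Cfsg.Agent.Solv.OddNarrow
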