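import Mathlib
import Cfsg.Agent.Lib.Solv.QuadraticStable
import Cfsg.Agent.Lib.Solv.QdStable
import Cfsg.Agent.Lib.Solv.Basic

/-!
`p`-stability of groups of odd order.
-/

set_option autoImplicit false

universe v

namespace Cfsg.Agent.Solv.OddStable

open Subgroup
open scoped commutatorElement

variable {p : ℕ} [Fact p.Prime]

theorem not_invSL {X : Type v} [Group X] [Finite X] (hp2 : p ≠ 2) (hodd : Odd (Nat.card X)) :
    ¬ Quad.InvSL p X := by
  rintro ⟨S, ψ, hψ⟩
  haveI : Fact (2 < p) := ⟨lt_of_le_of_ne (Fact.out : p.Prime).two_le (Ne.symm hp2)⟩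
  let m : Matrix.SpecialLinearGroup (Fin 2) (ZMod p) := ⟨-1, by simp [Matrix.det_neg]⟩
  have hm : orderOf m = 2 := by
    refine orderOf_eq_prime (Subtype.ext ?_) (fun h => ?_)
    · rw [Matrix.SpecialLinearGroup.coe_pow, Matrix.SpecialLinearGroup.coe_one]; simp [m]
    · have h1 := congrArg (fun A : Matrix (Fin 2) (Fin 2) (ZMod p) => A 0 0) (congrArg Subtype.val h)
      simp [m] at h1
      exact ZMod.neg_one_ne_one h1
  have h2 : 2 ∣ Nat.card X := by
    rw [← hm]
    exact ((orderOf_dvd_natCard m).trans (card_dvd_of_surjective ψ hψ)).trans (card_subgroup_dvd_card S)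
  exact (Nat.not_even_iff_odd.mpr hodd) (even_iff_two_dvd.mpr h2)

theorem normalizer_stable {X : Type v} [Group X] [Finite X] (hp2 : p ≠ 2) (hodd : Odd (Nat.card X))
    (P : Subgroup X) (hP : IsPGroup p P) (g : X) (hg : g ∈ normalizer (P : Set X))
    (hq : ⁅⁅P, zpowers g⁆, zpowers g⁆ = ⊥) :
    (QuotientGroup.mk (s := (centralizer (P : Set X)).subgroupOf (normalizer (P : Set X)))
        (⟨g, hg⟩ : ↥(normalizer (P : Set X)))) ∈
      Cfsg.pCore p (↥(normalizer (P : Set X)) ⧸ (centralizer (P : Set X)).subgroupOf (normalizer (P : Set X))) := by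
  set N := normalizer (P : Set X) with hN
  haveI : (P.subgroupOf N).Normal := normal_in_normalizer
  refine Quad.mem_pCore_quot_congr (Quad.subgroupOf_centralizer_eq P) ?_
  refine Quad.isPStableOn_of_free hp2 (not_invSL hp2 (hodd.of_dvd_nat (card_subgroup_dvd_card N))) _
    (hP.of_equiv (subgroupOfEquivOfLe le_normalizer).symm) ⟨g, hg⟩ ?_
  apply map_injective N.subtype_injective
  rw [map_commutator, map_commutator, MonoidHom.map_zpowers, map_subgroupOf_eq_of_le le_normalizer,
    Subgroup.map_bot]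
  exact hq

theorem abelian_generated {G : Type v} [Group G] [Finite G] (hp2 : p ≠ 2) (hodd : Odd (Nat.card G))
    (P : Subgroup G) [P.Normal] (hP : IsPGroup p P)
    (S : Set (Subgroup G)) (hS : ∀ B ∈ S, IsMulCommutative B ∧ P ≤ normalizer (B : Set G)) :
    (sSup S).map (QuotientGroup.mk' (centralizer (P : Set G))) ≤ Cfsg.pCore p (G ⧸ centralizer (P : Set G)) := by
  rw [Subgroup.map_le_iff_le_comap, sSup_le_iff]
  intro B hB b hb
  obtain ⟨hBc, hPB⟩ := hS B hB
  haveI := hBc
  refine Quad.isPStableOn_of_free hp2 (not_invSL hp2 hodd) P hP b (le_bot_iff.mp ?_)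
  calc ⁅⁅P, zpowers b⁆, zpowers b⁆ ≤ ⁅⁅P, B⁆, B⁆ :=
        commutator_mono (commutator_mono le_rfl (zpowers_le.mpr hb)) (zpowers_le.mpr hb)
    _ ≤ ⁅B, B⁆ := commutator_mono (by rw [commutator_comm]; exact le_normalizer_iff_commutator_le_left.mp hPB) le_rfl
    _ = ⊥ := commutator_self_eq_bot_iff.mpr hBc
    _ ≤ ⊥ := le_rfl

theorem abelian_generated_le {G : Type v} [Group G] [Finite G] [Group.IsSolvable G] (hp2 : p ≠ 2)
    (hodd : Odd (Nat.card G)) (P : Subgroup G) [P.Normal] (hP : IsPGroup p P)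
    (S : Set (Subgroup G)) (hS : ∀ B ∈ S, IsMulCommutative B ∧ P ≤ normalizer (B : Set G))
    (hO : Cfsg.pPrimeCore p G = ⊥) (hC : Cfsg.pCore p G ⊓ centralizer (P : Set G) ≤ P) :
    sSup S ≤ Cfsg.pCore p G := by
  set C := centralizer (P : Set G) with hCdef
  haveI hCn : C.Normal := inferInstance
  -- the centralizer is a `p`-group
  have hOC : Cfsg.pPrimeCore p ↥C = ⊥ := by
    apply map_injective C.subtype_injective
    rw [Subgroup.map_bot, eq_bot_iff]
    haveI := pPrimeCore_characteristic p ↥C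
    refine le_trans (le_pPrimeCore (p := p) ?_) hO.le
    rw [card_map_of_injective C.subtype_injective]
    exact card_pPrimeCore_coprime p ↥C
  have hQle : (Cfsg.pCore p ↥C).map C.subtype ≤ P := by
    refine le_trans (le_inf ?_ (map_subtype_le _)) hC
    haveI := pCore_characteristic p ↥C
    exact le_pCore ((isPGroup_pCore p ↥C).map _)
  have hCp : IsPGroup p ↥C := by
    have h1 : Cfsg.pCore p ↥C = ⊤ := by
      rw [eq_top_iff]
      intro c _
      apply centralizer_pCore_le_of_isSolvable hOC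
      intro v hv
      exact Subtype.ext (c.2 v (hQle ⟨v, hv, rfl⟩))
    have := isPGroup_pCore p ↥C
    rw [h1] at this
    exact this.of_equiv topEquiv
  set D := (Cfsg.pCore p (G ⧸ C)).comap (QuotientGroup.mk' C) with hD
  haveI : D.Normal := (Subgroup.sSup_normal _ (fun _ h => h.1) : (Cfsg.pCore p (G ⧸ C)).Normal).comap _
  have hDp : IsPGroup p ↥D :=
    (isPGroup_pCore p (G ⧸ C)).comap_of_ker_isPGroup _ (by rw [QuotientGroup.ker_mk']; exact hCp)
  exact (Subgroup.map_le_iff_le_comap.mp (abelian_generated hp2 hodd P hP S hS)).trans (le_pCore hDp)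

/-- Abelian normal subgroups of a Sylow subgroup lie in `O_{p',p}`. -/
theorem abelian_normal_sylow {G : Type v} [Group G] [Finite G] [Group.IsSolvable G]
    (hodd : Odd (Nat.card G)) (hp2 : p ≠ 2) (S : Sylow p G) (A : Subgroup G)
    (hA : A ≤ (S : Subgroup G)) (hAc : IsMulCommutative A) (hAn : (S : Subgroup G) ≤ normalizer (A : Set G)) :
    A ≤ Cfsg.pPrimePCore p G := by
  set K := Cfsg.pPrimeCore p G
  let π := QuotientGroup.mk' K
  have hπ : Function.Surjective π := QuotientGroup.mk'_surjective K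
  rw [show Cfsg.pPrimePCore p G = (Cfsg.pCore p (G ⧸ K)).comap π from rfl, ← Subgroup.map_le_iff_le_comap]
  have hoddq : Odd (Nat.card (G ⧸ K)) := hodd.of_dvd_nat (card_quotient_dvd_card K)
  have hK : Cfsg.pPrimeCore p (G ⧸ K) = ⊥ := pPrimeCore_quotient_pPrimeCore p
  haveI : (Cfsg.pCore p (G ⧸ K)).Normal := Subgroup.sSup_normal _ (fun _ h => h.1)
  have hAc' : IsMulCommutative ↥(A.map π) := by
    refine ⟨⟨?_⟩⟩
    rintro ⟨_, a, ha, rfl⟩ ⟨_, b, hb, rfl⟩
    apply Subtype.ext
    change π a * π b = π b * π a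
    rw [← map_mul, ← map_mul]
    exact congrArg π (congrArg Subtype.val (hAc.is_comm.comm ⟨a, ha⟩ ⟨b, hb⟩))
  have hle : Cfsg.pCore p (G ⧸ K) ≤ normalizer ((A.map π : Subgroup (G ⧸ K)) : Set (G ⧸ K)) :=
    (pCore_le_sylow (S.mapSurjective hπ)).trans (by
      rw [Sylow.coe_mapSurjective]
      exact (map_mono hAn).trans (le_normalizer_map π))
  have h := abelian_generated_le (p := p) hp2 hoddq (Cfsg.pCore p (G ⧸ K)) (isPGroup_pCore p _) {A.map π}
    (fun B hB => by rw [Set.mem_singleton_iff] at hB; subst hB; exact ⟨hAc', hle⟩) hK inf_le_left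
  rwa [sSup_singleton] at h

end Cfsg.Agent.Solv.OddStable
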