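import Cfsg.Agent.Lib.Solv.AbelianAction
import Cfsg.Agent.Lib.Solv.Misc
import Cfsg.Agent.Lib.Solv.Thompson
import Cfsg.Agent.Lib.Solv.Subnormal

/-!
For odd `p`, an elementary abelian `p`-group acting faithfully on an abelian `p'`-group `Q`,
both acting faithfully on an elementary abelian `p`-group `V`, has no offenders on `V`:
`|E|^2 * |C_V(E)| ≤ |V|`.
-/

set_option autoImplicit false
set_option linter.style.haveILetI false

namespace Cfsg.Agent.Solv

open Subgroup
open scoped Pointwise commutatorElement

variable {H : Type*} [Group H]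

theorem orbitProd_conj {A V : Type*} [Group A] [Fintype A] [CommGroup V] (φ : A →* MulAut V)
    (B : Subgroup A) (u : A) (v : V) :
    orbitProd φ (MulAut.conj u • B) v = φ u (orbitProd φ B (φ u⁻¹ v)) := by
  classical
  unfold orbitProd
  rw [map_prod]
  refine Finset.prod_bij (fun a _ => u⁻¹ * a * u) (fun a ha => ?_)
    (fun a₁ _ a₂ _ h => mul_left_cancel (mul_right_cancel h))
    (fun a ha => ⟨u * a * u⁻¹, ?_, by group⟩) (fun a _ => ?_)
  · simp only [Finset.mem_filter, Finset.mem_univ, true_and] at ha ⊢
    exact mem_conj_smul.mp ha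
  · simp only [Finset.mem_filter, Finset.mem_univ, true_and] at ha ⊢
    rw [mem_conj_smul]
    simpa [mul_assoc] using ha
  · rw [← MulAut.mul_apply, ← MulAut.mul_apply, ← map_mul, ← map_mul]
    congr 1
    congr 1
    group

/-- For a quadratic element of odd prime order the orbit products are trivial. -/
theorem orbitProd_zpowers_quadratic {A V : Type*} [Group A] [Fintype A] [CommGroup V]
    (φ : A →* MulAut V) {p : ℕ} [hp : Fact p.Prime] (hp2 : p ≠ 2) (a : A) (ha : orderOf a = p)
    (v : V) (hv : v ^ p = 1) (hc : φ a (φ a v * v⁻¹) = φ a v * v⁻¹) :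
    orbitProd φ (zpowers a) v = 1 := by
  classical
  set c := φ a v * v⁻¹ with hcdef
  have hstep : ∀ i : ℕ, φ (a ^ i) v = c ^ i * v := by
    intro i
    induction i with
    | zero => simp
    | succ i ih =>
      rw [pow_succ', map_mul, MulAut.mul_apply, ih, map_mul, map_pow, hc, pow_succ, mul_assoc]
      congr 1
      rw [hcdef, inv_mul_cancel_right]
  have hcp : c ^ p = 1 := by
    rw [hcdef, mul_pow, ← map_pow, hv, map_one, inv_pow, hv, inv_one, mul_one]
  have himg : Finset.univ.filter (fun x => x ∈ zpowers a) =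
      (Finset.range p).image (a ^ ·) := by
    ext x
    simp only [Finset.mem_filter, Finset.mem_univ, true_and, Finset.mem_image, Finset.mem_range]
    rw [mem_zpowers_iff_mem_range_orderOf, ha, Finset.mem_image]
    simp
  unfold orbitProd
  rw [himg, Finset.prod_image (by
    intro i hi j hj h
    rw [Finset.coe_range, Set.mem_Iio] at hi hj
    exact (pow_inj_mod.mp h |> fun e => by rwa [ha, Nat.mod_eq_of_lt hi, Nat.mod_eq_of_lt hj] at e))]
  rw [Finset.prod_congr rfl (fun i _ => hstep i), Finset.prod_mul_distrib, Finset.prod_const,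
    Finset.card_range, hv, mul_one, Finset.prod_pow_eq_pow_sum, Finset.sum_range_id]
  obtain ⟨m, hm⟩ := (hp.out.eq_two_or_odd'.resolve_left hp2)
  have : p * (p - 1) / 2 = p * m := by
    rw [show p - 1 = 2 * m by omega, mul_left_comm, Nat.mul_div_cancel_left _ two_pos]
  rw [this, pow_mul, hcp, one_pow]

/-- A Frobenius group `W⟨a⟩` with `W` an abelian `p'`-group and `a` of odd order `p` has no
faithful quadratic module in characteristic `p`. -/
theorem eq_one_of_quadratic_frobenius [Finite H] {p : ℕ} [hp : Fact p.Prime] (hp2 : p ≠ 2)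
    (U W : Subgroup H) (a : H) (hU : IsElementaryAbelian p U) [IsMulCommutative W]
    (hWcop : (Nat.card W).Coprime p) (ha : orderOf a = p) (haW : a ∈ normalizer (W : Set H))
    (hfix : W ⊓ centralizer {a} = ⊥) (hW1 : W ≠ ⊥)
    (hWU : W ≤ normalizer (U : Set H)) (haU : a ∈ normalizer (U : Set H))
    (hq : ⁅⁅U, zpowers a⁆, zpowers a⁆ = ⊥) (hUW : U ⊓ centralizer (W : Set H) = ⊥) :
    U = ⊥ := by
  classical
  set A := W ⊔ zpowers a with hA
  have hAU : A ≤ normalizer (U : Set H) := sup_le hWU (zpowers_le.mpr haU)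
  haveI : IsMulCommutative U := hU.1
  letI : CommGroup U := { (inferInstance : Group U) with mul_comm := fun x y => mul_comm' x y }
  haveI := Fintype.ofFinite A
  haveI := Fintype.ofFinite W
  let φ : A →* MulAut U := conjHom A U hAU
  set W' := W.subgroupOf A with hW'
  set a' : A := ⟨a, mem_sup_right (mem_zpowers a)⟩ with ha'
  have hAW : A ≤ normalizer (W : Set H) := sup_le le_normalizer (zpowers_le.mpr haW)
  haveI hW'n : W'.Normal := (normal_subgroupOf_iff_le_normalizer le_sup_left).mpr hAW
  have hao : orderOf a' = p := by rw [← Subgroup.orderOf_coe]; exact ha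
  have hapow : ∀ i : ℕ, a ^ i ∈ W → p ∣ i := by
    intro i hi
    rw [← ha, orderOf_dvd_iff_pow_eq_one]
    have h1 : orderOf (a ^ i) ∣ Nat.gcd (Nat.card W) p :=
      Nat.dvd_gcd (W.orderOf_dvd_natCard hi) (ha ▸ orderOf_pow_dvd i)
    rw [hWcop, Nat.dvd_one, orderOf_eq_one_iff] at h1
    exact h1
  -- every element outside `W` lies in exactly one conjugate of `⟨a⟩`
  let B : Option W → Subgroup A := fun o =>
    match o with
    | none => W'
    | some u => MulAut.conj (⟨u, mem_sup_left u.2⟩ : A) • zpowers a'
  have hmemB : ∀ (u : W) (x : A), x ∈ B (some u) ↔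
      ∃ i : ℕ, (x : H) = (u : H) * a ^ i * (u : H)⁻¹ := by
    intro u x
    simp only [B, mem_conj_smul, mem_zpowers_iff_mem_range_orderOf, Finset.mem_image,
      Finset.mem_range, hao]
    constructor
    · rintro ⟨i, -, hi⟩
      refine ⟨i, ?_⟩
      have h1 := congrArg Subtype.val hi
      simp only [ha', SubmonoidClass.coe_pow, Subgroup.coe_mul, Subgroup.coe_inv] at h1
      rw [h1]; group
    · rintro ⟨i, hi⟩
      refine ⟨i % p, Nat.mod_lt _ hp.out.pos, Subtype.ext ?_⟩
      simp only [ha', SubmonoidClass.coe_pow, Subgroup.coe_mul, Subgroup.coe_inv]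
      rw [← ha, pow_mod_orderOf, hi]; group
  have hinj : ∀ i : ℕ, ¬ p ∣ i → ∀ u v : W,
      (u : H) * a ^ i * (u : H)⁻¹ * (a ^ i)⁻¹ = (v : H) * a ^ i * (v : H)⁻¹ * (a ^ i)⁻¹ → u = v := by
    intro i hi u v h
    rw [← inv_mul_eq_one]
    apply Subtype.ext
    rw [Subgroup.coe_one, ← mem_bot, ← hfix]
    have hcomm : Commute ((u : H)⁻¹ * v) (a ^ i) := by
      have h2 : (u : H) * a ^ i * (u : H)⁻¹ = (v : H) * a ^ i * (v : H)⁻¹ := mul_right_cancel h
      calc (u : H)⁻¹ * v * a ^ i = (u : H)⁻¹ * ((v : H) * a ^ i * (v : H)⁻¹) * v := by group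
        _ = a ^ i * ((u : H)⁻¹ * v) := by rw [← h2]; group
    refine ⟨(u⁻¹ * v).2, mem_centralizer_singleton_iff.mpr ?_⟩
    obtain ⟨m, hm⟩ := exists_pow_eq_self_of_coprime
      (show i.Coprime (orderOf a) by rw [ha]; exact (hp.out.coprime_iff_not_dvd.mpr hi).symm)
    have := hcomm.pow_right m
    rw [hm] at this
    exact this.eq
  have hpart : ∀ x : A, x ≠ 1 → ∃! o, x ∈ B o := by
    intro x hx
    by_cases hxW : (x : H) ∈ W
    · refine ⟨none, hxW, fun o ho => ?_⟩
      cases o with
      | none => rfl
      | some u =>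
        exfalso
        obtain ⟨i, hi⟩ := (hmemB u x).mp ho
        have h1 : a ^ i ∈ W := by
          have := W.mul_mem (W.mul_mem (W.inv_mem u.2) hxW) u.2
          rw [hi] at this
          simpa [mul_assoc] using this
        exact hx (Subtype.ext (by
          rw [hi, orderOf_dvd_iff_pow_eq_one.mp (ha ▸ hapow i h1)]; simp))
    · have hxm : (x : H) ∈ ((W ⊔ zpowers a : Subgroup H) : Set H) := x.2
      rw [coe_mul_of_right_le_normalizer_left _ _ (zpowers_le.mpr haW)] at hxm
      obtain ⟨w, hw, z, hz, he⟩ := hxm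
      obtain ⟨i, -, rfl⟩ := Finset.mem_image.mp (mem_zpowers_iff_mem_range_orderOf.mp hz)
      simp only at he
      have hi : ¬ p ∣ i := fun h => hxW (by
        rw [← he, orderOf_dvd_iff_pow_eq_one.mp (ha ▸ h), mul_one]; exact hw)
      have hai : ∀ u : W, (u : H) * a ^ i * (u : H)⁻¹ * (a ^ i)⁻¹ ∈ W := fun u => by
        have h1 := (mem_normalizer_iff.mp (pow_mem haW i) _).mp (W.inv_mem u.2)
        simpa [mul_assoc] using W.mul_mem u.2 h1
      let f : W → W := fun u => ⟨_, hai u⟩
      obtain ⟨u, hu⟩ := Finite.surjective_of_injective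
        (f := f) (fun u v h => hinj i hi u v (congrArg Subtype.val h)) ⟨w, hw⟩
      have hu' : (x : H) = (u : H) * a ^ i * (u : H)⁻¹ := by
        rw [← he, ← show (u : H) * a ^ i * (u : H)⁻¹ * (a ^ i)⁻¹ = w from congrArg Subtype.val hu]
        group
      refine ⟨some u, (hmemB u x).mpr ⟨i, hu'⟩, fun o ho => ?_⟩
      cases o with
      | none => exact absurd ho hxW
      | some v =>
        obtain ⟨j, hj⟩ := (hmemB v x).mp ho
        congr 1
        -- exponents agree modulo `W`
        have hcv : ∀ (k : ℕ) (t : W), (t : H) * a ^ k * (t : H)⁻¹ * (a ^ k)⁻¹ ∈ W := fun k t => by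
          have h1 := (mem_normalizer_iff.mp (pow_mem haW k) _).mp (W.inv_mem t.2)
          simpa [mul_assoc] using W.mul_mem t.2 h1
        have hmem : a ^ i * (a ^ j)⁻¹ ∈ W := by
          have h2 := W.mul_mem (W.inv_mem (hai u)) (hcv j v)
          rw [← hu', ← hj] at h2
          simpa [mul_assoc] using h2
        have h4 : (a ^ i * (a ^ j)⁻¹) = 1 := by
          rw [← orderOf_eq_one_iff, ← Nat.dvd_one, ← hWcop]
          refine Nat.dvd_gcd (W.orderOf_dvd_natCard hmem) (((zpowers a).orderOf_dvd_natCard
            (mul_mem (pow_mem (mem_zpowers a) i) (inv_mem (pow_mem (mem_zpowers a) j)))).trans ?_)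
          rw [Nat.card_zpowers, ha]
        rw [mul_inv_eq_one] at h4
        rw [← h4] at hj
        refine (hinj i hi u v ?_).symm
        rw [← hu', ← hj]
  have hWtriv : ∀ w : U, (∀ b ∈ W', φ b w = w) → w = 1 := by
    intro w hw
    apply Subtype.ext
    rw [Subgroup.coe_one, ← mem_bot, ← hUW]
    refine ⟨w.2, mem_centralizer_iff.mpr fun b hb => ?_⟩
    have h := congrArg Subtype.val (hw ⟨b, mem_sup_left hb⟩ hb)
    rw [conjHom_apply, mul_inv_eq_iff_eq_mul] at h
    exact h
  have key : ∀ v : U, v ^ Nat.card W = 1 := by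
    intro v
    have h := orbitProd_partition φ B hpart v
    rw [Finset.prod_eq_one (fun o _ => ?_), hWtriv _ (fun b _ => orbitProd_fixed φ ⊤ v (mem_top b)),
      one_mul, Fintype.card_option, Nat.add_sub_cancel] at h
    · rw [Nat.card_eq_fintype_card]; exact h.symm
    cases o with
    | none => exact hWtriv _ fun b hb => orbitProd_fixed φ W' v hb
    | some u =>
      simp only [B]
      rw [orbitProd_conj, orbitProd_zpowers_quadratic φ hp2 a' hao, map_one]
      · exact Subtype.ext (by rw [SubmonoidClass.coe_pow]; exact hU.2 _ (Subtype.mem _))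
      · apply Subtype.ext
        rw [conjHom_apply]
        generalize φ (⟨u, mem_sup_left u.2⟩ : A)⁻¹ v = t
        have h1 : ⁅a, (t : H)⁆ ∈ ⁅U, zpowers a⁆ :=
          commutator_comm U (zpowers a) ▸ commutator_mem_commutator (mem_zpowers a) t.2
        have h2 := mem_centralizer_iff.mp (commutator_eq_bot_iff_le_centralizer.mp hq h1) a
          (mem_zpowers a)
        simp only [Subgroup.coe_mul, Subgroup.coe_inv, φ, conjHom_apply, ha']
        rw [mul_inv_eq_iff_eq_mul]
        simpa [commutatorElement_def] using h2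
  refine (eq_bot_iff_forall _).mpr fun x hx => ?_
  have h1 : orderOf (⟨x, hx⟩ : U) ∣ Nat.gcd (Nat.card W) p :=
    Nat.dvd_gcd (orderOf_dvd_of_pow_eq_one (key _))
      (orderOf_dvd_of_pow_eq_one (Subtype.ext (by simpa using hU.2 x hx)))
  rw [hWcop, Nat.dvd_one, orderOf_eq_one_iff] at h1
  exact congrArg Subtype.val h1

theorem card_sq_mul_card_fixed_le [Finite H] {p : ℕ} [hp : Fact p.Prime] (hp2 : p ≠ 2)
    (V Q E : Subgroup H) (hV : IsElementaryAbelian p V) (hE : IsElementaryAbelian p E)
    [IsMulCommutative Q] (hQ : (Nat.card Q).Coprime p) (hEQ : E ≤ normalizer (Q : Set H))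
    (hEV : E ≤ normalizer (V : Set H)) (hQV : Q ≤ normalizer (V : Set H))
    (hEf : E ⊓ centralizer (Q : Set H) = ⊥) (hQf : Q ⊓ centralizer (V : Set H) = ⊥) :
    ∀ F : Subgroup H, F ≤ E →
      Nat.card F ^ 2 * Nat.card ↥(V ⊓ centralizer (F : Set H)) ≤ Nat.card V := by
  classical
  intro F
  induction F using WellFoundedLT.induction with
  | _ F ih =>
    intro hFE
    rcases eq_or_ne F ⊥ with rfl | hF
    · rw [card_bot, one_pow, one_mul]; exact card_le_of_le inf_le_left
    haveI := hE.1
    have hnc : ¬ Q ≤ centralizer (F : Set H) := fun h => hF <| le_bot_iff.mp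
      (hEf ▸ le_inf hFE (le_centralizer_iff.mp h))
    obtain ⟨F', hF'⟩ := (Set.toFinite {X : Subgroup H | X ≤ F ∧
      ¬ Q ⊓ centralizer (X : Set H) ≤ centralizer (F : Set H)}).exists_maximal
      ⟨⊥, bot_le, fun h => hnc fun q hq => h ⟨hq, by simp [mem_centralizer_iff]⟩⟩
    obtain ⟨⟨hF'F, hW0⟩, hmax⟩ := hF'
    set W0 := Q ⊓ centralizer (F' : Set H) with hW0d
    have hEF' : E ≤ centralizer (F' : Set H) :=
      (le_centralizer E).trans (centralizer_le (hF'F.trans hFE))
    have hEW0 : E ≤ normalizer (W0 : Set H) :=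
      le_normalizer_inf hEQ (hEF'.trans le_normalizer)
    haveI : IsMulCommutative W0 :=
      ⟨⟨fun x y => Subtype.ext (show (x : H) * y = y * x from congrArg Subtype.val
        (mul_comm' (⟨x, x.2.1⟩ : Q) ⟨y, y.2.1⟩))⟩⟩
    have hpow : ∀ x ∈ E, x ^ p = 1 := hE.2
    have hlt : F' < F := lt_of_le_of_ne hF'F fun h => hW0 (h ▸ inf_le_right)
    obtain ⟨z, hz, hzF⟩ := SetLike.not_le_iff_exists.mp hW0
    obtain ⟨a, haF, haz⟩ : ∃ a ∈ F, a * z ≠ z * a := by
      by_contra! hall
      exact hzF (mem_centralizer_iff.mpr hall)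
    have haF' : a ∉ F' := fun h => haz (mem_centralizer_iff.mp hz.2 a h)
    have hgen : F ≤ F' ⊔ zpowers a := by
      intro y hy
      by_contra hyn
      -- the subgroup `⟨a, y⟩` acts on `W0`; each nontrivial element fixes only `C_Q(F)`
      set E2 := zpowers a ⊔ zpowers y with hE2
      have hE2F : E2 ≤ F := sup_le (zpowers_le.mpr haF) (zpowers_le.mpr hy)
      have hae : ∀ x ∈ F, x ≠ 1 → Nat.card (zpowers x) = p := fun x hx hx1 => by
        rw [Nat.card_zpowers, orderOf_eq_prime (hpow x (hFE hx)) hx1]
      have ha1 : a ≠ 1 := fun h => haF' (h ▸ one_mem _)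
      have hy1 : y ≠ 1 := fun h => hyn (h ▸ one_mem _)
      have hdisj : zpowers y ⊓ (F' ⊔ zpowers a) = ⊥ := by
        by_contra hne
        refine hyn ?_
        have := eq_of_le_of_card_ge (inf_le_left : zpowers y ⊓ (F' ⊔ zpowers a) ≤ zpowers y) (by
          rw [hae y hy hy1]
          obtain ⟨n, hn⟩ := IsPGroup.iff_card.mp (IsPGroup.of_card (n := 1)
            (by rw [pow_one]; exact hae y hy hy1) : IsPGroup p (zpowers y))
          have hd := card_dvd_of_le (inf_le_left : zpowers y ⊓ (F' ⊔ zpowers a) ≤ zpowers y)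
          rw [hae y hy hy1] at hd
          rcases hp.out.eq_one_or_self_of_dvd _ hd with h | h
          · exact absurd (Subgroup.card_eq_one.mp h) hne
          · exact h.ge)
        exact (this.ge.trans inf_le_right) (mem_zpowers y)
      have hcard : Nat.card E2 = p ^ 2 := by
        have hn : zpowers y ≤ normalizer (zpowers a : Set H) :=
          (zpowers_le.mpr (hFE hy)).trans ((le_centralizer E).trans
            ((centralizer_le (zpowers_le.mpr (hFE haF))).trans (centralizer_le_normalizer _)))
        have h := card_sup_mul_card_inf (zpowers a) (zpowers y) hn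
        rw [show zpowers a ⊓ zpowers y = ⊥ from le_bot_iff.mp
          (hdisj ▸ le_inf inf_le_right (inf_le_left.trans le_sup_right)), card_bot, mul_one,
          hae a haF ha1, hae y hy hy1, ← sq] at h
        exact h
      obtain ⟨ι, _, _, B, hpart, hcardι, hne⟩ := exists_partition_of_card_sq hcard
        (fun e => Subtype.ext (hpow e (hFE (hE2F e.2))))
      haveI := Fintype.ofFinite E2
      letI : CommGroup W0 := { (inferInstance : Group W0) with mul_comm := fun u v => mul_comm' u v }
      let φ : E2 →* MulAut W0 := conjHom E2 W0 ((hE2F.trans hFE).trans hEW0)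
      have hfixF : ∀ b : E2, b ≠ 1 → ∀ w : W0, φ b w = w →
          (w : H) ∈ centralizer (F : Set H) := by
        intro b hb w hw
        have hbF' : (b : H) ∉ F' := by
          intro hbF
          refine hb (Subtype.ext ?_)
          have hb2 : (b : H) ∈ ((zpowers a ⊔ zpowers y : Subgroup H) : Set H) := b.2
          rw [coe_mul_of_right_le_normalizer_left _ _ ((zpowers_le.mpr (hFE hy)).trans
            ((le_centralizer E).trans ((centralizer_le (zpowers_le.mpr (hFE haF))).trans
              (centralizer_le_normalizer _))))] at hb2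
          obtain ⟨s, hs, t, ht, he⟩ := hb2
          simp only at he
          have ht1 : t = 1 := by
            rw [← mem_bot, ← hdisj]
            refine ⟨ht, ?_⟩
            have := mul_mem (mem_sup_right (inv_mem hs) : s⁻¹ ∈ F' ⊔ zpowers a) (mem_sup_left hbF)
            rwa [← he, inv_mul_cancel_left] at this
          rw [ht1, mul_one] at he
          rw [← he]
          have h1 : zpowers a ⊓ F' = ⊥ := by
            by_contra hne'
            refine haF' ?_
            have := eq_of_le_of_card_ge (inf_le_left : zpowers a ⊓ F' ≤ zpowers a) (by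
              have hd := card_dvd_of_le (inf_le_left : zpowers a ⊓ F' ≤ zpowers a)
              rw [hae a haF ha1] at hd ⊢
              exact ((hp.out.eq_one_or_self_of_dvd _ hd).resolve_left
                fun h => hne' (Subgroup.card_eq_one.mp h)).ge)
            exact (this.ge.trans inf_le_right) (mem_zpowers a)
          rw [Subgroup.coe_one, ← mem_bot, ← h1]
          exact ⟨hs, he ▸ hbF⟩
        by_contra hwF
        refine hbF' ?_
        have hle : F' ⊔ zpowers (b : H) ≤ F := sup_le hF'F (zpowers_le.mpr (hE2F b.2))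
        have hmem : ¬ Q ⊓ centralizer ((F' ⊔ zpowers (b : H) : Subgroup H) : Set H) ≤
            centralizer (F : Set H) := by
          intro h
          refine hwF (h ⟨w.2.1, ?_⟩)
          show (w : H) ∈ centralizer ((F' ⊔ zpowers (b : H) : Subgroup H) : Set H)
          rw [← zpowers_le, ← le_centralizer_iff]
          refine sup_le (le_centralizer_iff.mp (zpowers_le.mpr w.2.2))
            (le_centralizer_iff.mp (zpowers_le.mpr ?_))
          have hwb := congrArg Subtype.val hw
          rw [conjHom_apply, mul_inv_eq_iff_eq_mul] at hwb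
          intro c hc
          obtain ⟨k, rfl⟩ := mem_zpowers_iff.mp hc
          exact ((show Commute (b : H) w from hwb).zpow_left k).eq
        exact (hmax ⟨hle, hmem⟩ le_sup_left) (mem_sup_right (mem_zpowers _))
      have key := orbitProd_partition φ B hpart (⟨z, hz⟩ : W0)
      rw [hcardι, Nat.add_sub_cancel] at key
      let J : Subgroup W0 := (centralizer (F : Set H)).subgroupOf W0
      have hmemJ : ∀ (C : Subgroup E2) (e : E2), e ≠ 1 → e ∈ C →
          orbitProd φ C (⟨z, hz⟩ : W0) ∈ J := fun C e he heC =>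
        hfixF e he _ (orbitProd_fixed φ C _ heC)
      have hpJ : (⟨z, hz⟩ : W0) ^ p ∈ J := by
        have h1 : ∏ i, orbitProd φ (B i) (⟨z, hz⟩ : W0) ∈ J := prod_mem fun i _ => by
          obtain ⟨b, hb1, hb⟩ := hne i
          exact hmemJ _ b hb1 hb
        rw [key] at h1
        obtain ⟨b, hb1, -⟩ := hne (Classical.arbitrary ι)
        exact (J.mul_mem_cancel_left (hmemJ ⊤ b hb1 (mem_top _))).mp h1
      obtain ⟨m, hm⟩ := exists_pow_eq_self_of_coprime (x := (⟨z, hz⟩ : W0)) (n := p)
        (Nat.Coprime.coprime_dvd_right (orderOf_dvd_natCard _)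
          (hQ.coprime_dvd_left (card_dvd_of_le inf_le_left)).symm)
      have hzJ : (⟨z, hz⟩ : W0) ∈ J := hm ▸ J.pow_mem hpJ m
      exact hzF hzJ
    have haE : a ∈ E := hFE haF
    have ha1 : a ≠ 1 := fun h => haF' (h ▸ one_mem _)
    have hao : orderOf a = p := orderOf_eq_prime (hpow a haE) ha1
    have hza : IsPGroup p (zpowers a) := IsPGroup.of_card (n := 1)
      (by rw [Nat.card_zpowers, hao, pow_one])
    set W := ⁅W0, zpowers a⁆ with hW
    have haW0 : zpowers a ≤ normalizer (W0 : Set H) := (zpowers_le.mpr haE).trans hEW0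
    have hcopW : (Nat.card (zpowers a)).Coprime (Nat.card W0) := by
      rw [Nat.card_zpowers, hao]
      exact (hQ.coprime_dvd_left (card_dvd_of_le inf_le_left)).symm
    have hWle : W ≤ W0 := commutator_normalizer_le _ _ haW0
    haveI : IsMulCommutative W :=
      ⟨⟨fun x y => Subtype.ext (show (x : H) * y = y * x from congrArg Subtype.val
        (mul_comm' (⟨x, hWle x.2⟩ : W0) ⟨y, hWle y.2⟩))⟩⟩
    have hW1 : W ≠ ⊥ := fun h => haz <|
      mem_centralizer_iff.mp (commutator_eq_bot_iff_le_centralizer.mp h hz) a (mem_zpowers a)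
    have hWfix : W ⊓ centralizer {a} = ⊥ := by
      rw [show centralizer ({a} : Set H) = centralizer (zpowers a : Set H) by
        rw [zpowers_eq_closure, centralizer_closure]]
      exact commutator_inf_centralizer_eq_bot (zpowers a) W0 haW0 hcopW
    set U := V ⊓ centralizer (F' : Set H) with hU
    have hEU : E ≤ normalizer (U : Set H) := le_normalizer_inf hEV (hEF'.trans le_normalizer)
    have hWU : W ≤ normalizer (U : Set H) :=
      le_normalizer_inf ((hWle.trans inf_le_left).trans hQV)
        ((hWle.trans inf_le_right).trans le_normalizer)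
    have haWn : a ∈ normalizer (W : Set H) :=
      normalizer_commutator_ge_right W0 (zpowers a) (mem_zpowers a)
    have hWcop : (Nat.card W).Coprime p :=
      hQ.coprime_dvd_left (card_dvd_of_le (hWle.trans inf_le_left))
    have hUel : IsElementaryAbelian p U := elemAbelian_of_le hV inf_le_left
    have hCF : V ⊓ centralizer (F : Set H) = U ⊓ centralizer (zpowers a : Set H) := by
      refine le_antisymm (le_inf (inf_le_inf_left _ (centralizer_le hF'F))
        (inf_le_right.trans (centralizer_le (zpowers_le.mpr haF)))) ?_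
      rintro x ⟨⟨hxV, hx1⟩, hx2⟩
      refine ⟨hxV, ?_⟩
      change x ∈ centralizer (F' : Set H) at hx1
      change x ∈ centralizer (zpowers a : Set H) at hx2
      show x ∈ centralizer (F : Set H)
      rw [← zpowers_le, ← le_centralizer_iff] at hx1 hx2 ⊢
      exact hgen.trans (sup_le hx1 hx2)
    have hstep : p ^ 2 * Nat.card ↥(V ⊓ centralizer (F : Set H)) ≤ Nat.card U := by
      rw [hCF]
      by_contra hlt2
      push Not at hlt2
      set C := U ⊓ centralizer (zpowers a : Set H) with hCdef
      haveI := hUel.1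
      have hUa : zpowers a ≤ normalizer (U : Set H) := (zpowers_le.mpr haE).trans hEU
      -- `[U, a]` has order at most `p`
      let θ : U →* U := MonoidHom.mk' (fun v => conjHom (zpowers a) U hUa ⟨a, mem_zpowers a⟩ v * v⁻¹)
        (fun x y => by
          rw [map_mul, mul_inv_rev, mul_comm' y⁻¹ x⁻¹]
          simp only [mul_assoc]
          congr 1
          rw [← mul_assoc, ← mul_assoc, mul_comm' (conjHom (zpowers a) U hUa ⟨a, _⟩ y) x⁻¹,
            mul_assoc])
      have hker : θ.ker.map U.subtype ≤ C := by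
        rintro _ ⟨v, hv, rfl⟩
        refine ⟨v.2, mem_centralizer_iff.mpr ?_⟩
        have h1 : a * (v : H) * a⁻¹ * (v : H)⁻¹ = 1 := congrArg Subtype.val (hv : θ v = 1)
        rw [mul_inv_eq_one, mul_inv_eq_iff_eq_mul] at h1
        intro c hc
        obtain ⟨k, rfl⟩ := mem_zpowers_iff.mp hc
        exact ((show Commute a (v : H) from h1).zpow_left k).eq
      have hker' : C ≤ θ.ker.map U.subtype := by
        rintro x ⟨hxU, hxc⟩
        refine ⟨⟨x, hxU⟩, Subtype.ext ?_, rfl⟩
        change a * x * a⁻¹ * x⁻¹ = 1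
        rw [mem_centralizer_iff.mp hxc a (mem_zpowers a), mul_inv_cancel_right, mul_inv_cancel]
      set R := θ.range.map U.subtype with hR
      have hRU : R ≤ U := map_subtype_le _
      have hcard : Nat.card R * Nat.card C = Nat.card U := by
        rw [← le_antisymm hker hker', hR, card_map_subtype, card_map_subtype,
          ← Nat.card_congr (QuotientGroup.quotientKerEquivRange θ).toEquiv,
          ← card_eq_card_quotient_mul_card_subgroup]
      have hRle : Nat.card R ≤ p := by
        by_contra h
        push Not at h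
        obtain ⟨n, hn⟩ := IsPGroup.iff_card.mp ((isPGroup_of_elemAbelian hUel).to_le hRU)
        have h2 : 2 ≤ n := by
          by_contra h3
          interval_cases n
          · rw [hn, pow_zero] at h; exact absurd h (not_lt.mpr hp.out.pos)
          · rw [hn, pow_one] at h; exact lt_irrefl _ h
        rw [← hcard, hn] at hlt2
        exact absurd (Nat.pow_le_pow_right hp.out.pos h2)
          (not_le.mpr (Nat.lt_of_mul_lt_mul_right hlt2))
      have hmemR : ∀ v ∈ U, ⁅a, v⁆ ∈ R := fun v hv => ⟨θ ⟨v, hv⟩, ⟨⟨v, hv⟩, rfl⟩, rfl⟩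
      have hRa : zpowers a ≤ normalizer (R : Set H) := by
        refine zpowers_le.mpr (mem_normalizer_of_conj_le ?_)
        intro x hx
        obtain ⟨_, ⟨⟨v, hv⟩, rfl⟩, he⟩ := mem_conj_smul.mp hx
        have e : x = ⁅a, a * v * a⁻¹⁆ := by
          have he' : a⁻¹ * x * a = a * v * a⁻¹ * v⁻¹ := he.symm
          rw [commutatorElement_def]
          calc x = a * (a⁻¹ * x * a) * a⁻¹ := by group
            _ = _ := by rw [he']; group
        rw [e]
        exact hmemR _ ((mem_normalizer_iff.mp (hUa (mem_zpowers a)) v).mp hv)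
      have hUaR : ⁅U, zpowers a⁆ ≤ R := by
        rw [commutator_le]
        intro v hv b hb
        obtain ⟨i, -, rfl⟩ := Finset.mem_image.mp (mem_zpowers_iff_mem_range_orderOf.mp hb)
        induction i generalizing v with
        | zero => simp
        | succ i ih =>
          rw [pow_succ', show ⁅v, a * a ^ i⁆ = ⁅v, a⁆ * (a * ⁅v, a ^ i⁆ * a⁻¹) by
            simp only [commutatorElement_def]; group]
          refine mul_mem ?_ ((mem_normalizer_iff.mp (hRa (mem_zpowers a)) _).mp (ih v hv (pow_mem (mem_zpowers a) i)))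
          rw [← commutatorElement_inv]; exact inv_mem (hmemR v hv)
      have hq : ⁅⁅U, zpowers a⁆, zpowers a⁆ = ⊥ := by
        refine le_bot_iff.mp ((commutator_mono hUaR le_rfl).trans ?_)
        rcases eq_or_ne R ⊥ with hR0 | hR0
        · rw [hR0, commutator_bot_left]
        have hM : IsPGroup p ↥(R ⊔ zpowers a : Subgroup H) :=
          ((isPGroup_of_elemAbelian hUel).to_le hRU).to_sup_of_normal_left' hza hRa
        have hlt := lt_of_le_of_lt (commutator_mono le_rfl le_sup_right)
          (commutator_lt_of_nilpotent (M := R ⊔ zpowers a) hM.isNilpotent le_sup_left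
            (sup_le le_normalizer hRa) hR0)
        rw [le_bot_iff]
        by_contra hne
        obtain ⟨n, hn⟩ := IsPGroup.iff_card.mp
          (((isPGroup_of_elemAbelian hUel).to_le hRU).to_le hlt.le)
        rcases n with _ | n
        · exact hne (Subgroup.card_eq_one.mp (by rw [hn, pow_zero]))
        have h1 : p ≤ Nat.card ↥⁅R, zpowers a⁆ := hn ▸ Nat.le_self_pow n.succ_ne_zero p
        exact hlt.ne (eq_of_le_of_card_ge hlt.le (hRle.trans h1))
      -- `[U, W]` is a module for the Frobenius group `W⟨a⟩` without fixed points of `W`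
      have hWV : U ≤ centralizer (W : Set H) := by
        set U1 := ⁅U, W⁆ with hU1
        have hcWU : (Nat.card W).Coprime (Nat.card U) := by
          obtain ⟨k, hk⟩ := IsPGroup.iff_card.mp (isPGroup_of_elemAbelian hUel)
          rw [hk]; exact hWcop.pow_right k
        have hU1le : U1 ≤ U := commutator_normalizer_le W U hWU
        have h0 : U1 = ⊥ := by
          refine eq_one_of_quadratic_frobenius hp2 U1 W a (elemAbelian_of_le hUel hU1le) hWcop hao
            haWn hWfix hW1 (normalizer_commutator_ge_right U W) ?_ ?_ ?_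
          · exact (le_inf hUa (zpowers_le.mpr haWn)).trans
              (normalizer_le_normalizer_commutator U W) (mem_zpowers a)
          · exact le_bot_iff.mp ((commutator_mono (commutator_mono hU1le le_rfl) le_rfl).trans hq.le)
          · exact commutator_inf_centralizer_eq_bot W U hWU hcWU
        exact commutator_eq_bot_iff_le_centralizer.mp h0
      refine hW1 (le_bot_iff.mp (hQf ▸ le_inf (hWle.trans inf_le_left) ?_))
      exact thompson_pq p F' W V ((isPGroup_of_elemAbelian hE).to_le (hF'F.trans hFE)) hWcop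
        (isPGroup_of_elemAbelian hV)
        (le_centralizer_iff.mp (hWle.trans inf_le_right))
        ((hF'F.trans hFE).trans hEV) ((hWle.trans inf_le_left).trans hQV)
        (fun x hx => hWV hx)
    have hind := ih F' hlt (hF'F.trans hFE)
    have hFcard : Nat.card F ≤ p * Nat.card F' := by
      refine (card_le_of_le hgen).trans ?_
      refine (Nat.le_of_dvd (Nat.mul_pos Nat.card_pos Nat.card_pos) (card_sup_dvd F' (zpowers a)
        ?_)).trans (le_of_eq (by rw [Nat.card_zpowers, hao, mul_comm]))
      exact ((zpowers_le.mpr haE).trans hEF').trans (centralizer_le_normalizer _)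
    calc Nat.card F ^ 2 * Nat.card ↥(V ⊓ centralizer (F : Set H))
        ≤ (p * Nat.card F') ^ 2 * Nat.card ↥(V ⊓ centralizer (F : Set H)) :=
          Nat.mul_le_mul_right _ (Nat.pow_le_pow_left hFcard 2)
      _ = Nat.card F' ^ 2 * (p ^ 2 * Nat.card ↥(V ⊓ centralizer (F : Set H))) := by ring
      _ ≤ Nat.card F' ^ 2 * Nat.card U := Nat.mul_le_mul_left _ hstep
      _ ≤ Nat.card V := hind

end Cfsg.Agent.Solv
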