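import Mathlib
import Cfsg.Prelude.Def_PLocal
import Cfsg.Agent.Lib.Solv.StructMisc
import Cfsg.Agent.Lib.Struct.CoprimeMinimal

/-!
# Regular p-groups

The weak first-power condition `(ab)^p ≡ a^p b^p` modulo `℧₁(⟨a,b⟩')` gives regularity and the
power/omega structure of a regular group.
-/

set_option autoImplicit false
open scoped commutatorElement

universe u v

namespace Cfsg.Agent.Solv.Reg
open Subgroup

variable {G : Type u} [Group G] {K : Type v} [Group K] {p : ℕ}

/-- The first-power form of regularity. -/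
def Weak (p : ℕ) (G : Type u) [Group G] : Prop :=
  IsPGroup p G ∧ ∀ a b : G,
    ∃ c ∈ Cfsg.powerClosure p 1 ⁅closure ({a, b} : Set G), closure ({a, b} : Set G)⁆,
      (a * b) ^ p = a ^ p * b ^ p * c

theorem mem_pc {n : ℕ} {H : Subgroup G} {x : G} (hx : x ∈ H) :
    x ^ p ^ n ∈ Cfsg.powerClosure p n H :=
  subset_closure ⟨x, hx, rfl⟩

theorem pc_le {n : ℕ} {H N : Subgroup G} (h : ∀ x ∈ H, x ^ p ^ n ∈ N) :
    Cfsg.powerClosure p n H ≤ N := by
  rw [Cfsg.powerClosure, closure_le]
  rintro _ ⟨x, hx, rfl⟩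
  exact h x hx

theorem pc_mono {n : ℕ} {H L : Subgroup G} (h : H ≤ L) :
    Cfsg.powerClosure p n H ≤ Cfsg.powerClosure p n L :=
  pc_le fun _ hx => mem_pc (h hx)

theorem pc_eq_bot {n : ℕ} {H : Subgroup G} (h : ∀ x ∈ H, x ^ p ^ n = 1) :
    Cfsg.powerClosure p n H = ⊥ :=
  le_bot_iff.1 (pc_le fun x hx => mem_bot.2 (h x hx))

theorem pc_map (f : G →* K) (n : ℕ) (H : Subgroup G) :
    (Cfsg.powerClosure p n H).map f = Cfsg.powerClosure p n (H.map f) := by
  apply le_antisymm
  · rw [map_le_iff_le_comap]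
    exact pc_le fun x hx => by
      rw [mem_comap, map_pow]
      exact mem_pc (mem_map_of_mem f hx)
  · refine pc_le ?_
    rintro _ ⟨x, hx, rfl⟩
    exact ⟨x ^ p ^ n, mem_pc hx, map_pow f x _⟩

theorem map_comm_pair (f : G →* K) (a b : G) :
    ⁅closure ({a, b} : Set G), closure ({a, b} : Set G)⁆.map f =
      ⁅closure ({f a, f b} : Set K), closure ({f a, f b} : Set K)⁆ := by
  rw [map_commutator, MonoidHom.map_closure, Set.image_pair]

theorem Weak.quotient (h : Weak p G) (N : Subgroup G) [N.Normal] : Weak p (G ⧸ N) := by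
  refine ⟨h.1.to_quotient N, fun a b => ?_⟩
  obtain ⟨x, rfl⟩ := QuotientGroup.mk'_surjective N a
  obtain ⟨y, rfl⟩ := QuotientGroup.mk'_surjective N b
  obtain ⟨c, hc, e⟩ := h.2 x y
  refine ⟨QuotientGroup.mk' N c, ?_, by simpa using congrArg (QuotientGroup.mk' N) e⟩
  rw [← map_comm_pair, ← pc_map]
  exact mem_map_of_mem _ hc

theorem Weak.subgroup (h : Weak p G) (H : Subgroup G) : Weak p H := by
  refine ⟨h.1.to_subgroup H, fun a b => ?_⟩
  obtain ⟨c, hc, e⟩ := h.2 (a : G) (b : G)
  rw [show (a : G) = H.subtype a from rfl, show (b : G) = H.subtype b from rfl, ← map_comm_pair,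
    ← pc_map] at hc
  obtain ⟨c', hc', rfl⟩ := hc
  refine ⟨c', hc', ?_⟩
  apply Subtype.ext
  simpa using e

theorem weak_of_regular (h : Cfsg.IsRegularPGroup p G) : Weak p G := by
  refine ⟨h.1, fun a b => ?_⟩
  obtain ⟨c, hc, e⟩ := h.2 a b 1
  rw [pow_one] at e
  exact ⟨c, hc, e⟩

theorem Weak.mul_pow (h : Weak p G) (a b : G)
    (he : ∀ x ∈ ⁅closure ({a, b} : Set G), closure ({a, b} : Set G)⁆, x ^ p = 1) :
    (a * b) ^ p = a ^ p * b ^ p := by
  obtain ⟨c, hc, e⟩ := h.2 a b
  rw [pc_eq_bot (fun x hx => by rw [pow_one]; exact he x hx), mem_bot] at hc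
  rw [e, hc, mul_one]

theorem commute_of_mem_closure_pair {a b x y : G} (h : Commute a b)
    (hx : x ∈ closure ({a, b} : Set G)) (hy : y ∈ closure ({a, b} : Set G)) : Commute x y := by
  have h1 : closure ({a, b} : Set G) ≤ centralizer ({a, b} : Set G) := by
    rw [closure_le]
    rintro z (rfl | rfl) <;> (rw [SetLike.mem_coe, mem_centralizer_iff]; rintro w (rfl | rfl))
    exacts [rfl, h.symm, h, rfl]
  have h2 : closure ({a, b} : Set G) ≤ centralizer {x} := by
    rw [closure_le]
    intro z hz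
    rw [SetLike.mem_coe, mem_centralizer_iff]
    intro w hw
    rw [Set.mem_singleton_iff.1 hw]
    exact (mem_centralizer_iff.1 (h1 hx) z hz).symm
  exact (mem_centralizer_iff.1 (h2 hy) x rfl)

theorem commutator_le_of_gen {a b : G} (htop : closure ({a, b} : Set G) = ⊤) (N : Subgroup G)
    [N.Normal] (h : Commute (QuotientGroup.mk' N a) (QuotientGroup.mk' N b)) :
    _root_.commutator G ≤ N := by
  rw [commutator_def, commutator_le]
  intro x _ y _
  rw [← QuotientGroup.eq_one_iff]
  change QuotientGroup.mk' N ⁅x, y⁆ = 1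
  rw [map_commutatorElement, commutatorElement_eq_one_iff_mul_comm]
  have hm : ∀ z : G, QuotientGroup.mk' N z ∈
      closure ({QuotientGroup.mk' N a, QuotientGroup.mk' N b} : Set (G ⧸ N)) := by
    intro z
    rw [← Set.image_pair, ← MonoidHom.map_closure, htop]
    exact mem_map_of_mem _ (mem_top z)
  exact commute_of_mem_closure_pair h (hm x) (hm y)

theorem sup_commutator_ne_top [Finite G] [Group.IsNilpotent G] (hD : _root_.commutator G ≠ ⊥)
    (x : G) : zpowers x ⊔ _root_.commutator G ≠ ⊤ := by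
  intro h
  have h1 : zpowers x = ⊤ := frattini_nongenerating
    (top_le_iff.1 (h ▸ sup_le_sup_left commutator_le_frattini _))
  apply hD
  rw [commutator_def, commutator_eq_bot_iff_le_centralizer]
  intro y _
  rw [mem_centralizer_iff]
  intro z _
  have hy : y ∈ zpowers x := by rw [h1]; exact mem_top y
  have hz : z ∈ zpowers x := by rw [h1]; exact mem_top z
  obtain ⟨i, rfl⟩ := hy
  obtain ⟨j, rfl⟩ := hz
  exact (Commute.zpow_zpow (Commute.refl x) j i)

variable [hp : Fact p.Prime]

/-- `a^p = b^p ↔ (a⁻¹b)^p = 1`. -/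
theorem pow_p_eq_aux : ∀ (m : ℕ) (G : Type u) [Group G] [Finite G], Nat.card G = m →
    Weak p G → ∀ a b : G, (a ^ p = b ^ p ↔ (a⁻¹ * b) ^ p = 1) := by
  intro m
  induction m using Nat.strong_induction_on with
  | _ m ih =>
    intro G _ _ hm h a b
    have sub : ∀ S : Subgroup G, S ≠ ⊤ → ∀ x ∈ S, ∀ y ∈ S,
        (x ^ p = y ^ p ↔ (x⁻¹ * y) ^ p = 1) := by
      intro S hS x hx y hy
      have hlt : Nat.card S < m := hm ▸ lt_of_le_of_ne (card_le_card_group S)
        (fun e => hS (eq_top_of_card_eq S e))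
      have h2 := ih _ hlt S rfl (h.subgroup S) ⟨x, hx⟩ ⟨y, hy⟩
      simpa [Subtype.ext_iff] using h2
    by_cases htop : closure ({a, b} : Set G) = ⊤
    swap
    · exact sub _ htop a (subset_closure (by simp)) b (subset_closure (by simp))
    by_cases hD : _root_.commutator G = ⊥
    · have hc : Commute a b := by
        rw [commutator_def, commutator_eq_bot_iff_le_centralizer] at hD
        exact mem_centralizer_iff.1 (hD (mem_top b)) a (mem_top a)
      rw [hc.inv_left.mul_pow, inv_pow, inv_mul_eq_one]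
    haveI := h.1.isNilpotent
    have hDtop : _root_.commutator G ≠ ⊤ := fun e =>
      sup_commutator_ne_top hD 1 (by rw [e]; exact sup_top_eq _)
    let E : Subgroup G :=
      { carrier := {x | x ∈ _root_.commutator G ∧ x ^ p = 1}
        mul_mem' := by
          intro x y hx hy
          refine ⟨mul_mem hx.1 hy.1, ?_⟩
          have := (sub _ hDtop x⁻¹ (inv_mem hx.1) y hy.1).1 (by rw [inv_pow, hx.2, hy.2, inv_one])
          rwa [inv_inv] at this
        one_mem' := ⟨one_mem _, one_pow p⟩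
        inv_mem' := fun hx => ⟨inv_mem hx.1, by rw [inv_pow, hx.2, inv_one]⟩ }
    haveI : E.Normal := ⟨fun x hx g =>
      ⟨(inferInstance : (_root_.commutator G).Normal).conj_mem x hx.1 g, by
        rw [conj_pow, hx.2, mul_one, mul_inv_cancel]⟩⟩
    -- once one commutator of a generating pair lies in `E`, `x ↦ x^p` is multiplicative
    have key : ∀ x y : G, closure ({x, y} : Set G) = ⊤ → (x⁻¹ * (y⁻¹ * x * y)) ∈ E →
        ∀ u v : G, (u * v) ^ p = u ^ p * v ^ p := by
      intro x y hxy hE u v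
      have hle : _root_.commutator G ≤ E := by
        apply commutator_le_of_gen hxy
        have h1 : QuotientGroup.mk' E (x⁻¹ * (y⁻¹ * x * y)) = 1 :=
          (QuotientGroup.eq_one_iff _).2 hE
        rw [map_mul, map_inv, map_mul, map_mul, map_inv, inv_mul_eq_one, mul_assoc,
          eq_inv_mul_iff_mul_eq] at h1
        exact h1.symm
      refine h.mul_pow u v fun z hz => (hle ?_).2
      exact (commutator_def G).symm ▸ commutator_mono le_top le_top hz
    have hcomm : ∀ x y : G, x⁻¹ * (y⁻¹ * x * y) ∈ _root_.commutator G := by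
      intro x y
      rw [show x⁻¹ * (y⁻¹ * x * y) = ⁅x⁻¹, y⁻¹⁆ by rw [commutatorElement_def]; group,
        commutator_def]
      exact commutator_mem_commutator (mem_top _) (mem_top _)
    have conjmem : ∀ x y : G, x ∈ zpowers x ⊔ _root_.commutator G ∧
        y⁻¹ * x * y ∈ zpowers x ⊔ _root_.commutator G := by
      intro x y
      have hx : x ∈ zpowers x ⊔ _root_.commutator G := mem_sup_left (mem_zpowers x)
      refine ⟨hx, ?_⟩
      have := mul_mem hx (mem_sup_right (hcomm x y) : x⁻¹ * (y⁻¹ * x * y) ∈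
        zpowers x ⊔ _root_.commutator G)
      rwa [mul_inv_cancel_left] at this
    have conjpow : ∀ x y : G, (y⁻¹ * x * y) ^ p = y⁻¹ * x ^ p * y := fun x y => by
      simpa using conj_pow (i := p) (a := y⁻¹) (b := x)
    constructor
    · intro e
      have h1 := (sub _ (sup_commutator_ne_top hD a) a (conjmem a b).1 _ (conjmem a b).2).1
        (by rw [conjpow, e]; group)
      have hom := key a b htop ⟨hcomm a b, h1⟩
      rw [hom, inv_pow, e, inv_mul_cancel]
    · intro e
      set w := a⁻¹ * b with hw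
      have htop' : closure ({w, a} : Set G) = ⊤ := by
        refine top_le_iff.1 (htop ▸ (closure_le _).2 ?_)
        rintro z (rfl | rfl)
        · exact subset_closure (by simp)
        · have : z = a * w := by rw [hw]; group
          rw [this]
          exact mul_mem (subset_closure (by simp)) (subset_closure (by simp))
      have h1 := (sub _ (sup_commutator_ne_top hD w) w (conjmem w a).1 _ (conjmem w a).2).1
        (by rw [conjpow, e]; group)
      have hom := key w a htop' ⟨hcomm w a, h1⟩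
      rw [show b = a * w by rw [hw]; group, hom, e, mul_one]

theorem pow_p_eq [Finite G] (h : Weak p G) (a b : G) :
    a ^ p = b ^ p ↔ (a⁻¹ * b) ^ p = 1 := pow_p_eq_aux _ G rfl h a b

/-- A product of two `p`-th powers is a `p`-th power. -/
theorem pow_p_mul_aux : ∀ (m : ℕ) (G : Type u) [Group G] [Finite G], Nat.card G = m →
    Weak p G → ∀ a b : G, ∃ z : G, a ^ p * b ^ p = z ^ p := by
  intro m
  induction m using Nat.strong_induction_on with
  | _ m ih =>
    intro G _ _ hm h a b
    have sub : ∀ S : Subgroup G, S ≠ ⊤ → ∀ x ∈ S, ∀ y ∈ S,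
        ∃ z ∈ S, x ^ p * y ^ p = z ^ p := by
      intro S hS x hx y hy
      have hlt : Nat.card S < m := hm ▸ lt_of_le_of_ne (card_le_card_group S)
        (fun e => hS (eq_top_of_card_eq S e))
      obtain ⟨z, hz⟩ := ih _ hlt S rfl (h.subgroup S) ⟨x, hx⟩ ⟨y, hy⟩
      exact ⟨z, z.2, by simpa [Subtype.ext_iff] using hz⟩
    obtain ⟨c, hc, e⟩ := h.2 a b
    have hle : ⁅closure ({a, b} : Set G), closure ({a, b} : Set G)⁆ ≤ _root_.commutator G :=
      commutator_def G ▸ commutator_mono le_top le_top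
    by_cases hD : _root_.commutator G = ⊥
    · refine ⟨a * b, ?_⟩
      have : c = 1 := by
        have h1 := pc_mono hle hc
        rw [hD, pc_eq_bot (fun x hx => by rw [mem_bot.1 hx, one_pow])] at h1
        exact mem_bot.1 h1
      rw [e, this, mul_one]
    haveI := h.1.isNilpotent
    have hDtop : _root_.commutator G ≠ ⊤ := fun e =>
      sup_commutator_ne_top hD 1 (by rw [e]; exact sup_top_eq _)
    have hc' : ∃ w ∈ _root_.commutator G, c = w ^ p := by
      have hc1 : c ∈ closure {y : G | ∃ x ∈ _root_.commutator G, y = x ^ p ^ 1} := pc_mono hle hc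
      clear hc e
      induction hc1 using closure_induction with
      | mem x hx =>
        obtain ⟨w, hw, rfl⟩ := hx
        exact ⟨w, hw, by rw [pow_one]⟩
      | one => exact ⟨1, one_mem _, (one_pow p).symm⟩
      | mul x y _ _ hx hy =>
        obtain ⟨u, hu, rfl⟩ := hx
        obtain ⟨v, hv, rfl⟩ := hy
        obtain ⟨z, hz, ez⟩ := sub _ hDtop u hu v hv
        exact ⟨z, hz, ez⟩
      | inv x _ hx =>
        obtain ⟨u, hu, rfl⟩ := hx
        exact ⟨u⁻¹, inv_mem hu, (inv_pow u p).symm⟩
    obtain ⟨w, hw, rfl⟩ := hc'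
    obtain ⟨z, -, hz⟩ := sub _ (sup_commutator_ne_top hD (a * b)) (a * b)
      (mem_sup_left (mem_zpowers _)) w⁻¹ (inv_mem (mem_sup_right hw))
    refine ⟨z, ?_⟩
    rw [← hz, e, inv_pow, mul_assoc, mul_inv_cancel, mul_one]

theorem pow_mul_pow : ∀ (n : ℕ) {G : Type u} [Group G] [Finite G], Weak p G →
    ∀ (H : Subgroup G), ∀ a ∈ H, ∀ b ∈ H, ∃ z ∈ H, a ^ p ^ n * b ^ p ^ n = z ^ p ^ n := by
  intro n
  induction n with
  | zero => exact fun _ H a ha b hb => ⟨a * b, mul_mem ha hb, by simp⟩
  | succ n ih =>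
    intro G _ _ h H a ha b hb
    set S := closure ({a ^ p ^ n, b ^ p ^ n} : Set G) with hS
    obtain ⟨z, hz⟩ := pow_p_mul_aux _ S rfl (h.subgroup S)
      ⟨a ^ p ^ n, subset_closure (by simp)⟩ ⟨b ^ p ^ n, subset_closure (by simp)⟩
    have hz' : (a ^ p ^ n) ^ p * (b ^ p ^ n) ^ p = (z : G) ^ p := by
      simpa [Subtype.ext_iff] using hz
    have hset : ∀ x ∈ S, ∃ w ∈ H, x = w ^ p ^ n := by
      intro x hx
      rw [hS] at hx
      induction hx using closure_induction with
      | mem x hx =>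
        rcases hx with rfl | rfl
        exacts [⟨a, ha, rfl⟩, ⟨b, hb, rfl⟩]
      | one => exact ⟨1, one_mem _, (one_pow _).symm⟩
      | mul x y _ _ hx hy =>
        obtain ⟨u, hu, rfl⟩ := hx
        obtain ⟨v, hv, rfl⟩ := hy
        exact ih h H u hu v hv
      | inv x _ hx =>
        obtain ⟨u, hu, rfl⟩ := hx
        exact ⟨u⁻¹, inv_mem hu, (inv_pow u _).symm⟩
    obtain ⟨w, hw, ew⟩ := hset z z.2
    refine ⟨w, hw, ?_⟩
    rw [pow_succ, pow_mul, pow_mul, hz', ew, pow_mul]

theorem pc_coe [Finite G] (h : Weak p G) (n : ℕ) (H : Subgroup G) :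
    (Cfsg.powerClosure p n H : Set G) = {y : G | ∃ x ∈ H, y = x ^ p ^ n} := by
  refine Set.Subset.antisymm (fun y hy => ?_) subset_closure
  rw [SetLike.mem_coe, Cfsg.powerClosure] at hy
  induction hy using closure_induction with
  | mem x hx => exact hx
  | one => exact ⟨1, one_mem _, (one_pow _).symm⟩
  | mul x y _ _ hx hy =>
    obtain ⟨u, hu, rfl⟩ := hx
    obtain ⟨v, hv, rfl⟩ := hy
    exact pow_mul_pow n h H u hu v hv
  | inv x _ hx =>
    obtain ⟨u, hu, rfl⟩ := hx
    exact ⟨u⁻¹, inv_mem hu, (inv_pow u _).symm⟩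

/-- The elements killed by `p`, as a subgroup. -/
def omega [Finite G] (h : Weak p G) : Subgroup G where
  carrier := {x | x ^ p = 1}
  mul_mem' := by
    intro x y hx hy
    have := (pow_p_eq h x⁻¹ y).1 (by rw [inv_pow, hx, inv_one]; exact hy.symm)
    rwa [inv_inv] at this
  one_mem' := one_pow p
  inv_mem' := fun hx => by
    show _ ^ p = 1
    rw [inv_pow, hx, inv_one]

theorem omega_normal [Finite G] (h : Weak p G) : (omega h).Normal :=
  ⟨fun x (hx : x ^ p = 1) g => by
    show _ ^ p = 1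
    rw [conj_pow, hx, mul_one, mul_inv_cancel]⟩

theorem mk_omega_eq_iff [Finite G] (h : Weak p G) [(omega h).Normal] (x y : G) :
    QuotientGroup.mk' (omega h) x = QuotientGroup.mk' (omega h) y ↔ x ^ p = y ^ p := by
  rw [pow_p_eq h]
  exact QuotientGroup.eq

theorem pow_eq_iff : ∀ (n : ℕ) {G : Type u} [Group G] [Finite G], Weak p G →
    ∀ a b : G, a ^ p ^ n = b ^ p ^ n ↔ (a⁻¹ * b) ^ p ^ n = 1 := by
  intro n
  induction n with
  | zero =>
    intro G _ _ _ a b
    simp [inv_mul_eq_one]
  | succ n ih =>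
    intro G _ _ h a b
    haveI := omega_normal h
    rw [pow_succ, pow_mul, pow_mul, pow_mul, ← mk_omega_eq_iff h, map_pow, map_pow,
      ih (h.quotient _), ← map_inv, ← map_mul, ← map_pow]
    rw [show (1 : G ⧸ omega h) = QuotientGroup.mk' (omega h) 1 from (map_one _).symm,
      mk_omega_eq_iff h, one_pow]

theorem commute_iff [Finite G] (h : Weak p G) (a b : G) (n : ℕ) :
    a ^ p ^ n * b = b * a ^ p ^ n ↔ (a⁻¹ * b⁻¹ * a * b) ^ p ^ n = 1 := by
  rw [show a⁻¹ * b⁻¹ * a * b = a⁻¹ * (b⁻¹ * a * b) by group, ← pow_eq_iff n h,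
    show (b⁻¹ * a * b) ^ p ^ n = b⁻¹ * a ^ p ^ n * b by
      simpa using conj_pow (i := p ^ n) (a := b⁻¹) (b := a),
    mul_assoc, eq_inv_mul_iff_mul_eq]
  exact eq_comm

theorem commute_of_exponent [Finite G] (h : Weak p G) (n : ℕ)
    (he : ∀ x ∈ _root_.commutator G, x ^ p ^ n = 1) (a b : G) :
    Commute (a ^ p ^ n) b := by
  refine (commute_iff h a b n).2 (he _ ?_)
  rw [show a⁻¹ * b⁻¹ * a * b = ⁅a⁻¹, b⁻¹⁆ by rw [commutatorElement_def]; group, commutator_def]
  exact commutator_mem_commutator (mem_top _) (mem_top _)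

theorem mul_pow_of_exponent : ∀ (n : ℕ) {G : Type u} [Group G] [Finite G], Weak p G →
    (∀ x ∈ _root_.commutator G, x ^ p ^ n = 1) →
      ∀ a b : G, (a * b) ^ p ^ n = a ^ p ^ n * b ^ p ^ n := by
  intro n
  induction n with
  | zero =>
    intro G _ _ _ _ a b
    simp
  | succ n ih =>
    intro G _ _ h he a b
    haveI := omega_normal h
    let q := QuotientGroup.mk' (omega h)
    have he' : ∀ x ∈ _root_.commutator (G ⧸ omega h), x ^ p ^ n = 1 := by
      intro x hx
      rw [commutator_def, ← map_top_of_surjective q (QuotientGroup.mk'_surjective _),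
        ← map_commutator] at hx
      obtain ⟨y, hy, rfl⟩ := hx
      rw [← map_pow, ← map_one q, mk_omega_eq_iff h, one_pow, ← pow_mul, ← pow_succ]
      exact he y (commutator_def G ▸ hy)
    have h1 : q ((a * b) ^ p ^ n) = q (a ^ p ^ n * b ^ p ^ n) := by
      rw [map_pow, map_mul, map_mul, map_pow, map_pow]
      exact ih (h.quotient _) he' _ _
    rw [pow_succ, pow_mul, pow_mul, pow_mul, (mk_omega_eq_iff h _ _).1 h1]
    have hc : Commute (q (a ^ p ^ n)) (q (b ^ p ^ n)) := by
      rw [map_pow]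
      exact commute_of_exponent (h.quotient _) n he' _ _
    refine h.mul_pow _ _ fun x hx => ?_
    have h2 : q x = 1 := by
      have h3 := mem_map_of_mem q hx
      rw [map_comm_pair, (commutator_eq_bot_iff_le_centralizer).2 (fun u hu =>
        mem_centralizer_iff.2 fun v hv => commute_of_mem_closure_pair hc hv hu), mem_bot] at h3
      exact h3
    rw [← map_one q, mk_omega_eq_iff h, one_pow] at h2
    exact h2

theorem mk_pc_eq_one {n : ℕ} [(Cfsg.powerClosure p n (_root_.commutator G)).Normal]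
    {x : G ⧸ Cfsg.powerClosure p n (_root_.commutator G)}
    (hx : x ∈ _root_.commutator (G ⧸ Cfsg.powerClosure p n (_root_.commutator G))) :
    x ^ p ^ n = 1 := by
  have hm : ∀ (N : Subgroup G) [N.Normal], (_root_.commutator G).map (QuotientGroup.mk' N) =
      _root_.commutator (G ⧸ N) := fun N _ => by
    rw [_root_.commutator_def, _root_.commutator_def, map_commutator,
      map_top_of_surjective _ (QuotientGroup.mk'_surjective N)]
  obtain ⟨y, hy, rfl⟩ : x ∈ (_root_.commutator G).map
      (QuotientGroup.mk' (Cfsg.powerClosure p n (_root_.commutator G))) := by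
    rw [hm]; exact hx
  rw [← map_pow]
  exact (QuotientGroup.eq_one_iff _).2 (mem_pc hy)

instance pc_commutator_normal (n : ℕ) :
    (Cfsg.powerClosure p n (_root_.commutator G)).Normal := by
  refine ⟨fun x hx g => ?_⟩
  have h1 := mem_map_of_mem (MulAut.conj g).toMonoidHom hx
  rw [pc_map] at h1
  refine pc_mono ?_ h1
  rintro _ ⟨y, hy, rfl⟩
  exact (inferInstance : (_root_.commutator G).Normal).conj_mem y hy g

theorem commutator_map_subtype (H : Subgroup G) :
    (_root_.commutator H).map H.subtype = ⁅H, H⁆ := by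
  rw [commutator_def, map_commutator, ← MonoidHom.range_eq_map, range_subtype]

/-- The weak condition gives regularity. -/
theorem regular_of_weak [Finite G] (h : Weak p G) : Cfsg.IsRegularPGroup p G := by
  refine ⟨h.1, fun a b n => ?_⟩
  set S := closure ({a, b} : Set G) with hS
  let N : Subgroup S := Cfsg.powerClosure p n (_root_.commutator S)
  let x : S := ⟨a, subset_closure (by simp)⟩
  let y : S := ⟨b, subset_closure (by simp)⟩
  have h1 := mul_pow_of_exponent n ((h.subgroup S).quotient N) (fun z hz => mk_pc_eq_one hz)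
    (QuotientGroup.mk' N x) (QuotientGroup.mk' N y)
  rw [← map_mul, ← map_pow, ← map_pow, ← map_pow, ← map_mul] at h1
  have h2 : (x ^ p ^ n * y ^ p ^ n)⁻¹ * (x * y) ^ p ^ n ∈ N := QuotientGroup.eq.1 h1.symm
  refine ⟨_, ?_, (mul_inv_cancel_left (a ^ p ^ n * b ^ p ^ n) ((a * b) ^ p ^ n)).symm⟩
  have h3 := mem_map_of_mem S.subtype h2
  rw [pc_map, commutator_map_subtype] at h3
  simpa [x, y] using h3

theorem commutator_pc_le [Finite G] (h : Weak p G) (n : ℕ) (H : Subgroup G) :
    ⁅Cfsg.powerClosure p n H, Cfsg.powerClosure p n H⁆ ≤ Cfsg.powerClosure p n ⁅H, H⁆ := by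
  rw [commutator_le]
  intro u hu v hv
  have hu' : u ∈ {y : G | ∃ x ∈ H, y = x ^ p ^ n} := pc_coe h n H ▸ hu
  have hv' : v ∈ {y : G | ∃ x ∈ H, y = x ^ p ^ n} := pc_coe h n H ▸ hv
  obtain ⟨a, ha, rfl⟩ := hu'
  obtain ⟨b, hb, rfl⟩ := hv'
  let N : Subgroup H := Cfsg.powerClosure p n (_root_.commutator H)
  let x : H := ⟨a, ha⟩
  let y : H := ⟨b, hb⟩
  have h1 := commute_of_exponent ((h.subgroup H).quotient N) n (fun z hz => mk_pc_eq_one hz)
    (QuotientGroup.mk' N x) (QuotientGroup.mk' N (y ^ p ^ n))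
  rw [← map_pow] at h1
  have h2 : ⁅x ^ p ^ n, y ^ p ^ n⁆ ∈ N := by
    rw [← QuotientGroup.eq_one_iff]
    change QuotientGroup.mk' N _ = 1
    rw [map_commutatorElement]
    exact commutatorElement_eq_one_iff_mul_comm.2 h1
  have h3 := mem_map_of_mem H.subtype h2
  rw [pc_map, commutator_map_subtype, map_commutatorElement] at h3
  simpa [x, y] using h3

theorem eq_bot_of_le_pc [Finite G] (hG : IsPGroup p G) {H : Subgroup G}
    (h : H ≤ Cfsg.powerClosure p 1 H) : H = ⊥ := by
  by_contra hne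
  haveI : Nontrivial H := (nontrivial_iff_ne_bot H).2 hne
  refine Cfsg.Agent.Struct.CoprimeMinimal.frattini_ne_top (Q := H) (top_le_iff.1 fun x _ => ?_)
  have h1 : (Cfsg.powerClosure p 1 (⊤ : Subgroup H)).map H.subtype =
      Cfsg.powerClosure p 1 H := by
    rw [pc_map, ← MonoidHom.range_eq_map, range_subtype]
  obtain ⟨y, hy, e⟩ := (h1 ▸ h x.2 : (x : G) ∈ _)
  rw [← H.subtype_injective e]
  exact pc_le (fun z _ => by
    rw [pow_one]
    exact Cfsg.Agent.Struct.CoprimeMinimal.pow_mem_frattini (hG.to_subgroup H) z) hy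

omit hp in
theorem commutator_le_pc_two (h : Weak 2 G) :
    _root_.commutator G ≤ Cfsg.powerClosure 2 1 (_root_.commutator G) := by
  let N := Cfsg.powerClosure 2 1 (_root_.commutator G)
  haveI : N.Normal := pc_commutator_normal 1
  rw [_root_.commutator_def, commutator_le]
  intro a _ b _
  rw [← _root_.commutator_def, ← QuotientGroup.eq_one_iff]
  change QuotientGroup.mk' N ⁅a, b⁆ = 1
  rw [map_commutatorElement, commutatorElement_eq_one_iff_mul_comm]
  have h1 := (h.quotient N).mul_pow (QuotientGroup.mk' N a) (QuotientGroup.mk' N b) fun z hz => by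
    have := mk_pc_eq_one (p := 2) (n := 1) (G := G) (x := z)
      (commutator_def (G ⧸ N) ▸ commutator_mono le_top le_top hz)
    rwa [pow_one] at this
  rw [sq, sq, sq, mul_assoc, mul_assoc, mul_left_cancel_iff, ← mul_assoc, ← mul_assoc,
    mul_right_cancel_iff] at h1
  exact h1.symm

end Cfsg.Agent.Solv.Reg
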