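import Cfsg.Agent.Lib.Solv.Regular
import Cfsg.Agent.Lib.Struct.LowerCentralBounds

/-!
# Polynomial sequences in a filtered group; class less than p implies regular
-/

set_option autoImplicit false
open scoped commutatorElement

universe u

namespace Cfsg.Agent.Solv.Reg
open Subgroup

variable {G : Type u} [Group G]

/-- The filtration `⊤, ⊤, γ₂, γ₃, …`. -/
def filt (G : Type u) [Group G] (k : ℕ) : Subgroup G :=
  (⊤ : Subgroup G).lowerCentralSeries (k - 1)

theorem filt_antitone {i j : ℕ} (h : i ≤ j) : filt G j ≤ filt G i :=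
  Subgroup.lowerCentralSeries_antitone (⊤ : Subgroup G) (Nat.sub_le_sub_right h 1)

theorem filt_normal (k : ℕ) : (filt G k).Normal := by
  unfold filt; infer_instance

theorem iterComm_lcs (m : ℕ) : ∀ k, Cfsg.Agent.Struct.LowerCentralBounds.iterComm
    ((⊤ : Subgroup G).lowerCentralSeries m) k = (⊤ : Subgroup G).lowerCentralSeries (m + k)
  | 0 => rfl
  | k + 1 => by
    show ⁅_, (⊤ : Subgroup G)⁆ = _
    rw [iterComm_lcs m k]
    rfl

theorem filt_comm (i j : ℕ) : ⁅filt G i, filt G j⁆ ≤ filt G (i + j) := by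
  haveI := filt_normal (G := G) i
  haveI := filt_normal (G := G) j
  rcases Nat.eq_zero_or_pos i with rfl | hi
  · rw [Nat.zero_add]
    exact commutator_le_right _ _
  rcases Nat.eq_zero_or_pos j with rfl | hj
  · rw [Nat.add_zero]
    exact commutator_le_left _ _
  refine (Cfsg.Agent.Struct.LowerCentralBounds.commutator_lcs_le (j - 1)
    ((⊤ : Subgroup G).lowerCentralSeries (i - 1))).trans ?_
  rw [iterComm_lcs]
  exact Subgroup.lowerCentralSeries_antitone (⊤ : Subgroup G) (by omega)

/-- The discrete derivative. -/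
def deriv (f : ℕ → G) : ℕ → G := fun n => (f n)⁻¹ * f (n + 1)

/-- Polynomial sequences of level `k`, tested to depth `d`. -/
def IsPoly : ℕ → ℕ → (ℕ → G) → Prop
  | 0, k, f => ∀ n, f n ∈ filt G k
  | d + 1, k, f => (∀ n, f n ∈ filt G k) ∧ IsPoly d (k + 1) (deriv f)

theorem IsPoly.mem {d k : ℕ} {f : ℕ → G} (h : IsPoly d k f) (n : ℕ) : f n ∈ filt G k := by
  cases d with
  | zero => exact h n
  | succ d => exact h.1 n

theorem IsPoly.mono : ∀ {d k k' : ℕ} {f : ℕ → G}, k ≤ k' → IsPoly d k' f → IsPoly d k f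
  | 0, _, _, _, hk, h => fun n => filt_antitone hk (h n)
  | _ + 1, _, _, _, hk, h =>
    ⟨fun n => filt_antitone hk (h.1 n), IsPoly.mono (Nat.succ_le_succ hk) h.2⟩

theorem IsPoly.depth : ∀ {d k : ℕ} {f : ℕ → G}, IsPoly (d + 1) k f → IsPoly d k f
  | 0, _, _, h => h.1
  | _ + 1, _, _, h => ⟨h.1, IsPoly.depth h.2⟩

theorem isPoly_one : ∀ (d k : ℕ), IsPoly d k (fun _ => (1 : G))
  | 0, _ => fun _ => one_mem _
  | d + 1, k => ⟨fun _ => one_mem _, by
    have : deriv (fun _ => (1 : G)) = fun _ => 1 := funext fun n => by simp [deriv]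
    rw [this]
    exact isPoly_one d (k + 1)⟩

/-- Products, inverses and commutators of polynomial sequences. -/
theorem closed : ∀ d : ℕ,
    (∀ (k : ℕ) (f g : ℕ → G), IsPoly d k f → IsPoly d k g → IsPoly d k (fun n => f n * g n)) ∧
    (∀ (k : ℕ) (f : ℕ → G), IsPoly d k f → IsPoly d k (fun n => (f n)⁻¹)) ∧
    (∀ (i j : ℕ) (f g : ℕ → G), IsPoly d i f → IsPoly d j g →
      IsPoly d (i + j) (fun n => ⁅f n, g n⁆))
  | 0 => ⟨fun k f g hf hg n => mul_mem (hf n) (hg n), fun k f hf n => inv_mem (hf n),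
      fun i j f g hf hg n => filt_comm i j (commutator_mem_commutator (hf n) (hg n))⟩
  | d + 1 => by
    obtain ⟨hmul, hinv, hcomm⟩ := closed d
    have hconj : ∀ (i k : ℕ) (h a : ℕ → G), IsPoly d i h → IsPoly d k a →
        IsPoly d k (fun n => h n * a n * (h n)⁻¹) := by
      intro i k h a hh ha
      have h1 := hmul k _ _ ((hcomm i k h a hh ha).mono (Nat.le_add_left k i)) ha
      have e : (fun n => h n * a n * (h n)⁻¹) = fun n => ⁅h n, a n⁆ * a n :=
        funext fun n => by rw [commutatorElement_def]; group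
      rw [e]
      exact h1
    refine ⟨?_, ?_, ?_⟩
    · intro k f g hf hg
      refine ⟨fun n => mul_mem (hf.1 n) (hg.1 n), ?_⟩
      have h1 := hmul (k + 1) _ _ (hconj k (k + 1) _ _ (hinv k g hg.depth) hf.2) hg.2
      have e : deriv (fun n => f n * g n) =
          fun n => (g n)⁻¹ * deriv f n * ((g n)⁻¹)⁻¹ * deriv g n :=
        funext fun n => by simp only [deriv]; group
      rw [e]
      exact h1
    · intro k f hf
      refine ⟨fun n => inv_mem (hf.1 n), ?_⟩
      have h1 := hconj k (k + 1) f _ hf.depth (hinv (k + 1) _ hf.2)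
      have e : deriv (fun n => (f n)⁻¹) = fun n => f n * (deriv f n)⁻¹ * (f n)⁻¹ :=
        funext fun n => by simp only [deriv]; group
      rw [e]
      exact h1
    · intro i j f g hf hg
      refine ⟨fun n => filt_comm i j (commutator_mem_commutator (hf.1 n) (hg.1 n)), ?_⟩
      have hu := hf.2
      have hv := hg.2
      have hX := hcomm i j f g hf.depth hg.depth
      have t1 : IsPoly d (i + j + 1) (fun n => ⁅deriv f n, g n⁆) := by
        have := hcomm (i + 1) j _ _ hu hg.depth
        rwa [Nat.add_right_comm i 1 j] at this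
      have t2 : IsPoly d (i + j + 1) (fun n => g n * ⁅deriv f n, deriv g n⁆ * (g n)⁻¹) :=
        hconj j (i + j + 1) g _ hg.depth ((hcomm (i + 1) (j + 1) _ _ hu hv).mono (by omega))
      have t3 : IsPoly d (i + j + 1) (fun n => g n * ⁅f n, deriv g n⁆ * (g n)⁻¹) :=
        hconj j (i + j + 1) g _ hg.depth (hcomm i (j + 1) _ _ hf.depth hv)
      have h1 := hmul (i + j + 1) _ _ (hconj (i + j) (i + j + 1) _ _ (hinv _ _ hX)
        (hconj i (i + j + 1) f _ hf.depth (hmul _ _ _ t1 t2))) t3
      have e : deriv (fun n => ⁅f n, g n⁆) = fun n =>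
          ⁅f n, g n⁆⁻¹ *
            (f n * (⁅deriv f n, g n⁆ * (g n * ⁅deriv f n, deriv g n⁆ * (g n)⁻¹)) * (f n)⁻¹) *
            (⁅f n, g n⁆⁻¹)⁻¹ * (g n * ⁅f n, deriv g n⁆ * (g n)⁻¹) :=
        funext fun n => by simp only [deriv, commutatorElement_def]; group
      rw [e]
      exact h1

theorem isPoly_binom : ∀ (d : ℕ) (c : G) (j k : ℕ), c ∈ filt G (k + j) →
    IsPoly d k (fun n => c ^ n.choose j)
  | 0, c, j, k, hc => fun n => pow_mem (filt_antitone (Nat.le_add_right k j) hc) _
  | d + 1, c, j, k, hc => by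
    refine ⟨fun n => pow_mem (filt_antitone (Nat.le_add_right k j) hc) _, ?_⟩
    cases j with
    | zero =>
      have : deriv (fun n => c ^ n.choose 0) = fun _ => 1 := funext fun n => by simp [deriv]
      rw [this]
      exact isPoly_one d (k + 1)
    | succ j =>
      have : deriv (fun n => c ^ n.choose (j + 1)) = fun n => c ^ n.choose j :=
        funext fun n => by
          simp only [deriv]
          rw [Nat.choose_succ_succ', pow_add,
            (Commute.pow_pow_self c (n.choose j) (n.choose (j + 1))).eq, inv_mul_cancel_left]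
      rw [this]
      exact isPoly_binom d c j (k + 1) (by rwa [Nat.add_assoc, Nat.add_comm 1 j])

theorem IsPoly.leading : ∀ (j : ℕ) {d k : ℕ} {g : ℕ → G} (m : ℕ), j ≤ d → IsPoly d k g →
    (∀ i < j, g (m + i) = 1) → g (m + j) ∈ filt G (k + j) := by
  intro j
  induction j with
  | zero => intro d k g m _ h _; exact h.mem m
  | succ j ih =>
    intro d k g m hd h hv
    obtain ⟨d, rfl⟩ : ∃ e, d = e + 1 := ⟨d - 1, by omega⟩
    have h1 := ih m (by omega) h.2 fun i hi => by
      simp only [deriv]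
      rw [hv i (by omega), Nat.add_assoc, hv (i + 1) (by omega), inv_one, one_mul]
    simp only [deriv] at h1
    rw [hv j (by omega), inv_one, one_mul] at h1
    rwa [show k + (j + 1) = k + 1 + j by omega]

variable {p : ℕ} [hp : Fact p.Prime]

/-- In class less than `p` with derived group of exponent `p`, `x ↦ x^p` is a homomorphism. -/
theorem mul_pow_of_class_lt (hcl : (⊤ : Subgroup G).lowerCentralSeries (p - 1) = ⊥)
    (he : ∀ x ∈ _root_.commutator G, x ^ p = 1) (a b : G) : (a * b) ^ p = a ^ p * b ^ p := by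
  obtain ⟨hmul, hinv, -⟩ := closed (G := G) p
  have hpow : ∀ x : G, IsPoly p 0 (fun n => x ^ n) := by
    intro x
    have := isPoly_binom p x 1 0 (show x ∈ filt G 1 from mem_top x)
    simpa using this
  let f : ℕ → G := fun n => (b ^ n)⁻¹ * (a ^ n)⁻¹ * (a * b) ^ n
  have hf : IsPoly p 0 f :=
    hmul 0 _ _ (hmul 0 _ _ (hinv 0 _ (hpow b)) (hinv 0 _ (hpow a))) (hpow (a * b))
  have hfD : ∀ n, f n ∈ _root_.commutator G := by
    intro n
    rw [← Abelianization.ker_of G, MonoidHom.mem_ker]
    simp only [f, map_mul, map_inv, map_pow, mul_pow]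
    rw [← mul_inv_rev, inv_mul_cancel]
  have step : ∀ j ≤ p, ∃ g : ℕ → G, IsPoly p 0 g ∧ (∀ n, g n ∈ _root_.commutator G) ∧
      g p = f p ∧ ∀ i < j, g i = 1 := by
    intro j
    induction j with
    | zero => exact fun _ => ⟨f, hf, hfD, rfl, fun i hi => absurd hi (Nat.not_lt_zero i)⟩
    | succ j ih =>
      intro hj
      obtain ⟨g, hg, hgD, hgp, hgv⟩ := ih (by omega)
      rcases Nat.eq_zero_or_pos j with rfl | hj0
      · refine ⟨f, hf, hfD, rfl, fun i hi => ?_⟩
        obtain rfl : i = 0 := by omega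
        simp [f]
      have hc : g j ∈ filt G (0 + j) := by
        have := hg.leading j 0 (by omega) (fun i hi => by rw [Nat.zero_add]; exact hgv i hi)
        simp only [Nat.zero_add] at this ⊢
        exact this
      refine ⟨fun n => (g j ^ n.choose j)⁻¹ * g n,
        hmul 0 _ _ (hinv 0 _ (isPoly_binom p (g j) j 0 hc)) hg,
        fun n => mul_mem (inv_mem (pow_mem (hgD j) _)) (hgD n), ?_, ?_⟩
      · obtain ⟨t, ht⟩ := hp.out.dvd_choose_self (by omega : j ≠ 0) (by omega : j < p)
        simp only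
        rw [ht, pow_mul, he _ (hgD j), one_pow, inv_one, one_mul, hgp]
      · intro i hi
        simp only
        rcases Nat.lt_succ_iff_lt_or_eq.1 hi with h | rfl
        · rw [Nat.choose_eq_zero_of_lt h, pow_zero, inv_one, one_mul, hgv i h]
        · rw [Nat.choose_self, pow_one, inv_mul_cancel]
  obtain ⟨g, hg, -, hgp, hgv⟩ := step p le_rfl
  have hlast := hg.leading p 0 le_rfl (fun i hi => by rw [Nat.zero_add]; exact hgv i hi)
  rw [Nat.zero_add, hgp, filt, hcl, mem_bot] at hlast
  have : (b ^ p)⁻¹ * (a ^ p)⁻¹ * (a * b) ^ p = 1 := hlast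
  rw [← mul_inv_rev, inv_mul_eq_one] at this
  exact this.symm

theorem lcs_mono {H L : Subgroup G} (h : H ≤ L) :
    ∀ n, H.lowerCentralSeries n ≤ L.lowerCentralSeries n
  | 0 => h
  | n + 1 => commutator_mono (lcs_mono h n) h

/-- Class less than `p` implies the weak condition. -/
theorem weak_of_class_lt (hG : IsPGroup p G)
    (hcl : (⊤ : Subgroup G).lowerCentralSeries (p - 1) = ⊥) : Weak p G := by
  refine ⟨hG, fun a b => ?_⟩
  set S := closure ({a, b} : Set G) with hS
  let N : Subgroup S := Cfsg.powerClosure p 1 (_root_.commutator S)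
  let x : S := ⟨a, subset_closure (by simp)⟩
  let y : S := ⟨b, subset_closure (by simp)⟩
  have hS' : (⊤ : Subgroup S).lowerCentralSeries (p - 1) = ⊥ := by
    apply map_injective S.subtype_injective
    rw [top_subtype_lowerCentralSeries, Subgroup.map_bot, eq_bot_iff, ← hcl]
    exact lcs_mono le_top _
  have hQ : (⊤ : Subgroup (S ⧸ N)).lowerCentralSeries (p - 1) = ⊥ := by
    rw [← map_top_of_surjective (QuotientGroup.mk' N) (QuotientGroup.mk'_surjective N),
      ← map_lowerCentralSeries, hS', Subgroup.map_bot]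
  have h1 := mul_pow_of_class_lt hQ (fun z hz => by
    have := mk_pc_eq_one hz
    rwa [pow_one] at this) (QuotientGroup.mk' N x) (QuotientGroup.mk' N y)
  rw [← map_mul, ← map_pow, ← map_pow, ← map_pow, ← map_mul] at h1
  have h2 : (x ^ p * y ^ p)⁻¹ * (x * y) ^ p ∈ N := QuotientGroup.eq.1 h1.symm
  refine ⟨_, ?_, (mul_inv_cancel_left (a ^ p * b ^ p) ((a * b) ^ p)).symm⟩
  have h3 := mem_map_of_mem S.subtype h2
  rw [pc_map, commutator_map_subtype] at h3
  simpa [x, y] using h3

end Cfsg.Agent.Solv.Reg
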