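import Mathlib
import Cfsg.Prelude.Def_PLocal
import Cfsg.Prelude.Def_OddOrderLocal
import Cfsg.Agent.Lib.Solv.Regular
import Cfsg.Agent.Lib.Solv.RegularClass
import Cfsg.Agent.Lib.Solv.Basic
import Cfsg.Agent.Lib.Perm.GeneratingTuples

/-!
# p-groups (p > 3) with at most p² solutions of x^p = 1 are regular and metacyclic (Blackburn)
-/

set_option autoImplicit false
open scoped commutatorElement

universe u

namespace Cfsg.Agent.Solv.OmegaMeta
open Subgroup Cfsg.Agent.Solv.Reg

variable {p : ℕ} [hp : Fact p.Prime]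

/-- `⟨x | x ^ p = 1⟩`. -/
abbrev roots (p : ℕ) (G : Type u) [Group G] : Subgroup G := closure {x : G | x ^ p = 1}

theorem conj_mem_pc {G : Type u} [Group G] {H : Subgroup G} (hH : H.Normal) (n : ℕ) :
    (Cfsg.powerClosure p n H).Normal := by
  refine ⟨fun x hx g => ?_⟩
  have h1 := mem_map_of_mem (MulAut.conj g).toMonoidHom hx
  rw [pc_map] at h1
  refine pc_mono ?_ h1
  rintro _ ⟨y, hy, rfl⟩
  exact hH.conj_mem y hy g

theorem roots_normal (G : Type u) [Group G] : (roots p G).Normal := by
  refine ⟨fun x hx g => ?_⟩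
  have h1 := mem_map_of_mem (MulAut.conj g).toMonoidHom hx
  rw [MonoidHom.map_closure] at h1
  refine closure_mono ?_ h1
  rintro _ ⟨y, hy, rfl⟩
  show _ ^ p = 1
  rw [← map_pow, show y ^ p = 1 from hy, map_one]

/-- in a regular group the index of `℧₁` is the number of `p`-th roots of `1` -/
theorem index_pc_eq {G : Type u} [Group G] [Finite G] (h : Weak p G) :
    (Cfsg.powerClosure p 1 (⊤ : Subgroup G)).index = Nat.card ↥(omega h) := by
  haveI := omega_normal h
  set P := Cfsg.powerClosure p 1 (⊤ : Subgroup G) with hP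
  let f : G ⧸ omega h → P := fun q => ⟨Quotient.liftOn' q (fun x => x ^ p) (fun a b hab => by
      refine (mk_omega_eq_iff h a b).1 ?_
      exact Quotient.sound' hab), by
    induction q using QuotientGroup.induction_on with
    | H x => simpa using mem_pc (p := p) (n := 1) (mem_top x)⟩
  have hf : Function.Bijective f := by
    constructor
    · intro q r hqr
      induction q using QuotientGroup.induction_on with
      | H a =>
        induction r using QuotientGroup.induction_on with
        | H b =>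
          exact (mk_omega_eq_iff h a b).2 (congrArg Subtype.val hqr)
    · rintro ⟨y, hy⟩
      have hy' : y ∈ (Cfsg.powerClosure p 1 (⊤ : Subgroup G) : Set G) := hy
      rw [pc_coe h] at hy'
      obtain ⟨x, -, rfl⟩ := hy'
      exact ⟨(x : G ⧸ omega h), Subtype.ext (by simp [f])⟩
  have h1 := card_eq_card_quotient_mul_card_subgroup (omega h)
  rw [Nat.card_congr (Equiv.ofBijective f hf)] at h1
  have h2 := P.card_mul_index
  rw [h1] at h2
  exact Nat.eq_of_mul_eq_mul_left Nat.card_pos h2

theorem omega_le_roots {G : Type u} [Group G] [Finite G] (h : Weak p G) :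
    omega h ≤ roots p G := fun _ hx => subset_closure hx

/-- the class of a group of order at most `p ^ 5` is at most four -/
theorem lcs_four {G : Type u} [Group G] [Finite G] (hG : IsPGroup p G)
    (h5 : Nat.card G ≤ p ^ 5) : (⊤ : Subgroup G).lowerCentralSeries 4 = ⊥ := by
  haveI := hG.isNilpotent
  have hp' := hp.out
  by_cases hcy : commutator G = ⊥
  · exact le_bot_iff.1 ((Subgroup.lowerCentralSeries_antitone (⊤ : Subgroup G)
      (by norm_num : 1 ≤ 4)).trans (le_of_eq (top_lowerCentralSeries_one.trans hcy)))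
  have hidx : p ^ 2 ≤ (commutator G).index := by
    obtain ⟨k, hk⟩ := (hG.to_quotient (commutator G)).exists_card_eq
    rw [index_eq_card, hk]
    refine Nat.pow_le_pow_right hp'.pos (Nat.succ_le_of_lt (Nat.lt_of_not_le fun hk1 => ?_))
    haveI : IsCyclic (G ⧸ commutator G) := by
      interval_cases k
      · haveI : Subsingleton (G ⧸ commutator G) :=
          (Nat.card_eq_one_iff_unique.1 (by simpa using hk)).1
        infer_instance
      · exact isCyclic_of_prime_card (p := p) (by simpa using hk)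
    obtain ⟨g, hg⟩ := IsCyclic.exists_generator (α := G ⧸ commutator G)
    obtain ⟨x, rfl⟩ := QuotientGroup.mk'_surjective _ g
    refine sup_commutator_ne_top hcy x (eq_top_iff.2 fun y _ => ?_)
    obtain ⟨i, hi⟩ := mem_zpowers_iff.1 (hg (QuotientGroup.mk' _ y))
    rw [← map_zpow] at hi
    have h1 : (x ^ i)⁻¹ * y ∈ commutator G := QuotientGroup.eq.1 hi
    have := mul_mem (mem_sup_left (zpow_mem (mem_zpowers x) i))
      (mem_sup_right h1 : _ ∈ zpowers x ⊔ commutator G)
    rwa [mul_inv_cancel_left] at this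
  have hstep : ∀ i, Nat.card ↥((⊤ : Subgroup G).lowerCentralSeries (i + 2)) * p ≤
      max p (Nat.card ↥((⊤ : Subgroup G).lowerCentralSeries (i + 1))) := by
    intro i
    set A := (⊤ : Subgroup G).lowerCentralSeries (i + 1) with hA
    have hle : (⊤ : Subgroup G).lowerCentralSeries (i + 2) ≤ A :=
      Subgroup.lowerCentralSeries_antitone _ (Nat.le_succ _)
    by_cases heq : (⊤ : Subgroup G).lowerCentralSeries (i + 2) = A
    · have hbot : A = ⊥ := by
        obtain ⟨n, hn⟩ := Subgroup.nilpotent_iff_lowerCentralSeries.1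
          (inferInstance : Group.IsNilpotent G)
        have hconst : ∀ j, (⊤ : Subgroup G).lowerCentralSeries (i + 1 + j) = A := by
          intro j
          induction j with
          | zero => rfl
          | succ j ih =>
            show ⁅(⊤ : Subgroup G).lowerCentralSeries (i + 1 + j), (⊤ : Subgroup G)⁆ = A
            rw [ih]
            exact heq
        rw [← hconst n, eq_bot_iff, ← hn]
        exact Subgroup.lowerCentralSeries_antitone _ (Nat.le_add_left _ _)
      rw [heq, hbot, card_bot, one_mul]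
      exact le_max_left _ _
    · refine le_trans ?_ (le_max_right _ _)
      obtain ⟨a, ha⟩ := (hG.to_subgroup A).exists_card_eq
      obtain ⟨b, hb⟩ := (hG.to_subgroup ((⊤ : Subgroup G).lowerCentralSeries (i + 2))).exists_card_eq
      have hlt : b < a := by
        by_contra hc
        exact heq (eq_of_le_of_card_ge hle (by
          rw [ha, hb]; exact Nat.pow_le_pow_right hp'.pos (not_lt.1 hc)))
      rw [ha, hb, ← pow_succ]
      exact Nat.pow_le_pow_right hp'.pos hlt
  have c1 : Nat.card ↥((⊤ : Subgroup G).lowerCentralSeries 1) ≤ p ^ 3 := by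
    rw [top_lowerCentralSeries_one]
    have h1 := (commutator G).card_mul_index
    have h2 : Nat.card ↥(commutator G) * p ^ 2 ≤ p ^ 3 * p ^ 2 := by
      calc _ ≤ Nat.card ↥(commutator G) * (commutator G).index := Nat.mul_le_mul_left _ hidx
        _ ≤ _ := by rw [h1, ← pow_add]; exact h5
    exact Nat.le_of_mul_le_mul_right h2 (pow_pos hp'.pos 2)
  have c2 : Nat.card ↥((⊤ : Subgroup G).lowerCentralSeries 2) ≤ p ^ 2 :=
    Nat.le_of_mul_le_mul_right (le_trans (hstep 0) (max_le
      (by rw [← pow_succ]; exact Nat.le_self_pow (by norm_num) p)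
      (by rw [← pow_succ]; exact c1))) hp'.pos
  have c3 : Nat.card ↥((⊤ : Subgroup G).lowerCentralSeries 3) ≤ p :=
    Nat.le_of_mul_le_mul_right (le_trans (hstep 1) (max_le
      (Nat.le_mul_self p) (by rw [← pow_two]; exact c2))) hp'.pos
  have c4 : Nat.card ↥((⊤ : Subgroup G).lowerCentralSeries 4) ≤ 1 :=
    Nat.le_of_mul_le_mul_right (le_trans (hstep 2) (max_le
      (by rw [one_mul]) (by rw [one_mul]; exact c3))) hp'.pos
  exact (card_le_one_iff_eq_bot _).1 c4

theorem exists_coatom_mem {G : Type u} [Group G] [Finite G] (hnc : ¬ IsCyclic G) (x : G) :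
    ∃ M : Subgroup G, IsCoatom M ∧ x ∈ M := by
  rcases eq_top_or_exists_le_coatom (zpowers x) with h | ⟨M, hM, hle⟩
  · exact absurd ⟨⟨x, fun y => show y ∈ zpowers x by rw [h]; exact mem_top y⟩⟩ hnc
  · exact ⟨M, hM, hle (mem_zpowers x)⟩

theorem index_frattini {G : Type u} [Group G] [Finite G] (hG : IsPGroup p G) (hnc : ¬ IsCyclic G) :
    p ^ 2 ≤ (frattini G).index := by
  have hp' := hp.out
  obtain ⟨k, hk⟩ := (hG.to_quotient (frattini G)).exists_card_eq
  rw [index_eq_card, hk]
  refine Nat.pow_le_pow_right hp'.pos (Nat.succ_le_of_lt (Nat.lt_of_not_le fun hk1 => hnc ?_))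
  haveI : IsCyclic (G ⧸ frattini G) := by
    interval_cases k
    · haveI : Subsingleton (G ⧸ frattini G) :=
        (Nat.card_eq_one_iff_unique.1 (by simpa using hk)).1
      infer_instance
    · exact isCyclic_of_prime_card (p := p) (by simpa using hk)
  obtain ⟨g, hg⟩ := IsCyclic.exists_generator (α := G ⧸ frattini G)
  obtain ⟨x, rfl⟩ := QuotientGroup.mk'_surjective _ g
  have htop : zpowers x ⊔ frattini G = ⊤ := eq_top_iff.2 fun y _ => by
    obtain ⟨i, hi⟩ := mem_zpowers_iff.1 (hg (QuotientGroup.mk' _ y))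
    rw [← map_zpow] at hi
    have := mul_mem (mem_sup_left (zpow_mem (mem_zpowers x) i))
      (mem_sup_right (QuotientGroup.eq.1 hi) : _ ∈ zpowers x ⊔ frattini G)
    rwa [mul_inv_cancel_left] at this
  exact ⟨⟨x, fun y => show y ∈ zpowers x by rw [frattini_nongenerating htop]; exact mem_top y⟩⟩

theorem roots_subgroup_le {G : Type u} [Group G] [Finite G] (H : Subgroup G)
    (hO : Nat.card ↥(roots p G) ≤ p ^ 2) : Nat.card ↥(roots p ↥H) ≤ p ^ 2 := by
  refine le_trans ?_ hO
  rw [Nat.card_congr ((roots p ↥H).equivMapOfInjective H.subtype H.subtype_injective).toEquiv]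
  refine Subgroup.card_le_of_le ?_
  rw [roots, MonoidHom.map_closure]
  refine closure_mono ?_
  rintro _ ⟨y, hy, rfl⟩
  show _ ^ p = 1
  rw [← map_pow, show y ^ p = 1 from hy, map_one]

theorem index_pc_le {G : Type u} [Group G] [Finite G] (h : Weak p G)
    (hO : Nat.card ↥(roots p G) ≤ p ^ 2) :
    (Cfsg.powerClosure p 1 (⊤ : Subgroup G)).index ≤ p ^ 2 := by
  rw [index_pc_eq h]
  exact le_trans (Subgroup.card_le_of_le (omega_le_roots h)) hO

theorem pc_top_map {G : Type u} [Group G] (H : Subgroup G) (n : ℕ) :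
    (Cfsg.powerClosure p n (⊤ : Subgroup H)).map H.subtype = Cfsg.powerClosure p n H := by
  rw [pc_map, ← MonoidHom.range_eq_map, range_subtype]

/-- assuming all proper subgroups regular, `℧₁` has index at most `p²` -/
theorem index_pc_le_of_subgroups {G : Type u} [Group G] [Finite G] (hp3 : 3 < p)
    (hG : IsPGroup p G) (hO : Nat.card ↥(roots p G) ≤ p ^ 2)
    (hsub : ∀ H : Subgroup G, H ≠ ⊤ → Weak p H) (hnc : ¬ IsCyclic G) :
    (Cfsg.powerClosure p 1 (⊤ : Subgroup G)).index ≤ p ^ 2 := by
  have hp' := hp.out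
  haveI := hG.isNilpotent
  set U := Cfsg.powerClosure p 1 (⊤ : Subgroup G) with hU
  haveI hUn : U.Normal := conj_mem_pc inferInstance 1
  by_contra hbig
  rw [not_le] at hbig
  obtain ⟨k, hk⟩ := (hG.to_subgroup U).exists_card_eq
  have hM : ∀ M : Subgroup G, IsCoatom M →
      Cfsg.powerClosure p 1 M = U ∧ U.index = p ^ 3 ∧ U ≤ M := by
    intro M hM
    haveI := Cfsg.Agent.Solv.coatom_normal_of_isNilpotent (G := G) inferInstance M hM
    have hpr := Cfsg.Agent.Solv.prime_index_of_coatom_normal M hM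
    obtain ⟨n, hn⟩ := IsPGroup.iff_card.1 hG
    have hMi : M.index = p := (Nat.prime_dvd_prime_iff_eq hpr hp').1
      (hpr.dvd_of_dvd_pow (hn ▸ M.index_dvd_card))
    have h1 := index_pc_le (hsub M hM.1) (roots_subgroup_le M hO)
    have h2 : (Cfsg.powerClosure p 1 M).index ≤ p ^ 3 := by
      rw [← pc_top_map M 1, index_map_subtype, hMi, pow_succ p 2]
      exact Nat.mul_le_mul_right _ h1
    have h3 : Cfsg.powerClosure p 1 M ≤ U := pc_mono le_top
    have hUidx : U.index = p ^ 3 := by
      obtain ⟨e, he⟩ := (hG.to_quotient U).exists_card_eq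
      rw [← index_eq_card] at he
      have hle : U.index ≤ p ^ 3 :=
        le_trans (Nat.le_of_dvd (Nat.pos_of_ne_zero index_ne_zero_of_finite)
          (index_dvd_of_le h3)) h2
      rw [he] at hbig hle ⊢
      have := (Nat.pow_lt_pow_iff_right hp'.one_lt).1 hbig
      have := (Nat.pow_le_pow_iff_right hp'.one_lt).1 hle
      congr 1
      omega
    have heq : Cfsg.powerClosure p 1 M = U := by
      refine eq_of_le_of_card_ge h3 ?_
      have e1 := (Cfsg.powerClosure p 1 M).card_mul_index
      rw [← U.card_mul_index, hUidx] at e1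
      exact Nat.le_of_mul_le_mul_right
        (e1 ▸ Nat.mul_le_mul_left _ h2) (pow_pos hp'.pos 3)
    refine ⟨heq, hUidx, heq ▸ ?_⟩
    exact pc_le fun x hx => pow_mem hx _
  obtain ⟨M₀, hM₀, -⟩ := exists_coatom_mem hnc (1 : G)
  obtain ⟨-, hUidx, hUM₀⟩ := hM M₀ hM₀
  have hUtop : U ≠ ⊤ := fun e => hM₀.1 (top_le_iff.1 (e ▸ hUM₀))
  set V := Cfsg.powerClosure p 1 U with hV
  haveI hVn : V.Normal := conj_mem_pc hUn 1
  have hVU : V ≤ U := pc_le fun x hx => pow_mem hx _
  -- the index of `V` in `U`
  have hUV : V.index = Nat.card ↥(omega (hsub U hUtop)) * p ^ 3 := by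
    rw [hV, ← pc_top_map U 1, index_map_subtype, index_pc_eq (hsub U hUtop), hUidx]
  have hV5 : V.index ≤ p ^ 5 := by
    rw [hUV, pow_add p 2 3]
    exact Nat.mul_le_mul_right _ (le_trans (Subgroup.card_le_of_le (omega_le_roots _))
      (roots_subgroup_le U hO))
  -- the quotient is regular
  have hp5 : 5 ≤ p := by
    rcases Nat.lt_or_ge p 5 with h | h
    · interval_cases p
      norm_num at hp'
    · exact h
  have hQW : Weak p (G ⧸ V) := weak_of_class_lt (hG.to_quotient V)
    (eq_bot_iff.2 (le_trans (Subgroup.lowerCentralSeries_antitone _ (by omega : 4 ≤ p - 1))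
      (le_of_eq (lcs_four (hG.to_quotient V) (by rw [← index_eq_card]; exact hV5)))))
  haveI := omega_normal hQW
  have hQU : (Cfsg.powerClosure p 1 (⊤ : Subgroup (G ⧸ V))).index = p ^ 3 := by
    rw [← map_top_of_surjective (QuotientGroup.mk' V) (QuotientGroup.mk'_surjective V), ← pc_map,
      index_map_eq, hUidx]
    · exact QuotientGroup.mk'_surjective V
    · rw [QuotientGroup.ker_mk']; exact hVU
  have hle : (omega hQW).comap (QuotientGroup.mk' V) ≤ U ⊔ roots p G := by
    intro x hx
    have hxV : x ^ p ∈ V := by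
      rw [← QuotientGroup.eq_one_iff, QuotientGroup.mk_pow]
      exact hx
    obtain ⟨M, hMc, hxM⟩ := exists_coatom_mem hnc x
    obtain ⟨-, -, hUM⟩ := hM M hMc
    have hW := hsub M hMc.1
    have hxV' : x ^ p ∈ (Cfsg.powerClosure p 1 (U.subgroupOf M)).map M.subtype := by
      rw [pc_map, subgroupOf_map_subtype, inf_of_le_left hUM]
      exact hxV
    obtain ⟨y, hy, hyx⟩ := hxV'
    have hy' : y ∈ (Cfsg.powerClosure p 1 (U.subgroupOf M) : Set M) := hy
    rw [pc_coe hW] at hy'
    obtain ⟨u, hu, rfl⟩ := hy'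
    have h1 : u ^ p = (⟨x, hxM⟩ : M) ^ p := Subtype.ext (by simpa using hyx)
    have h2 := congrArg M.subtype ((pow_p_eq hW _ _).1 h1)
    have := mul_mem (mem_sup_left (mem_subgroupOf.1 hu))
      (mem_sup_right (subset_closure (by simpa using h2)) : (u : G)⁻¹ * x ∈ U ⊔ roots p G)
    rwa [mul_inv_cancel_left] at this
  -- counting
  have h1 := index_pc_eq hQW
  rw [hQU] at h1
  have h2 : Nat.card ↥((omega hQW).comap (QuotientGroup.mk' V)) = p ^ 3 * Nat.card ↥V := by
    have e1 := ((omega hQW).comap (QuotientGroup.mk' V)).card_mul_index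
    rw [index_comap_of_surjective _ (QuotientGroup.mk'_surjective V)] at e1
    have e2 := (omega hQW).card_mul_index
    rw [← h1] at e2
    have e3 := card_eq_card_quotient_mul_card_subgroup V
    rw [← e2, ← e1] at e3
    exact Nat.eq_of_mul_eq_mul_right (Nat.pos_of_ne_zero index_ne_zero_of_finite)
      (e3.trans (by ring))
  haveI := roots_normal (p := p) G
  have h3 := card_sup_mul_card_inf U (roots p G) le_normalizer_of_normal
  have h4 : Nat.card ↥(omega (hsub U hUtop)) ≤ Nat.card ↥(U ⊓ roots p G) := by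
    rw [Nat.card_congr ((omega (hsub U hUtop)).equivMapOfInjective U.subtype U.subtype_injective).toEquiv]
    refine Subgroup.card_le_of_le ?_
    rintro _ ⟨y, hy, rfl⟩
    refine ⟨y.2, subset_closure ?_⟩
    show (y : G) ^ p = 1
    rw [← coe_pow, show y ^ p = 1 from hy, coe_one]
  have h5 : Nat.card U = Nat.card ↥(omega (hsub U hUtop)) * Nat.card V := by
    have e1 := U.card_mul_index
    rw [← V.card_mul_index, hUV, hUidx, ← mul_assoc] at e1
    rw [mul_comm]
    exact Nat.eq_of_mul_eq_mul_right (pow_pos hp'.pos 3) e1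
  have h6 : Nat.card ↥(U ⊔ roots p G) * Nat.card ↥(U ⊓ roots p G) ≤
      Nat.card ↥(U ⊓ roots p G) * (Nat.card V * p ^ 2) := by
    rw [h3, h5, mul_assoc]
    exact Nat.mul_le_mul h4 (Nat.mul_le_mul_left _ hO)
  rw [mul_comm] at h6
  have h7 := le_trans (Subgroup.card_le_of_le hle) (Nat.le_of_mul_le_mul_left h6 Nat.card_pos)
  rw [h2, mul_comm] at h7
  have := (Nat.pow_le_pow_iff_right hp'.one_lt).1 (Nat.le_of_mul_le_mul_left h7 Nat.card_pos)
  omega

theorem exists_pair {G : Type u} [Group G] [Finite G] (hG : IsPGroup p G)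
    (hidx : (frattini G).index ≤ p ^ 2) (y : G) (hy : y ∉ frattini G) :
    ∃ v : G, closure ({y, v} : Set G) = ⊤ := by
  have hp' := hp.out
  haveI : (frattini G).Normal := inferInstance
  have h1 := Cfsg.Agent.Perm.card_sup_zpowers hG le_rfl hy
  obtain ⟨v, hv⟩ : ∃ v : G, frattini G ⊔ zpowers y ⊔ zpowers v = ⊤ := by
    by_cases h : frattini G ⊔ zpowers y = ⊤
    · exact ⟨y, by rw [h, top_sup_eq]⟩
    obtain ⟨v, -, hv⟩ := SetLike.exists_of_lt (lt_top_iff_ne_top.2 h)
    refine ⟨v, eq_top_of_le_card _ ?_⟩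
    rw [Cfsg.Agent.Perm.card_sup_zpowers hG le_sup_left hv, h1, ← (frattini G).card_mul_index,
      ← mul_assoc, ← pow_two, mul_comm (p ^ 2)]
    exact Nat.mul_le_mul_left _ hidx
  refine ⟨v, frattini_nongenerating (K := closure ({y, v} : Set G)) (top_le_iff.1 (hv ▸ ?_))⟩
  refine sup_le (sup_le le_sup_right ?_) ?_ <;>
    exact (zpowers_le.2 (subset_closure (by simp))).trans le_sup_left

/-- the third term of the lower central series lies in `℧₁` of the derived group -/
theorem lcs_two_le {G : Type u} [Group G] [Finite G] (hp3 : 3 < p) (hG : IsPGroup p G)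
    (hD : _root_.commutator G ≤ Cfsg.powerClosure p 1 (⊤ : Subgroup G))
    (he : ∀ x ∈ _root_.commutator G, x ^ p = 1) :
    (⊤ : Subgroup G).lowerCentralSeries 2 = ⊥ := by
  haveI := hG.isNilpotent
  set L := (⊤ : Subgroup G).lowerCentralSeries 3 with hL
  haveI : L.Normal := inferInstance
  set q := QuotientGroup.mk' L with hq
  have hs : Function.Surjective q := QuotientGroup.mk'_surjective L
  have h3 : (⊤ : Subgroup (G ⧸ L)).lowerCentralSeries 3 = ⊥ := by
    rw [← map_top_of_surjective q hs, ← map_lowerCentralSeries, ← hL, hq, Subgroup.map_eq_bot_iff,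
      QuotientGroup.ker_mk']
  have hcm : (_root_.commutator G).map q = _root_.commutator (G ⧸ L) := by
    rw [_root_.commutator_def, _root_.commutator_def, map_commutator, map_top_of_surjective q hs]
  have hW : Weak p (G ⧸ L) := weak_of_class_lt (hG.to_quotient L) (eq_bot_iff.2
    (le_trans (Subgroup.lowerCentralSeries_antitone _ (by omega : 3 ≤ p - 1)) (le_of_eq h3)))
  have he' : ∀ x ∈ _root_.commutator (G ⧸ L), x ^ p ^ 1 = 1 := by
    intro x hx
    rw [← hcm] at hx
    obtain ⟨y, hy, rfl⟩ := hx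
    rw [pow_one, ← map_pow, he y hy, map_one]
  have hcen : Cfsg.powerClosure p 1 (⊤ : Subgroup (G ⧸ L)) ≤ center (G ⧸ L) :=
    pc_le fun x _ => mem_center_iff.2 fun y => (commute_of_exponent hW 1 he' x y).eq.symm
  have h2 : (⊤ : Subgroup (G ⧸ L)).lowerCentralSeries 2 = ⊥ := by
    show ⁅_root_.commutator (G ⧸ L), (⊤ : Subgroup (G ⧸ L))⁆ = ⊥
    rw [commutator_eq_bot_iff_le_centralizer, coe_top, centralizer_univ]
    refine le_trans ?_ hcen
    rw [← hcm, ← map_top_of_surjective q hs, ← pc_map]
    exact map_mono hD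
  have h2' : (⊤ : Subgroup G).lowerCentralSeries 2 ≤ L := by
    rw [← map_top_of_surjective q hs, ← map_lowerCentralSeries, hq, Subgroup.map_eq_bot_iff,
      QuotientGroup.ker_mk'] at h2
    exact h2
  have heq : L = (⊤ : Subgroup G).lowerCentralSeries 2 :=
    le_antisymm (Subgroup.lowerCentralSeries_antitone _ (by norm_num)) h2'
  have hconst : ∀ j, (⊤ : Subgroup G).lowerCentralSeries (2 + j) =
      (⊤ : Subgroup G).lowerCentralSeries 2 := by
    intro j
    induction j with
    | zero => rfl
    | succ j ih =>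
      show ⁅(⊤ : Subgroup G).lowerCentralSeries (2 + j), (⊤ : Subgroup G)⁆ = _
      rw [ih]
      exact heq
  obtain ⟨n, hn⟩ := Subgroup.nilpotent_iff_lowerCentralSeries.1
    (inferInstance : Group.IsNilpotent G)
  rw [← hconst n, eq_bot_iff, ← hn]
  exact Subgroup.lowerCentralSeries_antitone _ (Nat.le_add_left _ _)

theorem derived_le_pc {G : Type u} [Group G] [Finite G] (hG : IsPGroup p G)
    (hnc : ¬ IsCyclic G) (hidx : (Cfsg.powerClosure p 1 (⊤ : Subgroup G)).index ≤ p ^ 2) :
    frattini G = Cfsg.powerClosure p 1 (⊤ : Subgroup G) := by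
  refine le_antisymm ?_ (pc_le fun x _ => by
    rw [pow_one]; exact (Cfsg.Agent.Perm.frattini_facts hG).1 x)
  have hle : Cfsg.powerClosure p 1 (⊤ : Subgroup G) ≤ frattini G := pc_le fun x _ => by
    rw [pow_one]; exact (Cfsg.Agent.Perm.frattini_facts hG).1 x
  refine le_of_eq (eq_of_le_of_card_ge hle ?_).symm
  have h1 := (frattini G).card_mul_index
  rw [← (Cfsg.powerClosure p 1 (⊤ : Subgroup G)).card_mul_index] at h1
  refine Nat.le_of_mul_le_mul_right (c := p ^ 2) ?_ (pow_pos hp.out.pos 2)
  calc Nat.card ↥(frattini G) * p ^ 2 ≤ Nat.card ↥(frattini G) * (frattini G).index :=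
        Nat.mul_le_mul_left _ (index_frattini hG hnc)
    _ ≤ _ := by rw [h1]; exact Nat.mul_le_mul_left _ hidx

theorem commutator_map_surj {G : Type u} [Group G] {K : Type u} [Group K] (f : G →* K)
    (hf : Function.Surjective f) : (_root_.commutator G).map f = _root_.commutator K := by
  rw [_root_.commutator_def, _root_.commutator_def, map_commutator, map_top_of_surjective f hf]

theorem class_two_mod {G : Type u} [Group G] [Finite G] (hp3 : 3 < p) (hG : IsPGroup p G)
    (hnc : ¬ IsCyclic G) (hidx : (Cfsg.powerClosure p 1 (⊤ : Subgroup G)).index ≤ p ^ 2) :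
    (⊤ : Subgroup (G ⧸ Cfsg.powerClosure p 1 (_root_.commutator G))).lowerCentralSeries 2 = ⊥ := by
  refine lcs_two_le hp3 (hG.to_quotient _) ?_ (fun x hx => by
    have := mk_pc_eq_one hx
    rwa [pow_one] at this)
  have hs := QuotientGroup.mk'_surjective (Cfsg.powerClosure p 1 (_root_.commutator G))
  have h1 : _root_.commutator G ≤ Cfsg.powerClosure p 1 (⊤ : Subgroup G) :=
    derived_le_pc hG hnc hidx ▸ (Cfsg.Agent.Perm.frattini_facts hG).2
  refine le_trans (le_of_eq ?_) (le_trans (map_mono (f := QuotientGroup.mk'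
    (Cfsg.powerClosure p 1 (_root_.commutator G))) h1) (le_of_eq ?_))
  · exact (commutator_map_surj _ hs).symm
  · rw [pc_map, map_top_of_surjective _ hs]

/-- regularity -/
theorem weak_aux (hp3 : 3 < p) : ∀ (m : ℕ) (G : Type u) [Group G] [Finite G], Nat.card G = m →
    IsPGroup p G → Nat.card ↥(roots p G) ≤ p ^ 2 → Weak p G := by
  intro m
  induction m using Nat.strong_induction_on with
  | _ m ih =>
  intro G _ _ hm hG hO
  have hsub : ∀ H : Subgroup G, H ≠ ⊤ → Weak p H := fun H hH =>
    ih _ (hm ▸ lt_of_le_of_ne H.card_le_card_group (fun e => hH (eq_top_of_card_eq H e))) H rfl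
      (hG.to_subgroup H) (roots_subgroup_le H hO)
  refine ⟨hG, fun a b => ?_⟩
  set S := closure ({a, b} : Set G) with hS
  by_cases hcy : IsCyclic G
  · refine ⟨1, one_mem _, ?_⟩
    rw [mul_one]
    exact Commute.mul_pow ((IsCyclic.commutative (α := G)).is_comm.comm a b) p
  by_cases hStop : S = ⊤
  · have hidx := index_pc_le_of_subgroups hp3 hG hO hsub hcy
    set V := Cfsg.powerClosure p 1 (_root_.commutator G) with hV
    have hcl := class_two_mod hp3 hG hcy hidx
    have h1 := mul_pow_of_class_lt (p := p) (eq_bot_iff.2 (le_trans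
      (Subgroup.lowerCentralSeries_antitone _ (by omega : 2 ≤ p - 1)) (le_of_eq hcl)))
      (fun z hz => by
        have := mk_pc_eq_one hz
        rwa [pow_one] at this) (QuotientGroup.mk' V a) (QuotientGroup.mk' V b)
    rw [← map_mul, ← map_pow, ← map_pow, ← map_pow, ← map_mul] at h1
    refine ⟨_, ?_, (mul_inv_cancel_left (a ^ p * b ^ p) ((a * b) ^ p)).symm⟩
    rw [hStop, ← _root_.commutator_def]
    exact QuotientGroup.eq.1 h1.symm
  · obtain ⟨c, hc, e⟩ := (hsub S hStop).2 ⟨a, subset_closure (by simp)⟩ ⟨b, subset_closure (by simp)⟩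
    refine ⟨S.subtype c, ?_, by simpa using congrArg S.subtype e⟩
    have := mem_map_of_mem S.subtype hc
    rw [pc_map, map_comm_pair] at this
    exact this

theorem weak {G : Type u} [Group G] [Finite G] (hp3 : 3 < p) (hG : IsPGroup p G)
    (hO : Nat.card ↥(roots p G) ≤ p ^ 2) : Weak p G := weak_aux hp3 _ G rfl hG hO

theorem metacyclic {G : Type u} [Group G] [Finite G] (hp3 : 3 < p) (hG : IsPGroup p G)
    (hO : Nat.card ↥(roots p G) ≤ p ^ 2) : Cfsg.IsMetacyclic G := by
  by_cases hcy : IsCyclic G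
  · exact ⟨⊤, inferInstance, Subgroup.topEquiv.isCyclic.mpr hcy,
      haveI := QuotientGroup.subsingleton_quotient_top (G := G); inferInstance⟩
  have hp' := hp.out
  have hW := weak hp3 hG hO
  have hidx := index_pc_le hW hO
  have hfr := derived_le_pc hG hcy hidx
  have hfi : (frattini G).index ≤ p ^ 2 := hfr ▸ hidx
  obtain ⟨a, ha⟩ : ∃ a, a ∉ frattini G := by
    by_contra h
    push_neg at h
    have := index_frattini hG hcy
    rw [show frattini G = ⊤ from eq_top_iff.2 fun x _ => h x, index_top] at this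
    exact absurd this (not_le.2 (Nat.one_lt_pow (by norm_num) hp'.one_lt))
  obtain ⟨b, hab⟩ := exists_pair hG hfi a ha
  set c := ⁅a, b⁆ with hc
  set V := Cfsg.powerClosure p 1 (_root_.commutator G) with hV
  have hcl := class_two_mod hp3 hG hcy hidx
  have hcD : c ∈ _root_.commutator G := by
    rw [_root_.commutator_def]; exact commutator_mem_commutator (mem_top a) (mem_top b)
  haveI hZn : (zpowers c ⊔ V).Normal := by
    refine ⟨fun x hx g => ?_⟩
    have h1 : ⁅x, g⁆ ∈ V := by
      rw [← QuotientGroup.eq_one_iff]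
      show QuotientGroup.mk' V ⁅x, g⁆ = 1
      rw [map_commutatorElement]
      have h2 : x ∈ _root_.commutator G := sup_le (zpowers_le.2 hcD)
        (pc_le fun z hz => pow_mem hz _) hx
      have h3 : ⁅QuotientGroup.mk' V x, QuotientGroup.mk' V g⁆ ∈
          (⊤ : Subgroup (G ⧸ V)).lowerCentralSeries 2 := by
        refine commutator_mem_commutator ?_ (mem_top _)
        show QuotientGroup.mk' V x ∈ _root_.commutator (G ⧸ V)
        rw [_root_.commutator_def, ← map_top_of_surjective (QuotientGroup.mk' V)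
          (QuotientGroup.mk'_surjective V), ← map_commutator, ← _root_.commutator_def]
        exact mem_map_of_mem _ h2
      rwa [hcl, mem_bot] at h3
    have h2 : g * x * g⁻¹ = x * (⁅x⁻¹, g⁆) := by rw [commutatorElement_def]; group
    rw [h2]
    refine mul_mem hx (mem_sup_right ?_)
    rw [← QuotientGroup.eq_one_iff] at h1 ⊢
    change QuotientGroup.mk' V ⁅x⁻¹, g⁆ = 1
    change QuotientGroup.mk' V ⁅x, g⁆ = 1 at h1
    rw [map_commutatorElement, commutatorElement_eq_one_iff_mul_comm] at h1 ⊢
    rw [map_inv]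
    exact (Commute.inv_left h1).eq
  have hDle : _root_.commutator G ≤ zpowers c ⊔ V := by
    refine commutator_le_of_gen hab _ ?_
    rw [commute_iff_eq, ← commutatorElement_eq_one_iff_mul_comm, ← map_commutatorElement]
    exact (QuotientGroup.eq_one_iff _).2 (mem_sup_left (mem_zpowers c))
  have hDc : _root_.commutator G ≤ zpowers c := by
    set D := _root_.commutator G with hD
    let c' : D := ⟨c, hcD⟩
    have htop : zpowers c' ⊔ frattini D = ⊤ := by
      refine map_injective D.subtype_injective (le_antisymm (map_mono le_top) ?_)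
      rw [Subgroup.map_sup, ← MonoidHom.range_eq_map, range_subtype, MonoidHom.map_zpowers]
      refine hDle.trans (sup_le_sup_left ?_ _)
      rw [hV, ← pc_top_map D 1]
      refine map_mono (pc_le fun z _ => ?_)
      rw [pow_one]
      exact (Cfsg.Agent.Perm.frattini_facts (hG.to_subgroup D)).1 z
    intro x hx
    have : (⟨x, hx⟩ : D) ∈ zpowers c' := by
      rw [frattini_nongenerating htop]; exact mem_top _
    obtain ⟨i, hi⟩ := mem_zpowers_iff.1 this
    exact mem_zpowers_iff.2 ⟨i, by simpa [c'] using congrArg D.subtype hi⟩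
  obtain ⟨y, hy, hyf⟩ : ∃ y : G, c ∈ zpowers y ∧ y ∉ frattini G := by
    by_cases hc1 : c = 1
    · exact ⟨a, hc1 ▸ one_mem _, ha⟩
    classical
    haveI := Fintype.ofFinite G
    obtain ⟨y, hy, hmax⟩ := Finset.exists_max_image
      (Finset.univ.filter fun y : G => c ∈ zpowers y) orderOf ⟨c, by simp⟩
    simp only [Finset.mem_filter, Finset.mem_univ, true_and] at hy hmax
    refine ⟨y, hy, fun hyf => ?_⟩
    have hy' : y ∈ (Cfsg.powerClosure p 1 (⊤ : Subgroup G) : Set G) := hfr ▸ hyf
    rw [pc_coe hW] at hy'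
    obtain ⟨z, -, rfl⟩ := hy'
    rw [pow_one] at hy
    have hz := hmax z (zpowers_le.2 (pow_mem (mem_zpowers z) p) hy)
    rw [pow_one] at hz
    obtain ⟨k, hk⟩ := IsPGroup.iff_orderOf.1 hG z
    rcases Nat.eq_zero_or_pos k with rfl | hk0
    · rw [pow_zero, orderOf_eq_one_iff] at hk
      rw [hk, one_pow] at hy
      simp at hy
      exact hc1 hy
    · rw [orderOf_pow' z hp'.ne_zero, hk, Nat.gcd_eq_right (dvd_pow_self p hk0.ne')] at hz
      have := Nat.div_lt_self (pow_pos hp'.pos k) hp'.one_lt
      omega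
  obtain ⟨v, hyv⟩ := exists_pair hG hfi y hyf
  have hDy : _root_.commutator G ≤ zpowers y := hDc.trans (zpowers_le.2 hy)
  haveI hn : (zpowers y).Normal := ⟨fun g hg x => by
    have h1 : x * g * x⁻¹ * g⁻¹ ∈ zpowers y := hDy (by
      rw [_root_.commutator_def]; exact commutator_mem_commutator (mem_top x) (mem_top g))
    have := mul_mem h1 hg
    rwa [inv_mul_cancel_right] at this⟩
  refine ⟨zpowers y, hn, isCyclic_zpowers y, ⟨⟨(v : G ⧸ zpowers y), fun q => ?_⟩⟩⟩
  induction q using QuotientGroup.induction_on with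
  | H g =>
    have hle : closure ({y, v} : Set G) ≤
        (zpowers (v : G ⧸ zpowers y)).comap (QuotientGroup.mk' (zpowers y)) := by
      rw [closure_le]
      rintro x (rfl | rfl)
      · show (QuotientGroup.mk' (zpowers x)) x ∈ zpowers (v : G ⧸ zpowers x)
        rw [QuotientGroup.mk'_apply, (QuotientGroup.eq_one_iff x).2 (mem_zpowers x)]
        exact one_mem _
      · exact mem_zpowers _
    exact hle (by rw [hyv]; exact mem_top g)

theorem isMetacyclic_quotient {G : Type u} [Group G] (h : Cfsg.IsMetacyclic G) (T : Subgroup G)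
    [T.Normal] : Cfsg.IsMetacyclic (G ⧸ T) := by
  obtain ⟨N, hN, hNc, hQ⟩ := h
  haveI := hN
  haveI := hNc
  haveI := hQ
  set q := QuotientGroup.mk' T with hq
  haveI hn : (N.map q).Normal := hN.map q (QuotientGroup.mk'_surjective T)
  refine ⟨N.map q, hn, isCyclic_of_surjective (q.subgroupMap N) (q.subgroupMap_surjective N), ?_⟩
  refine isCyclic_of_surjective
    (QuotientGroup.map N (N.map q) q (le_comap_map _ _))
    (QuotientGroup.map_surjective_of_surjective _ _ _
      ((QuotientGroup.mk'_surjective (N.map q)).comp (QuotientGroup.mk'_surjective T)) _)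

end Cfsg.Agent.Solv.OmegaMeta
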