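import Cfsg.Agent.Lib.Solv.PSolvable

/-!
Hall `p'`-subgroups of `p`-solvable groups.
-/

set_option autoImplicit false

namespace Cfsg.Agent.Solv

open Subgroup

universe u

/-- A finite `p`-soluble group has a subgroup of order prime to `p` and of `p`-power index. -/
theorem exists_pPrime_hall {p : ℕ} [Fact p.Prime] : ∀ (c : ℕ) (G : Type u) [Group G] [Finite G],
    Nat.card G = c → Cfsg.IsPSolvable p G →
      ∃ K : Subgroup G, (Nat.card K).Coprime p ∧ ∃ k : ℕ, K.index = p ^ k := by
  intro c
  induction c using Nat.strong_induction_on with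
  | _ c ih =>
    intro G _ _ hc h
    subst hc
    rcases subsingleton_or_nontrivial G with hs | hne
    · exact ⟨⊥, by simp, 0, by rw [index_bot, pow_zero, Nat.card_unique]⟩
    have key : ∀ N : Subgroup G, N.Normal → N ≠ ⊥ → ∃ (L : Subgroup G) (k : ℕ),
        N ≤ L ∧ L.index = p ^ k ∧ (N.relIndex L).Coprime p := by
      intro N _ hN
      have hlt : Nat.card (G ⧸ N) < Nat.card G := by
        rw [← index_eq_card]
        have h1 := N.card_mul_index
        have h2 : 1 < Nat.card N := N.one_lt_card_iff_ne_bot.2 hN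
        have := Nat.pos_of_ne_zero N.index_ne_zero_of_finite
        nlinarith
      obtain ⟨K, hK, k, hk⟩ := ih _ hlt (G ⧸ N) rfl (isPSolvable_quotient h N)
      have hle : N ≤ K.comap (QuotientGroup.mk' N) := fun x hx => by
        rw [mem_comap, QuotientGroup.mk'_apply, (QuotientGroup.eq_one_iff x).2 hx]
        exact one_mem K
      refine ⟨_, k, hle, by rw [index_comap_of_surjective _ (QuotientGroup.mk'_surjective N), hk], ?_⟩
      have h1 := relIndex_comap_mk' N K
      rwa [h1]
    rcases core_ne_bot_of_isPSolvable h with hN | hN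
    · obtain ⟨L, k, hle, hk, hco⟩ := key (Cfsg.pCore p G) inferInstance hN
      obtain ⟨j, hj⟩ := IsPGroup.iff_card.1 (isPGroup_pCore p G)
      have hcard : Nat.card ((Cfsg.pCore p G).subgroupOf L) = p ^ j := by
        rw [Nat.card_congr (subgroupOfEquivOfLe hle).toEquiv, hj]
      obtain ⟨K₀, hK₀⟩ := exists_right_complement'_of_coprime (N := (Cfsg.pCore p G).subgroupOf L)
        (by rw [hcard]; exact (hco.symm.pow_left j : (p ^ j).Coprime _))
      refine ⟨K₀.map L.subtype, ?_, j + k, ?_⟩
      · rw [card_map_of_injective L.subtype_injective, ← hK₀.symm.index_eq_card]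
        exact hco
      · rw [index_map_subtype, hK₀.index_eq_card, hcard, hk, pow_add]
    · obtain ⟨L, k, hle, hk, hco⟩ := key (Cfsg.pPrimeCore p G) inferInstance hN
      refine ⟨L, ?_, k, hk⟩
      rw [← relIndex_bot_left, ← relIndex_mul_relIndex ⊥ _ L bot_le hle, relIndex_bot_left]
      exact (card_pPrimeCore_coprime p G).mul_left hco

end Cfsg.Agent.Solv
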