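import Cfsg.Agent.Lib.Solv.NormalPComplement
import Cfsg.Agent.Lib.Perm.Fitting

/-!
Elements of a Sylow subgroup with class size a prime power.
-/

set_option autoImplicit false

namespace Cfsg.Agent.Solv.PIndex

open Subgroup

variable {G : Type*} [Group G] [Finite G] {p : ℕ} [hp : Fact p.Prime]

/-- A subgroup of `p`-power index is supplemented by a Sylow `p`-subgroup. -/
theorem exists_mul_of_index (C : Subgroup G) {k : ℕ} (hC : C.index = p ^ k) (P : Sylow p G) (g : G) :
    ∃ x ∈ (P : Subgroup G), x⁻¹ * g ∈ C := by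
  obtain ⟨n, hn⟩ := card_pow_of_sylow P
  obtain ⟨j, hj⟩ := IsPGroup.iff_card.1 (P.isPGroup'.to_le (inf_le_left : (P : Subgroup G) ⊓ C ≤ P))
  have h1 : p ^ (k + j) ∣ p ^ n := by
    have hd : p ^ j ∣ Nat.card C := hj ▸ card_dvd_of_le (inf_le_right : (P : Subgroup G) ⊓ C ≤ C)
    have h2 : p ^ (k + j) ∣ Nat.card G := by
      rw [← C.card_mul_index, hC, pow_add, mul_comm (p ^ k)]
      exact Nat.mul_dvd_mul_right hd _
    rw [← (P : Subgroup G).card_mul_index, hn] at h2
    exact (Nat.Coprime.pow_left _ ((hp.out.coprime_iff_not_dvd).2 P.not_dvd_index)).dvd_of_dvd_mul_right h2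
  have hkj : k + j ≤ n := (Nat.pow_dvd_pow_iff_le_right hp.out.one_lt).1 h1
  let f : (P : Subgroup G) ⧸ C.subgroupOf P → G ⧸ C :=
    Quotient.map' (fun x => (x : G)) fun a b h => by
      rw [QuotientGroup.leftRel_apply] at h ⊢
      exact h
  have hinj : Function.Injective f := by
    intro a b
    induction a using QuotientGroup.induction_on with
    | _ a => induction b using QuotientGroup.induction_on with
      | _ b =>
        intro h
        exact QuotientGroup.eq.2 (show (a : G)⁻¹ * (b : G) ∈ C from QuotientGroup.eq.1 h)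
  have hcard : Nat.card (G ⧸ C) ≤ Nat.card ((P : Subgroup G) ⧸ C.subgroupOf P) := by
    rw [← index_eq_card, ← index_eq_card, hC]
    have h3 := (C.subgroupOf P).card_mul_index
    have h4 : Nat.card (C.subgroupOf (P : Subgroup G)) = p ^ j := by
      rw [← inf_subgroupOf_right, Nat.card_congr (subgroupOfEquivOfLe inf_le_right).toEquiv, inf_comm, hj]
    rw [h4, hn, show n = j + (n - j) by omega, pow_add] at h3
    rw [Nat.eq_of_mul_eq_mul_left (pow_pos hp.out.pos j) h3]
    exact Nat.pow_le_pow_right hp.out.pos (by omega)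
  obtain ⟨b, hb⟩ := (hinj.bijective_of_nat_card_le hcard).2 (g : G ⧸ C)
  induction b using QuotientGroup.induction_on with
  | _ x => exact ⟨x, x.2, QuotientGroup.eq.1 hb⟩

/-- An element whose centraliser has `p`-power index is conjugate only by a Sylow `p`-subgroup. -/
theorem exists_conj_eq {a : G} {k : ℕ} (ha : (centralizer ({a} : Set G)).index = p ^ k) (P : Sylow p G) (g : G) :
    ∃ x ∈ (P : Subgroup G), g * a * g⁻¹ = x * a * x⁻¹ := by
  obtain ⟨x, hx, h⟩ := exists_mul_of_index _ ha P g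
  refine ⟨x, hx, ?_⟩
  have h' := mem_centralizer_singleton_iff.1 h
  calc g * a * g⁻¹ = x * (x⁻¹ * g * a) * g⁻¹ := by group
    _ = x * a * x⁻¹ := by rw [h']; group

/-- A `p`-element whose centraliser has `p`-power index lies in `O_p(G)`. -/
theorem mem_pCore {a : G} {k : ℕ} (ha : (centralizer ({a} : Set G)).index = p ^ k) {m : ℕ}
    (hao : orderOf a = p ^ m) : a ∈ Cfsg.pCore p G := by
  obtain ⟨P₀, hP₀⟩ := (IsPGroup.of_card (n := m) (p := p) ((Nat.card_zpowers a).trans hao)).exists_le_sylow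
  refine Cfsg.Agent.Perm.mem_pCore_of_forall_sylow fun P => ?_
  obtain ⟨g, hg⟩ := MulAction.exists_smul_eq G P₀ P
  obtain ⟨x, hx, h⟩ := exists_conj_eq ha P g
  have h1 : g * a * g⁻¹ ∈ (P : Subgroup G) := by
    rw [← hg, Sylow.coe_subgroup_smul]
    exact ⟨a, hP₀ (mem_zpowers a), rfl⟩
  rw [h] at h1
  have := mul_mem (mul_mem (inv_mem hx) h1) hx
  simpa [mul_assoc] using this

end Cfsg.Agent.Solv.PIndex
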