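import Mathlib

/-!
# Three primes along a normal series give an edge of the prime graph
-/

set_option autoImplicit false

namespace Cfsg.Agent.Solv.PrimeGraphTriple

open Finset

variable {G : Type*} [Group G] [Finite G]

/-- A fixed point free element acting on `Q`, with `Q` and the element fixed point free on `V`. -/
theorem no_fpf (V Q : Subgroup G) (hVc : ∀ a ∈ V, ∀ b ∈ V, a * b = b * a) (hV : V ≠ ⊥)
    (hQV : Q ≤ Subgroup.normalizer (V : Set G)) {x : G} (hxV : x ∈ Subgroup.normalizer (V : Set G))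
    (hxQ : x ∈ Subgroup.normalizer (Q : Set G))
    (hcop : (Nat.card V).Coprime (Nat.card Q))
    (hCQ : ∀ v ∈ V, (∀ q ∈ Q, q * v = v * q) → v = 1)
    (hCx : ∀ v ∈ V, x * v = v * x → v = 1)
    (hxfpf : ∀ i, 0 < i → i < orderOf x → ∀ q ∈ Q, x ^ i * q = q * x ^ i → q = 1) : False := by
  classical
  letI : CommGroup V := { (inferInstance : Group V) with
    mul_comm := fun a b => Subtype.ext (hVc a a.2 b b.2) }
  haveI := Fintype.ofFinite Q
  let act : Subgroup.normalizer (V : Set G) →* MulAut V := Subgroup.normalizerMonoidHom V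
  have hact : ∀ (g : Subgroup.normalizer (V : Set G)) (v : V), ((act g v : V) : G) = g * v * (g : G)⁻¹ :=
    fun g v => rfl
  let aq : Q → MulAut V := fun q => act ⟨q, hQV q.2⟩
  let ax : MulAut V := act ⟨x, hxV⟩
  set r := orderOf x with hr
  have haxr : ax ^ r = 1 := by
    show act ⟨x, hxV⟩ ^ r = 1
    rw [← map_pow, show (⟨x, hxV⟩ : Subgroup.normalizer (V : Set G)) ^ r = 1 from
      Subtype.ext (pow_orderOf_eq_one x), map_one]
  -- the product over `Q` is trivial
  have hQsum : ∀ v : V, ∏ q : Q, aq q v = 1 := by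
    intro v
    set w := ∏ q : Q, aq q v with hw
    refine Subtype.ext (hCQ _ w.2 fun q hq => ?_)
    have h : aq ⟨q, hq⟩ w = w := by
      rw [hw, map_prod]
      refine Fintype.prod_equiv (Equiv.mulLeft (⟨q, hq⟩ : Q)) _ _ fun q' => ?_
      show (act ⟨q, _⟩) ((act ⟨(q' : G), _⟩) v) = _
      rw [← MulAut.mul_apply, ← map_mul]
      rfl
    have h' := congrArg Subtype.val h
    rw [hact] at h'
    calc q * (w : G) = (q * (w : G) * q⁻¹) * q := by group
      _ = (w : G) * q := by rw [h']
  -- the product over the powers of `x` is trivial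
  have hxsum : ∀ v : V, ∏ i ∈ range r, (ax ^ i) v = 1 := by
    intro v
    set w := ∏ i ∈ range r, (ax ^ i) v with hw
    refine Subtype.ext (hCx _ w.2 ?_)
    have h : ax w = w := by
      have e : ∀ i : ℕ, ax ((ax ^ i) v) = (ax ^ (i + 1)) v := fun i => by
        rw [pow_succ', MulAut.mul_apply]
      rw [hw, map_prod]
      simp only [e]
      have h1 := Finset.prod_range_succ' (fun i => (ax ^ i) v) r
      rw [Finset.prod_range_succ, haxr, pow_zero] at h1
      exact (mul_right_cancel h1).symm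
    have h' := congrArg Subtype.val h
    rw [hact] at h'
    calc x * (w : G) = (x * (w : G) * x⁻¹) * x := by group
      _ = (w : G) * x := by rw [h']
  obtain ⟨⟨v, hvV⟩, hv⟩ : ∃ v : V, v ≠ 1 := by
    by_contra! h
    exact hV ((Subgroup.eq_bot_iff_forall V).mpr fun v hv => congrArg Subtype.val (h ⟨v, hv⟩))
  set u : V := ⟨v, hvV⟩
  have hr0 : 0 < r := orderOf_pos x
  have htot : ∏ i ∈ range r, ∏ q : Q, aq q ((ax ^ i) ((aq q)⁻¹ u)) = 1 := by
    rw [Finset.prod_comm]
    refine Finset.prod_eq_one fun q _ => ?_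
    rw [← map_prod, hxsum, map_one]
  have hi0 : ∀ i ∈ range r, i ≠ 0 → ∏ q : Q, aq q ((ax ^ i) ((aq q)⁻¹ u)) = 1 := by
    intro i hi hi1
    rw [Finset.mem_range] at hi
    have hxi : x ^ i ∈ Subgroup.normalizer (Q : Set G) := Subgroup.pow_mem _ hxQ i
    let c : Q → Q := fun q => ⟨(q : G) * (x ^ i * (q : G)⁻¹ * (x ^ i)⁻¹),
      Q.mul_mem q.2 ((Subgroup.mem_normalizer_iff.mp hxi _).mp (Q.inv_mem q.2))⟩
    have hc : Function.Bijective c := by
      refine Finite.injective_iff_bijective.mp fun q q' e => ?_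
      have e' : (q : G) * (x ^ i * (q : G)⁻¹ * (x ^ i)⁻¹) =
          (q' : G) * (x ^ i * (q' : G)⁻¹ * (x ^ i)⁻¹) := congrArg Subtype.val e
      have e2 : x ^ i * ((q' : G)⁻¹ * q) = ((q' : G)⁻¹ * q) * x ^ i := by
        calc x ^ i * ((q' : G)⁻¹ * q)
            = (q' : G)⁻¹ * ((q' : G) * (x ^ i * (q' : G)⁻¹ * (x ^ i)⁻¹)) * x ^ i * q := by group
          _ = _ := by rw [← e']; group
      exact Subtype.ext (inv_mul_eq_one.mp
        (hxfpf i (by omega) hi _ (Q.mul_mem (Q.inv_mem q'.2) q.2) e2)).symm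
    have e : ∀ q : Q, aq q ((ax ^ i) ((aq q)⁻¹ u)) = aq (c q) ((ax ^ i) u) := by
      intro q
      show (act ⟨(q : G), _⟩) ((act ⟨x, hxV⟩ ^ i) ((act ⟨(q : G), _⟩)⁻¹ u)) =
        (act ⟨((c q : Q) : G), _⟩) ((act ⟨x, hxV⟩ ^ i) u)
      simp only [← map_pow, ← map_inv, ← MulAut.mul_apply, ← map_mul]
      congr 2
      refine Subtype.ext ?_
      show (q : G) * (x ^ i * (q : G)⁻¹) = (q : G) * (x ^ i * (q : G)⁻¹ * (x ^ i)⁻¹) * x ^ i
      group
    rw [Finset.prod_congr rfl (fun q _ => e q),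
      Fintype.prod_equiv (Equiv.ofBijective c hc) (fun q => aq (c q) ((ax ^ i) u))
        (fun q => aq q ((ax ^ i) u)) (fun _ => rfl)]
    exact hQsum _
  rw [Finset.prod_eq_single 0 hi0 (fun h => absurd (Finset.mem_range.mpr hr0) h)] at htot
  simp only [pow_zero, MulAut.one_apply, MulAut.inv_def, MulEquiv.apply_symm_apply,
    Finset.prod_const, Finset.card_univ, ← Nat.card_eq_fintype_card] at htot
  refine hv (orderOf_eq_one_iff.mp (Nat.eq_one_of_dvd_coprimes hcop ?_ (orderOf_dvd_of_pow_eq_one htot)))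
  exact orderOf_dvd_natCard _

/-- Commuting elements of coprime prime power orders give an element of order the product. -/
theorem exists_order_mul {p q : ℕ} (hp : p.Prime) (hq : q.Prime) (hpq : p ≠ q) {a b : G} {i j : ℕ}
    (ha : orderOf a = p ^ i) (hb : orderOf b = q ^ j) (hi : i ≠ 0) (hj : j ≠ 0) (h : Commute a b) :
    ∃ x : G, orderOf x = p * q := by
  have e1 : orderOf (a ^ (orderOf a / p)) = p :=
    orderOf_pow_orderOf_div (orderOf_pos a).ne' (ha ▸ dvd_pow_self p hi)
  have e2 : orderOf (b ^ (orderOf b / q)) = q :=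
    orderOf_pow_orderOf_div (orderOf_pos b).ne' (hb ▸ dvd_pow_self q hj)
  refine ⟨a ^ (orderOf a / p) * b ^ (orderOf b / q), ?_⟩
  rw [(h.pow_pow _ _).orderOf_mul_eq_mul_orderOf_of_coprime
    (by rw [e1, e2]; exact (Nat.coprime_primes hp hq).mpr hpq), e1, e2]

/-- Lucido's three primes lemma. -/
theorem edge (K M : Subgroup G) [hKn : K.Normal] [hMn : M.Normal] (hKM : K ≤ M) {p q r : ℕ}
    (hp : p.Prime) (hq : q.Prime) (hr : r.Prime) (hpq : p ≠ q) (hpr : p ≠ r) (hqr : q ≠ r)
    (hpK : p ∣ Nat.card K) (hqM : q ∣ K.relIndex M) (hrG : r ∣ M.index) :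
    (∃ x : G, orderOf x = p * q) ∨ (∃ x : G, orderOf x = p * r) ∨ (∃ x : G, orderOf x = q * r) := by
  classical
  by_contra hno
  push Not at hno
  obtain ⟨hnpq, hnpr, hnqr⟩ := hno
  haveI := Fact.mk hp
  haveI := Fact.mk hq
  haveI := Fact.mk hr
  obtain ⟨P⟩ := Sylow.nonempty (p := p) (G := K)
  set Pg := (P : Subgroup K).map K.subtype with hPg
  have hfr := Sylow.normalizer_sup_eq_top P
  set N := Subgroup.normalizer (Pg : Set G) with hN
  -- `q` divides `N ⊓ M`
  have hqNM : q ∣ Nat.card (N ⊓ M : Subgroup G) := by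
    have hsub : M ≤ (N ⊓ M) ⊔ K := by
      intro g hg
      have h1 : g ∈ N ⊔ K := by rw [hfr]; exact Subgroup.mem_top g
      obtain ⟨a, ha, b, hb, rfl⟩ := Subgroup.mem_sup_of_normal_right.mp h1
      refine Subgroup.mul_mem_sup ⟨ha, ?_⟩ hb
      simpa using M.mul_mem hg (M.inv_mem (hKM hb))
    have hmap : (N ⊓ M).map (QuotientGroup.mk' K) = M.map (QuotientGroup.mk' K) := by
      refine le_antisymm (Subgroup.map_mono inf_le_right) ?_
      refine (Subgroup.map_mono hsub).trans ?_
      rw [Subgroup.map_sup, QuotientGroup.map_mk'_self, sup_bot_eq]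
    have h1 : Nat.card (M.map (QuotientGroup.mk' K)) = K.relIndex M := by
      rw [← Subgroup.relIndex_ker, QuotientGroup.ker_mk']
    rw [← h1, ← hmap] at hqM
    exact hqM.trans (Subgroup.card_map_dvd _ _)
  set L := (N ⊓ M).subgroupOf N with hL
  have hLn : L.Normal := by
    rw [hL, Subgroup.inf_subgroupOf_left]
    exact hMn.subgroupOf N
  have hqL : q ∣ Nat.card L := by
    rwa [hL, Nat.card_congr (Subgroup.subgroupOfEquivOfLe inf_le_left).toEquiv]
  obtain ⟨Q⟩ := Sylow.nonempty (p := q) (G := L)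
  set Qn := (Q : Subgroup L).map L.subtype with hQn
  have hfr2 := Sylow.normalizer_sup_eq_top Q
  set T := Subgroup.normalizer (Qn : Set N) with hT
  -- `r` divides `T`
  have hrT : r ∣ Nat.card T := by
    have hTM : (T.map N.subtype) ⊔ M = ⊤ := by
      rw [eq_top_iff, ← hfr]
      refine sup_le ?_ (hKM.trans le_sup_right)
      intro g hg
      have h1 : (⟨g, hg⟩ : N) ∈ T ⊔ L := by rw [hfr2]; exact Subgroup.mem_top _
      obtain ⟨a, ha, b, hb, e⟩ := Subgroup.mem_sup_of_normal_right.mp h1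
      rw [← show (a : G) * (b : G) = g from congrArg Subtype.val e]
      exact Subgroup.mul_mem_sup ⟨a, ha, rfl⟩ (Subgroup.mem_inf.mp (Subgroup.mem_subgroupOf.mp hb)).2
    have hmap : (T.map N.subtype).map (QuotientGroup.mk' M) = ⊤ := by
      have h1 := congrArg (Subgroup.map (QuotientGroup.mk' M)) hTM
      rwa [Subgroup.map_sup, QuotientGroup.map_mk'_self, sup_bot_eq,
        Subgroup.map_top_of_surjective _ (QuotientGroup.mk'_surjective M)] at h1
    have h2 := Subgroup.card_map_dvd (T.map N.subtype) (QuotientGroup.mk' M)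
    rw [hmap, Subgroup.card_top, Subgroup.card_map_of_injective N.subtype_injective] at h2
    exact hrG.trans h2
  obtain ⟨⟨x, hxT⟩, hx⟩ := exists_prime_orderOf_dvd_card' (G := T) r hrT
  rw [Subgroup.orderOf_mk] at hx
  -- the subgroups in `G`
  set V := (Subgroup.center (P : Subgroup K)).map ((K.subtype).comp (P : Subgroup K).subtype) with hVdef
  set Qg := Qn.map N.subtype with hQg
  have hVP : V ≤ Pg := by
    rintro _ ⟨z, -, rfl⟩
    exact ⟨z, z.2, rfl⟩
  have hNV : N ≤ Subgroup.normalizer (V : Set G) := by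
    intro g hg
    refine Subgroup.mem_normalizer_fintype ?_
    rintro _ ⟨z, hz, rfl⟩
    obtain ⟨z', hz', e⟩ := (Subgroup.mem_normalizer_iff.mp hg _).mp ⟨(z : K), z.2, rfl⟩
    refine ⟨⟨z', hz'⟩, Subgroup.mem_center_iff.mpr fun w => ?_, e⟩
    have hw := (Subgroup.mem_normalizer_iff''.mp hg _).mp ⟨(w : K), w.2, rfl⟩
    obtain ⟨w', hw', e2⟩ := hw
    have hcomm := congrArg (fun t : (P : Subgroup K) => ((t : K) : G))
      (Subgroup.mem_center_iff.mp hz ⟨w', hw'⟩)
    simp only [Subgroup.coe_mul] at hcomm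
    change (w' : G) = g⁻¹ * ((w : K) : G) * g at e2
    change (z' : G) = g * ((z : K) : G) * g⁻¹ at e
    apply Subtype.ext; apply Subtype.ext
    show ((w : K) : G) * (z' : G) = (z' : G) * ((w : K) : G)
    rw [e, show ((w : K) : G) = g * (w' : G) * g⁻¹ by rw [e2]; group]
    calc g * (w' : G) * g⁻¹ * (g * ((z : K) : G) * g⁻¹) = g * ((w' : G) * ((z : K) : G)) * g⁻¹ := by group
      _ = g * (((z : K) : G) * (w' : G)) * g⁻¹ := by rw [hcomm]
      _ = _ := by group
  have hPg : IsPGroup p Pg := P.isPGroup'.map _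
  have hVp : IsPGroup p V := hPg.to_le hVP
  have hQp : IsPGroup q Qg := (Q.isPGroup'.map _).map _
  have hVne : V ≠ ⊥ := by
    have hPnt : Nontrivial (P : Subgroup K) := by
      rw [Subgroup.nontrivial_iff_ne_bot]
      intro h
      have := P.not_dvd_index
      rw [h, Subgroup.index_bot] at this
      exact this hpK
    haveI := P.isPGroup'.center_nontrivial
    intro h
    rw [hVdef, Subgroup.map_eq_bot_iff_of_injective] at h
    · exact (Subgroup.nontrivial_iff_ne_bot _).mp inferInstance h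
    · exact K.subtype_injective.comp (P : Subgroup K).subtype_injective
  have hQne : Qg ≠ ⊥ := by
    intro h
    rw [hQg, Subgroup.map_eq_bot_iff_of_injective _ N.subtype_injective, hQn,
      Subgroup.map_eq_bot_iff_of_injective _ L.subtype_injective] at h
    have := Q.not_dvd_index
    rw [h, Subgroup.index_bot] at this
    exact this hqL
  have hQN : Qg ≤ N := Subgroup.map_subtype_le _
  refine no_fpf V Qg ?_ hVne (hQN.trans hNV) (hNV x.2) ?_ ?_ ?_ ?_ ?_
  · rintro _ ⟨a, ha, rfl⟩ _ ⟨b, -, rfl⟩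
    rw [← map_mul, ← map_mul, (Subgroup.mem_center_iff.mp ha b).symm]
  · refine Subgroup.mem_normalizer_fintype ?_
    rintro _ ⟨y, hy, rfl⟩
    exact ⟨x * y * x⁻¹, (Subgroup.mem_normalizer_iff.mp hxT y).mp hy, rfl⟩
  · obtain ⟨i, hi⟩ := hVp.exists_card_eq
    obtain ⟨j, hj⟩ := hQp.exists_card_eq
    rw [hi, hj]
    exact Nat.coprime_pow_primes _ _ hp hq hpq
  · intro v hv hvc
    by_contra hv1
    obtain ⟨i, hi⟩ := (IsPGroup.iff_orderOf.mp hVp) ⟨v, hv⟩
    rw [Subgroup.orderOf_mk] at hi
    obtain ⟨y, hy, hy1⟩ : ∃ y ∈ Qg, y ≠ 1 := by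
      by_contra! h
      exact hQne ((Subgroup.eq_bot_iff_forall _).mpr h)
    obtain ⟨j, hj⟩ := (IsPGroup.iff_orderOf.mp hQp) ⟨y, hy⟩
    rw [Subgroup.orderOf_mk] at hj
    obtain ⟨z, hz⟩ := exists_order_mul hp hq hpq hi hj
      (fun e => hv1 (orderOf_eq_one_iff.mp (by rw [hi, e, pow_zero])))
      (fun e => hy1 (orderOf_eq_one_iff.mp (by rw [hj, e, pow_zero]))) (hvc y hy).symm
    exact hnpq z hz
  · intro v hv hvc
    by_contra hv1
    obtain ⟨i, hi⟩ := (IsPGroup.iff_orderOf.mp hVp) ⟨v, hv⟩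
    rw [Subgroup.orderOf_mk] at hi
    obtain ⟨z, hz⟩ := exists_order_mul hp hr hpr hi (j := 1)
      (show orderOf (x : G) = r ^ 1 by rw [pow_one, Subgroup.orderOf_coe, hx])
      (fun e => hv1 (orderOf_eq_one_iff.mp (by rw [hi, e, pow_zero]))) one_ne_zero hvc.symm
    exact hnpr z hz
  · intro k hk0 hk y hy hc
    by_contra hy1
    obtain ⟨j, hj⟩ := (IsPGroup.iff_orderOf.mp hQp) ⟨y, hy⟩
    rw [Subgroup.orderOf_mk] at hj
    have hxo : orderOf (x : G) = r := by rw [Subgroup.orderOf_coe, hx]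
    rw [hxo] at hk
    have hxk : orderOf ((x : G) ^ k) = r ^ 1 := by
      rw [pow_one, orderOf_pow, hxo,
        ((Nat.Prime.coprime_iff_not_dvd hr).mpr fun h => absurd (Nat.le_of_dvd hk0 h) (by omega)).gcd_eq_one,
        Nat.div_one]
    obtain ⟨z, hz⟩ := exists_order_mul hq hr hqr hj hxk
      (fun e => hy1 (orderOf_eq_one_iff.mp (by rw [hj, e, pow_zero]))) one_ne_zero hc.symm
    exact hnqr z hz

/-- Two coclique primes cannot both divide a solvable normal subgroup if there is a third one. -/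
theorem eq_of_dvd_solvable : ∀ (n : ℕ) (K : Subgroup G), Nat.card K = n → K.Normal →
    Group.IsSolvable K → ∀ r s t : ℕ, r.Prime → s.Prime → t.Prime → r ≠ s → r ≠ t → s ≠ t →
    r ∣ Nat.card K → s ∣ Nat.card K → t ∣ Nat.card G →
    (∃ x : G, orderOf x = r * s) ∨ (∃ x : G, orderOf x = r * t) ∨ (∃ x : G, orderOf x = s * t) := by
  intro n
  induction n using Nat.strong_induction_on with
  | _ n ih =>
    intro K hn hKn hsol r s t hr hs ht hrs hrt hst hrK hsK htG
    haveI := hsol
    set L := (commutator K).map K.subtype with hL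
    haveI : L.Normal := inferInstance
    have hLK : L ≤ K := Subgroup.map_subtype_le _
    have hlt : Nat.card L < n := by
      have hK1 : Nontrivial K := by
        rw [← Finite.one_lt_card_iff_nontrivial]
        exact lt_of_lt_of_le hr.one_lt (Nat.le_of_dvd Nat.card_pos hrK)
      rw [hL, Subgroup.card_map_of_injective K.subtype_injective, ← hn]
      refine lt_of_le_of_ne (Subgroup.card_le_card_group _) fun e => ?_
      exact (Group.IsSolvable.commutator_lt_top_of_nontrivial (G := K)).ne (Subgroup.eq_top_of_card_eq _ e)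
    haveI : Group.IsSolvable L :=
      solvable_of_solvable_injective (Subgroup.inclusion_injective hLK)
    have hmul : Nat.card L * L.relIndex K = Nat.card K := by
      have h := (L.subgroupOf K).card_mul_index
      rwa [Nat.card_congr (Subgroup.subgroupOfEquivOfLe hLK).toEquiv] at h
    -- a commutative section
    have habel : ∀ u v : ℕ, u.Prime → v.Prime → u ≠ v → u ∣ L.relIndex K → v ∣ L.relIndex K →
        ∃ x : G, orderOf x = u * v := by
      intro u v hu hv huv hud hvd
      haveI := Fact.mk hu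
      haveI := Fact.mk hv
      have hrel : L.relIndex K = Nat.card (K ⧸ commutator K) := by
        show (L.subgroupOf K).index = (commutator K).index
        rw [hL, Subgroup.subgroupOf, Subgroup.comap_map_eq_self_of_injective K.subtype_injective]
      rw [hrel] at hud hvd
      obtain ⟨a, ha⟩ := exists_prime_orderOf_dvd_card' (G := K ⧸ commutator K) u hud
      obtain ⟨b, hb⟩ := exists_prime_orderOf_dvd_card' (G := K ⧸ commutator K) v hvd
      have hab : Commute a b := by
        induction a using QuotientGroup.induction_on with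
        | _ a =>
          induction b using QuotientGroup.induction_on with
          | _ b =>
            exact mul_comm (Abelianization.of a) (Abelianization.of b)
      have hord : orderOf (a * b) = u * v := by
        rw [hab.orderOf_mul_eq_mul_orderOf_of_coprime
          (by rw [ha, hb]; exact (Nat.coprime_primes hu hv).mpr huv), ha, hb]
      obtain ⟨g, hg⟩ := QuotientGroup.mk'_surjective (commutator K) (a * b)
      have hd : u * v ∣ orderOf g := by
        rw [← hord, ← hg]; exact orderOf_map_dvd _ g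
      refine ⟨((g : G)) ^ (orderOf g / (u * v)), ?_⟩
      rw [← Subgroup.coe_pow, Subgroup.orderOf_coe]
      exact orderOf_pow_orderOf_div (orderOf_pos g).ne' hd
    have hsplit : ∀ u : ℕ, u.Prime → u ∣ Nat.card K → u ∣ Nat.card L ∨ u ∣ L.relIndex K :=
      fun u hu h => hu.dvd_mul.mp (hmul ▸ h)
    have main : ∀ r s : ℕ, r.Prime → s.Prime → r ≠ s → r ≠ t → s ≠ t → r ∣ L.relIndex K →
        s ∣ Nat.card L →
        (∃ x : G, orderOf x = r * s) ∨ (∃ x : G, orderOf x = r * t) ∨ (∃ x : G, orderOf x = s * t) := by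
      intro r s hr hs hrs hrt hst hrd hsd
      have hG : Nat.card K * K.index = Nat.card G := K.card_mul_index
      rcases ht.dvd_mul.mp (hG ▸ htG) with h | h
      · rcases hsplit t ht h with h' | h'
        · have hrG : r ∣ Nat.card G := (hrd.trans (Dvd.intro_left _ hmul)).trans (Subgroup.card_subgroup_dvd_card K)
          rcases ih _ hlt L rfl inferInstance inferInstance s t r hs ht hr hst hrs.symm hrt.symm hsd h' hrG
            with ⟨x, hx⟩ | ⟨x, hx⟩ | ⟨x, hx⟩
          · exact Or.inr (Or.inr ⟨x, hx⟩)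
          · exact Or.inl ⟨x, hx.trans (mul_comm _ _)⟩
          · exact Or.inr (Or.inl ⟨x, hx.trans (mul_comm _ _)⟩)
        · exact Or.inr (Or.inl (habel r t hr ht hrt hrd h'))
      · rcases edge L K hLK hs hr ht hrs.symm hst hrt hsd hrd h with ⟨x, hx⟩ | ⟨x, hx⟩ | ⟨x, hx⟩
        · exact Or.inl ⟨x, hx.trans (mul_comm _ _)⟩
        · exact Or.inr (Or.inr ⟨x, hx⟩)
        · exact Or.inr (Or.inl ⟨x, hx⟩)
    rcases hsplit r hr hrK with h1 | h1 <;> rcases hsplit s hs hsK with h2 | h2
    · exact ih _ hlt L rfl inferInstance inferInstance r s t hr hs ht hrs hrt hst h1 h2 htG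
    · rcases main s r hs hr hrs.symm hst hrt h2 h1 with ⟨x, hx⟩ | ⟨x, hx⟩ | ⟨x, hx⟩
      · exact Or.inl ⟨x, hx.trans (mul_comm _ _)⟩
      · exact Or.inr (Or.inr ⟨x, hx⟩)
      · exact Or.inr (Or.inl ⟨x, hx⟩)
    · exact main r s hr hs hrs hrt hst h1 h2
    · exact Or.inl (habel r s hr hs hrs h1 h2)

end Cfsg.Agent.Solv.PrimeGraphTriple
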