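import Mathlib
import Cfsg.Agent.Lib.Block.GlaubermanSolvable

/-!
Solvable groups all whose element orders are prime powers.
-/

set_option autoImplicit false

universe u

namespace Cfsg.Agent.Solv.PrimePowerOrders

/-- Elements whose orders are distinct primes do not commute. -/
theorem not_commute {G : Type u} [Group G] (h : ∀ g : G, IsPrimePow (orderOf g) ∨ g = 1) {a b : G} {p q m k : ℕ}
    (hp : p.Prime) (hq : q.Prime) (hpq : p ≠ q) (ha : orderOf a = p ^ m) (hm : m ≠ 0) (hb : orderOf b = q ^ k) (hk : k ≠ 0) :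
    ¬ Commute a b := by
  intro hc
  have ho : orderOf (a * b) = p ^ m * q ^ k := by
    rw [hc.orderOf_mul_eq_mul_orderOf_of_coprime (by rw [ha, hb]; exact Nat.Coprime.pow _ _ ((Nat.coprime_primes hp hq).2 hpq)), ha, hb]
  rcases h (a * b) with h' | h'
  · rw [ho, isPrimePow_nat_iff] at h'
    obtain ⟨l, e, hl, -, he⟩ := h'
    have h1 : p ∣ l ^ e := he ▸ Dvd.dvd.mul_right (dvd_pow_self p hm) _
    have h2 : q ∣ l ^ e := he ▸ Dvd.dvd.mul_left (dvd_pow_self q hk) _
    exact hpq (((Nat.prime_dvd_prime_iff_eq hp hl).1 (hp.dvd_of_dvd_pow h1)).trans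
      ((Nat.prime_dvd_prime_iff_eq hq hl).1 (hq.dvd_of_dvd_pow h2)).symm)
  · rw [h', orderOf_one] at ho
    have := Nat.one_lt_pow hm hp.one_lt
    have h2 : 1 ≤ q ^ k := Nat.one_le_pow _ _ hq.pos
    nlinarith

open scoped Classical in
/-- The obstruction: a Frobenius product of two primes acting freely on a coprime abelian group. -/
theorem no_free_action {G : Type u} [Group G] [Finite G] {p q r : ℕ} (hp : p.Prime) (hq : q.Prime) (hr : r.Prime)
    (hpq : p ≠ q) (hpr : p ≠ r) (hqr : q ≠ r) (h : ∀ g : G, IsPrimePow (orderOf g) ∨ g = 1)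
    (V : Subgroup G) [V.Normal] (hV : IsPGroup p V) (hVc : ∀ a ∈ V, ∀ b ∈ V, a * b = b * a) (hV1 : V ≠ ⊥)
    (Q : Subgroup G) (hQ : IsPGroup q Q) (hQ1 : Q ≠ ⊥) (s : G) (hs : orderOf s = r) (hsQ : ∀ x ∈ Q, s * x * s⁻¹ ∈ Q) :
    False := by
  have : Fact q.Prime := ⟨hq⟩
  have : Fact p.Prime := ⟨hp⟩
  have : Fintype Q := Fintype.ofFinite _
  letI : CommGroup V := { (inferInstance : Group V) with mul_comm := fun a b => Subtype.ext (hVc a a.2 b b.2) }
  have horder : ∀ {t : ℕ} [Fact t.Prime] {H : Subgroup G}, IsPGroup t H → ∀ x ∈ H, x ≠ 1 → ∃ k, k ≠ 0 ∧ orderOf x = t ^ k := by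
    intro t _ H hH x hx hx1
    obtain ⟨k, hk⟩ := (IsPGroup.iff_orderOf.1 hH) ⟨x, hx⟩
    rw [← Subgroup.orderOf_coe] at hk
    refine ⟨k, fun h0 => hx1 (orderOf_eq_one_iff.1 (hk.trans (by rw [h0, pow_zero]))), hk⟩
  let act : G → V → V := fun g v => ⟨g * v * g⁻¹, Subgroup.Normal.conj_mem inferInstance _ v.2 g⟩
  have act_mul : ∀ g g' v, act (g * g') v = act g (act g' v) := fun g g' v => Subtype.ext (by simp [act, mul_assoc])
  have act_hom : ∀ g v w, act g (v * w) = act g v * act g w := fun g v w => Subtype.ext (by simp [act, mul_assoc])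
  -- nontrivial elements of coprime prime-power order act freely
  have free : ∀ g : G, ∀ t k : ℕ, t.Prime → t ≠ p → k ≠ 0 → orderOf g = t ^ k → ∀ v, act g v = v → v = 1 := by
    intro g t k ht htp hk hg v hv
    by_contra hv1
    obtain ⟨m, hm, hvo⟩ := horder hV v v.2 fun h' => hv1 (Subtype.ext h')
    exact not_commute h ht hp htp hg hk hvo hm (mul_inv_eq_iff_eq_mul.1 (congrArg Subtype.val hv))
  have hsr : ∀ i : ℕ, i < r → i ≠ 0 → orderOf (s ^ i) = r ^ 1 := fun i hi hi0 => by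
    have hc : Nat.Coprime r i := hr.coprime_iff_not_dvd.2 fun hd => absurd (Nat.le_of_dvd (Nat.pos_of_ne_zero hi0) hd) (not_le.2 hi)
    rw [pow_one, orderOf_pow' s hi0, hs, hc.gcd_eq_one, Nat.div_one]
  have hpowQ : ∀ i : ℕ, ∀ x ∈ Q, s ^ i * x * (s ^ i)⁻¹ ∈ Q := fun i => by
    induction i with
    | zero => intro x hx; simpa using hx
    | succ i ih =>
      intro x hx
      rw [show s ^ (i + 1) * x * (s ^ (i + 1))⁻¹ = s * (s ^ i * x * (s ^ i)⁻¹) * s⁻¹ by rw [pow_succ']; group]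
      exact hsQ _ (ih x hx)
  obtain ⟨v, hv⟩ : ∃ v : V, v ≠ 1 := by
    obtain ⟨x, hx, hx1⟩ := V.bot_or_exists_ne_one.resolve_left hV1
    exact ⟨⟨x, hx⟩, fun h' => hx1 (congrArg Subtype.val h')⟩
  -- products over a cyclic group of order r
  have hcyc : ∀ c : G, ∏ i ∈ Finset.range r, act (c * s ^ i * c⁻¹) v = 1 := by
    intro c
    set t := c * s * c⁻¹
    have ht : orderOf t = r := by rw [show t = MulAut.conj c s from rfl, MulEquiv.orderOf_eq, hs]
    have hti : ∀ i : ℕ, c * s ^ i * c⁻¹ = t ^ i := fun i => (conj_pow).symm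
    simp only [hti]
    refine free t r 1 hr (Ne.symm hpr) one_ne_zero (by rw [pow_one, ht]) _ ?_
    have hmap : act t (∏ i ∈ Finset.range r, act (t ^ i) v) = ∏ i ∈ Finset.range r, act (t ^ (i + 1)) v := by
      rw [show act t (∏ i ∈ Finset.range r, act (t ^ i) v) = MonoidHom.mk' (act t) (act_hom t) (∏ i ∈ Finset.range r, act (t ^ i) v) from rfl, map_prod]
      exact Finset.prod_congr rfl fun i _ => by rw [MonoidHom.mk'_apply, ← act_mul, ← pow_succ' t]
    rw [hmap]
    have h1 := Finset.prod_range_succ' (fun i => act (t ^ i) v) r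
    have h2 := Finset.prod_range_succ (fun i => act (t ^ i) v) r
    rw [h1] at h2
    have htr : t ^ r = t ^ 0 := by rw [pow_zero, ← ht, pow_orderOf_eq_one]
    rw [htr] at h2
    exact mul_right_cancel h2
  -- products over Q
  have hQprod : ∀ w : V, ∏ a : Q, act (a : G) w = 1 := by
    intro w
    obtain ⟨x, hx, hx1⟩ := Q.bot_or_exists_ne_one.resolve_left hQ1
    obtain ⟨k, hk, hxo⟩ := horder hQ x hx hx1
    refine free x q k hq (Ne.symm hpq) hk hxo _ ?_
    rw [show act x (∏ a : Q, act (a : G) w) = MonoidHom.mk' (act x) (act_hom x) (∏ a : Q, act (a : G) w) from rfl, map_prod]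
    exact Fintype.prod_equiv (Equiv.mulLeft (⟨x, hx⟩ : Q)) _ _ fun a => by
      rw [MonoidHom.mk'_apply, ← act_mul]; rfl
  -- the cosets of Q are the sets of conjugates
  have hcoset : ∀ i ∈ Finset.range r, i ≠ 0 → ∏ c : Q, act ((c : G) * s ^ i * (c : G)⁻¹) v = 1 := by
    intro i hi hi0
    rw [← hQprod (act (s ^ i) v)]
    let e : Q → Q := fun c => ⟨(c : G) * (s ^ i * (c : G)⁻¹ * (s ^ i)⁻¹), Q.mul_mem c.2 (hpowQ i _ (inv_mem c.2))⟩
    have he : Function.Injective e := fun c d hcd => by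
      have h1 : (c : G) * (s ^ i * (c : G)⁻¹ * (s ^ i)⁻¹) = d * (s ^ i * (d : G)⁻¹ * (s ^ i)⁻¹) := congrArg Subtype.val hcd
      by_contra hne
      have hx1 : (d : G)⁻¹ * c ≠ 1 := fun h' => hne (Subtype.ext (inv_mul_eq_one.1 h').symm)
      obtain ⟨k, hk, hxo⟩ := horder hQ _ (mul_mem (inv_mem d.2) c.2) hx1
      refine not_commute h hr hq (Ne.symm hqr) (hsr i (Finset.mem_range.1 hi) hi0) one_ne_zero hxo hk ?_
      have h2 := congrArg (fun y => (d : G)⁻¹ * y * (s ^ i) * (c : G)) h1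
      simp [mul_assoc] at h2
      show s ^ i * ((d : G)⁻¹ * c) = (d : G)⁻¹ * c * s ^ i
      rw [← h2, mul_assoc]
    refine Fintype.prod_equiv (Equiv.ofBijective e (Finite.injective_iff_bijective.1 he)) _ _ fun c => ?_
    rw [← act_mul]
    congr 1
    simp [e, mul_assoc]
  have h1 : ∏ c : Q, ∏ i ∈ Finset.range r, act ((c : G) * s ^ i * (c : G)⁻¹) v = 1 :=
    Finset.prod_eq_one fun c _ => hcyc c
  rw [Finset.prod_comm, Finset.prod_eq_single 0 hcoset (fun h0 => absurd (Finset.mem_range.2 hr.pos) h0)] at h1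
  have h2 : ∀ c : Q, act ((c : G) * s ^ 0 * (c : G)⁻¹) v = v := fun c => Subtype.ext (by simp [act])
  simp only [h2, Finset.prod_const, Finset.card_univ] at h1
  obtain ⟨m, hm, hvo⟩ := horder hV v v.2 fun h' => hv (Subtype.ext h')
  rw [Subgroup.orderOf_coe] at hvo
  obtain ⟨l, hl⟩ := IsPGroup.iff_card.1 hQ
  have h3 := orderOf_dvd_of_pow_eq_one h1
  rw [hvo, ← Nat.card_eq_fintype_card, hl] at h3
  exact hpq ((Nat.prime_dvd_prime_iff_eq hp hq).1 (hp.dvd_of_dvd_pow ((dvd_pow_self p hm).trans h3)))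

theorem quotient_cond {G : Type u} [Group G] (h : ∀ g : G, IsPrimePow (orderOf g) ∨ g = 1) (N : Subgroup G) [N.Normal]
    (x : G ⧸ N) : IsPrimePow (orderOf x) ∨ x = 1 := by
  by_cases hx : x = 1
  · exact Or.inr hx
  obtain ⟨g, rfl⟩ := QuotientGroup.mk_surjective x
  rcases h g with hg | rfl
  · exact Or.inl (hg.dvd (orderOf_map_dvd (QuotientGroup.mk' N) g) fun h1 => hx (orderOf_eq_one_iff.1 h1))
  · exact absurd rfl hx

/-- At most two primes. -/
theorem card_primeFactors_le (m : ℕ) : ∀ (G : Type u) [Group G] [Finite G], Group.IsSolvable G → Nat.card G ≤ m →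
    (∀ g : G, IsPrimePow (orderOf g) ∨ g = 1) → (Nat.card G).primeFactors.card ≤ 2 := by
  induction m with
  | zero => intro G _ _ _ hm _; exact absurd hm (Nat.not_le.2 Nat.card_pos)
  | succ m ih =>
    intro G _ _ hsolv hm h
    by_cases htriv : Nat.card G = 1
    · simp [htriv]
    have : Nontrivial G := Finite.one_lt_card_iff_nontrivial.1 (by have := Nat.card_pos (α := G); omega)
    obtain ⟨p, W, hp, hWn, hWp, hW1⟩ := Cfsg.Agent.Block.exists_normal_pgroup hsolv
    have : Fact p.Prime := ⟨hp⟩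
    set V := (Subgroup.center W).map W.subtype with hVdef
    have hWnt : Nontrivial W := (Subgroup.nontrivial_iff_ne_bot W).2 hW1
    have hV1 : V ≠ ⊥ := by
      rw [hVdef, Ne, Subgroup.map_eq_bot_iff_of_injective _ W.subtype_injective]
      exact fun hb => absurd hb (Subgroup.nontrivial_iff_ne_bot _ |>.1 hWp.center_nontrivial)
    have hVn : V.Normal := ConjAct.normal_of_characteristic_of_normal
    have hVp : IsPGroup p V := (hWp.to_subgroup _).map _
    have hVc : ∀ a ∈ V, ∀ b ∈ V, a * b = b * a := by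
      rintro _ ⟨a, ha, rfl⟩ _ ⟨b, -, rfl⟩
      exact congrArg Subtype.val (Subgroup.mem_center_iff.1 ha b).symm
    have hsolq : Group.IsSolvable (G ⧸ V) := Group.isSolvable_of_surjective (QuotientGroup.mk'_surjective V)
    have hlt : Nat.card (G ⧸ V) ≤ m := by
      have h1 := V.card_mul_index
      have h2 : 1 < Nat.card V := (Subgroup.one_lt_card_iff_ne_bot V).2 hV1
      have h3 : 0 < V.index := Nat.pos_of_ne_zero Subgroup.index_ne_zero_of_finite
      show V.index ≤ m
      nlinarith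
    have h2primes := ih (G ⧸ V) hsolq hlt (quotient_cond h V)
    by_contra hcon
    have hsub : (Nat.card G).primeFactors ⊆ insert p (Nat.card (G ⧸ V)).primeFactors := by
      intro l hl
      obtain ⟨hlp, hld, -⟩ := Nat.mem_primeFactors.1 hl
      rw [← V.card_mul_index] at hld
      rcases hlp.dvd_mul.1 hld with h1 | h1
      · obtain ⟨k, hk⟩ := IsPGroup.iff_card.1 hVp
        rw [hk] at h1
        exact Finset.mem_insert.2 (Or.inl ((Nat.prime_dvd_prime_iff_eq hlp hp).1 (hlp.dvd_of_dvd_pow h1)))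
      · exact Finset.mem_insert_of_mem (Nat.mem_primeFactors.2 ⟨hlp, h1, Nat.card_pos.ne'⟩)
    have hcard := Finset.card_le_card hsub
    have hpn : p ∉ (Nat.card (G ⧸ V)).primeFactors := fun hpm => by
      rw [Finset.insert_eq_of_mem hpm] at hcard; omega
    rw [Finset.card_insert_of_notMem hpn] at hcard
    have hcop : Nat.Coprime (Nat.card V) V.index := by
      obtain ⟨k, hk⟩ := IsPGroup.iff_card.1 hVp
      rw [hk]
      exact Nat.Coprime.pow_left _ (hp.coprime_iff_not_dvd.2 fun hd => hpn (Nat.mem_primeFactors.2 ⟨hp, hd, Nat.card_pos.ne'⟩))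
    obtain ⟨H, hH⟩ := Subgroup.exists_right_complement'_of_coprime hcop
    have hHc : Nat.card H = Nat.card (G ⧸ V) := (hH.symm.index_eq_card).symm
    have : Nontrivial H := Finite.one_lt_card_iff_nontrivial.1 (by
      rw [hHc]
      by_contra h1
      rw [show Nat.card (G ⧸ V) = 1 by have := Nat.card_pos (α := G ⧸ V); omega] at hcard
      simp at hcard
      omega)
    obtain ⟨q, Q₀, hq, hQ₀n, hQ₀p, hQ₀1⟩ := Cfsg.Agent.Block.exists_normal_pgroup (S := H) inferInstance
    have : Fact q.Prime := ⟨hq⟩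
    have hqmem : q ∈ (Nat.card (G ⧸ V)).primeFactors := by
      refine Nat.mem_primeFactors.2 ⟨hq, ?_, Nat.card_pos.ne'⟩
      obtain ⟨k, hk⟩ := IsPGroup.iff_card.1 hQ₀p
      have hk0 : k ≠ 0 := fun h0 => hQ₀1 (Subgroup.card_eq_one.1 (by rw [hk, h0, pow_zero]))
      exact (dvd_pow_self q hk0).trans (hk ▸ hHc ▸ Q₀.card_subgroup_dvd_card)
    obtain ⟨r, hrmem, hrq⟩ := Finset.exists_mem_ne (show 1 < (Nat.card (G ⧸ V)).primeFactors.card by omega) q
    obtain ⟨hr, hrd, -⟩ := Nat.mem_primeFactors.1 hrmem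
    have : Fact r.Prime := ⟨hr⟩
    obtain ⟨s, hs⟩ := exists_prime_orderOf_dvd_card' (G := H) r (hHc ▸ hrd)
    refine no_free_action (p := p) (q := q) (r := r) hp hq hr ?_ ?_ (Ne.symm hrq) h V hVp hVc hV1
      (Q₀.map H.subtype) (hQ₀p.map _) ?_ s (by rw [Subgroup.orderOf_coe, hs]) ?_
    · rintro rfl; exact hpn hqmem
    · rintro rfl; exact hpn hrmem
    · rw [Ne, Subgroup.map_eq_bot_iff_of_injective _ H.subtype_injective]; exact hQ₀1
    · rintro _ ⟨x, hx, rfl⟩
      exact ⟨s * x * s⁻¹, hQ₀n.conj_mem x hx s, rfl⟩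

end Cfsg.Agent.Solv.PrimePowerOrders
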