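import Cfsg.Prelude.Def_HallClasses
import Mathlib

/-!
Extensions with pronormal overgroups of Sylow subgroups.
-/

set_option autoImplicit false
open Subgroup

namespace Cfsg.Agent.Solv.ProExt

variable {G : Type*} [Group G] {p : ℕ}

/-- The conjugate of a subgroup. -/
abbrev cj (g : G) (H : Subgroup G) : Subgroup G := H.map (MulAut.conj g).toMonoidHom

theorem cj_mul (g h : G) (H : Subgroup G) : cj g (cj h H) = cj (g * h) H := by
  rw [cj, cj, cj, Subgroup.map_map]
  congr 1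
  ext x
  simp [mul_assoc]

theorem cj_one (H : Subgroup G) : cj 1 H = H := by
  ext x; simp [cj]

theorem cj_inv_cancel (g : G) (H : Subgroup G) : cj g⁻¹ (cj g H) = H := by
  rw [cj_mul, inv_mul_cancel, cj_one]

theorem cj_cancel_inv (g : G) (H : Subgroup G) : cj g (cj g⁻¹ H) = H := by
  rw [cj_mul, mul_inv_cancel, cj_one]

theorem cj_sup (g : G) (H K : Subgroup G) : cj g (H ⊔ K) = cj g H ⊔ cj g K := map_sup H K _

theorem cj_inf (g : G) (H K : Subgroup G) : cj g (H ⊓ K) = cj g H ⊓ cj g K :=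
  map_inf H K _ (MulAut.conj g).injective

theorem mem_cj {g x : G} {H : Subgroup G} : x ∈ cj g H ↔ g⁻¹ * x * g ∈ H := by
  constructor
  · rintro ⟨y, hy, rfl⟩; simpa [mul_assoc] using hy
  · intro h; exact ⟨_, h, by simp [mul_assoc]⟩

theorem mem_normalizer_iff_cj {g : G} {H : Subgroup G} [Finite G] :
    g ∈ normalizer (H : Set G) ↔ cj g H = H := mem_normalizer_iff_map_conj_eq

theorem cj_normal (g : G) (A : Subgroup G) [hA : A.Normal] : cj g A = A := by
  ext x
  rw [mem_cj]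
  exact ⟨fun h => by simpa [mul_assoc] using hA.conj_mem _ h g,
    fun h => by simpa [mul_assoc] using hA.conj_mem _ h g⁻¹⟩

variable [Finite G] [Fact p.Prime]

/-- The relative condition inside the normalizer of `T`. -/
def Rel (p : ℕ) (T : Subgroup G) : Prop :=
  ∀ L : Subgroup G, (∃ P : Sylow p G, (P : Subgroup G) ≤ L) → L ≤ normalizer (T : Set G) →
    ∀ g ∈ normalizer (T : Set G), ∃ x ∈ L ⊔ cj g L, cj g L = cj x L

theorem Rel.conj {T : Subgroup G} (h : Rel p T) (c : G) : Rel p (cj c T) := by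
  rintro L ⟨P, hP⟩ hL g hg
  have hN : ∀ u, u ∈ normalizer (cj c T : Set G) → c⁻¹ * u * c ∈ normalizer (T : Set G) := by
    intro u hu
    rw [mem_normalizer_iff_cj] at hu ⊢
    rw [← cj_mul, ← cj_mul, hu, cj_inv_cancel]
  obtain ⟨P', hP'⟩ : ∃ P' : Sylow p G, (P' : Subgroup G) ≤ cj c⁻¹ L := by
    refine ⟨c⁻¹ • P, ?_⟩
    rw [Sylow.coe_subgroup_smul]
    rintro _ ⟨y, hy, rfl⟩
    exact ⟨y, hP hy, by simp⟩
  obtain ⟨x, hx, hxe⟩ := h (cj c⁻¹ L) ⟨P', hP'⟩ (fun u hu => by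
    obtain ⟨w, hw, rfl⟩ := hu
    simpa using hN w (hL hw)) (c⁻¹ * g * c) (hN g hg)
  have e : cj (c⁻¹ * g * c) (cj c⁻¹ L) = cj c⁻¹ (cj g L) := by
    rw [cj_mul, cj_mul]; congr 1; group
  rw [e, ← cj_sup] at hx
  refine ⟨c * x * c⁻¹, by simpa using mem_cj.1 hx, ?_⟩
  rw [e] at hxe
  calc cj g L = cj c (cj c⁻¹ (cj g L)) := (cj_cancel_inv c _).symm
    _ = cj (c * x * c⁻¹) L := by rw [hxe, cj_mul, cj_mul]

/-- A `p`-subgroup of `A` of Sylow order is conjugate to any other inside a subgroup containing both. -/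
theorem exists_conj {A K T T' : Subgroup G} (hmax : ∀ U : Subgroup G, U ≤ A → IsPGroup p U → Nat.card U ≤ Nat.card T)
    (hKA : K ≤ A) (hT : IsPGroup p T) (hTK : T ≤ K) (hT' : T' ≤ K) (hc : Nat.card T' = Nat.card T)
    (hT'p : IsPGroup p T') : ∃ k ∈ K, cj k T' = T := by
  obtain ⟨S, hS⟩ := (hT.comap_subtype (H := T) (K := K)).exists_le_sylow
  obtain ⟨S', hS'⟩ := (hT'p.comap_subtype (H := T') (K := K)).exists_le_sylow
  obtain ⟨k, hk⟩ := MulAction.exists_smul_eq K S' S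
  have key : ∀ (U : Subgroup G) (R : Sylow p K), U ≤ K → U.subgroupOf K ≤ R → Nat.card U = Nat.card T →
      (R : Subgroup K).map K.subtype = U := fun U R hU hR hcard => by
    refine (eq_of_le_of_card_ge ((map_subgroupOf_eq_of_le hU).ge.trans (map_mono hR)) ?_).symm
    rw [hcard]
    exact hmax _ ((map_subtype_le _).trans hKA) (R.isPGroup'.map _)
  have e1 := key T S hTK hS rfl
  have e2 := key T' S' hT' hS' hc
  refine ⟨k, k.2, ?_⟩
  rw [← e1, ← e2, ← hk, cj, Subgroup.map_map, Sylow.coe_subgroup_smul]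
  ext x
  constructor
  · rintro ⟨y, hy, rfl⟩
    exact ⟨k * y * k⁻¹, ⟨y, hy, by simp⟩, by simp⟩
  · rintro ⟨_, ⟨y, hy, rfl⟩, rfl⟩
    exact ⟨y, hy, by simp⟩

/-- The basic gluing. -/
theorem pronormal_of_rel (A : Subgroup G) [A.Normal]
    (hA : ∀ K : Subgroup A, (∃ P : Sylow p A, (P : Subgroup A) ≤ K) → Cfsg.IsPronormal K)
    (T : Subgroup G) (hT : ∃ P : Sylow p A, (P : Subgroup A).map A.subtype = T) (hrel : Rel p T)
    (K : Subgroup G) (hK : ∃ P : Sylow p G, (P : Subgroup G) ≤ K)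
    (hconj : ∀ g : G, ∃ x ∈ K ⊔ cj g K, ∃ a ∈ A, cj g K = cj x (cj a K)) :
    Cfsg.IsPronormal K := by
  obtain ⟨P, hPK⟩ := hK
  obtain ⟨S, rfl⟩ := hT
  have hmaxA : ∀ U : Subgroup G, U ≤ A → IsPGroup p U → Nat.card U ≤ Nat.card ((S : Subgroup A).map A.subtype) := by
    intro U hU hUp
    obtain ⟨R, hR⟩ := (hUp.comap_subtype (H := U) (K := A)).exists_le_sylow
    refine le_trans (le_of_eq (Nat.card_congr (subgroupOfEquivOfLe hU).toEquiv.symm)) ?_
    rw [Nat.card_congr ((S : Subgroup A).equivMapOfInjective A.subtype A.subtype_injective).symm.toEquiv,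
      S.card_eq_multiplicity, ← R.card_eq_multiplicity]
    exact Nat.le_of_dvd Nat.card_pos (card_dvd_of_le hR)
  obtain ⟨S1, hS1⟩ : ∃ S1 : Sylow p G, (S : Subgroup A).map A.subtype ≤ S1 :=
    (S.isPGroup'.map A.subtype).exists_le_sylow
  obtain ⟨c, hc⟩ := MulAction.exists_smul_eq G S1 P
  set T := cj c ((S : Subgroup A).map A.subtype) with hT
  replace hrel : Rel p T := hrel.conj c
  have hTA : T ≤ A := by
    rw [hT]; exact (map_mono (map_subtype_le _)).trans (cj_normal c A).le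
  have hTc : Nat.card T = Nat.card ((S : Subgroup A).map A.subtype) := card_map_of_injective (MulAut.conj c).injective
  have hTp : IsPGroup p T := (S.isPGroup'.map A.subtype).map _
  have hmax : ∀ U : Subgroup G, U ≤ A → IsPGroup p U → Nat.card U ≤ Nat.card T := fun U h h' =>
    hTc ▸ hmaxA U h h'
  have hTP : T ≤ P := by
    rw [← hc, Sylow.coe_subgroup_smul]
    rintro _ ⟨y, hy, rfl⟩
    exact ⟨y, hS1 hy, rfl⟩
  have hPT : (P : Subgroup G) ⊓ A = T :=
    (eq_of_le_of_card_ge (le_inf hTP hTA) (hmax _ inf_le_right (P.isPGroup'.to_le inf_le_left))).symm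
  have hPN : (P : Subgroup G) ≤ normalizer (T : Set G) := fun u hu => by
    rw [mem_normalizer_iff_cj, ← hPT, cj_inf, cj_normal u A, mem_normalizer_iff_cj.1 (le_normalizer hu)]
  intro g
  obtain ⟨x, hx, a, ha, hxa⟩ := hconj g
  show ∃ y ∈ K ⊔ cj g K, cj g K = cj y K
  set J := K ⊔ cj g K with hJ
  have haK : cj a K ≤ J := by
    have h : cj a K = cj x⁻¹ (cj g K) := by rw [hxa, cj_inv_cancel]
    rw [h]
    intro u hu
    rw [mem_cj, inv_inv] at hu
    rw [show u = x⁻¹ * (x * u * x⁻¹) * x by group]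
    exact mul_mem (mul_mem (inv_mem hx) (mem_sup_right hu)) hx
  suffices h : ∃ y ∈ J, cj a K = cj y K by
    obtain ⟨y, hy, he⟩ := h
    exact ⟨x * y, mul_mem hx hy, by rw [hxa, he, cj_mul]⟩
  -- step 1: match the intersections with `A`
  have hTK0 : T ≤ K ⊓ A := le_inf (hTP.trans hPK) hTA
  obtain ⟨S0, hS0⟩ : ∃ R : Sylow p A, (R : Subgroup A) ≤ (K ⊓ A).subgroupOf A := by
    obtain ⟨R, hR⟩ := (hTp.comap_subtype (H := T) (K := A)).exists_le_sylow
    refine ⟨R, le_of_eq_of_le ?_ (comap_mono hTK0)⟩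
    refine (eq_of_le_of_card_ge hR ?_).symm
    refine le_trans ?_ (le_of_eq (Nat.card_congr (subgroupOfEquivOfLe hTA).toEquiv).symm)
    rw [hTc, Nat.card_congr ((S : Subgroup A).equivMapOfInjective A.subtype A.subtype_injective).symm.toEquiv,
      S.card_eq_multiplicity, R.card_eq_multiplicity]
  obtain ⟨x0, hx0, hx0e⟩ := hA _ ⟨S0, hS0⟩ ⟨a, ha⟩
  have hmapA : ∀ b : A, (((K ⊓ A).subgroupOf A).map (MulAut.conj b).toMonoidHom).map A.subtype = cj (b : G) (K ⊓ A) := by
    intro b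
    conv_rhs => rw [← map_subgroupOf_eq_of_le (inf_le_right : K ⊓ A ≤ A)]
    rw [cj, Subgroup.map_map, Subgroup.map_map]
    congr 1
  have hx0e' : cj a (K ⊓ A) = cj (x0 : G) (K ⊓ A) := by
    have := congrArg (fun L : Subgroup A => L.map A.subtype) hx0e
    simpa only [hmapA] using this
  have hx0J : (x0 : G) ∈ J := by
    have h := mem_map_of_mem A.subtype hx0
    rw [Subgroup.map_sup, hmapA, map_subgroupOf_eq_of_le inf_le_right] at h
    exact (sup_le (inf_le_left.trans le_sup_left) ((map_mono inf_le_left).trans haK) : _ ≤ J) h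
  set a1 : G := (x0 : G)⁻¹ * a with ha1
  have ha1K : cj a1 (K ⊓ A) = K ⊓ A := by rw [ha1, ← cj_mul, hx0e', cj_inv_cancel]
  -- step 2: fix `T`
  obtain ⟨k, hk, hke⟩ := exists_conj hmax inf_le_right hTp hTK0 ((map_mono hTK0).trans ha1K.le : cj a1 T ≤ K ⊓ A)
    (card_map_of_injective (MulAut.conj a1).injective) (hTp.map _)
  set a2 : G := k * a1 with ha2
  have ha2T : cj a2 T = T := by rw [ha2, ← cj_mul, hke]
  have ha2K : cj a2 (K ⊓ A) = K ⊓ A := by
    rw [ha2, ← cj_mul, ha1K, mem_normalizer_iff_cj.1 (le_normalizer hk)]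
  have hKn : K ≤ normalizer ((K ⊓ A : Subgroup G) : Set G) := fun u hu => by
    rw [mem_normalizer_iff_cj, cj_inf, cj_normal u A, mem_normalizer_iff_cj.1 (le_normalizer hu)]
  set M := K ⊓ normalizer (T : Set G) with hM
  have hfr : K = (K ⊓ A) ⊔ M := by
    refine le_antisymm (fun u hu => ?_) (sup_le inf_le_left inf_le_left)
    obtain ⟨w, hw, hwe⟩ := exists_conj hmax inf_le_right hTp hTK0
      ((map_mono hTK0).trans (mem_normalizer_iff_cj.1 (hKn hu)).le : cj u T ≤ K ⊓ A)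
      (card_map_of_injective (MulAut.conj u).injective) (hTp.map _)
    rw [show u = w⁻¹ * (w * u) by group]
    exact mul_mem_sup (inv_mem hw) ⟨mul_mem hw.1 hu, mem_normalizer_iff_cj.2 (by rw [← cj_mul, hwe])⟩
  obtain ⟨y, hy, hye⟩ := hrel M ⟨P, le_inf hPK hPN⟩ inf_le_right a2 (mem_normalizer_iff_cj.2 ha2T)
  have hna : M ⊔ cj a2 M ≤ normalizer ((K ⊓ A : Subgroup G) : Set G) := by
    refine sup_le (inf_le_left.trans hKn) ?_
    rintro _ ⟨u, hu, rfl⟩
    rw [mem_normalizer_iff_cj]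
    show cj (a2 * u * a2⁻¹) (K ⊓ A) = K ⊓ A
    have hinv : cj a2⁻¹ (K ⊓ A) = K ⊓ A := by
      conv_lhs => rw [← ha2K]
      rw [cj_inv_cancel]
    rw [← cj_mul, ← cj_mul, hinv, mem_normalizer_iff_cj.1 (hKn hu.1), ha2K]
  have hkJ : k ∈ J := mem_sup_left hk.1
  have ha2J : cj a2 K ≤ J := by
    intro u hu
    rw [ha2, ha1, ← cj_mul, ← cj_mul, mem_cj, mem_cj, inv_inv] at hu
    have h1 : (x0 : G) * (k⁻¹ * u * k) * (x0 : G)⁻¹ ∈ J := haK hu
    rw [show u = k * ((x0 : G)⁻¹ * ((x0 : G) * (k⁻¹ * u * k) * (x0 : G)⁻¹) * x0) * k⁻¹ by group]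
    exact mul_mem (mul_mem hkJ (mul_mem (mul_mem (inv_mem hx0J) h1) hx0J)) (inv_mem hkJ)
  have hyJ : y ∈ J := (sup_le (inf_le_left.trans le_sup_left) ((map_mono inf_le_left).trans ha2J) : M ⊔ cj a2 M ≤ J) hy
  have he2 : cj a2 K = cj y K := by
    conv_lhs => rw [hfr, cj_sup, ha2K, hye]
    conv_rhs => rw [hfr, cj_sup, mem_normalizer_iff_cj.1 (hna hy)]
  refine ⟨(x0 : G) * (k⁻¹ * y), mul_mem hx0J (mul_mem (inv_mem hkJ) hyJ), ?_⟩
  rw [← cj_mul, ← cj_mul, ← he2, cj_mul, cj_mul]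
  congr 1
  rw [ha2, ha1]
  group

/-- `Rel` is the condition on the quotient `N(T) / T`. -/
theorem rel_iff (T : Subgroup G) (hTp : IsPGroup p T) [(T.subgroupOf (normalizer (T : Set G))).Normal]
    (hP : ∃ P : Sylow p G, (P : Subgroup G) ≤ normalizer (T : Set G)) :
    Rel p T ↔ ∀ K : Subgroup (normalizer (T : Set G) ⧸ T.subgroupOf (normalizer (T : Set G))),
      (∃ P : Sylow p (normalizer (T : Set G) ⧸ T.subgroupOf (normalizer (T : Set G))),
        (P : Subgroup _) ≤ K) → Cfsg.IsPronormal K := by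
  set N := normalizer (T : Set G)
  set π := QuotientGroup.mk' (T.subgroupOf N)
  have hπ : Function.Surjective π := QuotientGroup.mk'_surjective _
  obtain ⟨P0, hP0⟩ := hP
  have hcj : ∀ (L : Subgroup N) (g : N), (L.map (MulAut.conj g).toMonoidHom).map π =
      (L.map π).map (MulAut.conj (π g)).toMonoidHom := fun L g => by
    rw [Subgroup.map_map, Subgroup.map_map]
    congr 1
  have hcjG : ∀ (L : Subgroup N) (g : N), (L.map (MulAut.conj g).toMonoidHom).map N.subtype =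
      cj (g : G) (L.map N.subtype) := fun L g => by
    rw [cj, Subgroup.map_map, Subgroup.map_map]
    congr 1
  constructor
  · intro h K ⟨Q, hQ⟩ gq
    obtain ⟨g, rfl⟩ := hπ gq
    set L := (K.comap π).map N.subtype
    obtain ⟨P1, hP1⟩ := Sylow.mapSurjective_surjective hπ p Q
    obtain ⟨u, hu⟩ := MulAction.exists_smul_eq N (P0.subtype hP0) P1
    have hPL : (((u : G) • P0 : Sylow p G) : Subgroup G) ≤ L := by
      rw [Sylow.coe_subgroup_smul]
      rintro _ ⟨z, hz, rfl⟩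
      refine ⟨u * ⟨z, hP0 hz⟩ * u⁻¹, ?_, rfl⟩
      have hmem : u * ⟨z, hP0 hz⟩ * u⁻¹ ∈ (P1 : Subgroup N) := by
        rw [← hu, Sylow.coe_subgroup_smul]
        exact ⟨⟨z, hP0 hz⟩, hz, rfl⟩
      exact hQ (hP1 ▸ mem_map_of_mem π hmem)
    obtain ⟨x, hx, hxe⟩ := h L ⟨_, hPL⟩ (map_subtype_le _) g g.2
    rw [← hcjG, ← Subgroup.map_sup] at hx
    obtain ⟨x', hx', rfl⟩ := hx
    refine ⟨π x', ?_, ?_⟩
    · have := mem_map_of_mem π hx'
      rwa [Subgroup.map_sup, hcj, map_comap_eq_self_of_surjective hπ] at this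
    · rw [coe_subtype, ← hcjG, ← hcjG] at hxe
      have := congrArg (fun M : Subgroup N => M.map π) (map_injective N.subtype_injective hxe)
      simpa only [hcj, map_comap_eq_self_of_surjective hπ] using this
  · rintro h L ⟨P, hPL⟩ hLN g hg
    have hTL : T ≤ L := by
      have h1 : T.subgroupOf N ≤ (P.subtype (hPL.trans hLN) : Subgroup N) :=
        IsPGroup.le_sylow_of_normal (N := T.subgroupOf N) (hTp.comap_subtype (H := T) (K := N)) _
      exact fun t ht => hPL (h1 (show (⟨t, le_normalizer ht⟩ : N) ∈ T.subgroupOf N from ht))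
    obtain ⟨x, hx, hxe⟩ := h ((L.subgroupOf N).map π) ⟨(P.subtype (hPL.trans hLN)).mapSurjective hπ, map_mono (comap_mono hPL)⟩ (π ⟨g, hg⟩)
    rw [← hcj, ← Subgroup.map_sup] at hx
    obtain ⟨x', hx', rfl⟩ := hx
    refine ⟨(x' : G), ?_, ?_⟩
    · have := mem_map_of_mem N.subtype hx'
      rwa [Subgroup.map_sup, hcjG, map_subgroupOf_eq_of_le hLN] at this
    · have hker : ∀ b : N, π.ker ≤ (L.subgroupOf N).map (MulAut.conj b).toMonoidHom := fun b t ht => by
        rw [QuotientGroup.ker_mk'] at ht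
        refine ⟨b⁻¹ * t * b, ?_, by simp [mul_assoc]⟩
        have := (inferInstance : (T.subgroupOf N).Normal).conj_mem t ht b⁻¹
        rw [inv_inv] at this
        exact comap_mono hTL this
      rw [← hcj, ← hcj] at hxe
      have := congrArg (fun M : Subgroup (N ⧸ T.subgroupOf N) => (M.comap π).map N.subtype) hxe
      simp only [comap_map_eq_self (hker _), hcjG] at this
      rwa [map_subgroupOf_eq_of_le hLN] at this

end Cfsg.Agent.Solv.ProExt
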