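import Mathlib
import Cfsg.Agent.Lib.Local.Puig
import Cfsg.Agent.Lib.Solv.OddStable
import Cfsg.Agent.Lib.Solv.ZJ

/-!
The Puig subgroup of a Sylow subgroup of a solvable group of odd order.
-/

set_option autoImplicit false

universe u v w

namespace Cfsg.Agent.Solv.PuigZ

open Subgroup
open scoped commutatorElement

section Transport

variable {A : Type u} [Group A] {H : Type v} [Group H] (φ : A →* H)

theorem map_le_normalizer_iff (hφ : Function.Injective φ) (X B : Subgroup A) :
    X.map φ ≤ normalizer ((B.map φ : Subgroup H) : Set H) ↔ X ≤ normalizer (B : Set A) := by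
  rw [le_normalizer_iff_commutator_le_left, le_normalizer_iff_commutator_le_left, ← map_commutator,
    map_le_map_iff_of_injective hφ]

theorem le_map_step (hφ : Function.Injective φ) {X : Subgroup A} {B : Subgroup H} (hB : B ≤ φ.range)
    (hc : IsMulCommutative B) (hn : X.map φ ≤ normalizer (B : Set H)) :
    B ≤ (puigStep X).map φ := by
  have e : (B.comap φ).map φ = B := map_comap_eq_self hB
  rw [← e] at hn ⊢
  refine map_mono (le_sSup ⟨?_, (map_le_normalizer_iff φ hφ _ _).mp hn⟩)
  refine ⟨⟨fun a b => Subtype.ext (hφ ?_)⟩⟩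
  simp only [Subgroup.coe_mul, map_mul]
  exact congrArg Subtype.val (hc.is_comm.comm ⟨φ a, a.2⟩ ⟨φ b, b.2⟩)

theorem map_step_le (hφ : Function.Injective φ) {X : Subgroup A} {Y : Subgroup H}
    (h : ∀ B : Subgroup H, B ≤ φ.range → IsMulCommutative B → X.map φ ≤ normalizer (B : Set H) → B ≤ Y) :
    (puigStep X).map φ ≤ Y := by
  rw [map_le_iff_le_comap]
  refine sSup_le fun B hB => ?_
  rw [← map_le_iff_le_comap]
  refine h _ (map_le_range φ B) ⟨⟨?_⟩⟩ ((map_le_normalizer_iff φ hφ _ _).mpr hB.2)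
  rintro ⟨_, a, ha, rfl⟩ ⟨_, b, hb, rfl⟩
  apply Subtype.ext
  change φ a * φ b = φ b * φ a
  rw [← map_mul, ← map_mul]
  exact congrArg φ (congrArg Subtype.val (hB.1.is_comm.comm ⟨a, ha⟩ ⟨b, hb⟩))

variable {A₂ : Type w} [Group A₂] (ψ : A₂ →* H)

theorem seq_eq_of_range (hφ : Function.Injective φ) (hψ : Function.Injective ψ) (h : φ.range = ψ.range)
    (n : ℕ) : (puigSeq A n).map φ = (puigSeq A₂ n).map ψ := by
  induction n with
  | zero => simp [puigSeq]
  | succ n ih =>
    rw [puigSeq, puigSeq]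
    refine le_antisymm (map_step_le φ hφ fun B hB hc hn => le_map_step ψ hψ (h ▸ hB) hc (ih ▸ hn))
      (map_step_le ψ hψ fun B hB hc hn => le_map_step φ hφ (h.symm ▸ hB) hc (ih.symm ▸ hn))

theorem lower_eq_of_range [Finite A] [Finite A₂] (hφ : Function.Injective φ) (hψ : Function.Injective ψ)
    (h : φ.range = ψ.range) :
    (puigLower A).map φ = (puigLower A₂).map ψ ∧ (puigSubgroup A).map φ = (puigSubgroup A₂).map ψ := by
  obtain ⟨k, hk⟩ := Local.Puig.exists_stable (G := A)
  obtain ⟨l, hl⟩ := Local.Puig.exists_stable (G := A₂)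
  rw [← (hk (max k l) (le_max_left _ _)).1, ← (hl (max k l) (le_max_right _ _)).1,
    ← (hk (max k l) (le_max_left _ _)).2, ← (hl (max k l) (le_max_right _ _)).2]
  exact ⟨seq_eq_of_range φ ψ hφ hψ h _, seq_eq_of_range φ ψ hφ hψ h _⟩

end Transport

variable {G : Type u} [Group G]

/-- A term of the Puig series of a subgroup, inside the ambient group. -/
abbrev seqIn (R : Subgroup G) (n : ℕ) : Subgroup G := (puigSeq ↥R n).map R.subtype
/-- The lower Puig subgroup of a subgroup, inside the ambient group. -/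
abbrev lowIn (R : Subgroup G) : Subgroup G := (puigLower ↥R).map R.subtype
/-- The Puig subgroup of a subgroup, inside the ambient group. -/
abbrev highIn (R : Subgroup G) : Subgroup G := (puigSubgroup ↥R).map R.subtype

theorem seqIn_succ_le {R : Subgroup G} {n : ℕ} {Y : Subgroup G}
    (h : ∀ B : Subgroup G, B ≤ R → IsMulCommutative B → seqIn R n ≤ normalizer (B : Set G) → B ≤ Y) :
    seqIn R (n + 1) ≤ Y := by
  rw [seqIn, puigSeq]
  exact map_step_le _ R.subtype_injective fun B hB hc hn => h B (R.range_subtype ▸ hB) hc hn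

theorem le_seqIn_succ {R : Subgroup G} {n : ℕ} {B : Subgroup G} (hB : B ≤ R) (hc : IsMulCommutative B)
    (hn : seqIn R n ≤ normalizer (B : Set G)) : B ≤ seqIn R (n + 1) := by
  rw [seqIn, puigSeq]
  exact le_map_step _ R.subtype_injective (R.range_subtype.symm ▸ hB) hc hn

theorem seqIn_one (R : Subgroup G) : seqIn R 1 = R := by
  rw [seqIn, Local.Puig.seq_one, ← MonoidHom.range_eq_map, range_subtype]

variable [Finite G]

theorem highIn_le_iff (R : Subgroup G) {Y : Subgroup G}
    (h : ∀ B : Subgroup G, B ≤ R → IsMulCommutative B → lowIn R ≤ normalizer (B : Set G) → B ≤ Y) :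
    highIn R ≤ Y := by
  rw [highIn, ← (Local.Puig.main (G := ↥R)).2.2.2.2.2.1]
  exact map_step_le _ R.subtype_injective fun B hB hc hn => h B (R.range_subtype ▸ hB) hc hn

theorem le_highIn {R B : Subgroup G} (hB : B ≤ R) (hc : IsMulCommutative B)
    (hn : lowIn R ≤ normalizer (B : Set G)) : B ≤ highIn R := by
  rw [highIn, ← (Local.Puig.main (G := ↥R)).2.2.2.2.2.1]
  exact le_map_step _ R.subtype_injective (R.range_subtype.symm ▸ hB) hc hn

theorem le_lowIn {R B : Subgroup G} (hB : B ≤ R) (hc : IsMulCommutative B)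
    (hn : highIn R ≤ normalizer (B : Set G)) : B ≤ lowIn R := by
  rw [lowIn, ← (Local.Puig.main (G := ↥R)).2.2.2.2.2.2]
  exact le_map_step _ R.subtype_injective (R.range_subtype.symm ▸ hB) hc hn

theorem lowIn_le_highIn (R : Subgroup G) : lowIn R ≤ highIn R :=
  map_mono (Local.Puig.main (G := ↥R)).2.2.2.2.1

omit [Finite G] in
theorem map_conj_eq_of_mem_normalizer {R : Subgroup G} {g : G} (hg : g ∈ normalizer (R : Set G)) :
    R.map (MulAut.conj g).toMonoidHom = R :=
  mem_normalizer_iff_map_conj_eq.mp hg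

omit [Finite G] in
theorem mem_normalizer_of_map_conj_eq {R : Subgroup G} {g : G}
    (hg : R.map (MulAut.conj g).toMonoidHom = R) : g ∈ normalizer (R : Set G) :=
  mem_normalizer_iff_map_conj_eq.mpr hg

omit [Finite G] in
theorem normalizer_le_normalizer_centralizer (R : Subgroup G) :
    normalizer (R : Set G) ≤ normalizer ((centralizer (R : Set G) : Subgroup G) : Set G) := by
  intro g hg
  rw [mem_normalizer_iff] at hg ⊢
  intro x
  constructor
  · intro hx r hr
    have h1 : g⁻¹ * r * g ∈ R := (hg _).mpr (by simpa only [mul_assoc, mul_inv_cancel_left, mul_inv_cancel, mul_one] using SetLike.mem_coe.mp hr)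
    have h2 := hx _ h1
    calc r * (g * x * g⁻¹) = g * ((g⁻¹ * r * g) * x) * g⁻¹ := by group
      _ = g * (x * (g⁻¹ * r * g)) * g⁻¹ := by rw [h2]
      _ = g * x * g⁻¹ * r := by group
  · intro hx r hr
    have h1 : g * r * g⁻¹ ∈ R := (hg _).mp hr
    have h2 := hx _ h1
    calc r * x = g⁻¹ * ((g * r * g⁻¹) * (g * x * g⁻¹)) * g := by group
      _ = g⁻¹ * ((g * x * g⁻¹) * (g * r * g⁻¹)) * g := by rw [h2]
      _ = x * r := by group

theorem normalizer_le (R : Subgroup G) (n : ℕ) :
    normalizer (R : Set G) ≤ normalizer (seqIn R n : Set G) ∧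
      normalizer (R : Set G) ≤ normalizer (highIn R : Set G) := by
  have key : ∀ g ∈ normalizer (R : Set G), ((MulAut.conj g).toMonoidHom.comp R.subtype).range = R := by
    intro g hg
    rw [MonoidHom.range_comp, range_subtype]
    exact map_conj_eq_of_mem_normalizer hg
  constructor
  · intro g hg
    refine mem_normalizer_of_map_conj_eq ?_
    rw [seqIn, map_map]
    exact seq_eq_of_range _ _ ((MulAut.conj g).injective.comp R.subtype_injective) R.subtype_injective
      ((key g hg).trans R.range_subtype.symm) n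
  · intro g hg
    refine mem_normalizer_of_map_conj_eq ?_
    rw [highIn, map_map]
    exact (lower_eq_of_range _ _ ((MulAut.conj g).injective.comp R.subtype_injective) R.subtype_injective
      ((key g hg).trans R.range_subtype.symm)).2

theorem centralizer_le {p : ℕ} [Fact p.Prime] {R : Subgroup G} (hR : IsPGroup p R) :
    (∀ n, R ⊓ centralizer (seqIn R (n + 1) : Set G) ≤ seqIn R (n + 1)) ∧
      R ⊓ centralizer (lowIn R : Set G) ≤ lowIn R ∧ R ⊓ centralizer (highIn R : Set G) ≤ highIn R := by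
  obtain ⟨A, hA, hAc, -⟩ := Local.Puig.centralizer_le hR
  have key : ∀ W : Subgroup ↥R, A ≤ W →
      R ⊓ centralizer ((W.map R.subtype : Subgroup G) : Set G) ≤ W.map R.subtype := by
    intro W hW x hx
    exact ⟨⟨x, hx.1⟩, hAc W hW fun w hw => Subtype.ext (hx.2 w ⟨w, hw, rfl⟩), rfl⟩
  obtain ⟨k, hk⟩ := Local.Puig.exists_stable (G := ↥R)
  refine ⟨fun n => key _ (hA _ n.succ_pos), key _ ?_, key _ ?_⟩
  · rw [← (hk (k + 1) k.le_succ).1]; exact hA _ (by omega)
  · rw [← (hk k le_rfl).2]; exact hA _ (by omega)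

/-- `L_*(S) ≤ L_*(T) ≤ L(T) ≤ L(S)` for `T = O_p(G)`. -/
theorem chain {p : ℕ} [Fact p.Prime] [Group.IsSolvable G] (hp2 : p ≠ 2) (hodd : Odd (Nat.card G))
    (hO : Cfsg.pPrimeCore p G = ⊥) (S : Sylow p G) :
    lowIn (S : Subgroup G) ≤ lowIn (Cfsg.pCore p G) ∧
      highIn (Cfsg.pCore p G) ≤ highIn (S : Subgroup G) := by
  set T := Cfsg.pCore p G
  set SS : Subgroup G := (S : Subgroup G) with hSS
  haveI hTn : T.Normal := Subgroup.sSup_normal _ (fun _ h => h.1)
  have hTS : T ≤ SS := pCore_le_sylow S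
  have hn : ∀ n, seqIn SS (2 * n) ≤ seqIn T (2 * n) ∧ seqIn T (2 * n + 1) ≤ seqIn SS (2 * n + 1) := by
    intro n
    induction n with
    | zero => exact ⟨by simp [seqIn, puigSeq], by rw [seqIn_one, seqIn_one]; exact hTS⟩
    | succ n ih =>
      have h1 : seqIn SS (2 * n + 1 + 1) ≤ seqIn T (2 * n + 1 + 1) := by
        refine seqIn_succ_le fun B hB hc hnB => ?_
        have hnB' : seqIn T (2 * n + 1) ≤ normalizer (B : Set G) := ih.2.trans hnB
        haveI : (seqIn T (2 * n + 1)).Normal := normalizer_eq_top_iff.mp (top_le_iff.mp (by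
          have h := (normalizer_le T (2 * n + 1)).1
          rwa [normalizer_eq_top] at h))
        have hle := OddStable.abelian_generated_le hp2 hodd (seqIn T (2 * n + 1))
          ((isPGroup_pCore p G).to_le (map_subtype_le _)) {B}
          (fun B' hB' => by rw [Set.mem_singleton_iff] at hB'; subst hB'; exact ⟨hc, hnB'⟩) hO
          ((centralizer_le (isPGroup_pCore p G)).1 (2 * n))
        rw [sSup_singleton] at hle
        exact le_seqIn_succ hle hc hnB'
      refine ⟨h1, seqIn_succ_le fun B hB hc hnB => le_seqIn_succ (hB.trans hTS) hc ?_⟩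
      exact (h1.trans hnB : _)
  constructor
  · rw [lowIn, Cfsg.puigLower, Subgroup.map_iSup]
    exact iSup_le fun n => (hn n).1.trans (map_mono (le_iSup (fun n => puigSeq ↥T (2 * n)) n))
  · obtain ⟨k, hk⟩ := Local.Puig.exists_stable (G := ↥T)
    obtain ⟨l, hl⟩ := Local.Puig.exists_stable (G := ↥SS)
    rw [highIn, highIn, ← (hk (max k l) (le_max_left _ _)).2, ← (hl (max k l) (le_max_right _ _)).2]
    exact (hn _).2

/-- `L(R) = L(S)` if `L(S) ≤ R ≤ S`. -/
theorem high_eq_of_between {S R : Subgroup G} (h1 : highIn S ≤ R) (h2 : R ≤ S) :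
    highIn R = highIn S := by
  obtain ⟨k, hk⟩ := Local.Puig.exists_stable (G := ↥S)
  obtain ⟨l, hl⟩ := Local.Puig.exists_stable (G := ↥R)
  have heven : ∀ n, seqIn S (2 * n) ≤ highIn S := fun n =>
    (map_mono (le_iSup (fun n => puigSeq ↥S (2 * n)) n)).trans (lowIn_le_highIn S)
  have hn : ∀ n, (seqIn S (2 * n) ≤ seqIn R (2 * n) ∧ seqIn R (2 * n + 1) ≤ seqIn S (2 * n + 1)) ∧
      (seqIn R (2 * n) ≤ lowIn S ∧ highIn S ≤ seqIn R (2 * n + 1)) := by
    intro n
    induction n with
    | zero => exact ⟨⟨by simp [seqIn, puigSeq], by rw [seqIn_one, seqIn_one]; exact h2⟩,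
        by simp [seqIn, puigSeq], by rw [seqIn_one]; exact h1⟩
    | succ n ih =>
      have a1 : seqIn S (2 * n + 1 + 1) ≤ seqIn R (2 * n + 1 + 1) := seqIn_succ_le fun B hB hc hnB =>
        le_seqIn_succ (((le_seqIn_succ hB hc hnB).trans (heven (n + 1))).trans h1) hc (ih.1.2.trans hnB)
      have a2 : seqIn R (2 * n + 1 + 1) ≤ lowIn S := seqIn_succ_le fun B hB hc hnB =>
        le_lowIn (hB.trans h2) hc (ih.2.2.trans hnB)
      refine ⟨⟨a1, seqIn_succ_le fun B hB hc hnB => le_seqIn_succ (hB.trans h2) hc (a1.trans hnB : _)⟩, a2,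
        highIn_le_iff S fun B hB hc hnB =>
          le_seqIn_succ (((le_highIn hB hc hnB).trans h1)) hc (a2.trans hnB : _)⟩
  have e := (hn (max k l))
  rw [highIn, highIn, ← (hl (max k l) (le_max_right _ _)).2]
  refine le_antisymm ?_ e.2.2
  rw [← (hk (max k l) (le_max_left _ _)).2]
  exact e.1.2

/-- The centre of the Puig subgroup, inside the ambient group. -/
theorem zHigh_eq (R : Subgroup G) :
    ((center ↥(puigSubgroup ↥R)).map (puigSubgroup ↥R).subtype).map R.subtype =
      highIn R ⊓ centralizer (highIn R : Set G) := by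
  ext x
  constructor
  · rintro ⟨y, ⟨z, hz, rfl⟩, rfl⟩
    refine ⟨⟨z, z.2, rfl⟩, ?_⟩
    rintro _ ⟨w, hw, rfl⟩
    exact congrArg (fun q : ↥(puigSubgroup ↥R) => ((q : ↥R) : G)) (mem_center_iff.mp hz ⟨w, hw⟩)
  · rintro ⟨⟨y, hy, rfl⟩, hx⟩
    refine ⟨y, ⟨⟨y, hy⟩, mem_center_iff.mpr fun w => Subtype.ext (Subtype.ext ?_), rfl⟩, rfl⟩
    exact hx w ⟨w, w.2, rfl⟩

/-- Glauberman–Puig: `Z(L(S))` is normal when `O_{p'}(G) = 1`. -/
theorem center_normal {p : ℕ} [Fact p.Prime] [Group.IsSolvable G] (hp2 : p ≠ 2) (hodd : Odd (Nat.card G))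
    (hO : Cfsg.pPrimeCore p G = ⊥) (S : Sylow p G) :
    (highIn (S : Subgroup G) ⊓ centralizer (highIn (S : Subgroup G) : Set G)).Normal := by
  set T := Cfsg.pCore p G
  set SS : Subgroup G := (S : Subgroup G) with hSS
  haveI hTn : T.Normal := Subgroup.sSup_normal _ (fun _ h => h.1)
  have hTS : T ≤ SS := pCore_le_sylow S
  obtain ⟨hlow, hhigh⟩ := chain hp2 hodd hO S
  obtain ⟨-, hcl, -⟩ := centralizer_le (p := p) (R := SS) S.2
  set Z := highIn SS ⊓ centralizer (highIn SS : Set G)
  set Y := highIn T ⊓ centralizer (highIn T : Set G) with hYdef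
  haveI : (highIn T).Normal := normalizer_eq_top_iff.mp (top_le_iff.mp (by
    have h := (normalizer_le T 0).2
    rwa [normalizer_eq_top] at h))
  haveI hYn : Y.Normal := inferInstance
  have hcT := (centralizer_le (p := p) (R := T) (isPGroup_pCore p G)).2.2
  have hZT : Z ≤ T := (le_inf (inf_le_left.trans (map_subtype_le _))
    (inf_le_right.trans (Subgroup.centralizer_le (lowIn_le_highIn SS)))).trans
      (hcl.trans (hlow.trans (map_subtype_le _)))
  have hZY : Z ≤ Y := by
    have h : Z ≤ centralizer (highIn T : Set G) := inf_le_right.trans (Subgroup.centralizer_le hhigh)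
    exact le_inf ((le_inf hZT h).trans hcT) h
  have hYc : IsMulCommutative Y := ⟨⟨fun a b => Subtype.ext (b.2.2 a a.2.1)⟩⟩
  have hYS : Y ≤ lowIn SS := le_lowIn (inf_le_left.trans ((map_subtype_le _).trans hTS)) hYc
    (by rw [normalizer_eq_top]; exact le_top)
  have hYp : IsPGroup p Y := (isPGroup_pCore p G).to_le (inf_le_left.trans (map_subtype_le _))
  set C := centralizer (Y : Set G)
  set D := (Cfsg.pCore p (G ⧸ C)).comap (QuotientGroup.mk' C) with hD
  haveI : D.Normal := (Subgroup.sSup_normal _ (fun _ h => h.1) : (Cfsg.pCore p (G ⧸ C)).Normal).comap _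
  have hLD : highIn SS ≤ D := highIn_le_iff SS fun B hB hc hnB => by
    have h := OddStable.abelian_generated hp2 hodd Y hYp {B}
      (fun B' hB' => by rw [Set.mem_singleton_iff] at hB'; subst hB'; exact ⟨hc, hYS.trans hnB⟩)
    rw [sSup_singleton] at h
    exact map_le_iff_le_comap.mp h
  set R := SS ⊓ D with hR
  have hLR : highIn R = highIn SS := high_eq_of_between (le_inf (map_subtype_le _) hLD) inf_le_left
  have hNR : normalizer (R : Set G) ≤ normalizer (Z : Set G) := by
    intro g hg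
    have h := (normalizer_le R 0).2 hg
    rw [hLR] at h
    refine mem_normalizer_of_map_conj_eq ?_
    rw [Subgroup.map_inf _ _ _ (MulAut.conj g).injective, map_conj_eq_of_mem_normalizer h,
      map_conj_eq_of_mem_normalizer (normalizer_le_normalizer_centralizer _ h)]
  have hCZ : C ≤ normalizer (Z : Set G) :=
    (Subgroup.centralizer_le hZY).trans (Subgroup.centralizer_le_normalizer (Z : Set G))
  obtain ⟨P, hP⟩ := ZJ.exists_sylow_inf S D
  have hFr := Sylow.normalizer_sup_eq_top P
  have hPR : (P : Subgroup ↥D).map D.subtype = R := hP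
  rw [hPR] at hFr
  -- `D` is generated by the centralizer and the Sylow subgroup
  have hDle : D ≤ normalizer (Z : Set G) := by
    haveI : (C.subgroupOf D).Normal := inferInstance
    have hq : IsPGroup p (↥D ⧸ C.subgroupOf D) := by
      intro y
      induction y using QuotientGroup.induction_on with
      | _ d =>
        obtain ⟨k, hk⟩ := isPGroup_pCore p (G ⧸ C) ⟨((d : G) : G ⧸ C), d.2⟩
        refine ⟨k, ?_⟩
        rw [← QuotientGroup.mk_pow, QuotientGroup.eq_one_iff, mem_subgroupOf, SubgroupClass.coe_pow,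
          ← QuotientGroup.eq_one_iff, QuotientGroup.mk_pow]
        exact congrArg Subtype.val hk
    have htop : (P : Subgroup ↥D) ⊔ C.subgroupOf D = ⊤ := by
      obtain ⟨k, hk⟩ := hq.exists_card_eq
      rw [← index_eq_card] at hk
      have h1 : ((P : Subgroup ↥D) ⊔ C.subgroupOf D).index ∣ p ^ k := hk ▸ index_dvd_of_le le_sup_right
      obtain ⟨j, -, hj⟩ := (Nat.dvd_prime_pow (Fact.out : p.Prime)).mp h1
      rcases j with _ | j
      · rw [pow_zero] at hj
        exact index_eq_one.mp hj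
      · exact absurd ((dvd_pow_self p (Nat.succ_ne_zero j)).trans (hj ▸ index_dvd_of_le le_sup_left))
          P.not_dvd_index
    intro x hx
    have hxm : (⟨x, hx⟩ : ↥D) ∈ (normalizer (Z : Set G)).subgroupOf D := by
      have : (P : Subgroup ↥D) ⊔ C.subgroupOf D ≤ (normalizer (Z : Set G)).subgroupOf D := by
        refine sup_le ?_ (comap_mono hCZ)
        intro x hxP
        rw [mem_subgroupOf]
        have hs : (x : G) ∈ SS := (hP.le ⟨x, hxP, rfl⟩).1
        revert hs
        generalize (x : G) = s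
        intro hs
        refine mem_normalizer_of_map_conj_eq ?_
        have h := (normalizer_le SS 0).2 (le_normalizer hs)
        rw [Subgroup.map_inf _ _ _ (MulAut.conj s).injective, map_conj_eq_of_mem_normalizer h,
          map_conj_eq_of_mem_normalizer (normalizer_le_normalizer_centralizer _ h)]
      exact this (by rw [htop]; exact mem_top _)
    exact mem_subgroupOf.mp hxm
  apply normalizer_eq_top_iff.mp
  rw [eq_top_iff, ← hFr]
  exact sup_le hNR hDle

/-- `G = O_{p'}(G) N_G(Z(L(S)))`. -/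
theorem center_factor {p : ℕ} [Fact p.Prime] [Group.IsSolvable G] (hp2 : p ≠ 2) (hodd : Odd (Nat.card G))
    (S : Sylow p G) :
    Cfsg.pPrimeCore p G ⊔
      normalizer ((highIn (S : Subgroup G) ⊓ centralizer (highIn (S : Subgroup G) : Set G) : Subgroup G) : Set G) = ⊤ := by
  set K := Cfsg.pPrimeCore p G
  set SS := (S : Subgroup G) with hSS
  set Z := highIn SS ⊓ centralizer (highIn SS : Set G)
  let π := QuotientGroup.mk' K
  have hdisj : ∀ s ∈ SS, π s = 1 → s = 1 := by
    intro s hs h1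
    have h2 : s ∈ K := (QuotientGroup.eq_one_iff s).mp h1
    obtain ⟨k, hk⟩ := S.2 ⟨s, hs⟩
    have h3 : s ^ p ^ k = 1 := congrArg Subtype.val hk
    have h4 : orderOf s ∣ Nat.card K := orderOf_dvd_natCard _ h2
    have hcop : (Nat.card K).Coprime p := card_pPrimeCore_coprime p G
    exact orderOf_eq_one_iff.mp (Nat.eq_one_of_dvd_coprimes (hcop.pow_right k) h4 (orderOf_dvd_of_pow_eq_one h3))
  have hψ : Function.Injective (π.comp SS.subtype) := by
    rw [injective_iff_map_eq_one]
    intro s hs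
    exact Subtype.ext (hdisj s s.2 hs)
  let S' : Sylow p (G ⧸ K) := S.mapSurjective (QuotientGroup.mk'_surjective K)
  have hS' : (S' : Subgroup (G ⧸ K)) = SS.map π := Sylow.coe_mapSurjective _ _
  have hmapL : (highIn SS).map π = highIn (S' : Subgroup (G ⧸ K)) := by
    rw [highIn, map_map]
    exact (lower_eq_of_range _ _ hψ (S' : Subgroup (G ⧸ K)).subtype_injective
      (by rw [range_subtype, hS', MonoidHom.range_comp, range_subtype])).2
  have hmapZ : Z.map π = highIn (S' : Subgroup (G ⧸ K)) ⊓ centralizer (highIn (S' : Subgroup (G ⧸ K)) : Set (G ⧸ K)) := by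
    ext y
    constructor
    · rintro ⟨z, hz, rfl⟩
      rw [← hmapL]
      refine ⟨⟨z, hz.1, rfl⟩, ?_⟩
      rintro _ ⟨w, hw, rfl⟩
      rw [← map_mul, ← map_mul, hz.2 w hw]
    · rw [← hmapL]
      rintro ⟨⟨z, hz, rfl⟩, hc⟩
      refine ⟨z, ⟨hz, fun w hw => ?_⟩, rfl⟩
      have h := hc (π w) ⟨w, hw, rfl⟩
      have hwS : w ∈ SS := map_subtype_le _ hw
      have hzS : z ∈ SS := map_subtype_le _ hz
      exact congrArg Subtype.val (hψ (a₁ := ⟨w, hwS⟩ * ⟨z, hzS⟩) (a₂ := ⟨z, hzS⟩ * ⟨w, hwS⟩)
        (by simpa [π] using h))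
  have hn : (Z.map π).Normal := by
    rw [hmapZ]
    exact center_normal hp2 (hodd.of_dvd_nat (card_quotient_dvd_card K)) (pPrimeCore_quotient_pPrimeCore p) S'
  have hKZ : (K ⊔ Z).Normal := by
    have h := hn.comap π
    rwa [show (Z.map π).comap π = K ⊔ Z by rw [comap_map_eq, QuotientGroup.ker_mk', sup_comm]] at h
  haveI := hKZ
  have hZp : IsPGroup p Z := S.2.to_le (inf_le_left.trans (map_subtype_le _))
  have hZle : Z ≤ K ⊔ Z := le_sup_right
  have hrel : ¬ p ∣ (Z.subgroupOf (K ⊔ Z)).index := by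
    change ¬ p ∣ Z.relIndex (K ⊔ Z)
    intro hd
    have hcop : (Nat.card K).Coprime p := card_pPrimeCore_coprime p G
    have e1 := card_mul_index (Z.subgroupOf (K ⊔ Z))
    rw [Nat.card_congr (subgroupOfEquivOfLe hZle).toEquiv] at e1
    have e2 := card_mul_index (K.subgroupOf (K ⊔ Z))
    rw [Nat.card_congr (subgroupOfEquivOfLe le_sup_left).toEquiv] at e2
    have e3 : (K.subgroupOf (K ⊔ Z)).index ∣ Nat.card Z := by
      change K.relIndex (K ⊔ Z) ∣ _
      rw [sup_comm, relIndex_sup_right]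
      exact relIndex_dvd_card K Z
    have e4 : (Z.subgroupOf (K ⊔ Z)).index ∣ Nat.card K := by
      have h : Nat.card Z * (Z.subgroupOf (K ⊔ Z)).index ∣ Nat.card Z * Nat.card K := by
        rw [e1, ← e2, mul_comm (Nat.card Z)]
        exact mul_dvd_mul_left _ e3
      exact (Nat.mul_dvd_mul_iff_left Nat.card_pos).mp h
    exact (Fact.out : p.Prime).ne_one (Nat.eq_one_of_dvd_coprimes hcop (hd.trans e4) dvd_rfl)
  let P : Sylow p ↥(K ⊔ Z) := (hZp.of_equiv (subgroupOfEquivOfLe hZle).symm).toSylow hrel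
  have hFr := Sylow.normalizer_sup_eq_top P
  have hPmap : (P : Subgroup ↥(K ⊔ Z)).map (K ⊔ Z).subtype = Z := by
    rw [IsPGroup.toSylow_coe, map_subgroupOf_eq_of_le hZle]
  rw [hPmap] at hFr
  rw [eq_top_iff, ← hFr]
  exact sup_le le_sup_right (sup_le le_sup_left (le_normalizer.trans le_sup_right))

end Cfsg.Agent.Solv.PuigZ
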