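import Cfsg.Agent.Lib.Solv.KApps

/-!
Characteristic subgroups of a Sylow subgroup of `Qd(p)` are not normal.
-/

set_option autoImplicit false
set_option linter.style.haveILetI false
set_option linter.unusedSectionVars false

namespace Cfsg.Agent.Solv.QdChar

open Subgroup Local

variable {p : ℕ} [Fact p.Prime]

theorem qdElt_third {a b c e r s a' b' c' e' r' s' : ZMod p} {h : a * e - b * c = 1}
    {h' : a' * e' - b' * c' = 1} (heq : qdElt a b c e r s h = qdElt a' b' c' e' r' s' h') :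
    r = r' ∧ s = s' := by
  have h0 := congrArg (fun q : qd p => ((q : Matrix.SpecialLinearGroup (Fin 3) (ZMod p)) :
    Matrix (Fin 3) (Fin 3) (ZMod p))) heq
  have h1 := congrFun (congrFun h0 0) 2
  have h2 := congrFun (congrFun h0 1) 2
  simp [qdElt, affMat] at h1 h2
  exact ⟨h1, h2⟩

theorem qdElt_inv_one (b r s : ZMod p) :
    (qdElt 1 b 0 1 r s (by ring) : qd p)⁻¹ = qdElt 1 (-b) 0 1 (b * s - r) (-s) (by ring) := by
  refine inv_eq_of_mul_eq_one_right ?_
  rw [qdElt_mul]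
  exact (qdElt_congr _ _ (by ring) (by ring) (by ring) (by ring) (by ring) (by ring)).trans qdElt_one

/-- The automorphism exchanging the two elementary subgroups. -/
theorem exists_aut : ∃ φ : (KInf.qdU (p := p)) ≃* (KInf.qdU (p := p)), ∀ (b r s : ZMod p) (x : KInf.qdU (p := p)),
    (x : qd p) = qdElt 1 b 0 1 r s (by ring) → ((φ x : KInf.qdU (p := p)) : qd p) = qdElt 1 (-s) 0 1 (b * s - r) (-b) (by ring) := by
  let e : qd p → ZMod p × ZMod p × ZMod p := fun q =>
    (((q : Matrix.SpecialLinearGroup (Fin 3) (ZMod p)) : Matrix (Fin 3) (Fin 3) (ZMod p)) 0 1,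
      ((q : Matrix.SpecialLinearGroup (Fin 3) (ZMod p)) : Matrix (Fin 3) (Fin 3) (ZMod p)) 0 2,
      ((q : Matrix.SpecialLinearGroup (Fin 3) (ZMod p)) : Matrix (Fin 3) (Fin 3) (ZMod p)) 1 2)
  have he : ∀ b r s : ZMod p, e (qdElt 1 b 0 1 r s (by ring)) = (b, r, s) := fun b r s => by
    simp [e, qdElt, affMat]
  have hm : ∀ b r s : ZMod p, qdElt 1 b 0 1 r s (by ring) ∈ KInf.qdU (p := p) := fun b r s => ⟨b, r, s, rfl⟩
  let f : KInf.qdU (p := p) → KInf.qdU (p := p) := fun x =>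
    ⟨_, hm (-(e x).2.2) ((e x).1 * (e x).2.2 - (e x).2.1) (-(e x).1)⟩
  have hf : ∀ (b r s : ZMod p) (x : KInf.qdU (p := p)), (x : qd p) = qdElt 1 b 0 1 r s (by ring) →
      ((f x : KInf.qdU (p := p)) : qd p) = qdElt 1 (-s) 0 1 (b * s - r) (-b) (by ring) := fun b r s x hx => by
    simp only [f]
    exact qdElt_congr _ _ rfl (by rw [hx, he]) rfl rfl (by rw [hx, he]) (by rw [hx, he])
  have hinv : ∀ x, f (f x) = x := fun x => by
    obtain ⟨b, r, s, hx⟩ := x.2
    apply Subtype.ext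
    rw [hf _ _ _ (f x) (hf b r s x hx), hx]
    exact qdElt_congr _ _ rfl (by ring) rfl rfl (by ring) (by ring)
  refine ⟨{ toFun := f, invFun := f, left_inv := hinv, right_inv := hinv, map_mul' := fun x y => ?_ }, hf⟩
  obtain ⟨b, r, s, hx⟩ := x.2
  obtain ⟨b', r', s', hy⟩ := y.2
  apply Subtype.ext
  have hxy : ((x * y : KInf.qdU (p := p)) : qd p) = qdElt 1 (b + b') 0 1 (r + r' + b * s') (s + s') (by ring) := by
    rw [Subgroup.coe_mul, hx, hy, qdElt_mul]
    exact qdElt_congr _ _ (by ring) (by ring) (by ring) (by ring) (by ring) (by ring)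
  rw [hf _ _ _ (x * y) hxy, Subgroup.coe_mul, hf b r s x hx, hf b' r' s' y hy, qdElt_mul]
  exact qdElt_congr _ _ (by ring) (by ring) (by ring) (by ring) (by ring) (by ring)

/-- The normalizer of the Sylow subgroup. -/
theorem mem_normalizer_qdU {a b c e r s : ZMod p} {h : a * e - b * c = 1} :
    qdElt a b c e r s h ∈ normalizer ((KInf.qdU (p := p)) : Set (qd p)) ↔ c = 0 := by
  constructor
  · intro hg
    obtain ⟨b', r', s', hx⟩ := (mem_normalizer_iff.mp hg (Quad.qdT (p := p))).mp ⟨1, 0, 0, rfl⟩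
    rw [mul_inv_eq_iff_eq_mul, Quad.qdT, qdElt_mul, qdElt_mul] at hx
    obtain ⟨-, -, -, hx4⟩ := KInf.qdElt_entries hx
    linear_combination hx4
  · intro hc
    subst hc
    rw [mem_normalizer_iff_map_conj_eq]
    refine eq_of_le_of_card_ge ?_ (card_map_of_injective (MulAut.conj _).injective).ge
    rintro _ ⟨_, ⟨b', r', s', rfl⟩, rfl⟩
    refine ⟨a * a * b', a * r' + b * s' - a * a * b' * s, e * s', ?_⟩
    change qdElt a b 0 e r s h * qdElt 1 b' 0 1 r' s' _ * (qdElt a b 0 e r s h)⁻¹ = _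
    rw [mul_inv_eq_iff_eq_mul, qdElt_mul, qdElt_mul]
    exact qdElt_congr _ _ (by ring) (by linear_combination (-(a * b')) * h) (by ring) (by ring) (by ring) (by ring)

/-- A nontrivial characteristic subgroup of the Sylow subgroup has the same normalizer. -/
theorem normalizer_le_of_invariant (W : Subgroup (qd p)) (hWU : W ≤ KInf.qdU) (hW : W ≠ ⊥)
    (hWn : KInf.qdU ≤ normalizer (W : Set (qd p)))
    (hφ : ∀ φ : (KInf.qdU (p := p)) ≃* (KInf.qdU (p := p)), ∀ x : KInf.qdU (p := p), (x : qd p) ∈ W → ((φ x : KInf.qdU (p := p)) : qd p) ∈ W) :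
    normalizer (W : Set (qd p)) ≤ normalizer ((KInf.qdU (p := p)) : Set (qd p)) := by
  intro g hg
  obtain ⟨a, b, c, e, r, s, h, rfl⟩ := exists_qdElt g
  rw [mem_normalizer_qdU]
  by_contra hc
  -- the central translations
  have hscal : ∀ (x y k : ZMod p), Local.trans x y ∈ W → Local.trans (k * x) (k * y) ∈ W := fun x y k hz => by
    have h1 := W.pow_mem hz k.val
    rwa [Local.trans_pow, ZMod.natCast_zmod_val] at h1
  obtain ⟨r0, hr0, hr0W⟩ : ∃ r0 : ZMod p, r0 ≠ 0 ∧ Local.trans r0 0 ∈ W := by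
    obtain ⟨w, hw, hw1⟩ := (bot_or_exists_ne_one W).resolve_left hW
    obtain ⟨b1, r1, s1, rfl⟩ := hWU hw
    have hcomm : ∀ b2 s2 : ZMod p, Local.trans (b2 * s1 - b1 * s2) 0 ∈ W := by
      intro b2 s2
      have h1 := W.mul_mem ((mem_normalizer_iff.mp (hWn (⟨b2, 0, s2, rfl⟩ : qdElt 1 b2 0 1 0 s2 (by ring) ∈ KInf.qdU)) _).mp hw)
        (W.inv_mem hw)
      convert h1 using 1
      rw [qdElt_inv_one, qdElt_inv_one, qdElt_mul, qdElt_mul, qdElt_mul]
      exact qdElt_congr _ _ (by ring) (by ring) (by ring) (by ring) (by ring) (by ring)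
    by_cases hs : s1 = 0
    · by_cases hb : b1 = 0
      · subst hs hb
        refine ⟨r1, fun h0 => hw1 ?_, hw⟩
        subst h0
        exact qdElt_one
      · exact ⟨0 * s1 - b1 * 1, by simpa using hb, hcomm 0 1⟩
    · exact ⟨1 * s1 - b1 * 0, by simpa using hs, hcomm 1 0⟩
  -- the translations
  have hV : ∀ x y : ZMod p, Local.trans x y ∈ W := by
    have h1 := (mem_normalizer_iff.mp hg _).mp hr0W
    have h2 : Local.trans (a * r0) (c * r0) ∈ W := by
      convert h1 using 1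
      rw [eq_mul_inv_iff_mul_eq, Local.trans, Local.trans, qdElt_mul, qdElt_mul]
      exact qdElt_congr _ _ (by ring) (by ring) (by ring) (by ring) (by ring) (by ring)
    intro x y
    have h3 := W.mul_mem (hscal _ _ (y / (c * r0)) h2) (hscal r0 0 ((x - y / c * a) / r0) hr0W)
    rw [Local.trans_mul] at h3
    convert h3 using 2 <;> field_simp <;> ring
  -- everything
  obtain ⟨φ, hφe⟩ := exists_aut (p := p)
  have hb : qdElt 1 (-1) 0 1 0 0 (by ring) ∈ W := by
    have h1 := hφ φ ⟨Local.trans 0 1, ⟨0, 0, 1, rfl⟩⟩ (hV 0 1)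
    rw [hφe 0 0 1 _ rfl] at h1
    convert h1 using 1
    exact qdElt_congr _ _ rfl rfl rfl rfl (by ring) (by ring)
  have hT : Quad.qdT (p := p) ∈ W := by
    have h1 := W.inv_mem hb
    rw [qdElt_inv_one] at h1
    convert h1 using 1
    exact qdElt_congr _ _ rfl (by ring) rfl rfl (by ring) (by ring)
  obtain ⟨b', r', s', hx⟩ := hWU ((mem_normalizer_iff.mp hg _).mp hT)
  rw [mul_inv_eq_iff_eq_mul, Quad.qdT, qdElt_mul, qdElt_mul] at hx
  obtain ⟨-, -, -, hx4⟩ := KInf.qdElt_entries hx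
  exact hc (by linear_combination hx4)

theorem normalizer_qdU_ne_top : normalizer ((KInf.qdU (p := p)) : Set (qd p)) ≠ ⊤ := by
  intro h
  have h1 := h.ge (mem_top (qdElt 0 1 (-1) 0 0 0 (by ring) : qd p))
  rw [mem_normalizer_qdU, neg_eq_zero] at h1
  exact one_ne_zero h1

end Cfsg.Agent.Solv.QdChar
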