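import Cfsg.Agent.Lib.Solv.QuadraticPair
import Cfsg.Agent.Lib.Solv.AbelianAction
import Cfsg.Agent.Lib.Solv.Thompson
import Cfsg.Agent.Lib.Solv.PSolvable
import Cfsg.Agent.Lib.Inv.BaerSuzuki
import Cfsg.Agent.Lib.Classical.Linear

/-!
Quadratic elements outside `O_p` produce sections isomorphic to `SL(2, p)`, non-abelian Sylow
`2`-subgroups, and force `p = 3` in the `p`-solvable case.
-/

set_option autoImplicit false
set_option linter.style.haveILetI false
set_option linter.unusedSectionVars false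

namespace Cfsg.Agent.Solv.Quad

open Subgroup
open scoped Pointwise commutatorElement MatrixGroups

variable {p : ℕ} [Fact p.Prime]

/-- `X` involves `SL(2, p)`. -/
def InvSL (p : ℕ) (X : Type*) [Group X] : Prop :=
  ∃ (S : Subgroup X) (ψ : S →* Matrix.SpecialLinearGroup (Fin 2) (ZMod p)), Function.Surjective ψ

theorem InvSL.of_subgroup {X : Type*} [Group X] {P : Subgroup X} (h : InvSL p P) : InvSL p X := by
  obtain ⟨S, ψ, hψ⟩ := h
  let e := S.equivMapOfInjective P.subtype P.subtype_injective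
  exact ⟨_, ψ.comp e.symm.toMonoidHom, hψ.comp e.symm.surjective⟩

theorem InvSL.of_surjective {X Y : Type*} [Group X] [Group Y] (f : X →* Y)
    (hf : Function.Surjective f) (h : InvSL p Y) : InvSL p X := by
  obtain ⟨S, ψ, hψ⟩ := h
  refine ⟨S.comap f, ψ.comp (f.subgroupComap S), hψ.comp ?_⟩
  rintro ⟨y, hy⟩
  obtain ⟨x, rfl⟩ := hf y
  exact ⟨⟨x, hy⟩, rfl⟩

/-- Quadratic action of an element through a homomorphism into `MulAut V`. -/
def QuadAct {X V : Type*} [Group X] [CommGroup V] (φ : X →* MulAut V) (a : X) : Prop :=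
  ∀ v : V, φ a (φ a v / v) = φ a v / v

theorem QuadAct.conj {X V : Type*} [Group X] [CommGroup V] {φ : X →* MulAut V} {a : X}
    (h : QuadAct φ a) (g : X) : QuadAct φ (g * a * g⁻¹) := by
  intro v
  have e : ∀ x : V, φ (g * a * g⁻¹) x = φ g (φ a (φ g⁻¹ x)) := fun x => by
    simp [map_mul]
  have e2 : ∀ x : V, φ g⁻¹ (φ g x) = x := fun x => by simp
  have e3 : v = φ g (φ g⁻¹ v) := by simp
  have e4 : φ (g * a * g⁻¹) v / v = φ g (φ a (φ g⁻¹ v) / φ g⁻¹ v) := by
    rw [map_div, ← e3, e]
  rw [e4, e, e2, h]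

/-- The linear representation on an elementary abelian `p`-group. -/
theorem exists_linear {X V : Type*} [Group X] [CommGroup V] (hexp : ∀ v : V, v ^ p = 1)
    (φ : X →* MulAut V) :
    ∃ (_ : Module (ZMod p) (Additive V)) (ρ : X →* (Additive V ≃ₗ[ZMod p] Additive V)),
      (Function.Injective φ → Function.Injective ρ) ∧ ∀ a, QuadAct φ a → IsQuad (ρ a) := by
  obtain ⟨inst⟩ : Nonempty (Module (ZMod p) (Additive V)) :=
    ⟨AddCommGroup.zmodModule fun v => by
      show Additive.ofMul (v.toMul ^ p) = 0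
      rw [hexp]; rfl⟩
  let L : X → (Additive V ≃ₗ[ZMod p] Additive V) := fun x =>
    LinearEquiv.ofLinearMap ((MonoidHom.toAdditive (φ x).toMonoidHom).toZModLinearMap p)
      ((MonoidHom.toAdditive (φ x⁻¹).toMonoidHom).toZModLinearMap p)
      (LinearMap.ext fun v => congrArg Additive.ofMul
        (show φ x (φ x⁻¹ v.toMul) = v.toMul by simp))
      (LinearMap.ext fun v => congrArg Additive.ofMul
        (show φ x⁻¹ (φ x v.toMul) = v.toMul by simp))
  have hL : ∀ (x : X) (v : Additive V), (L x) v = Additive.ofMul (φ x v.toMul) := fun _ _ => rfl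
  let ρ : X →* (Additive V ≃ₗ[ZMod p] Additive V) := MonoidHom.mk' L fun a b =>
    LinearEquiv.ext fun v => by
      rw [LinearEquiv.mul_apply, hL, hL, hL, map_mul, toMul_ofMul]
      rfl
  refine ⟨inferInstance, ρ, fun hφ a b h => hφ (MulEquiv.ext fun v => ?_), fun a ha w => ?_⟩
  · exact congrArg Additive.toMul (LinearEquiv.congr_fun h (Additive.ofMul v))
  · exact congrArg Additive.ofMul (ha w.toMul)

theorem QuadAct.pow_prime {X V : Type*} [Group X] [CommGroup V] (hexp : ∀ v : V, v ^ p = 1)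
    {φ : X →* MulAut V} (hφ : Function.Injective φ) {a : X} (h : QuadAct φ a) : a ^ p = 1 := by
  obtain ⟨_, ρ, hρ, hq⟩ := exists_linear (p := p) hexp φ
  exact hρ hφ (by rw [map_pow, (hq a h).pow_char, map_one])

/-- A quadratic pair involves `SL(2, p)`. -/
theorem invSL_of_pair (hp2 : p ≠ 2) {X V : Type*} [Group X] [Finite X] [CommGroup V] [Finite V]
    (hexp : ∀ v : V, v ^ p = 1) (φ : X →* MulAut V) (hφ : Function.Injective φ) (a b : X)
    (hgen : Subgroup.closure ({a, b} : Set X) = ⊤) (ha : QuadAct φ a) (hb : QuadAct φ b)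
    (hnp : ¬ IsPGroup p X) : InvSL p X := by
  obtain ⟨_, ρ, hρ, hq⟩ := exists_linear (p := p) hexp φ
  haveI : Finite (Additive V) := ‹Finite V›
  exact involves_of_pair hp2 ρ (hρ hφ) a b hgen (hq a ha) (hq b hb) hnp

/-- A quadratic element outside `O_p` gives a section `SL(2, p)`. -/
theorem invSL_of_not_mem_pCore (hp2 : p ≠ 2) {X V : Type*} [Group X] [Finite X] [CommGroup V]
    [Finite V] (hexp : ∀ v : V, v ^ p = 1) (φ : X →* MulAut V) (hφ : Function.Injective φ)
    {a : X} (ha : QuadAct φ a) (hna : a ∉ pCore p X) : InvSL p X := by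
  have hap : IsPGroup p (zpowers a) :=
    isPGroup_of_elemAbelian (elemAbelian_zpowers (ha.pow_prime hexp hφ))
  obtain ⟨g, hg⟩ : ∃ g : X, ¬ IsPGroup p ↥(zpowers a ⊔ MulAut.conj g • zpowers a) := by
    by_contra hall
    push Not at hall
    obtain ⟨N, hN, hNp, haN⟩ := Inv.baerSuzuki (zpowers a) hap hall
    exact hna (le_pCore hNp (haN (mem_zpowers a)))
  set b := g * a * g⁻¹ with hb
  set P := Subgroup.closure ({a, b} : Set X) with hP
  have hle : zpowers a ⊔ MulAut.conj g • zpowers a ≤ P := by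
    refine sup_le (zpowers_le.mpr (subset_closure (by simp))) ?_
    intro x hx
    obtain ⟨y, ⟨k, rfl⟩, rfl⟩ := hx
    have hbP : b ∈ P := subset_closure (by simp)
    simpa [hb, MulAut.smul_def] using P.zpow_mem hbP k
  refine InvSL.of_subgroup (P := P) (invSL_of_pair hp2 hexp (φ.comp P.subtype)
    (hφ.comp P.subtype_injective) ⟨a, subset_closure (by simp)⟩ ⟨b, subset_closure (by simp)⟩
    (closure_pair_top a b) ha (ha.conj g) fun h => hg (h.to_le hle))

/-! ### Facts on `SL(2, p)` -/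

theorem exists_nonabelian_two (hp2 : p ≠ 2) :
    ∃ M : Subgroup (Matrix.SpecialLinearGroup (Fin 2) (ZMod p)),
      IsPGroup 2 M ∧ ¬ IsMulCommutative M := by
  classical
  obtain ⟨x, y, hxy⟩ := ZMod.sq_add_sq p (-1 : ZMod p)
  let n : SL(2, ZMod p) := Dickson.negI
  let i : SL(2, ZMod p) := ⟨!![0, 1; -1, 0], by simp [Matrix.det_fin_two]⟩
  let j : SL(2, ZMod p) := ⟨!![x, y; y, -x], by simp [Matrix.det_fin_two]; linear_combination -hxy⟩
  have ei : (i : Matrix (Fin 2) (Fin 2) (ZMod p)) = !![0, 1; -1, 0] := rfl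
  have ej : (j : Matrix (Fin 2) (Fin 2) (ZMod p)) = !![x, y; y, -x] := rfl
  have hi : i * i = n := by
    apply Dickson.sl_ext
    rw [Dickson.val_mul, ei]
    apply Classical.SL2.coord <;> simp [n, Dickson.negI_coe, Matrix.mul_apply, Fin.sum_univ_two]
  have hj : j * j = n := by
    apply Dickson.sl_ext
    rw [Dickson.val_mul, ej]
    apply Classical.SL2.coord <;> simp [n, Dickson.negI_coe, Matrix.mul_apply, Fin.sum_univ_two] <;>
      first | linear_combination hxy | ring
  have hij : i * j = n * (j * i) := by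
    apply Dickson.sl_ext
    rw [Dickson.val_mul, Dickson.val_mul, Dickson.val_mul, ei, ej]
    apply Classical.SL2.coord <;> simp [n, Dickson.negI_coe, Matrix.mul_apply, Fin.sum_univ_two]
  have hc : ∀ g : SL(2, ZMod p), n * g = g * n := fun g => by
    apply Dickson.sl_ext
    rw [Dickson.val_mul, Dickson.val_mul, Dickson.negI_coe, neg_one_mul, mul_neg_one]
  have hn2 : n * n = 1 := by
    apply Dickson.sl_ext
    rw [Dickson.val_mul, Dickson.negI_coe, neg_mul_neg, one_mul, Dickson.val_one]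
  have hn1 : n ≠ 1 := fun h => Dickson.two_ne (F := ZMod p) hp2 (by
    have := congrArg (fun g : SL(2, ZMod p) => (g : Matrix (Fin 2) (Fin 2) (ZMod p)) 0 0) h
    simp [n, Dickson.negI_coe] at this
    linear_combination -this)
  set Z := zpowers n with hZ
  haveI : Z.Normal := ⟨fun z hz g => by
    obtain ⟨k, rfl⟩ := hz
    rw [← ((Commute.zpow_left (hc g) k)).eq, mul_inv_cancel_right]
    exact (zpowers n).zpow_mem (mem_zpowers n) k⟩
  let π := QuotientGroup.mk' Z
  have hnZ : π n = 1 := (QuotientGroup.eq_one_iff n).mpr (mem_zpowers n)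
  have hel : IsElementaryAbelian 2 (zpowers (π i) ⊔ zpowers (π j)) := by
    refine elemAbelian_sup (elemAbelian_zpowers ?_) (elemAbelian_zpowers ?_) ?_
    · rw [pow_two, ← map_mul, hi, hnZ]
    · rw [pow_two, ← map_mul, hj, hnZ]
    · rw [zpowers_le, mem_centralizer_iff]
      rintro _ ⟨k, rfl⟩
      have h : Commute (π i) (π j) := by
        change π i * π j = π j * π i
        rw [← map_mul, hij, map_mul, hnZ, one_mul, map_mul]
      exact (h.symm.zpow_left k).eq
  refine ⟨Subgroup.closure {i, j}, ?_, fun hcomm => ?_⟩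
  · intro m
    refine ⟨2, Subtype.ext ?_⟩
    obtain ⟨m, hm⟩ := m
    have h1 : π m ∈ zpowers (π i) ⊔ zpowers (π j) := by
      have h2 : (Subgroup.closure {i, j}).map π ≤ zpowers (π i) ⊔ zpowers (π j) := by
        rw [MonoidHom.map_closure, closure_le]
        rintro _ ⟨z, rfl | rfl, rfl⟩
        exacts [mem_sup_left (mem_zpowers _), mem_sup_right (mem_zpowers _)]
      exact h2 (mem_map_of_mem π hm)
    have h3 := hel.2 _ h1
    rw [← map_pow] at h3
    obtain ⟨k, hk⟩ : m ^ 2 ∈ Z := (QuotientGroup.eq_one_iff _).mp h3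
    change m ^ (2 ^ 2) = 1
    rw [pow_two 2, pow_mul, ← hk]
    change (n ^ k) ^ 2 = 1
    rw [pow_two, ← (Commute.refl n).mul_zpow k, hn2, one_zpow]
  · have h := congrArg Subtype.val (hcomm.is_comm.comm
      (⟨i, subset_closure (by simp)⟩ : Subgroup.closure ({i, j} : Set _))
      ⟨j, subset_closure (by simp)⟩)
    change i * j = j * i at h
    rw [hij] at h
    exact hn1 (mul_eq_right.mp h)

theorem InvSL.not_comm_sylow {X : Type*} [Group X] [Finite X] (hp2 : p ≠ 2) (h : InvSL p X)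
    (T : Sylow 2 X) : ¬ IsMulCommutative T := by
  obtain ⟨S, ψ, hψ⟩ := h
  obtain ⟨M, hM, hMc⟩ := exists_nonabelian_two (p := p) hp2
  intro hT
  apply hMc
  obtain ⟨U⟩ : Nonempty (Sylow 2 S) := inferInstance
  obtain ⟨Q, hQ⟩ := (U.isPGroup'.map S.subtype).exists_le_sylow
  obtain ⟨g, hg⟩ := MulAction.exists_smul_eq X T Q
  have hQc : IsMulCommutative (Q : Subgroup X) := by
    rw [← hg]
    change IsMulCommutative ((T : Subgroup X).map (MulAut.conj g).toMonoidHom : Subgroup X)
    haveI := hT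
    exact Subgroup.map_isMulCommutative _ _
  obtain ⟨R, hR⟩ := hM.exists_le_sylow
  obtain ⟨t, ht⟩ := MulAction.exists_smul_eq SL(2, ZMod p) (U.mapSurjective hψ) R
  refine ⟨⟨fun x y => Subtype.ext ?_⟩⟩
  have hx : (x : SL(2, ZMod p)) ∈ (R : Subgroup _) := hR x.2
  have hy : (y : SL(2, ZMod p)) ∈ (R : Subgroup _) := hR y.2
  rw [← ht] at hx hy
  obtain ⟨x₁, ⟨x₂, hx₂, rfl⟩, hx'⟩ := hx
  obtain ⟨y₁, ⟨y₂, hy₂, rfl⟩, hy'⟩ := hy
  have hc0 := congrArg Subtype.val (hQc.is_comm.comm
    (⟨x₂, hQ ⟨x₂, hx₂, rfl⟩⟩ : (Q : Subgroup X)) ⟨y₂, hQ ⟨y₂, hy₂, rfl⟩⟩)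
  have hc : x₂ * y₂ = y₂ * x₂ := Subtype.ext hc0
  simp only [Subgroup.coe_mul, ← hx', ← hy']
  exact ((show Commute x₂ y₂ from hc).map ψ).map _

theorem not_isPSolvable_SL2 (hp : 5 ≤ p) :
    ¬ IsPSolvable p (Matrix.SpecialLinearGroup (Fin 2) (ZMod p)) := by
  classical
  intro h
  have hperf : commutator SL(2, ZMod p) = ⊤ :=
    Classical.SL_commutator_eq_top (Or.inr ⟨2, (by
      intro h2
      have : ((2 : ℕ) : ZMod p) = 0 := by exact_mod_cast h2
      rw [ZMod.natCast_eq_zero_iff] at this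
      have := Nat.le_of_dvd two_pos this
      omega), (by
      intro h4
      have : ((3 : ℕ) : ZMod p) = 0 := by push_cast; linear_combination h4
      rw [ZMod.natCast_eq_zero_iff] at this
      have := Nat.le_of_dvd (by norm_num) this
      omega)⟩)
  obtain ⟨n, H, h0, hn, hmono, hnormal, hstep⟩ := h
  suffices ∀ i : Fin (n + 1), H i ≠ ⊤ from this _ hn
  intro i
  induction i using Fin.induction with
  | zero =>
    rw [h0]
    haveI : Nontrivial SL(2, ZMod p) := ⟨⟨Dickson.up 1, 1, fun e => by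
      simpa using congrArg (fun g : SL(2, ZMod p) => (g : Matrix (Fin 2) (Fin 2) (ZMod p)) 0 1) e⟩⟩
    exact bot_ne_top
  | succ i ih =>
    intro htop
    haveI := hnormal i.castSucc
    have hs := hstep i
    rw [htop, relIndex_top_right] at hs
    set N := H i.castSucc
    rcases hs with ⟨m, hm⟩ | hs
    · -- a perfect `p`-group is trivial
      have hQ : IsPGroup p (SL(2, ZMod p) ⧸ N) := IsPGroup.of_card (n := m) hm
      haveI := hQ.isNilpotent
      haveI : Group.IsSolvable (SL(2, ZMod p) ⧸ N) := inferInstance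
      have hq : commutator (SL(2, ZMod p) ⧸ N) = ⊤ := by
        have h1 := map_commutator (⊤ : Subgroup SL(2, ZMod p)) ⊤ (QuotientGroup.mk' N)
        simp only [map_top_of_surjective _ (QuotientGroup.mk'_surjective N), ← _root_.commutator_def,
          hperf] at h1
        exact h1.symm
      by_contra
      haveI : Nontrivial (SL(2, ZMod p) ⧸ N) := QuotientGroup.nontrivial_iff.mpr ih
      exact absurd hq (Group.IsSolvable.commutator_lt_top_of_nontrivial _).ne
    · refine ih (Dickson.closure_unipotent_zmod N (fun g hg => ?_) (by omega))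
      rw [← QuotientGroup.eq_one_iff]
      exact orderOf_eq_one_iff.mp (Nat.eq_one_of_dvd_coprimes hs (orderOf_dvd_natCard _)
        (orderOf_dvd_of_pow_eq_one (by rw [← QuotientGroup.mk_pow, hg]; rfl)))

theorem InvSL.eq_three {X : Type*} [Group X] [Finite X] (hp2 : p ≠ 2) (h : InvSL p X)
    (hsolv : IsPSolvable p X) : p = 3 := by
  obtain ⟨S, ψ, hψ⟩ := h
  by_contra h3
  have hp := (Fact.out : p.Prime)
  have h4 : p ≠ 4 := fun e => absurd (e ▸ hp) (by norm_num)
  refine not_isPSolvable_SL2 (p := p) (by have := hp.two_le; omega)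
    (isPSolvable_of_surjective ψ hψ (isPSolvable_subgroup hsolv S))

/-! ### Sections -/

theorem InvSL.section_subgroup {G : Type*} [Group G] {H : Subgroup G} (h : InvSL p H) :
    ∃ (K L : Subgroup G) (_ : (L.subgroupOf K).Normal), K ≤ H ∧
      Nonempty ((K ⧸ L.subgroupOf K) ≃* Matrix.SpecialLinearGroup (Fin 2) (ZMod p)) := by
  obtain ⟨S, ψ, hψ⟩ := h
  set K := S.map H.subtype
  let e := S.equivMapOfInjective H.subtype H.subtype_injective
  let θ : K →* Matrix.SpecialLinearGroup (Fin 2) (ZMod p) := ψ.comp e.symm.toMonoidHom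
  have hL : (θ.ker.map K.subtype).subgroupOf K = θ.ker :=
    comap_map_eq_self_of_injective K.subtype_injective _
  have hn : ((θ.ker.map K.subtype).subgroupOf K).Normal := by rw [hL]; infer_instance
  refine ⟨K, θ.ker.map K.subtype, hn, map_subtype_le S, ⟨?_⟩⟩
  exact (QuotientGroup.quotientMulEquivOfEq hL).trans
    (QuotientGroup.quotientKerEquivOfSurjective θ (hψ.comp e.symm.surjective))

/-- The action of `H ≤ N(V)` on `V` in quadratic terms. -/
theorem quadAct_of_commutator {G : Type*} [Group G] {V H : Subgroup G} [IsMulCommutative V]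
    (hHV : H ≤ normalizer (V : Set G)) {a : G} (haH : a ∈ H)
    (hq : ⁅⁅V, zpowers a⁆, zpowers a⁆ = ⊥) :
    letI : CommGroup V := { (inferInstance : Group V) with mul_comm := fun x y => mul_comm' x y }
    QuadAct (conjHom H V hHV) ⟨a, haH⟩ := by
  letI : CommGroup V := { (inferInstance : Group V) with mul_comm := fun x y => mul_comm' x y }
  intro v
  apply Subtype.ext
  rw [div_eq_mul_inv, conjHom_apply, Subgroup.coe_mul, Subgroup.coe_inv, conjHom_apply]
  have hmem : ⁅(v : G), a⁆ ∈ ⁅V, zpowers a⁆ := commutator_mem_commutator v.2 (mem_zpowers a)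
  have h1 := commutator_mem_commutator hmem (mem_zpowers a)
  rw [hq, mem_bot, commutatorElement_eq_one_iff_mul_comm] at h1
  have h2 : (a * (v : G) * a⁻¹) * (v : G)⁻¹ = ⁅(v : G), a⁆⁻¹ := by
    rw [commutatorElement_def]; group
  change a * ((a * (v : G) * a⁻¹) * (v : G)⁻¹) * a⁻¹ = (a * (v : G) * a⁻¹) * (v : G)⁻¹
  rw [h2]
  have h3 : Commute a ⁅(v : G), a⁆⁻¹ := (Commute.inv_right (h1.symm : Commute a _))
  rw [h3.eq, mul_inv_cancel_right]

theorem conjHom_injective {G : Type*} [Group G] {V H : Subgroup G}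
    (hHV : H ≤ normalizer (V : Set G)) (hf : H ⊓ centralizer (V : Set G) = ⊥) :
    Function.Injective (conjHom H V hHV) := by
  intro x y h
  have hmem : ((x⁻¹ * y : H) : G) ∈ H ⊓ centralizer (V : Set G) := by
    refine ⟨(x⁻¹ * y).2, mem_centralizer_iff.mpr fun v hv => ?_⟩
    have h1 := congrArg Subtype.val (DFunLike.congr_fun h ⟨v, hv⟩)
    rw [conjHom_apply, conjHom_apply] at h1
    have h2 : v = ((x : G)⁻¹ * y) * v * ((x : G)⁻¹ * y)⁻¹ := by
      calc v = (x : G)⁻¹ * ((x : G) * v * (x : G)⁻¹) * x := by group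
        _ = _ := by rw [h1]; group
    rw [Subgroup.coe_mul, Subgroup.coe_inv]
    exact eq_mul_inv_iff_mul_eq.mp h2
  rw [hf, mem_bot] at hmem
  exact inv_mul_eq_one.mp (Subtype.ext hmem)

theorem invSL_of_subgroup_action {G : Type*} [Group G] [Finite G] (hp2 : p ≠ 2) {V H : Subgroup G}
    (hV : IsElementaryAbelian p V) (hHV : H ≤ normalizer (V : Set G))
    (hf : H ⊓ centralizer (V : Set G) = ⊥) {a : G} (haH : a ∈ H)
    (hq : ⁅⁅V, zpowers a⁆, zpowers a⁆ = ⊥) (hna : a ∉ (pCore p H).map H.subtype) : InvSL p H := by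
  haveI := hV.1
  letI : CommGroup V := { (inferInstance : Group V) with mul_comm := fun x y => mul_comm' x y }
  exact invSL_of_not_mem_pCore hp2 (fun v => Subtype.ext (by simpa using hV.2 _ v.2))
    (conjHom H V hHV) (conjHom_injective hHV hf) (quadAct_of_commutator hHV haH hq)
    fun h => hna ⟨_, h, rfl⟩

theorem invSL_of_subgroup_pair {G : Type*} [Group G] [Finite G] (hp2 : p ≠ 2) {V H : Subgroup G}
    (hV : IsElementaryAbelian p V) (hHV : H ≤ normalizer (V : Set G))
    (hf : H ⊓ centralizer (V : Set G) = ⊥) {a b : G} (hab : H = Subgroup.closure {a, b})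
    (ha : ⁅⁅V, zpowers a⁆, zpowers a⁆ = ⊥) (hb : ⁅⁅V, zpowers b⁆, zpowers b⁆ = ⊥)
    (hnp : ¬ IsPGroup p H) : InvSL p H := by
  subst hab
  haveI := hV.1
  letI : CommGroup V := { (inferInstance : Group V) with mul_comm := fun x y => mul_comm' x y }
  exact invSL_of_pair hp2 (fun v => Subtype.ext (by simpa using hV.2 _ v.2))
    (conjHom _ V hHV) (conjHom_injective hHV hf) _ _ (closure_pair_top a b)
    (quadAct_of_commutator hHV _ ha) (quadAct_of_commutator hHV _ hb) hnp

end Cfsg.Agent.Solv.Quad
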