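import Cfsg.Agent.Lib.Local.QdExtension
import Cfsg.Agent.Lib.Solv.QdStable
import Cfsg.Agent.Lib.Solv.QuadraticApps

/-!
# `Qd(p)` maps onto `SL(2, p)`
-/

set_option autoImplicit false

namespace Cfsg.Agent.Local

open Matrix

variable {p : ℕ} [Fact p.Prime]

/-- The linear part of an affine element. -/
def qdLinear : qd p →* SpecialLinearGroup (Fin 2) (ZMod p) where
  toFun q := ⟨(((q : SpecialLinearGroup (Fin 3) (ZMod p)) : Matrix (Fin 3) (Fin 3) (ZMod p))).submatrix
      Fin.castSucc Fin.castSucc, by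
    obtain ⟨a, b, c, e, r, s, h, rfl⟩ := exists_qdElt q
    rw [det_fin_two]
    simpa [qdElt, affMat] using h⟩
  map_one' := by
    apply Subtype.ext
    ext i j
    fin_cases i <;> fin_cases j <;> simp
  map_mul' := by
    intro q q'
    obtain ⟨a, b, c, e, r, s, h, rfl⟩ := exists_qdElt q
    obtain ⟨a', b', c', e', r', s', h', rfl⟩ := exists_qdElt q'
    rw [qdElt_mul]
    apply Subtype.ext
    change Matrix.submatrix _ _ _ = Matrix.submatrix _ _ _ * Matrix.submatrix _ _ _
    ext i j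
    fin_cases i <;> fin_cases j <;>
      simp [qdElt, affMat, Matrix.SpecialLinearGroup.coe_mul, Matrix.mul_apply, Fin.sum_univ_two]

theorem qdLinear_surjective : Function.Surjective (qdLinear (p := p)) := by
  intro M
  have h : (M : Matrix (Fin 2) (Fin 2) (ZMod p)) 0 0 * (M : Matrix (Fin 2) (Fin 2) (ZMod p)) 1 1 -
      (M : Matrix (Fin 2) (Fin 2) (ZMod p)) 0 1 * (M : Matrix (Fin 2) (Fin 2) (ZMod p)) 1 0 = 1 := by
    rw [← det_fin_two]; exact M.2
  refine ⟨qdElt _ _ _ _ 0 0 h, Subtype.ext ?_⟩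
  change Matrix.submatrix _ _ _ = _
  ext i j
  fin_cases i <;> fin_cases j <;> simp [qdElt, affMat]

/-- A group which does not involve `SL(2, p)` does not involve `Qd(p)`. -/
theorem not_involves_qd_of_not_invSL {X : Type*} [Group X] (h : ¬ Solv.Quad.InvSL p X) :
    ¬ Involves ↥(qd p) X := fun h' => by
  obtain ⟨K, θ, hθ⟩ := Solv.Quad.exists_hom_of_involves h'
  exact h ⟨K, qdLinear.comp θ, qdLinear_surjective.comp hθ⟩

end Cfsg.Agent.Local
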