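import Cfsg.Agent.Lib.Struct.Frobenius
import Cfsg.Agent.Lib.Struct.FpfComplement
import Mathlib.FieldTheory.Finite.Basic

/-!
The kernel of a Frobenius group whose complement has a non-cyclic Sylow subgroup.
-/

set_option autoImplicit false
open Subgroup

namespace Cfsg.Agent.Solv

/-- An abelian group of odd order with two anticommuting automorphisms squaring to inversion has
square order. -/
theorem isSquare_card_of_anticommuting {V : Type*} [CommGroup V] [Finite V] (hodd : Odd (Nat.card V))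
    (i j : V →* V) (hi : ∀ v, i (i v) = v⁻¹) (hj : ∀ v, j (j v) = v⁻¹)
    (hij : ∀ v, i (j v) = (j (i v))⁻¹) :
    ∀ W : Subgroup V, (∀ v ∈ W, i v ∈ W) → (∀ v ∈ W, j v ∈ W) → IsSquare (Nat.card W) := by
  intro W
  induction hc : Nat.card W using Nat.strong_induction_on generalizing W with
  | _ c ih =>
  subst hc
  intro hiW hjW
  by_cases h1 : Nat.card W = 1
  · rw [h1]; exact ⟨1, rfl⟩
  set q := (Nat.card W).minFac with hqdef
  have hq : q.Prime := Nat.minFac_prime h1
  haveI := Fact.mk hq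
  have hqodd : Odd q := hodd.of_dvd_nat ((Nat.minFac_dvd _).trans (card_subgroup_dvd_card W))
  let P : W →* V := (powMonoidHom q).comp W.subtype
  let T : Subgroup V := P.ker.map W.subtype
  have hT : ∀ v, v ∈ T ↔ v ∈ W ∧ v ^ q = 1 := fun v => by
    constructor
    · rintro ⟨w, hw, rfl⟩; exact ⟨w.2, hw⟩
    · rintro ⟨hv, hv'⟩; exact ⟨⟨v, hv⟩, hv', rfl⟩
  have hsplit : Nat.card T * Nat.card P.range = Nat.card W := by
    rw [← index_ker, Nat.card_congr (P.ker.equivMapOfInjective W.subtype W.subtype_injective).symm.toEquiv, card_mul_index]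
  have hRsq : IsSquare (Nat.card P.range) := by
    refine ih _ ?_ P.range rfl ?_ ?_
    · obtain ⟨x, hx⟩ := exists_prime_orderOf_dvd_card' (G := W) q (Nat.minFac_dvd _)
      have hT1 : 1 < Nat.card T := by
        rw [Nat.card_congr (P.ker.equivMapOfInjective W.subtype W.subtype_injective).symm.toEquiv]
        refine Finite.one_lt_card_iff_nontrivial.2 ⟨⟨⟨x, ?_⟩, 1, fun h => ?_⟩⟩
        · rw [MonoidHom.mem_ker]
          show (x : V) ^ q = 1
          rw [← hx, ← orderOf_coe, pow_orderOf_eq_one]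
        · have hx1 : x = 1 := congrArg Subtype.val h
          rw [hx1] at hx
          exact hq.ne_one (hx.symm.trans orderOf_one)
      rw [← hsplit]
      exact lt_mul_left Nat.card_pos hT1
    · rintro _ ⟨w, rfl⟩
      exact ⟨⟨i w, hiW _ w.2⟩, (map_pow i (w : V) q).symm⟩
    · rintro _ ⟨w, rfl⟩
      exact ⟨⟨j w, hjW _ w.2⟩, (map_pow j (w : V) q).symm⟩
  obtain ⟨a, b, hab⟩ := ZMod.sq_add_sq q (-1 : ZMod q)
  have hpow : ∀ v ∈ T, ∀ m n : ℤ, (m : ZMod q) = n → v ^ m = v ^ n := by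
    intro v hv m n hmn
    obtain ⟨d, hd⟩ := (ZMod.intCast_eq_intCast_iff_dvd_sub m n q).1 hmn
    rw [show n = m + q * d by omega, zpow_add, zpow_mul, zpow_natCast, ((hT v).1 hv).2, one_zpow, mul_one]
  set A : ℤ := (a.val : ℤ) with hA
  set B : ℤ := (b.val : ℤ) with hB
  let s : V →* V := MonoidHom.mk' (fun v => i v ^ A * j v ^ B) fun u v => by
    rw [map_mul, map_mul, mul_zpow, mul_zpow, mul_mul_mul_comm]
  have hsT : ∀ v ∈ T, s v ∈ T := by
    intro v hv
    refine mul_mem (zpow_mem ?_ _) (zpow_mem ?_ _)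
    · exact (hT _).2 ⟨hiW _ ((hT v).1 hv).1, by rw [← map_pow, ((hT v).1 hv).2, map_one]⟩
    · exact (hT _).2 ⟨hjW _ ((hT v).1 hv).1, by rw [← map_pow, ((hT v).1 hv).2, map_one]⟩
  have hss : ∀ v ∈ T, s (s v) = v := by
    intro v hv
    show i (i v ^ A * j v ^ B) ^ A * j (i v ^ A * j v ^ B) ^ B = v
    rw [map_mul, map_mul, map_zpow, map_zpow, map_zpow, map_zpow, hi, hj, hij,
      mul_zpow, mul_zpow, inv_zpow, inv_zpow, inv_zpow, inv_zpow, ← zpow_mul, ← zpow_mul, ← zpow_mul, ← zpow_mul,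
      mul_comm B A, mul_assoc, inv_mul_cancel_left, inv_zpow, ← mul_inv, ← zpow_add, ← zpow_neg]
    conv_rhs => rw [← zpow_one v]
    refine hpow v hv _ _ ?_
    simp only [hA, hB, Int.cast_neg, Int.cast_add, Int.cast_mul, Int.cast_natCast, ZMod.natCast_zmod_val, Int.cast_one]
    linear_combination (-1 : ZMod q) * hab
  have hks : ∀ v, s (i (j v)) = (i (j (s v)))⁻¹ := by
    intro v
    show i (i (j v)) ^ A * j (i (j v)) ^ B = (i (j (i v ^ A * j v ^ B)))⁻¹
    have h1 : j (i (j v)) = i v := by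
      rw [hij, map_inv, hj, inv_inv]
    have h2 : i (j (i v)) = j v := by
      rw [show j (i v) = (i (j v))⁻¹ from inv_eq_iff_eq_inv.1 (hij v).symm, map_inv, hi, inv_inv]
    rw [hi, h1, map_mul, map_zpow, map_zpow, map_mul, map_zpow, map_zpow, h2, hj, map_inv, mul_inv,
      ← inv_zpow, ← inv_zpow, inv_inv]
  let Tp : Subgroup V := T ⊓ MonoidHom.eqLocus s (MonoidHom.id V)
  let Tm : Subgroup V := T ⊓ MonoidHom.eqLocus s invMonoidHom
  have hk1 : ∀ v ∈ T, i (j v) ∈ T := fun v hv => (hT _).2 ⟨hiW _ (hjW _ ((hT v).1 hv).1),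
    by rw [← map_pow, ← map_pow, ((hT v).1 hv).2, map_one, map_one]⟩
  have hkinj : Function.Injective fun v => i (j v) := fun u v h => by
    have h1 := congrArg i h
    simp only [hi, inv_inj] at h1
    have h2 := congrArg j h1
    simpa only [hj, inv_inj] using h2
  have hpm : Nat.card Tp = Nat.card Tm := le_antisymm
    (Nat.card_le_card_of_injective (fun v : Tp => (⟨i (j v), hk1 _ v.2.1, by
      show s (i (j (v : V))) = (i (j (v : V)))⁻¹
      rw [hks, show s (v : V) = v from v.2.2]⟩ : Tm)) fun u v h => Subtype.ext (hkinj (congrArg Subtype.val h)))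
    (Nat.card_le_card_of_injective (fun v : Tm => (⟨i (j v), hk1 _ v.2.1, by
      show s (i (j (v : V))) = i (j (v : V))
      rw [hks, show s (v : V) = (v : V)⁻¹ from v.2.2, map_inv, map_inv, inv_inv]⟩ : Tp)) fun u v h =>
        Subtype.ext (hkinj (congrArg Subtype.val h)))
  have hdisj : Tp ⊓ Tm = ⊥ := by
    rw [eq_bot_iff]
    rintro v ⟨⟨-, h1⟩, ⟨-, h2⟩⟩
    have h3 : v * v = 1 := mul_eq_one_iff_eq_inv.2 ((show s v = v from h1).symm.trans h2)
    rw [mem_bot, ← orderOf_eq_one_iff]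
    exact Nat.eq_one_of_dvd_coprimes (Nat.coprime_two_left.2 hodd)
      (orderOf_dvd_of_pow_eq_one (by rw [sq, h3])) (orderOf_dvd_natCard v)
  have hsup : Tp ⊔ Tm = T := by
    refine le_antisymm (sup_le inf_le_left inf_le_left) fun v hv => ?_
    obtain ⟨r, hr⟩ := hqodd
    have hv2 : (v * s v) ^ (r + 1) * (v * (s v)⁻¹) ^ (r + 1) = v := by
      rw [← mul_pow, show v * s v * (v * (s v)⁻¹) = v ^ 2 by
        rw [mul_mul_mul_comm, mul_inv_cancel, mul_one, sq], ← pow_mul,
        show 2 * (r + 1) = q + 1 by omega, pow_succ, ((hT v).1 hv).2, one_mul]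
    rw [← hv2]
    refine mul_mem (mem_sup_left (pow_mem (show v * s v ∈ Tp from ⟨mul_mem hv (hsT v hv), ?_⟩) _))
      (mem_sup_right (pow_mem (show v * (s v)⁻¹ ∈ Tm from ⟨T.mul_mem hv (T.inv_mem (hsT v hv)), ?_⟩) _))
    · show s (v * s v) = v * s v
      rw [map_mul, hss v hv, mul_comm]
    · show s (v * (s v)⁻¹) = (v * (s v)⁻¹)⁻¹
      rw [map_mul, map_inv, hss v hv, mul_inv_rev, inv_inv]
  have hTsq : IsSquare (Nat.card T) := by
    refine ⟨Nat.card Tp, ?_⟩
    have hc : IsComplement' (Tp.subgroupOf T) (Tm.subgroupOf T) := isComplement'_of_disjoint_and_mul_eq_univ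
      (disjoint_iff.2 (by rw [subgroupOf, subgroupOf, ← comap_inf, hdisj, MonoidHom.comap_bot, ker_subtype]))
      (by rw [← mul_normal, ← subgroupOf_sup inf_le_left inf_le_left, hsup, subgroupOf_self, coe_top])
    rw [← hc.card_mul, Nat.card_congr (subgroupOfEquivOfLe (inf_le_left : Tp ≤ T)).toEquiv,
      Nat.card_congr (subgroupOfEquivOfLe (inf_le_left : Tm ≤ T)).toEquiv, hpm]
  rw [← hsplit]
  exact hTsq.mul hRsq

/-- The kernel of a Frobenius group with non-cyclic Sylow subgroup in the complement has odd square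
order. -/
theorem odd_square_kernel {L : Type*} [Group L] [Finite L] {H : Subgroup L}
    (hF : Cfsg.IsFrobeniusComplement H)
    (hZ : ∃ (p : ℕ) (_ : Fact p.Prime) (P : Sylow p H), ¬ IsCyclic P) :
    Odd (Nat.card (Cfsg.frobeniusKernel H)) ∧ IsSquare (Nat.card (Cfsg.frobeniusKernel H)) := by
  classical
  obtain ⟨N, hNset, hNn, hNH⟩ := Struct.Frobenius.exists_kernel hF
  rw [← hNset, show Nat.card ((N : Set L)) = Nat.card N from rfl]
  have hfpf : ∀ h ∈ H, h ≠ 1 → ∀ x ∈ N, x * h = h * x → x = 1 := fun h hh h1 x hx hc =>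
    Struct.Frobenius.fpf_of_complement hF hNH.disjoint hh h1 hx hc
  have hN : N ≠ ⊥ := fun h => hF.2.1 (by simpa [h] using hNH.sup_eq_top)
  have hcop : (Nat.card H).Coprime (Nat.card N) := Struct.Frobenius.coprime_kernel_complement hNH hN
    fun h hh h1 => (eq_bot_iff_forall _).2 fun x hx =>
      hfpf h hh h1 x hx.1 (mem_centralizer_singleton_iff.1 hx.2)
  obtain ⟨p, hp, P, hP⟩ := hZ
  let A : Subgroup L := (P : Subgroup H).map H.subtype
  have hAH : A ≤ H := map_subtype_le _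
  rcases Struct.Frobenius.sylow_cyclic_or_quaternion (A := A) hN (by rw [normalizer_eq_top]; exact le_top)
      (hcop.coprime_dvd_left (card_dvd_of_le hAH))
      (fun a ha h1 => (eq_bot_iff_forall _).2 fun x hx =>
        hfpf a (hAH ha) h1 x hx.1 (mem_centralizer_singleton_iff.1 hx.2))
      (P.isPGroup'.map _) with hc | ⟨-, n, hn, ⟨e⟩⟩
  · exact absurd (isCyclic_of_surjective ((P : Subgroup H).equivMapOfInjective H.subtype H.subtype_injective).symm
      (MulEquiv.surjective _)) hP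
  obtain ⟨r, rfl⟩ : ∃ r, n = r + 1 := ⟨n - 1, by omega⟩
  let I : A := e.symm (QuaternionGroup.a ((2 ^ r : ℕ) : ZMod (2 * 2 ^ (r + 1))))
  let J : A := e.symm (QuaternionGroup.xa 0)
  let Z : A := e.symm (QuaternionGroup.a ((2 ^ (r + 1) : ℕ) : ZMod (2 * 2 ^ (r + 1))))
  have hII : I * I = Z := by
    rw [← map_mul, QuaternionGroup.a_mul_a, ← Nat.cast_add, show 2 ^ r + 2 ^ r = 2 ^ (r + 1) by rw [pow_succ]; ring]
  have hJJ : J * J = Z := by rw [← map_mul, QuaternionGroup.xa_mul_xa, add_zero, sub_zero]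
  have hJI : J * I = I⁻¹ * J := by
    rw [← map_mul, ← map_inv, ← map_mul]
    congr 1
    show QuaternionGroup.xa 0 * QuaternionGroup.a _ = QuaternionGroup.a (-_) * QuaternionGroup.xa 0
    rw [QuaternionGroup.xa_mul_a, QuaternionGroup.a_mul_xa, zero_add, zero_sub, neg_neg]
  have hZ1 : Z ≠ 1 := by
    intro h
    have h1 := congrArg e h
    rw [e.apply_symm_apply, map_one, QuaternionGroup.one_def, QuaternionGroup.a.injEq, ZMod.natCast_eq_zero_iff] at h1
    have := Nat.le_of_dvd (by positivity) h1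
    have : 0 < 2 ^ (r + 1) := by positivity
    omega
  have hZZ : Z * Z = 1 := by
    rw [← map_mul, QuaternionGroup.a_mul_a, ← Nat.cast_add, ← two_mul, ZMod.natCast_self, QuaternionGroup.a_zero, map_one]
  have hodd : Odd (Nat.card N) := by
    rw [← Nat.coprime_two_left]
    refine hcop.coprime_dvd_left (dvd_trans ?_ (card_dvd_of_le hAH))
    rw [← orderOf_eq_prime (p := 2) (by rw [sq]; exact hZZ) hZ1]
    exact orderOf_dvd_natCard Z
  refine ⟨hodd, ?_⟩
  set z : L := (Z : L)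
  have hz1 : z ≠ 1 := fun h => hZ1 (Subtype.ext h)
  have hzz : z * z = 1 := congrArg Subtype.val hZZ
  have hzinv : z⁻¹ = z := inv_eq_of_mul_eq_one_right hzz
  have hinvert : ∀ x ∈ N, z * x * z = x⁻¹ := by
    have hmap : ∀ x ∈ N, x⁻¹ * (z * x * z) ∈ N := fun x hx =>
      N.mul_mem (N.inv_mem hx) (by have := hNn.conj_mem x hx z; rwa [hzinv] at this)
    have hsurj : Function.Surjective (fun x : N => (⟨(x : L)⁻¹ * (z * x * z), hmap _ x.2⟩ : N)) := by
      refine Finite.surjective_of_injective fun u v h => ?_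
      have h' : (u : L)⁻¹ * (z * u * z) = (v : L)⁻¹ * (z * v * z) := congrArg Subtype.val h
      have h2 : (v : L) * (u : L)⁻¹ * z = z * ((v : L) * (u : L)⁻¹) := by
        calc (v : L) * (u : L)⁻¹ * z = (v : L) * ((u : L)⁻¹ * (z * u * z)) * (z⁻¹ * (u : L)⁻¹) := by group
          _ = (v : L) * ((v : L)⁻¹ * (z * v * z)) * (z⁻¹ * (u : L)⁻¹) := by rw [h']
          _ = z * ((v : L) * (u : L)⁻¹) := by group
      exact Subtype.ext (mul_inv_eq_one.1 (hfpf z (hAH Z.2) hz1 _ (N.mul_mem v.2 (N.inv_mem u.2)) h2)).symm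
    intro x hx
    obtain ⟨u, hu⟩ := hsurj ⟨x, hx⟩
    have hu' : (u : L)⁻¹ * (z * u * z) = x := congrArg Subtype.val hu
    rw [← hu']
    calc z * ((u : L)⁻¹ * (z * u * z)) * z = z * (u : L)⁻¹ * z * u * (z * z) := by group
      _ = z * (u : L)⁻¹ * z⁻¹ * u := by rw [hzz, hzinv, mul_one]
      _ = (z * u * z)⁻¹ * u := by
        rw [mul_inv_rev, mul_inv_rev, hzinv]; group
      _ = ((u : L)⁻¹ * (z * u * z))⁻¹ := by group
  letI : CommGroup N :=
    { (inferInstance : Group N) with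
      mul_comm := fun x y => Subtype.ext (by
        show (x : L) * y = y * x
        have h := hinvert _ (N.mul_mem x.2 y.2)
        have h2 : z * ((x : L) * y) * z = (x : L)⁻¹ * (y : L)⁻¹ := by
          rw [← hinvert _ x.2, ← hinvert _ y.2]
          calc z * ((x : L) * y) * z = z * x * (z * z) * y * z := by rw [hzz]; group
            _ = z * x * z * (z * y * z) := by group
        rw [h2, ← mul_inv_rev] at h
        exact (inv_injective h).symm) }
  let cj : L → N →* N := fun g => MonoidHom.mk' (fun v => ⟨g * v * g⁻¹, hNn.conj_mem _ v.2 g⟩)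
    fun u v => Subtype.ext (by show g * (u * v) * g⁻¹ = g * u * g⁻¹ * (g * v * g⁻¹); group)
  have hcj2 : ∀ g : L, g * g = z → ∀ v, cj g (cj g v) = v⁻¹ := fun g hg v => Subtype.ext (by
    show g * (g * v * g⁻¹) * g⁻¹ = (v : L)⁻¹
    rw [← hinvert _ v.2]
    calc g * (g * v * g⁻¹) * g⁻¹ = g * g * v * (g * g)⁻¹ := by group
      _ = z * v * z := by rw [hg, hzinv])
  have hij : ∀ v, cj I (cj J v) = (cj J (cj I v))⁻¹ := fun v => by
    have hJI' : (J : L) * I = (I : L)⁻¹ * J := congrArg Subtype.val hJI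
    have hIiI : (I : L) = (I : L)⁻¹ * z := by
      rw [show z = (I : L) * I from (congrArg Subtype.val hII).symm, inv_mul_cancel_left]
    apply Subtype.ext
    show (I : L) * (J * v * (J : L)⁻¹) * (I : L)⁻¹ = ((J : L) * (I * v * (I : L)⁻¹) * (J : L)⁻¹)⁻¹
    have hzc : z * ((J : L) * v * (J : L)⁻¹) * z = ((J : L) * v * (J : L)⁻¹)⁻¹ := hinvert _ (hNn.conj_mem _ v.2 _)
    calc (I : L) * (J * v * (J : L)⁻¹) * (I : L)⁻¹
        = (I : L)⁻¹ * (z * (J * v * (J : L)⁻¹) * z⁻¹) * I := by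
          conv_lhs => rw [hIiI]
          group
      _ = (I : L)⁻¹ * (J * (v : L)⁻¹ * (J : L)⁻¹) * I := by rw [hzinv, hzc]; group
      _ = ((I : L)⁻¹ * J) * (v : L)⁻¹ * ((I : L)⁻¹ * J)⁻¹ := by group
      _ = _ := by rw [← hJI']; group
  have := isSquare_card_of_anticommuting hodd (cj I) (cj J) (hcj2 _ (congrArg Subtype.val hII))
    (hcj2 _ (congrArg Subtype.val hJJ)) hij ⊤ (fun v _ => mem_top _) (fun v _ => mem_top _)
  rwa [card_top] at this

end Cfsg.Agent.Solv
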