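import Cfsg.Agent.Lib.Solv.ZJ
import Cfsg.Agent.Lib.Local.ConjFamily
import Cfsg.Agent.Lib.Inv.BaerSuzuki

/-!
Inverted `p`-elements, their behaviour under homomorphisms and coprime action.
-/

set_option autoImplicit false
set_option linter.style.haveILetI false
set_option linter.unusedSectionVars false

namespace Cfsg.Agent.Solv.Real

open Subgroup

variable {G : Type*} [Group G] {p : ℕ} [Fact p.Prime]

/-- Some non-trivial `p`-element of `H` is inverted by an element of `H`. -/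
def Inv (p : ℕ) (H : Subgroup G) : Prop :=
  ∃ g ∈ H, ∃ x ∈ H, x ≠ 1 ∧ (∃ k : ℕ, x ^ p ^ k = 1) ∧ g * x * g⁻¹ = x⁻¹

theorem Inv.mono {H K : Subgroup G} (h : Inv p H) (hHK : H ≤ K) : Inv p K := by
  obtain ⟨g, hg, x, hx, h1⟩ := h
  exact ⟨g, hHK hg, x, hHK hx, h1⟩

theorem Inv.map {G' : Type*} [Group G'] {H : Subgroup G} (h : Inv p H) (f : G →* G')
    (hf : Function.Injective f) : Inv p (H.map f) := by
  obtain ⟨g, hg, x, hx, h1, ⟨k, hk⟩, h2⟩ := h
  exact ⟨f g, mem_map_of_mem f hg, f x, mem_map_of_mem f hx, fun e => h1 (hf (e.trans (map_one f).symm)),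
    ⟨k, by rw [← map_pow, hk, map_one]⟩, by rw [← map_inv, ← map_mul, ← map_mul, h2, map_inv]⟩

theorem inv_subgroupOf {H K : Subgroup G} (hHK : H ≤ K) : Inv p (H.subgroupOf K) ↔ Inv p H := by
  constructor
  · intro h
    have h' := h.map K.subtype K.subtype_injective
    rwa [map_subgroupOf_eq_of_le hHK] at h'
  · rintro ⟨g, hg, x, hx, h1, ⟨k, hk⟩, h2⟩
    exact ⟨⟨g, hHK hg⟩, hg, ⟨x, hHK hx⟩, hx, fun e => h1 (congrArg Subtype.val e),
      ⟨k, Subtype.ext hk⟩, Subtype.ext h2⟩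

theorem pow_odd_conj {g x : G} (h : g * x * g⁻¹ = x⁻¹) {n : ℕ} (hn : Odd n) :
    g ^ n * x * (g ^ n)⁻¹ = x⁻¹ := by
  obtain ⟨k, rfl⟩ := hn
  have hc : MulAut.conj g x = x⁻¹ := by simpa using h
  have h2 : MulAut.conj (g ^ 2) x = x := by
    rw [map_pow, pow_two, MulAut.mul_apply, hc, map_inv, hc, inv_inv]
  have h3 : ∀ j : ℕ, MulAut.conj ((g ^ 2) ^ j) x = x := by
    intro j
    induction j with
    | zero => simp
    | succ j ih => rw [pow_succ, map_mul, MulAut.mul_apply, h2, ih]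
  have h4 : MulAut.conj (g ^ (2 * k + 1)) x = x⁻¹ := by
    rw [pow_succ', map_mul, MulAut.mul_apply, pow_mul, h3, hc]
  rw [← MulAut.conj_apply]
  exact h4

theorem eq_one_of_inv_eq_self (hp2 : p ≠ 2) {x : G} (hx : ∃ k : ℕ, x ^ p ^ k = 1) (h : x = x⁻¹) :
    x = 1 := by
  obtain ⟨k, hk⟩ := hx
  have h2 : x ^ 2 = 1 := by rw [pow_two]; exact eq_inv_iff_mul_eq_one.mp h
  have hodd : Odd (p ^ k) := ((Fact.out : p.Prime).odd_of_ne_two hp2).pow
  obtain ⟨j, hj⟩ := hodd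
  rwa [hj, pow_succ, pow_mul, h2, one_pow, one_mul] at hk

/-- The odd part of the order. -/
theorem exists_odd_two_pow [Finite G] (g : G) : ∃ m k : ℕ, Odd m ∧ (g ^ m) ^ 2 ^ k = 1 := by
  obtain ⟨k, m, hm, he⟩ := Nat.exists_eq_pow_mul_and_not_dvd (orderOf_pos g).ne' 2 (by norm_num)
  refine ⟨m, k, Nat.odd_iff.mpr (by omega), ?_⟩
  rw [← pow_mul, mul_comm, ← he, pow_orderOf_eq_one]

/-- A `2`-element acting non-trivially on a `p`-group inverts some element of it. -/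
theorem exists_inverted {P : Subgroup G} {g : G} (hn : g ∈ normalizer (P : Set G)) : ∀ k : ℕ,
    g ^ 2 ^ k ∈ centralizer (P : Set G) → g ∉ centralizer (P : Set G) →
    ∃ j : ℕ, ∃ w ∈ P, w ≠ 1 ∧ (g ^ j) * w * (g ^ j)⁻¹ = w⁻¹ := by
  intro k
  induction k generalizing g with
  | zero => intro h h'; exact absurd (by simpa using h) h'
  | succ k ih =>
    intro hk hg
    by_cases h2 : g ^ 2 ∈ centralizer (P : Set G)
    · rw [mem_centralizer_iff] at hg
      push Not at hg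
      obtain ⟨u, hu, hne⟩ := hg
      refine ⟨1, u⁻¹ * (g * u * g⁻¹),
        mul_mem (inv_mem hu) ((mem_normalizer_iff.mp hn u).mp hu), fun h => hne ?_, ?_⟩
      · rw [inv_mul_eq_one, eq_mul_inv_iff_mul_eq] at h
        exact h
      · have hc : g * (g * u * g⁻¹) * g⁻¹ = u := by
          have h := mem_centralizer_iff.mp h2 u hu
          calc g * (g * u * g⁻¹) * g⁻¹ = g ^ 2 * u * (g ^ 2)⁻¹ := by rw [pow_two]; group
            _ = u := by rw [← h, mul_inv_cancel_right]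
        calc g ^ 1 * (u⁻¹ * (g * u * g⁻¹)) * (g ^ 1)⁻¹
            = (g * u * g⁻¹)⁻¹ * (g * (g * u * g⁻¹) * g⁻¹) := by group
          _ = (g * u * g⁻¹)⁻¹ * u := by rw [hc]
          _ = (u⁻¹ * (g * u * g⁻¹))⁻¹ := by group
    · obtain ⟨j, w, hw, h1, hj⟩ := ih (g := g ^ 2) (pow_mem hn 2) (by
        rw [← pow_mul, ← pow_succ']; exact hk) h2
      exact ⟨2 * j, w, hw, h1, by rw [pow_mul]; exact hj⟩

theorem inv_of_action {H P : Subgroup G} {g : G} (hPH : P ≤ H) (hP : IsPGroup p P) (hgH : g ∈ H)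
    (hn : g ∈ normalizer (P : Set G)) {k : ℕ} (hk : g ^ 2 ^ k ∈ centralizer (P : Set G))
    (hg : g ∉ centralizer (P : Set G)) : Inv p H := by
  obtain ⟨j, w, hw, h1, hj⟩ := exists_inverted hn k hk hg
  obtain ⟨e, he⟩ := hP ⟨w, hw⟩
  exact ⟨g ^ j, pow_mem hgH j, w, hPH hw, h1, ⟨e, by simpa using congrArg Subtype.val he⟩, hj⟩

/-- Inverted elements lift. -/
theorem Inv.lift [Finite G] {G' : Type*} [Group G'] (hp2 : p ≠ 2) (f : G →* G') (H : Subgroup G)
    (h : Inv p (H.map f)) : Inv p H := by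
  obtain ⟨_, ⟨g, hg, rfl⟩, _, ⟨x, hx, rfl⟩, hx1, ⟨k, hk⟩, hgx⟩ := h
  set Z := H ⊓ (zpowers (f x)).comap f with hZ
  obtain ⟨P0⟩ : Nonempty (Sylow p Z) := inferInstance
  set P := (P0 : Subgroup Z).map Z.subtype with hP
  have hPZ : P ≤ Z := map_subtype_le _
  have hPp : IsPGroup p P := P0.isPGroup'.map _
  have hidx : ¬ p ∣ P.relIndex Z := by
    rw [hP, relIndex, subgroupOf, comap_map_eq_self_of_injective Z.subtype_injective]
    exact P0.not_dvd_index
  have hgZ : ∀ z ∈ Z, g * z * g⁻¹ ∈ Z := by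
    intro z hz'
    obtain ⟨hz, hzx⟩ := mem_inf.mp hz'
    refine mem_inf.mpr ⟨H.mul_mem (H.mul_mem hg hz) (H.inv_mem hg), ?_⟩
    rw [mem_comap, map_mul, map_mul, map_inv]
    obtain ⟨i, hi⟩ := mem_zpowers_iff.mp hzx
    rw [← hi, ← conj_zpow, hgx]
    exact zpow_mem (inv_mem (mem_zpowers _)) i
  obtain ⟨c, hc, hcP⟩ := Local.exists_conj_le_of_not_dvd_relIndex hPZ hPp hidx
    (U := P.map (MulAut.conj g).toMonoidHom)
    (by rintro _ ⟨z, hz, rfl⟩; exact hgZ z (hPZ hz)) (hPp.map _)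
  have hn : c * g ∈ normalizer (P : Set G) := by
    rw [mem_normalizer_iff_map_conj_eq]
    refine eq_of_le_of_card_ge ?_ (card_map_of_injective (MulAut.conj (c * g)).injective).ge
    rintro _ ⟨z, hz, rfl⟩
    have := hcP _ ⟨z, hz, rfl⟩
    simpa [mul_assoc] using this
  have hcgH : c * g ∈ H := mul_mem hc.1 hg
  obtain ⟨i, hi⟩ := mem_zpowers_iff.mp hc.2
  have hcgx : f (c * g) * f x * (f (c * g))⁻¹ = (f x)⁻¹ := by
    rw [map_mul, mul_inv_rev, show f c * f g * f x * ((f g)⁻¹ * (f c)⁻¹) =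
      f c * (f g * f x * (f g)⁻¹) * (f c)⁻¹ by group, hgx, ← hi, (((Commute.refl (f x)).inv_right).zpow_left i).eq,
      mul_inv_cancel_right]
  obtain ⟨m, j, hm, hj⟩ := exists_odd_two_pow (c * g)
  have hmx : f ((c * g) ^ m) * f x * (f ((c * g) ^ m))⁻¹ = (f x)⁻¹ := by
    rw [map_pow]; exact pow_odd_conj hcgx hm
  -- the Sylow subgroup covers the cyclic group
  have hPx : f x ∈ P.map f := by
    have hle : P.map f ≤ zpowers (f x) := map_le_iff_le_comap.mpr (hPZ.trans inf_le_right)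
    have hmapZ : Z.map f = zpowers (f x) := by
      refine le_antisymm (map_le_iff_le_comap.mpr inf_le_right) (zpowers_le.mpr ?_)
      exact ⟨x, ⟨hx, mem_zpowers (f x)⟩, rfl⟩
    have h1 : ¬ p ∣ (P.map f).relIndex (zpowers (f x)) := fun hd => hidx <| hd.trans <| by
      rw [← hmapZ, ← relIndex_comap, comap_map_eq]
      exact relIndex_dvd_of_le_left Z le_sup_left
    have hzp : IsPGroup p (zpowers (f x)) := by
      refine IsPGroup.of_card (n := (orderOf (f x)).factorization p) ?_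
      rw [Nat.card_zpowers]
      obtain ⟨e, -, he⟩ := (Nat.dvd_prime_pow Fact.out).mp (orderOf_dvd_of_pow_eq_one hk)
      rw [he, Nat.Prime.factorization_pow Fact.out, Finsupp.single_eq_same]
    haveI : Finite (zpowers (f x)) := by
      have hd := orderOf_dvd_of_pow_eq_one hk
      have hpos : 0 < orderOf (f x) :=
        Nat.pos_of_dvd_of_pos hd (pow_pos (Fact.out : p.Prime).pos k)
      exact Nat.finite_of_card_ne_zero (by rw [Nat.card_zpowers]; omega)
    obtain ⟨e, he⟩ := hzp.index ((P.map f).subgroupOf (zpowers (f x)))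
    have he0 : e = 0 := by
      by_contra h0
      exact h1 (by rw [relIndex, he]; exact dvd_pow_self p h0)
    rw [he0, pow_zero, index_eq_one, subgroupOf_eq_top] at he
    exact he (mem_zpowers (f x))
  obtain ⟨u, hu, hux⟩ := hPx
  refine inv_of_action (hPZ.trans inf_le_left) hPp (pow_mem hcgH m) (pow_mem hn m)
    (k := j) (by rw [hj]; exact one_mem _) fun hcen => hx1 (eq_one_of_inv_eq_self hp2 ⟨k, hk⟩ ?_)
  have h1 : (c * g) ^ m * u * ((c * g) ^ m)⁻¹ = u := by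
    rw [← mem_centralizer_iff.mp hcen u hu, mul_inv_cancel_right]
  have h2 := congrArg f h1
  rw [map_mul, map_mul, map_inv, hux, hmx] at h2
  exact h2.symm

theorem not_inv_of_normal_two [Finite G] (hp2 : p ≠ 2) {S : Sylow 2 G} (hS : (S : Subgroup G).Normal) :
    ¬ Inv p (⊤ : Subgroup G) := by
  rintro ⟨g, -, x, -, hx1, ⟨k, hk⟩, hgx⟩
  haveI : Fact (Nat.Prime 2) := ⟨Nat.prime_two⟩
  obtain ⟨m, j, hm, hj⟩ := exists_odd_two_pow g
  have hgS : g ^ m ∈ (S : Subgroup G) := by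
    obtain ⟨T, hT⟩ := (IsPGroup.of_card (p := 2) (G := zpowers (g ^ m))
      (n := (orderOf (g ^ m)).factorization 2) (by
        rw [Nat.card_zpowers]
        obtain ⟨e, -, he⟩ := (Nat.dvd_prime_pow Nat.prime_two).mp (orderOf_dvd_of_pow_eq_one hj)
        rw [he, Nat.Prime.factorization_pow Nat.prime_two, Finsupp.single_eq_same])).exists_le_sylow
    haveI := Sylow.unique_of_normal S hS
    exact Subsingleton.elim T S ▸ hT (mem_zpowers _)
  have h := pow_odd_conj hgx hm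
  have hxx : x⁻¹ * x⁻¹ ∈ (S : Subgroup G) := by
    have h1 := mul_mem hgS (hS.conj_mem _ (inv_mem hgS) x)
    rw [show g ^ m * (x * (g ^ m)⁻¹ * x⁻¹) = g ^ m * x * (g ^ m)⁻¹ * x⁻¹ by group, h] at h1
    exact h1
  obtain ⟨i, hi⟩ := S.isPGroup' ⟨_, hxx⟩
  have h2 : x ^ 2 ^ (i + 1) = 1 := by
    have := congrArg Subtype.val hi
    simp only [SubgroupClass.coe_pow, OneMemClass.coe_one, ← pow_two, ← pow_mul, inv_pow, inv_eq_one,
      ← pow_succ'] at this
    exact this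
  have hd : orderOf x ∣ 1 := by
    have hcop : Nat.Coprime (p ^ k) (2 ^ (i + 1)) :=
      (Nat.coprime_primes Fact.out Nat.prime_two).mpr hp2 |>.pow k (i + 1)
    rw [← hcop]
    exact Nat.dvd_gcd (orderOf_dvd_of_pow_eq_one hk) (orderOf_dvd_of_pow_eq_one h2)
  exact hx1 (orderOf_eq_one_iff.mp (Nat.dvd_one.mp hd))

end Cfsg.Agent.Solv.Real
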