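import Cfsg.Agent.Lib.Solv.RealLift
import Cfsg.Agent.Lib.Solv.QuadraticStable

/-!
A quadratic element outside the `p`-core meets a `2`-element in a local subgroup.
-/

set_option autoImplicit false
set_option linter.style.haveILetI false
set_option linter.unusedSectionVars false

namespace Cfsg.Agent.Solv.Real

open Subgroup
open scoped Pointwise

variable {p : ℕ} [Fact p.Prime]

theorem eq_negI {K : Type*} [Field K] [CharP K p] (hp2 : p ≠ 2)
    {z : Matrix.SpecialLinearGroup (Fin 2) K} (h2 : z * z = 1) (h1 : z ≠ 1) : z = Dickson.negI := by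
  have he : z⁻¹ = z := inv_eq_of_mul_eq_one_right h2
  have hm := congrArg (fun w : Matrix.SpecialLinearGroup (Fin 2) K => (w : Matrix (Fin 2) (Fin 2) K)) he
  simp only [Matrix.SpecialLinearGroup.coe_inv, Matrix.adjugate_fin_two] at hm
  have h00 := congrFun (congrFun hm 0) 0
  have h01 := congrFun (congrFun hm 0) 1
  have h10 := congrFun (congrFun hm 1) 0
  simp at h00 h01 h10
  have two : (2 : K) ≠ 0 := Dickson.two_ne hp2
  have hb : (z : Matrix (Fin 2) (Fin 2) K) 0 1 = 0 :=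
    (mul_eq_zero.mp (by linear_combination -h01 :
      (2 : K) * (z : Matrix (Fin 2) (Fin 2) K) 0 1 = 0)).resolve_left two
  have hc : (z : Matrix (Fin 2) (Fin 2) K) 1 0 = 0 :=
    (mul_eq_zero.mp (by linear_combination -h10 :
      (2 : K) * (z : Matrix (Fin 2) (Fin 2) K) 1 0 = 0)).resolve_left two
  have hd := Dickson.det_eq z
  rw [hb, h00, zero_mul, sub_zero] at hd
  rcases mul_self_eq_one_iff.mp hd with ha | ha
  · exfalso
    apply h1
    apply Dickson.sl_ext
    apply Classical.SL2.coord <;> simp [ha, hb, hc, h00]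
  · apply Dickson.sl_ext
    rw [Dickson.negI_coe]
    apply Classical.SL2.coord <;> simp [ha, hb, hc, h00]

/-- The pair lemma. -/
theorem exists_two_element (hp2 : p ≠ 2) {Y V : Type*} [Group Y] [Finite Y] [CommGroup V] [Finite V]
    (hexp : ∀ v : V, v ^ p = 1) (φ : Y →* MulAut V) (hφ : Function.Injective φ)
    {a : Y} (ha : Quad.QuadAct φ a) (hna : a ∉ pCore p Y) :
    ∃ (R : Subgroup Y) (t : Y), IsPGroup p R ∧ a ∈ R ∧ t ∈ normalizer (R : Set Y) ∧ t ≠ 1 ∧
      ∃ k : ℕ, t ^ 2 ^ k = 1 := by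
  classical
  have hap : a ^ p = 1 := ha.pow_prime hexp hφ
  set pr := fun g : Y => Subgroup.closure ({a, g * a * g⁻¹} : Set Y) with hpr
  have hap' : IsPGroup p (zpowers a) := isPGroup_of_elemAbelian (elemAbelian_zpowers hap)
  have hle : ∀ g : Y, zpowers a ⊔ MulAut.conj g • zpowers a ≤ pr g := by
    intro g
    refine sup_le (zpowers_le.mpr (subset_closure (by simp))) ?_
    intro x hx
    obtain ⟨y, ⟨k, rfl⟩, rfl⟩ := hx
    have hb : g * a * g⁻¹ ∈ pr g := subset_closure (by simp)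
    simpa [MulAut.smul_def] using (pr g).zpow_mem hb k
  obtain ⟨g₀, hg₀⟩ : ∃ g : Y, ¬ IsPGroup p (pr g) := by
    by_contra hall
    push Not at hall
    obtain ⟨N, hN, hNp, haN⟩ := Inv.baerSuzuki (zpowers a) hap' fun g => (hall g).to_le (hle g)
    exact hna (le_pCore hNp (haN (mem_zpowers a)))
  obtain ⟨g, hg, hmin⟩ := Set.exists_min_image {g : Y | ¬ IsPGroup p (pr g)} (fun g => Nat.card (pr g))
    (Set.toFinite _) ⟨g₀, hg₀⟩
  set b := g * a * g⁻¹ with hb
  set X := pr g with hX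
  have haX : a ∈ X := subset_closure (by simp)
  have hbX : b ∈ X := subset_closure (by simp [hb])
  obtain ⟨hmod, ρ, hρ, hq⟩ := Quad.exists_linear (p := p) hexp (φ.comp X.subtype)
  haveI : Finite (Additive V) := ‹Finite V›
  obtain ⟨K, _, _, χ, f, hf, hfle, hnc⟩ := Quad.exists_hom_of_pair hp2 ρ
    (hρ (hφ.comp X.subtype_injective)) ⟨a, haX⟩ ⟨b, hbX⟩ (Quad.closure_pair_top a b)
    (hq _ ha) (hq _ (ha.conj g)) hg
  set z := f Dickson.negI with hz
  have hz2 : z * z = 1 := by
    rw [hz, ← map_mul, show (Dickson.negI : Matrix.SpecialLinearGroup (Fin 2) (ZMod p)) * Dickson.negI = 1 from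
      Dickson.sl_ext (by rw [Dickson.neg_coe, Dickson.negI_coe, neg_neg]; rfl), map_one]
  have hz1 : z ≠ 1 := fun h => by
    have h' := hf (h.trans (map_one f).symm)
    have h0 := congrArg (fun w : Matrix.SpecialLinearGroup (Fin 2) (ZMod p) =>
      (w : Matrix (Fin 2) (Fin 2) (ZMod p)) 0 0) h'
    simp [Dickson.negI_coe] at h0
    exact Dickson.two_ne (F := ZMod p) hp2 (by linear_combination -h0)
  have hzn : z = Dickson.negI := eq_negI hp2 hz2 hz1
  have hcen : ∀ w : Matrix.SpecialLinearGroup (Fin 2) K, Commute z w := fun w => Dickson.sl_ext (by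
    rw [hzn, Dickson.neg_coe, Matrix.SpecialLinearGroup.coe_mul, Dickson.negI_coe, mul_neg_one])
  obtain ⟨x₀, hx₀⟩ := hfle ⟨Dickson.negI, rfl⟩
  set D := Subgroup.closure ({χ ⟨a, haX⟩, z} : Set (Matrix.SpecialLinearGroup (Fin 2) K)) with hD
  haveI hDc : IsMulCommutative D := isMulCommutative_closure (by
    rintro u (rfl | rfl) v (rfl | rfl)
    exacts [rfl, (hcen _).symm.eq, (hcen _).eq, rfl])
  set L := (D.comap χ).map X.subtype with hL
  have hLX : L < X := by
    refine lt_of_le_of_ne (map_subtype_le _) fun h => hnc ?_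
    have hbL : b ∈ L := h ▸ hbX
    obtain ⟨b', hb', hbb⟩ := hbL
    have hb'' : b' = ⟨b, hbX⟩ := Subtype.ext hbb
    subst hb''
    exact congrArg Subtype.val (hDc.is_comm.comm (⟨χ ⟨a, haX⟩, subset_closure (by simp)⟩ : D) ⟨_, hb'⟩)
  have haL : a ∈ L := ⟨⟨a, haX⟩, subset_closure (by simp), rfl⟩
  have hxL : (x₀ : Y) ∈ L := ⟨x₀, show χ x₀ ∈ D by rw [hx₀]; exact subset_closure (by simp [hz]), rfl⟩
  -- Baer–Suzuki inside the proper subgroup
  obtain ⟨N, hN, hNp, haN⟩ := Inv.baerSuzuki (G := L) (zpowers (⟨a, haL⟩ : L))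
    (isPGroup_of_elemAbelian (elemAbelian_zpowers (Subtype.ext hap))) fun l => by
      have hp' : IsPGroup p (pr (l : Y)) := by
        by_contra hcon
        have h1 := hmin (l : Y) hcon
        have hsub : pr (l : Y) ≤ L := (closure_le _).mpr (by
          rintro w (rfl | rfl)
          exacts [haL, L.mul_mem (L.mul_mem l.2 haL) (L.inv_mem l.2)])
        have h2 := card_le_of_le hsub
        have h3 : Nat.card L < Nat.card X :=
          lt_of_le_of_ne (card_le_of_le hLX.le) fun h => hLX.ne (eq_of_le_of_card_ge hLX.le h.ge)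
        omega
      refine (hp'.to_le ?_).of_equiv (equivMapOfInjective _ L.subtype L.subtype_injective).symm
      rw [Subgroup.map_sup]
      refine le_trans (sup_le_sup ?_ ?_) (hle (l : Y))
      · rw [MonoidHom.map_zpowers]; exact le_rfl
      · rintro _ ⟨w, ⟨u, hu, rfl⟩, rfl⟩
        refine ⟨(u : Y), ?_, rfl⟩
        obtain ⟨i, rfl⟩ := hu
        exact ⟨i, rfl⟩
  obtain ⟨m, j, hm, hj⟩ := exists_odd_two_pow (x₀ : Y)
  refine ⟨N.map L.subtype, (x₀ : Y) ^ m, hNp.map _, ⟨⟨a, haL⟩, haN (mem_zpowers _), rfl⟩, ?_,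
    fun h => hz1 ?_, ⟨j, hj⟩⟩
  · refine (le_normalizer_map L.subtype) ⟨⟨(x₀ : Y) ^ m, L.pow_mem hxL m⟩, ?_, rfl⟩
    rw [SetLike.mem_coe, normalizer_eq_top_iff.mpr hN]
    trivial
  · have h' : x₀ ^ m = 1 := Subtype.ext h
    obtain ⟨i, rfl⟩ := hm
    have := congrArg χ h'
    rwa [map_pow, hx₀, map_one, pow_succ, pow_mul, pow_two, hz2, one_pow, one_mul] at this

end Cfsg.Agent.Solv.Real
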