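import Mathlib

/-!
The theorem of Krull, Remak and Schmidt for finite groups.
-/

set_option autoImplicit false
open Subgroup

namespace Cfsg.Agent.Solv

universe u v

/-- An endomorphism commuting with all inner automorphisms. -/
def IsNormalEnd {A : Type*} [Group A] (ψ : A →* A) : Prop :=
  ∀ a x : A, ψ (a * x * a⁻¹) = a * ψ x * a⁻¹

/-- A group with no proper direct decomposition. -/
def IsIndec (A : Type*) [Group A] : Prop :=
  ∀ H K : Subgroup A, H.Normal → K.Normal → H ⊓ K = ⊥ → H ⊔ K = ⊤ → H = ⊥ ∨ K = ⊥

/-- Fitting's lemma: a normal endomorphism of an indecomposable group that is not injective is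
nilpotent. -/
theorem fitting_nilpotent {A : Type*} [Group A] [Finite A] (hA : IsIndec A) (u : A →* A)
    (hu : IsNormalEnd u) (hni : ¬ Function.Injective u) : ∃ k : ℕ, ∀ x, (⇑u)^[k] x = 1 := by
  let P : ℕ → A →* A := fun k => Nat.rec (MonoidHom.id A) (fun _ q => u.comp q) k
  have hP : ∀ k x, P k x = (⇑u)^[k] x := by
    intro k
    induction k with
    | zero => intro x; rfl
    | succ k ih => intro x; rw [Function.iterate_succ_apply', ← ih]; rfl
  have hPn : ∀ k, IsNormalEnd (P k) := by
    intro k
    induction k with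
    | zero => intro a x; rfl
    | succ k ih =>
      intro a x
      show u (P k (a * x * a⁻¹)) = _
      rw [ih a x, hu]
      rfl
  have hmono : Monotone fun k => (P k).ker := monotone_nat_of_le_succ fun k x hx => by
    show u (P k x) = 1
    rw [MonoidHom.mem_ker.1 hx, map_one]
  obtain ⟨N, hN⟩ : ∃ N, ∀ m, N ≤ m → (P N).ker = (P m).ker := by
    obtain ⟨N, hN⟩ := Finite.exists_le_maximal (p := fun H : Subgroup A => ∃ k, (P k).ker = H)
      (a := (P 0).ker) ⟨0, rfl⟩ |>.choose_spec.2.1
    refine ⟨N, fun m hm => le_antisymm (hmono hm) ?_⟩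
    have hmax := (Finite.exists_le_maximal (p := fun H : Subgroup A => ∃ k, (P k).ker = H)
      (a := (P 0).ker) ⟨0, rfl⟩).choose_spec.2.2
    rw [hN]
    exact hmax ⟨m, rfl⟩ (hN ▸ hmono hm)
  have hadd : ∀ j k x, P (j + k) x = P j (P k x) := by
    intro j k x
    rw [hP, hP, hP, Function.iterate_add_apply]
  have hdis : (P (N + 1)).range ⊓ (P (N + 1)).ker = ⊥ := by
    rw [eq_bot_iff]
    rintro _ ⟨⟨y, rfl⟩, hy⟩
    replace hy : P (N + 1) (P (N + 1) y) = 1 := hy
    replace hy : P (N + 1 + (N + 1)) y = 1 := (hadd (N + 1) (N + 1) y).trans hy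
    have : y ∈ (P (N + 1)).ker := by
      rw [← hN (N + 1) (by omega), hN (N + 1 + (N + 1)) (by omega)]
      exact MonoidHom.mem_ker.2 hy
    exact MonoidHom.mem_ker.1 this
  have hrn : ((P (N + 1)).range).Normal := ⟨by
    rintro _ ⟨y, rfl⟩ a
    exact ⟨a * y * a⁻¹, hPn (N + 1) a y⟩⟩
  have hsup : (P (N + 1)).range ⊔ (P (N + 1)).ker = ⊤ := by
    rw [eq_top_iff']
    intro x
    let R := (P (N + 1)).range
    have hsur : Function.Surjective (fun r : R => (⟨P (N + 1) r, ⟨_, rfl⟩⟩ : R)) :=
      Finite.surjective_of_injective fun r s h => by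
        have h' : P (N + 1) (r : A) = P (N + 1) (s : A) := congrArg Subtype.val h
        have : (r : A) * (s : A)⁻¹ ∈ R ⊓ (P (N + 1)).ker :=
          ⟨R.mul_mem r.2 (R.inv_mem s.2), by
            show P (N + 1) ((r : A) * (s : A)⁻¹) = 1
            rw [map_mul, map_inv, h', mul_inv_cancel]⟩
        rw [hdis, mem_bot, mul_inv_eq_one] at this
        exact Subtype.ext this
    obtain ⟨r, hr⟩ := hsur ⟨P (N + 1) x, ⟨x, rfl⟩⟩
    have hr' : P (N + 1) (r : A) = P (N + 1) x := congrArg Subtype.val hr
    rw [show x = (r : A) * ((r : A)⁻¹ * x) by group]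
    exact mul_mem_sup r.2 (by rw [MonoidHom.mem_ker, map_mul, map_inv, hr', inv_mul_cancel])
  rcases hA _ _ hrn inferInstance hdis hsup with h | h
  · exact ⟨N + 1, fun x => by rw [← hP, ← mem_bot, ← h]; exact ⟨x, rfl⟩⟩
  · exfalso
    apply hni
    rw [← MonoidHom.ker_eq_bot_iff, eq_bot_iff]
    refine le_trans ?_ h.le
    intro x hx
    have : x ∈ (P 1).ker := hx
    exact hmono (Nat.le_add_left 1 N) this

/-- If a product of two normal endomorphisms is injective, one of them is. -/
theorem injective_of_mul {A : Type*} [Group A] [Finite A] (hA : IsIndec A) (s t w : A →* A)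
    (hs : IsNormalEnd s) (hw : IsNormalEnd w)
    (hst : ∀ x, w x = s x * t x) (hinj : Function.Injective w) :
    Function.Injective s ∨ Function.Injective t := by
  by_contra hno
  push_neg at hno
  obtain ⟨hs', ht'⟩ := hno
  let e : A ≃* A := MulEquiv.ofBijective w (Finite.injective_iff_bijective.1 hinj)
  let u : A →* A := e.symm.toMonoidHom.comp s
  have hu : IsNormalEnd u := fun a x => e.injective (by
    show e (e.symm (s (a * x * a⁻¹))) = w (a * e.symm (s x) * a⁻¹)
    rw [e.apply_symm_apply, hw, hs]
    congr 2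
    exact (e.apply_symm_apply (s x)).symm)
  obtain ⟨k, hk⟩ := fitting_nilpotent hA u hu fun h => hs' fun x y hxy => h (congrArg e.symm hxy)
  apply ht'
  rw [← MonoidHom.ker_eq_bot_iff, eq_bot_iff]
  intro x hx
  have hux : u x = x := e.symm_apply_eq.2 (by
    show s x = w x
    rw [hst, MonoidHom.mem_ker.1 hx, mul_one])
  rw [mem_bot, ← hk x, Function.iterate_fixed hux]

/-- The exchange step and the induction. -/
theorem remak : ∀ {m n : ℕ} {A : Fin m → Type u} {B : Fin n → Type v} [∀ i, Group (A i)]
    [∀ j, Group (B j)] [∀ i, Finite (A i)] [∀ j, Finite (B j)],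
    (∀ i, Nontrivial (A i) ∧ IsIndec (A i)) → (∀ j, Nontrivial (B j) ∧ IsIndec (B j)) →
    (((i : Fin m) → A i) ≃* ((j : Fin n) → B j)) →
    ∃ σ : Fin m ≃ Fin n, ∀ i, Nonempty (A i ≃* B (σ i)) := by
  intro m
  induction m with
  | zero =>
    intro n A B _ _ _ _ _ hB e
    rcases Nat.eq_zero_or_pos n with rfl | hn
    · exact ⟨Equiv.refl _, fun i => i.elim0⟩
    · exfalso
      haveI := (hB ⟨0, hn⟩).1
      obtain ⟨b, hb⟩ := exists_ne (1 : B ⟨0, hn⟩)
      classical
      have h : e.symm (Pi.mulSingle ⟨0, hn⟩ b) = e.symm 1 := funext fun i => i.elim0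
      exact hb (by simpa using congrFun (e.symm.injective h) ⟨0, hn⟩)
  | succ m ih =>
    intro n A B _ _ _ _ hA hB e
    classical
    haveI := (hA 0).1
    let πA : ((j : Fin n) → B j) →* A 0 := (Pi.evalMonoidHom A 0).comp e.symm.toMonoidHom
    let ιA : A 0 →* ((j : Fin n) → B j) := e.toMonoidHom.comp (MonoidHom.mulSingle A 0)
    have hπι : ∀ a, πA (ιA a) = a := fun a => by simp [πA, ιA]
    let cut : Finset (Fin n) → ((j : Fin n) → B j) →* ((j : Fin n) → B j) := fun S =>
      { toFun := fun x j => if j ∈ S then x j else 1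
        map_one' := funext fun j => by simp
        map_mul' := fun x y => funext fun j => by by_cases hj : j ∈ S <;> simp [hj] }
    let ψ : Finset (Fin n) → A 0 →* A 0 := fun S => πA.comp ((cut S).comp ιA)
    have hψn : ∀ S, IsNormalEnd (ψ S) := by
      intro S a x
      show πA (cut S (ιA (a * x * a⁻¹))) = a * πA (cut S (ιA x)) * a⁻¹
      rw [map_mul ιA, map_mul ιA, map_inv ιA]
      have h : cut S (ιA a * ιA x * (ιA a)⁻¹) = ιA a * cut S (ιA x) * (ιA a)⁻¹ := by
        funext j
        by_cases hj : j ∈ S <;> simp [cut, hj]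
      rw [h, map_mul πA, map_mul πA, map_inv πA, hπι]
    obtain ⟨j, hj⟩ : ∃ j, Function.Injective (ψ {j}) := by
      by_contra hno
      push_neg at hno
      have key : ∀ S, ¬ Function.Injective (ψ S) := by
        intro S
        induction S using Finset.induction_on with
        | empty =>
          intro h
          obtain ⟨a, ha⟩ := exists_ne (1 : A 0)
          refine ha (h ?_)
          have : ∀ x, cut ∅ x = 1 := fun x => funext fun j => by simp [cut]
          show πA (cut ∅ (ιA a)) = πA (cut ∅ (ιA 1))
          rw [this, this]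
        | insert j S hjS ihS =>
          intro h
          refine (injective_of_mul (hA 0).2 (ψ S) (ψ {j}) (ψ (insert j S)) (hψn S) (hψn _) (fun x => ?_) h).elim ihS (hno j)
          show πA (cut (insert j S) (ιA x)) = πA (cut S (ιA x)) * πA (cut {j} (ιA x))
          rw [← map_mul]
          congr 1
          funext i
          rcases eq_or_ne i j with rfl | hne
          · simp [cut, hjS]
          · by_cases hi : i ∈ S <;> simp [cut, hi, hne]
      refine key Finset.univ fun x y h => ?_
      have huniv : ∀ x, cut Finset.univ x = x := fun x => funext fun j => by simp [cut]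
      simpa [ψ, huniv, hπι] using h
    obtain ⟨n, rfl⟩ : ∃ k, n = k + 1 := ⟨n - 1, by have := j.pos; omega⟩
    let f : A 0 →* B j := (Pi.evalMonoidHom B j).comp ιA
    let g : B j →* A 0 := πA.comp (MonoidHom.mulSingle B j)
    have hgf : ∀ a, g (f a) = ψ {j} a := fun a => by
      show πA (Pi.mulSingle j (ιA a j)) = πA (cut {j} (ιA a))
      congr 1
      funext i
      rcases eq_or_ne i j with rfl | hne
      · simp [cut]
      · simp [cut, hne]
    have hfi : Function.Injective f := fun a b h => hj (by rw [← hgf, ← hgf, h])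
    have hrn : f.range.Normal := ⟨by
      rintro _ ⟨a, rfl⟩ b
      refine ⟨(e.symm (Pi.mulSingle j b)) 0 * a * ((e.symm (Pi.mulSingle j b)) 0)⁻¹, ?_⟩
      have h1 : ιA ((e.symm (Pi.mulSingle j b)) 0 * a * ((e.symm (Pi.mulSingle j b)) 0)⁻¹) =
          Pi.mulSingle j b * ιA a * (Pi.mulSingle j b)⁻¹ := by
        apply e.symm.injective
        simp only [ιA, MonoidHom.comp_apply, MulEquiv.coe_toMonoidHom, map_mul, map_inv,
          MulEquiv.symm_apply_apply]
        funext i
        rcases eq_or_ne i 0 with rfl | hne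
        · simp
        · simp [hne]
      show ιA _ j = b * ιA a j * b⁻¹
      rw [h1]
      simp⟩
    have hdis : f.range ⊓ g.ker = ⊥ := by
      rw [eq_bot_iff]
      rintro _ ⟨⟨a, rfl⟩, ha⟩
      replace ha : g (f a) = 1 := ha
      rw [hgf] at ha
      rw [hj (ha.trans (map_one _).symm), map_one]
      exact one_mem _
    have hsup : f.range ⊔ g.ker = ⊤ := by
      rw [eq_top_iff']
      intro b
      obtain ⟨a, ha⟩ := Finite.injective_iff_surjective.1 hj (g b)
      rw [show b = f a * ((f a)⁻¹ * b) by group]
      exact mul_mem_sup ⟨a, rfl⟩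
        (by rw [MonoidHom.mem_ker, map_mul, map_inv, hgf, ha, inv_mul_cancel])
    have hgk : g.ker = ⊥ := by
      rcases (hB j).2 _ _ hrn inferInstance hdis hsup with h | h
      · exfalso
        obtain ⟨a, ha⟩ := exists_ne (1 : A 0)
        refine ha (hfi ?_)
        rw [map_one, ← mem_bot, ← h]
        exact ⟨a, rfl⟩
      · exact h
    rw [hgk, sup_bot_eq, MonoidHom.range_eq_top] at hsup
    let e0 : A 0 ≃* B j := MulEquiv.ofBijective f ⟨hfi, hsup⟩
    let θ : ((i : Fin n) → B (j.succAbove i)) →* ((i : Fin m) → A i.succ) :=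
      { toFun := fun y i => e.symm (j.insertNth (1 : B j) y) i.succ
        map_one' := funext fun i => by
          have h : (j.insertNth (1 : B j) (1 : (i : Fin n) → B (j.succAbove i))) = 1 := by
            rw [Fin.insertNth_eq_iff]; exact ⟨rfl, rfl⟩
          rw [h, map_one]; rfl
        map_mul' := fun x y => funext fun i => by
          have h : (j.insertNth (1 : B j) (x * y)) = j.insertNth (1 : B j) x * j.insertNth (1 : B j) y := by
            rw [Fin.insertNth_eq_iff]
            refine ⟨by simp, ?_⟩
            funext k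
            simp [Fin.removeNth]
          rw [h, map_mul]; rfl }
    have hθi : Function.Injective θ := by
      rw [← MonoidHom.ker_eq_bot_iff, eq_bot_iff]
      intro y hy
      have hy' : ∀ i : Fin m, e.symm (j.insertNth (1 : B j) y) i.succ = 1 :=
        fun i => congrFun (MonoidHom.mem_ker.1 hy) i
      have h1 : j.insertNth (1 : B j) y = ιA (πA (j.insertNth (1 : B j) y)) := by
        apply e.symm.injective
        simp only [ιA, πA, MonoidHom.comp_apply, MulEquiv.coe_toMonoidHom, MulEquiv.symm_apply_apply,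
          Pi.evalMonoidHom_apply, MonoidHom.mulSingle_apply]
        funext i
        cases i using Fin.cases with
        | zero => simp
        | succ i => simp [hy' i]
      have h2 : f (πA (j.insertNth (1 : B j) y)) = 1 := by
        show ιA _ j = 1
        rw [← h1, Fin.insertNth_apply_same]
      rw [hfi (h2.trans (map_one f).symm), map_one] at h1
      rw [mem_bot]
      funext k
      simpa using congrFun h1 (j.succAbove k)
    have hcard : Nat.card ((i : Fin n) → B (j.succAbove i)) = Nat.card ((i : Fin m) → A i.succ) := by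
      have h := Nat.card_congr e.toEquiv
      rw [Nat.card_congr (Fin.insertNthEquiv B j).symm, Nat.card_congr (Fin.insertNthEquiv A 0).symm,
        Nat.card_prod, Nat.card_prod, Nat.card_congr e0.toEquiv] at h
      exact (Nat.eq_of_mul_eq_mul_left Nat.card_pos h).symm
    have hθs : Function.Bijective θ := hθi.bijective_of_nat_card_le hcard.ge
    obtain ⟨σ, hσ⟩ := ih (fun i => hA i.succ) (fun k => hB (j.succAbove k))
      (MulEquiv.ofBijective θ hθs).symm
    refine ⟨(finSuccEquiv' 0).trans ((Equiv.optionCongr σ).trans (finSuccEquiv' j).symm), fun i => ?_⟩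
    cases i using Fin.cases with
    | zero => simp; exact ⟨e0⟩
    | succ i =>
      rw [show ((finSuccEquiv' 0).trans ((Equiv.optionCongr σ).trans (finSuccEquiv' j).symm)) i.succ = j.succAbove (σ i) by
        simp [finSuccEquiv'_zero]]
      exact hσ i

end Cfsg.Agent.Solv
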