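import Cfsg.Agent.Lib.Struct.FrobeniusCount

/-!
# The number of `n`-th roots of a central element, and of a conjugacy class
-/

set_option autoImplicit false
open Subgroup

universe u

namespace Cfsg.Agent.Solv.RootCount

variable {G : Type u} [Group G] [Finite G]

/-- `u ^ (o n₁) = 1` and `u ^ n = c` force the order to be `o n₁`. -/
theorem orderOf_root {c u : G} {n n₁ : ℕ} (hdvd : n₁ ∣ n)
    (hpr : ∀ q : ℕ, q.Prime → q ∣ n₁ → q ∣ orderOf c)
    (hu : u ^ (orderOf c * n₁) = 1) (hn : u ^ n = c) : orderOf u = orderOf c * n₁ := by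
  rcases Nat.eq_zero_or_pos n with rfl | hn0
  · rw [pow_zero] at hn
    subst hn
    rw [orderOf_one, one_mul] at hu ⊢
    have h1 : n₁ = 1 := by
      by_contra h
      obtain ⟨q, hq, hd⟩ := Nat.exists_prime_and_dvd h
      exact hq.not_dvd_one (orderOf_one (G := G) ▸ hpr q hq hd)
    subst h1
    rw [pow_one] at hu
    rw [hu, orderOf_one]
  set L := orderOf u with hL
  set d := Nat.gcd L n with hd
  have hc : orderOf c = L / d := by rw [← hn, orderOf_pow' _ hn0.ne']
  have hLd : L = orderOf c * d := by rw [hc, Nat.div_mul_cancel (Nat.gcd_dvd_left L n)]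
  have hd1 : d ∣ n₁ := by
    have h1 : orderOf c * d ∣ orderOf c * n₁ := hLd ▸ orderOf_dvd_of_pow_eq_one hu
    exact Nat.dvd_of_mul_dvd_mul_left (orderOf_pos c) h1
  obtain ⟨t, ht⟩ := hd1
  suffices t = 1 by rw [hLd, ht, this, mul_one]
  by_contra h
  obtain ⟨q, hq, hqt⟩ := Nat.exists_prime_and_dvd h
  have hqn : q ∣ n₁ := ht ▸ hqt.mul_left d
  have h2 : d * q ∣ L := hLd ▸ (mul_comm (orderOf c) d ▸ mul_dvd_mul_left d (hpr q hq hqn))
  have h3 : d * q ∣ n := ((mul_dvd_mul_left d hqt).trans (ht ▸ dvd_rfl)).trans hdvd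
  have h4 : d * q ∣ d * 1 := by rw [mul_one]; exact Nat.dvd_gcd h2 h3
  exact hq.not_dvd_one (Nat.dvd_of_mul_dvd_mul_left
    (Nat.gcd_pos_of_pos_right L hn0) h4)

/-- Roots of a central element. -/
theorem dvd_card_roots {c : G} (hc : ∀ g : G, Commute g c) (n : ℕ) :
    Nat.gcd n (Nat.card G) ∣ Nat.card {x : G // x ^ n = c} := by
  classical
  rcases Nat.eq_zero_or_pos n with rfl | hn0
  · rcases eq_or_ne c 1 with rfl | hc1
    · rw [Nat.card_congr (Equiv.subtypeUnivEquiv fun x : G => pow_zero x), Nat.gcd_zero_left]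
    · rw [Nat.card_eq_zero.2 (Or.inl (⟨fun x => hc1 (x.2.symm.trans (pow_zero _))⟩ :
        IsEmpty {x : G // x ^ 0 = c}))]
      exact dvd_zero _
  set o := orderOf c with ho
  set n₁ := Nat.gcd n (o ^ n) with hn₁
  obtain ⟨n₂, hn₂⟩ : n₁ ∣ n := Nat.gcd_dvd_left _ _
  have hpr : ∀ q : ℕ, q.Prime → q ∣ n₁ → q ∣ o := fun q hq hd =>
    hq.dvd_of_dvd_pow (hd.trans (Nat.gcd_dvd_right _ _))
  have hcop2 : Nat.Coprime o n₂ := by
    rw [Nat.coprime_iff_gcd_eq_one]
    by_contra h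
    obtain ⟨q, hq, hqg⟩ := Nat.exists_prime_and_dvd h
    obtain ⟨v, t, ht, hnv⟩ := Nat.exists_eq_pow_mul_and_not_dvd hn0.ne' q hq.ne_one
    have hvn : v ≤ n := by
      have h1 : q ^ v ≤ n := Nat.le_of_dvd hn0 ⟨t, hnv⟩
      exact (Nat.lt_pow_self hq.one_lt).le.trans h1
    have h1 : q ^ v ∣ n₁ := Nat.dvd_gcd ⟨t, hnv⟩
      ((pow_dvd_pow q hvn).trans (pow_dvd_pow_of_dvd (hqg.trans (Nat.gcd_dvd_left _ _)) n))
    have h2 : q ^ v * q ∣ q ^ v * t := hnv ▸ hn₂ ▸ mul_dvd_mul h1 (hqg.trans (Nat.gcd_dvd_right _ _))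
    exact ht (Nat.dvd_of_mul_dvd_mul_left (pow_pos hq.pos v) h2)
  have hcop1 : Nat.Coprime n₁ n₂ := Nat.coprime_of_dvd fun q hq h1 h2 =>
    hq.not_dvd_one (hcop2 ▸ Nat.dvd_gcd (hpr q hq h1) h2)
  set O := o * n₁ with hO
  have hcop : Nat.Coprime O n₂ := hcop2.mul_left hcop1
  obtain ⟨e, heO, heR⟩ := Nat.chineseRemainder hcop 1 0
  have heo : e ≡ 1 [MOD o] := heO.of_dvd (dvd_mul_right o n₁)
  have hce : c ^ e = c := (Struct.FrobeniusCount.pow_eq_pow_of_mod (pow_orderOf_eq_one c) heo).trans (pow_one c)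
  have hOR : O * n₂ = o * n := by rw [hO, hn₂, mul_assoc]
  have hsol : ∀ x : G, x ^ n = c → x ^ (O * n₂) = 1 := fun x hx => by
    rw [hOR, mul_comm, pow_mul, hx, pow_orderOf_eq_one]
  have hu : ∀ x : G, x ^ n = c → (x ^ e) ^ O = 1 ∧ (x ^ e) ^ n = c := by
    intro x hx
    refine ⟨?_, by rw [← pow_mul, mul_comm, pow_mul, hx, hce]⟩
    obtain ⟨t, ht⟩ := Nat.modEq_zero_iff_dvd.1 heR
    rw [← pow_mul, ht, show n₂ * t * O = O * n₂ * t by ring, pow_mul, hsol x hx, one_pow]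
  have hback : ∀ x : G, x ^ (O * n₂) = 1 → (x ^ e) ^ n = c → x ^ n = c := by
    intro x h1 h2
    rw [← h2, ← pow_mul]
    refine Struct.FrobeniusCount.pow_eq_pow_of_mod h1 ((Nat.modEq_and_modEq_iff_modEq_mul hcop).1 ⟨?_, ?_⟩)
    · simpa using (heO.mul_right n).symm
    · exact (Nat.modEq_zero_iff_dvd.2 (hn₂ ▸ dvd_mul_left n₂ n₁)).trans
        (Nat.modEq_zero_iff_dvd.2 (((Nat.modEq_zero_iff_dvd.1 heR)).mul_right n)).symm
  -- the part prime to the order of `c`
  have hB : Nat.gcd n₂ (Nat.card G) ∣ Nat.card {x : G // x ^ n = c} := by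
    set r := Nat.gcd n₂ (Nat.card G) with hr
    have hr2 : r ∣ n₂ := Nat.gcd_dvd_left _ _
    have hiff : ∀ x : G, x ^ n = c ↔ (x ^ (O * r) = 1 ∧ (fun u : G => u ^ O = 1 ∧ u ^ n = c) (x ^ e)) := by
      intro x
      constructor
      · intro hx
        refine ⟨?_, hu x hx⟩
        have h1 : x ^ Nat.gcd (O * n₂) (Nat.card G) = 1 := pow_gcd_eq_one.2 ⟨hsol x hx, pow_card_eq_one'⟩
        obtain ⟨t, ht⟩ : Nat.gcd (O * n₂) (Nat.card G) ∣ O * r := by
          rw [hr, ← Nat.gcd_mul_left]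
          exact Nat.dvd_gcd (Nat.gcd_dvd_left _ _) ((Nat.gcd_dvd_right _ _).mul_left O)
        rw [ht, pow_mul, h1, one_pow]
      · rintro ⟨h1, -, h2⟩
        obtain ⟨t, ht⟩ := mul_dvd_mul_left O hr2
        exact hback x (by rw [ht, pow_mul, h1, one_pow]) h2
    rw [Nat.card_congr (Equiv.subtypeEquivRight hiff)]
    refine Struct.FrobeniusCount.dvd_card_good O r e (hcop.coprime_dvd_right hr2) heO (heR.of_dvd hr2)
      (Nat.gcd_dvd_right _ _) (fun u : G => u ^ O = 1 ∧ u ^ n = c) (fun u g h => ⟨?_, ?_⟩) (fun u h => h.1) (fun u _ => ?_)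
    · rw [conj_pow, h.1, mul_one, mul_inv_cancel]
    · rw [conj_pow, h.2, (hc g).eq, mul_inv_cancel_right]
    · set m := Nat.gcd r (Nat.card (centralizer ({u} : Set G))) with hm
      have h1 := Struct.FrobeniusCount.dvd_card_sol _ (centralizer ({u} : Set G)) rfl m (Nat.gcd_dvd_right _ _)
      refine h1.trans (dvd_of_eq (Nat.card_congr (Equiv.subtypeEquivRight fun v => ⟨fun hv => ?_, fun hv =>
        pow_gcd_eq_one.2 ⟨hv, pow_card_eq_one'⟩⟩)))
      obtain ⟨t, ht⟩ : m ∣ r := Nat.gcd_dvd_left _ _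
      rw [ht, pow_mul, hv, one_pow]
  -- the part dividing a power of the order of `c`
  have hA : n₁ ∣ Nat.card {x : G // x ^ n = c} := by
    haveI := Fintype.ofFinite G
    rw [Nat.card_eq_fintype_card, Fintype.card_subtype,
      Finset.card_eq_sum_card_fiberwise (f := fun x : G => (zpowers (x ^ e), x * (x ^ e)⁻¹))
        (t := (Finset.univ.filter fun x : G => x ^ n = c).image fun x : G => (zpowers (x ^ e), x * (x ^ e)⁻¹))
        (fun x hx => Finset.mem_image_of_mem _ hx)]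
    refine Finset.dvd_sum fun k hk => ?_
    obtain ⟨x, hx, rfl⟩ := Finset.mem_image.1 hk
    rw [Finset.mem_filter] at hx
    obtain ⟨huO, hun⟩ := hu x hx.2
    set w := x ^ e with hw
    set v := x * w⁻¹ with hv
    have hord := orderOf_root (hn₂ ▸ dvd_mul_right n₁ n₂) hpr huO hun
    have hvR : v ^ n₂ = 1 := by
      rw [hv, ((Commute.refl x).pow_right e).inv_right.mul_pow, inv_pow, ← pow_mul, mul_inv_eq_one]
      refine Struct.FrobeniusCount.pow_eq_pow_of_mod (hsol x hx.2) ((Nat.modEq_and_modEq_iff_modEq_mul hcop).1 ⟨?_, ?_⟩)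
      · simpa using (heO.mul_right n₂).symm
      · exact (Nat.modEq_zero_iff_dvd.2 dvd_rfl).trans (Nat.modEq_zero_iff_dvd.2 (dvd_mul_left n₂ e)).symm
    have hker : Nat.card (zpowers (w ^ o)) = n₁ := by
      rw [Nat.card_zpowers, orderOf_pow' _ (orderOf_pos c).ne', hord, Nat.gcd_eq_right (dvd_mul_right o n₁),
        Nat.mul_div_cancel_left _ (orderOf_pos c)]
    have hwn : (w ^ o) ^ n = 1 := by rw [← pow_mul, mul_comm, pow_mul, hun, pow_orderOf_eq_one]
    refine dvd_of_eq ?_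
    rw [← hker, ← Nat.card_eq_finsetCard]
    refine Nat.card_congr
      { toFun := fun z => ⟨w * (z : G) * v, ?_⟩
        invFun := fun y => ⟨w⁻¹ * (y.1 * v⁻¹), ?_⟩
        left_inv := fun z => Subtype.ext (by simp [mul_assoc])
        right_inv := fun y => Subtype.ext (by simp [mul_assoc]) }
    · obtain ⟨i, hi⟩ := mem_zpowers_iff.1 z.2
      have hcwv : Commute w v := (((Commute.refl x).pow_left e)).mul_right (Commute.refl w).inv_right
      have hyv : Commute (w * (z : G)) v := by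
        rw [← hi]; exact hcwv.mul_left ((hcwv.pow_left o).zpow_left i)
      have hwz : Commute w (z : G) := by
        rw [← hi]; exact ((Commute.refl w).pow_right o).zpow_right i
      have hzn : (z : G) ^ n = 1 := by
        rw [← hi, ← zpow_natCast, zpow_comm, zpow_natCast, hwn, one_zpow]
      have hy : (w * (z : G)) ^ n = c := by rw [hwz.mul_pow, hun, hzn, mul_one]
      have hzO : (z : G) ^ O = 1 := by
        rw [← hi, ← zpow_natCast, zpow_comm, zpow_natCast, ← pow_mul, mul_comm o, pow_mul, huO, one_pow, one_zpow]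
      have hyO : (w * (z : G)) ^ O = 1 := by rw [hwz.mul_pow, huO, hzO, one_mul]
      have hye : (w * (z : G) * v) ^ e = w * (z : G) := by
        rw [hyv.mul_pow, Struct.FrobeniusCount.pow_eq_pow_of_mod hvR heR, pow_zero, mul_one,
          Struct.FrobeniusCount.pow_eq_pow_of_mod hyO heO, pow_one]
      simp only [Finset.mem_filter, Finset.mem_univ, true_and, Prod.mk.injEq]
      have hvn : v ^ n = 1 := by rw [hn₂, mul_comm, pow_mul, hvR, one_pow]
      refine ⟨by rw [hyv.mul_pow, hy, hvn, mul_one], ?_, ?_⟩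
      · rw [hye]
        refine eq_of_le_of_card_ge (zpowers_le.2 (mul_mem (mem_zpowers w) ?_)) ?_
        · rw [← hi]; exact zpow_mem (pow_mem (mem_zpowers w) o) i
        · rw [Nat.card_zpowers, Nat.card_zpowers, hord, orderOf_root (hn₂ ▸ dvd_mul_right n₁ n₂) hpr hyO hy]
      · rw [hye, hyv.eq, mul_inv_cancel_right]
    · have hy2 := y.2
      simp only [Finset.mem_filter, Finset.mem_univ, true_and, Prod.mk.injEq] at hy2
      obtain ⟨hyn, hyK, hyv⟩ := hy2
      set y' := (y.1) ^ e with hy'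
      have h1 : y.1 * v⁻¹ = y' := by
        have h0 : v⁻¹ = (y.1 * y'⁻¹)⁻¹ := congrArg (·⁻¹) hyv.symm
        rw [h0, mul_inv_rev, inv_inv, ← mul_assoc, ((Commute.refl y.1).pow_right e).eq, mul_inv_cancel_right]
      rw [h1]
      obtain ⟨i, hi⟩ := mem_zpowers_iff.1 (hyK ▸ mem_zpowers y' : y' ∈ zpowers w)
      have h3 : w ^ ((i - 1) * n) = 1 := by
        rw [zpow_mul, zpow_sub, zpow_one, zpow_natCast, hi,
          ((hi ▸ (Commute.refl w).zpow_left i : Commute y' w).inv_right).mul_pow, inv_pow, hun,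
          (hu y.1 hyn).2, mul_inv_cancel]
      rw [← orderOf_dvd_iff_zpow_eq_one, hord, hn₂] at h3
      push_cast at h3
      rw [show (i - 1) * ((n₁ : ℤ) * n₂) = (i - 1) * n₂ * n₁ by ring] at h3
      have hn10 : (n₁ : ℤ) ≠ 0 := by exact_mod_cast (Nat.gcd_pos_of_pos_left _ hn0).ne'
      have h4 : (o : ℤ) ∣ (i - 1) * n₂ := Int.dvd_of_mul_dvd_mul_right hn10 h3
      obtain ⟨t, ht⟩ := (Int.isCoprime_iff_nat_coprime.2 (by simpa using hcop2) : IsCoprime (o : ℤ) n₂).dvd_of_dvd_mul_right h4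
      refine mem_zpowers_iff.2 ⟨t, ?_⟩
      rw [← zpow_natCast, ← zpow_mul, ← ht, ← hi, sub_eq_neg_add, zpow_add, zpow_neg, zpow_one]
  have h2 : Nat.gcd (Nat.card G) (n₁ * n₂) ∣ Nat.gcd (Nat.card G) n₁ * Nat.gcd (Nat.card G) n₂ :=
    Nat.gcd_mul_right_dvd_mul_gcd _ _ _
  rw [← hn₂, Nat.gcd_comm (Nat.card G) n] at h2
  refine h2.trans ?_
  exact (Nat.Coprime.gcd_both _ _ hcop1).mul_dvd_of_dvd_of_dvd ((Nat.gcd_dvd_right _ _).trans hA)
    (Nat.gcd_comm (Nat.card G) n₂ ▸ hB)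

/-- Roots of a conjugacy class. -/
theorem dvd_card_roots_class (c : G) (n : ℕ) :
    Nat.gcd (Nat.card {y : G // IsConj c y} * n) (Nat.card G) ∣ Nat.card {x : G // IsConj c (x ^ n)} := by
  classical
  set C := centralizer ({c} : Set G) with hC
  let z : C := ⟨c, mem_centralizer_singleton_iff.2 rfl⟩
  have h1 := dvd_card_roots (c := z)
    (fun g => Subtype.ext (mem_centralizer_singleton_iff.1 g.2)) n
  have h2 : Nat.card {x : C // x ^ n = z} = Nat.card {x : G // x ^ n = c} :=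
    Nat.card_congr
      { toFun := fun x => ⟨x.1.1, congrArg Subtype.val x.2⟩
        invFun := fun x => ⟨⟨x.1, mem_centralizer_singleton_iff.2
          (by have h := ((Commute.refl x.1).pow_right n).eq; rwa [x.2] at h)⟩, Subtype.ext x.2⟩
        left_inv := fun x => rfl
        right_inv := fun x => rfl }
  have h3 : Nat.card {x : G // IsConj c (x ^ n)} = Nat.card {y : G // IsConj c y} * Nat.card {x : G // x ^ n = c} := by
    rw [← Nat.card_prod]
    have hg : ∀ y : {y : G // IsConj c y}, ∃ g : G, g * c * g⁻¹ = y.1 := fun y => isConj_iff.1 y.2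
    choose g hgc using hg
    let F : {y : G // IsConj c y} × {x : G // x ^ n = c} → {x : G // IsConj c (x ^ n)} := fun w =>
      ⟨g w.1 * w.2.1 * (g w.1)⁻¹, by rw [conj_pow, w.2.2, hgc]; exact w.1.2⟩
    refine (Nat.card_eq_of_bijective F ⟨?_, ?_⟩).symm
    · rintro ⟨y, x⟩ ⟨y', x'⟩ e
      have e1 : g y * x.1 * (g y)⁻¹ = g y' * x'.1 * (g y')⁻¹ := congrArg Subtype.val e
      have e2 : y = y' := Subtype.ext (by
        have := congrArg (fun t : G => t ^ n) e1
        simpa only [conj_pow, x.2, x'.2, hgc] using this)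
      subst e2
      exact Prod.ext rfl (Subtype.ext (mul_left_cancel (mul_right_cancel e1)))
    · intro x
      have hy := hgc ⟨x.1 ^ n, x.2⟩
      simp only at hy
      generalize hgdef : g ⟨x.1 ^ n, x.2⟩ = t at hy
      have hx : (t⁻¹ * x.1 * t) ^ n = c := by
        rw [show (t⁻¹ * x.1 * t) ^ n = t⁻¹ * x.1 ^ n * t by
          simpa using conj_pow (i := n) (a := t⁻¹) (b := x.1), mul_assoc, inv_mul_eq_iff_eq_mul,
          ← eq_mul_inv_iff_mul_eq]
        exact hy.symm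
      refine ⟨(⟨x.1 ^ n, x.2⟩, ⟨t⁻¹ * x.1 * t, hx⟩), Subtype.ext ?_⟩
      show g ⟨x.1 ^ n, x.2⟩ * (t⁻¹ * x.1 * t) * (g ⟨x.1 ^ n, x.2⟩)⁻¹ = x.1
      rw [hgdef]
      group
  have h4 : Nat.card {y : G // IsConj c y} * Nat.card C = Nat.card G := by
    have ho : Nat.card {y : G // IsConj c y} = Nat.card (MulAction.orbit (ConjAct G) c) :=
      Nat.card_congr (Equiv.subtypeEquivRight fun y => by
        rw [ConjAct.mem_orbit_conjAct]; exact isConj_comm)
    have hs : Nat.card (MulAction.stabilizer (ConjAct G) c) = Nat.card C := by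
      refine Nat.card_congr (Equiv.subtypeEquiv ConjAct.ofConjAct.toEquiv fun g => ?_)
      rw [MulAction.mem_stabilizer_iff, ConjAct.smul_def, hC, mem_centralizer_singleton_iff]
      exact mul_inv_eq_iff_eq_mul
    rw [ho, ← hs, Nat.card_congr (MulAction.orbitEquivQuotientStabilizer (ConjAct G) c), ← Subgroup.index_eq_card,
      Subgroup.index_mul_card]
    exact Nat.card_congr ConjAct.ofConjAct.toEquiv
  rw [← h4, Nat.gcd_mul_left, h3, ← h2]
  exact mul_dvd_mul_left _ h1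

end Cfsg.Agent.Solv.RootCount
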