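import Mathlib

/-!
The subgroup generated by the elements of the smallest noncentral class size.
-/

set_option autoImplicit false

namespace Cfsg.Agent.Solv.SmallClass

open Subgroup
open scoped commutatorElement

variable {G : Type*} [Group G] [Finite G]

/-- Commutators of a self-centralising normal abelian subgroup with a minimal-class element are central. -/
theorem commutator_mem_center (A : Subgroup G) [A.Normal] (hA : ∀ a ∈ A, ∀ b ∈ A, a * b = b * a)
    {m : ℕ} (hm0 : 0 < m) (hmin : ∀ x : G, 1 < (centralizer ({x} : Set G)).index → m ≤ (centralizer ({x} : Set G)).index)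
    {x : G} (hx : (centralizer ({x} : Set G)).index = m) {a : G} (ha : a ∈ A) :
    a * x * a⁻¹ * x⁻¹ ∈ center G := by
  set u := a * x * a⁻¹ * x⁻¹ with hu
  by_contra hz
  have hu1 : u ≠ 1 := fun e => hz (e ▸ one_mem _)
  set C := centralizer ({x} : Set G) with hC
  set H := A ⊔ C with hH
  set Cu := centralizer ({u} : Set G) with hCu
  have huA : u ∈ A := by
    rw [hu, show a * x * a⁻¹ * x⁻¹ = a * (x * a⁻¹ * x⁻¹) by group]
    exact mul_mem ha (Normal.conj_mem inferInstance _ (inv_mem ha) x)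
  have hACu : A ≤ Cu := fun b hb => mem_centralizer_singleton_iff.2 (hA b hb u huA)
  -- a bound on the orbit of `u` under `H`
  let D : Set G := {w | ∃ b ∈ A, w = b * x * b⁻¹ * x⁻¹}
  have hconj : ∀ h ∈ H, ∀ w ∈ D, h * w * h⁻¹ ∈ D := by
    intro h hh w hw
    rw [hH, mem_sup_of_normal_left] at hh
    obtain ⟨b, hb, c, hc, rfl⟩ := hh
    obtain ⟨e, he, rfl⟩ := hw
    refine ⟨c * e * c⁻¹, Normal.conj_mem inferInstance e he c, ?_⟩
    have hcx : c * x = x * c := mem_centralizer_singleton_iff.1 hc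
    have hcx' : c⁻¹ * x⁻¹ = x⁻¹ * c⁻¹ := by rw [← mul_inv_rev, ← mul_inv_rev, hcx]
    have h1 : c * (e * x * e⁻¹ * x⁻¹) * c⁻¹ = c * e * c⁻¹ * x * (c * e * c⁻¹)⁻¹ * x⁻¹ := by
      calc c * (e * x * e⁻¹ * x⁻¹) * c⁻¹ = c * e * x * e⁻¹ * (x⁻¹ * c⁻¹) := by group
        _ = c * e * x * e⁻¹ * (c⁻¹ * x⁻¹) := by rw [hcx']
        _ = c * e * c⁻¹ * (c * x) * e⁻¹ * c⁻¹ * x⁻¹ := by group
        _ = c * e * c⁻¹ * (x * c) * e⁻¹ * c⁻¹ * x⁻¹ := by rw [hcx]
        _ = _ := by group
    have hmem : c * e * c⁻¹ * x * (c * e * c⁻¹)⁻¹ * x⁻¹ ∈ A := by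
      have he' := Normal.conj_mem (inferInstance : A.Normal) e he c
      rw [show c * e * c⁻¹ * x * (c * e * c⁻¹)⁻¹ * x⁻¹ = c * e * c⁻¹ * (x * (c * e * c⁻¹)⁻¹ * x⁻¹) by group]
      exact mul_mem he' (Normal.conj_mem inferInstance _ (inv_mem he') x)
    calc b * c * (e * x * e⁻¹ * x⁻¹) * (b * c)⁻¹ = b * (c * (e * x * e⁻¹ * x⁻¹) * c⁻¹) * b⁻¹ := by group
      _ = _ := by rw [h1, hA b hb _ hmem, mul_inv_cancel_right]
  -- the orbit avoids `1`
  let f : (H ⧸ Cu.subgroupOf H) → ↥(D \ {1}) := fun q => Quotient.liftOn' q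
    (fun h => (⟨(h : G) * u * (h : G)⁻¹, hconj h h.2 u ⟨a, ha, rfl⟩, by
      simpa [mul_inv_eq_one] using hu1⟩ : ↥(D \ {1}))) (fun g h hgh => by
      rw [QuotientGroup.leftRel_apply, mem_subgroupOf, mem_centralizer_singleton_iff] at hgh
      refine Subtype.ext ?_
      simp only [Subgroup.coe_mul, Subgroup.coe_inv] at hgh ⊢
      calc (g : G) * u * (g : G)⁻¹ = (g : G) * (u * ((g : G)⁻¹ * h)) * (h : G)⁻¹ := by group
        _ = (h : G) * u * (h : G)⁻¹ := by rw [← hgh]; group)
  have hf : Function.Injective f := by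
    intro q r
    induction q using QuotientGroup.induction_on with
    | _ g => induction r using QuotientGroup.induction_on with
      | _ h =>
        intro e
        have e' : (g : G) * u * (g : G)⁻¹ = (h : G) * u * (h : G)⁻¹ := congrArg Subtype.val e
        refine QuotientGroup.eq.2 (mem_subgroupOf.2 (mem_centralizer_singleton_iff.2 ?_))
        simp only [Subgroup.coe_mul, Subgroup.coe_inv]
        calc (g : G)⁻¹ * h * u = (g : G)⁻¹ * ((h : G) * u * (h : G)⁻¹) * h := by group
          _ = u * ((g : G)⁻¹ * h) := by rw [← e']; group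
  -- `D` is the image of `A ⧸ C_A(x)`
  let g : (A ⧸ C.subgroupOf A) → ↥D := fun q => Quotient.liftOn' q
    (fun b => (⟨(b : G) * x * (b : G)⁻¹ * x⁻¹, b, b.2, rfl⟩ : ↥D)) (fun b c hbc => by
      rw [QuotientGroup.leftRel_apply, mem_subgroupOf, mem_centralizer_singleton_iff] at hbc
      refine Subtype.ext ?_
      simp only [Subgroup.coe_mul, Subgroup.coe_inv] at hbc ⊢
      calc (b : G) * x * (b : G)⁻¹ * x⁻¹ = (b : G) * (x * ((b : G)⁻¹ * c)) * (c : G)⁻¹ * x⁻¹ := by group
        _ = (c : G) * x * (c : G)⁻¹ * x⁻¹ := by rw [← hbc]; group)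
  have hgs : Function.Surjective g := by
    rintro ⟨_, b, hb, rfl⟩
    exact ⟨((⟨b, hb⟩ : A) : A ⧸ C.subgroupOf A), rfl⟩
  have hfin : D.Finite := Set.toFinite _
  have h1 : Cu.relIndex H < C.relIndex A := by
    calc Cu.relIndex H = Nat.card (H ⧸ Cu.subgroupOf H) := rfl
      _ ≤ Nat.card ↥(D \ {1}) := Nat.card_le_card_of_injective f hf
      _ < Nat.card D := by
        rw [Nat.card_coe_set_eq, Nat.card_coe_set_eq]
        exact Set.ncard_lt_ncard ((Set.ssubset_iff_of_subset Set.sdiff_subset).2 ⟨1, ⟨1, one_mem A, by group⟩, by simp⟩) hfin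
      _ ≤ C.relIndex A := Nat.card_le_card_of_surjective g hgs
  have h2 : C.relIndex A ≤ C.relIndex H :=
    relIndex_le_of_le_right le_sup_left (C.subgroupOf H).index_ne_zero_of_finite
  have h3 : Cu.index ≤ Cu.relIndex H * H.index := by
    rw [← inf_relIndex_right, relIndex_mul_index inf_le_right]
    exact Nat.le_of_dvd (Nat.pos_of_ne_zero index_ne_zero_of_finite) (index_dvd_of_le inf_le_left)
  have h4 : C.relIndex H * H.index = m := by rw [relIndex_mul_index le_sup_right, hx]
  have h5 : m ≤ Cu.index := by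
    refine hmin u ?_
    refine Nat.one_lt_iff_ne_zero_and_ne_one.2 ⟨index_ne_zero_of_finite, fun e => hz ?_⟩
    rw [index_eq_one] at e
    exact mem_center_iff.2 fun g => mem_centralizer_singleton_iff.1 (e.ge (mem_top g))
  have h6 : Cu.relIndex H * H.index < C.relIndex H * H.index :=
    Nat.mul_lt_mul_of_pos_right (h1.trans_le h2) (Nat.pos_of_ne_zero index_ne_zero_of_finite)
  omega

/-- The subgroup generated by the two smallest class sizes has class at most three. -/
theorem upperCentralSeries_three (A : Subgroup G) [A.Normal] (hA : ∀ a ∈ A, ∀ b ∈ A, a * b = b * a)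
    (hCA : centralizer (A : Set G) ≤ A) {m : ℕ} (hm0 : 0 < m)
    (hmin : ∀ x : G, 1 < (centralizer ({x} : Set G)).index → m ≤ (centralizer ({x} : Set G)).index)
    (K : Subgroup G) (hK : K = closure {x : G | (centralizer ({x} : Set G)).index = 1 ∨ (centralizer ({x} : Set G)).index = m}) :
    Subgroup.upperCentralSeries ↥K 3 = ⊤ := by
  have hKA : ⁅A, K⁆ ≤ center G := by
    have hS : K ≤ (centralizer ((A.map (QuotientGroup.mk' (center G)) : Subgroup _) : Set _)).comap (QuotientGroup.mk' (center G)) := by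
      rw [hK, closure_le]
      intro x hx
      rw [SetLike.mem_coe, mem_comap, mem_centralizer_iff]
      rintro _ ⟨a, ha, rfl⟩
      have h1 : a * x * a⁻¹ * x⁻¹ ∈ center G := by
        rcases hx with h | h
        · rw [index_eq_one] at h
          have : a * x = x * a := mem_centralizer_singleton_iff.1 (h.ge (mem_top a))
          rw [this, mul_inv_cancel_right, mul_inv_cancel]
          exact one_mem _
        · exact commutator_mem_center A hA hm0 hmin h ha
      rw [← commutatorElement_eq_one_iff_mul_comm, ← map_commutatorElement, QuotientGroup.mk'_apply,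
        QuotientGroup.eq_one_iff, commutatorElement_def]
      exact h1
    rw [commutator_le]
    intro a ha k hk
    have h := mem_centralizer_iff.1 (hS hk) _ ⟨a, ha, rfl⟩
    rw [← commutatorElement_eq_one_iff_mul_comm, ← map_commutatorElement, QuotientGroup.mk'_apply,
      QuotientGroup.eq_one_iff] at h
    exact h
  have hz : ∀ L : Subgroup G, ⁅center G, L⁆ = ⊥ := fun L =>
    commutator_eq_bot_iff_le_centralizer.2 (center_le_centralizer _)
  have h1 : ⁅⁅A, K⁆, K⁆ = ⊥ := le_bot_iff.1 ((commutator_mono hKA le_rfl).trans (hz K).le)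
  have h2 : ⁅⁅K, A⁆, K⁆ = ⊥ := by rw [commutator_comm K A]; exact h1
  have h3 : ⁅K, K⁆ ≤ A :=
    (commutator_eq_bot_iff_le_centralizer.1 (commutator_commutator_eq_bot_of_rotate h2 h1)).trans hCA
  have h4 : K.lowerCentralSeries 3 = ⊥ := by
    show ⁅⁅⁅K, K⁆, K⁆, K⁆ = ⊥
    exact le_bot_iff.1 ((commutator_mono ((commutator_mono h3 le_rfl).trans hKA) le_rfl).trans (hz K).le)
  rw [← lowerCentralSeries_eq_bot_iff_upperCentralSeries_eq_top]
  apply map_injective K.subtype_injective
  rw [map_lowerCentralSeries, ← MonoidHom.range_eq_map, range_subtype, h4, Subgroup.map_bot]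

end Cfsg.Agent.Solv.SmallClass
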