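import Cfsg.Agent.Lib.Solv.NormalPComplement

/-!
Burnside transfer for small abelian Sylow subgroups.
-/

set_option autoImplicit false
set_option linter.style.haveILetI false

namespace Cfsg.Agent.Solv.Small

open Subgroup

variable {G : Type*} [Group G] [Finite G] {p q : ℕ} [hp : Fact p.Prime] [hq : Fact q.Prime]

theorem centralizes_of_not_dvd (T H : Subgroup G) {k : ℕ} (hT : Nat.card T = p ^ k)
    (hH : IsPGroup q H) (hHN : H ≤ normalizer (T : Set G))
    (h : ∀ j, j < k → ¬ q ∣ p ^ k - p ^ j) : H ≤ centralizer (T : Set G) := by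
  let φ : H →* MulAut T := T.normalizerMonoidHom.comp (Subgroup.inclusion hHN)
  letI : MulAction H T := MulAction.compHom T φ
  have hsmul : ∀ (a : H) (t : T), ((a • t : T) : G) = a * t * (a : G)⁻¹ := fun _ _ => rfl
  have hmod := hH.card_modEq_card_fixedPoints T
  set W := (centralizer (H : Set G)).subgroupOf T
  have hW : Nat.card (MulAction.fixedPoints H T) = Nat.card W := Nat.card_congr
    (Equiv.subtypeEquivRight fun t => by
      show t ∈ MulAction.fixedPoints H T ↔ (t : G) ∈ centralizer (H : Set G)
      rw [MulAction.mem_fixedPoints, mem_centralizer_iff]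
      constructor
      · intro ht a ha
        have := congrArg Subtype.val (ht ⟨a, ha⟩)
        rw [hsmul] at this
        exact mul_inv_eq_iff_eq_mul.mp this
      · intro ht a
        apply Subtype.ext
        rw [hsmul]
        exact mul_inv_eq_iff_eq_mul.mpr (ht a a.2))
  rw [hW, hT] at hmod
  obtain ⟨j, hjk, hj⟩ := (Nat.dvd_prime_pow hp.out).mp (hT ▸ W.card_subgroup_dvd_card)
  rcases hjk.lt_or_eq with hlt | rfl
  · rw [hj] at hmod
    exact absurd ((Nat.modEq_iff_dvd' (Nat.pow_le_pow_right hp.out.pos hjk)).mp hmod.symm) (h j hlt)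
  · have hWt : W = ⊤ := eq_top_of_card_eq W (hj.trans hT.symm)
    exact le_centralizer_iff.mp fun t ht => (hWt.ge (mem_top (⟨t, ht⟩ : T)) : _)

/-- Burnside's criterion with an arithmetical condition on the automizer. -/
theorem npc_of_not_dvd (T : Sylow p G) (hab : ∀ a ∈ (T : Subgroup G), ∀ b ∈ (T : Subgroup G), a * b = b * a)
    {k : ℕ} (hT : Nat.card T = p ^ k)
    (h : ∀ r : ℕ, r.Prime → r ∣ Nat.card G → r ≠ p → ∀ j, j < k → ¬ r ∣ p ^ k - p ^ j) :
    Cfsg.HasNormalPComplement p G := by
  refine hasNormalPComplement_of_burnside T ?_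
  set N := normalizer ((T : Subgroup G) : Set G)
  set C := centralizer ((T : Subgroup G) : Set G)
  suffices hdvd : Nat.card N ∣ Nat.card (C.subgroupOf N) by
    intro x hx
    have := eq_top_of_le_card (C.subgroupOf N) (Nat.le_of_dvd Nat.card_pos hdvd)
    exact this.ge (mem_top (⟨x, hx⟩ : N))
  rw [Nat.dvd_iff_prime_pow_dvd_dvd]
  intro r i hr hri
  haveI := Fact.mk hr
  obtain ⟨R⟩ : Nonempty (Sylow r N) := inferInstance
  obtain ⟨R', hR', hR'i⟩ := Sylow.exists_subgroup_card_pow_prime_le r (Dvd.dvd.trans hri dvd_rfl)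
    (⊥ : Subgroup N) (n := 0) (by rw [card_bot, pow_zero]) (Nat.zero_le i)
  rw [← hR']
  refine card_dvd_of_le ?_
  have hRp : IsPGroup r R' := IsPGroup.of_card hR'
  rcases Nat.eq_zero_or_pos i with rfl | hi
  · intro x hx
    rw [pow_zero] at hR'
    rw [Subgroup.eq_bot_of_card_eq R' hR', mem_bot] at hx
    exact hx ▸ one_mem _
  by_cases hrp : r = p
  · subst hrp
    intro x hx
    have hxT : (x : G) ∈ (T : Subgroup G) := by
      have hTn : ((T : Subgroup G).subgroupOf N).Normal := normal_in_normalizer
      have hle : R' ≤ ((T.subtype le_normalizer : Sylow r N) : Subgroup N) :=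
        (Sylow.characteristic_of_normal (T.subtype le_normalizer) hTn) |> fun _ => by
          obtain ⟨S, hS⟩ := hRp.exists_le_sylow
          haveI := Sylow.unique_of_normal (T.subtype le_normalizer) hTn
          rwa [Subsingleton.elim S (T.subtype le_normalizer)] at hS
      exact hle hx
    exact fun t ht => hab t ht x hxT
  · intro x hx
    have hH : R'.map N.subtype ≤ centralizer ((T : Subgroup G) : Set G) :=
      centralizes_of_not_dvd (q := r) (T : Subgroup G) _ hT (hRp.map _) (map_subtype_le R')
        (h r hr ((dvd_pow_self r hi.ne').trans (hri.trans N.card_subgroup_dvd_card)) hrp)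
    exact hH ⟨x, hx, rfl⟩

end Cfsg.Agent.Solv.Small
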