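import Mathlib
import Cfsg.Prelude.Def_Classical
import Cfsg.Agent.Lib.Char.Burnside

/-! Solvable groups isospectral to small simple groups: generic lemmas. -/

set_option autoImplicit false

namespace Cfsg.Agent.Solv.Spectrum

open Matrix

theorem range_orderOf {G : Type*} [Group G] (A : List ℕ) (h0 : 0 ∉ A)
    (hle : ∀ g : G, ∃ a ∈ A, g ^ a = 1) (hex : ∀ a ∈ A, ∃ g : G, orderOf g = a) :
    Set.range (orderOf : G → ℕ) = {n | ∃ a ∈ A, n ∣ a} := by
  ext n
  constructor
  · rintro ⟨g, rfl⟩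
    obtain ⟨a, ha, hg⟩ := hle g
    exact ⟨a, ha, orderOf_dvd_of_pow_eq_one hg⟩
  · rintro ⟨a, ha, hn⟩
    obtain ⟨g, hg⟩ := hex a ha
    refine ⟨g ^ (orderOf g / n), orderOf_pow_orderOf_div ?_ (hg ▸ hn)⟩
    rw [hg]; exact fun h => h0 (h ▸ ha)

theorem range_frobenius {V T : Type*} [CommGroup V] [Group T] (φ : T →* MulAut V) (p : ℕ)
    (hp : p.Prime) (hpow : ∀ v : V, v ^ p = 1) (v₀ : V) (hv₀ : v₀ ≠ 1)
    (hfpf : ∀ t : T, t ≠ 1 → ∀ v : V, φ t v = v → v = 1) (A : List ℕ) (h0 : 0 ∉ A)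
    (hle : ∀ t : T, ∃ a ∈ A, t ^ a = 1) (hex : ∀ a ∈ A, ∃ t : T, orderOf t = a) :
    Set.range (orderOf : V ⋊[φ] T → ℕ) = {n | ∃ a ∈ p :: A, n ∣ a} := by
  haveI := Fact.mk hp
  have hr : ∀ (x : V ⋊[φ] T) (m : ℕ), (x ^ m).right = x.right ^ m := fun x m =>
    map_pow SemidirectProduct.rightHom x m
  refine range_orderOf _ ?_ (fun x => ?_) (fun a ha => ?_)
  · simpa [eq_comm] using ⟨hp.ne_zero, h0⟩
  · by_cases h : x.right = 1
    · refine ⟨p, List.mem_cons_self, ?_⟩
      have : x = SemidirectProduct.inl x.left := by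
        ext
        · simp
        · simp [h]
      rw [this, ← map_pow, hpow, map_one]
    · obtain ⟨a, ha, hxa⟩ := hle x.right
      refine ⟨a, List.mem_cons_of_mem _ ha, ?_⟩
      have h1 : (x ^ a).right = 1 := by rw [hr, hxa]
      have hc : (x * x ^ a).left = (x ^ a * x).left := by rw [← pow_succ, ← pow_succ']
      simp only [SemidirectProduct.mul_left, h1, map_one, MulAut.one_apply] at hc
      ext
      · have hw : φ x.right (x ^ a).left = (x ^ a).left := mul_left_cancel (hc.trans (mul_comm _ _))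
        simpa using hfpf _ h _ hw
      · simpa using h1
  · rcases List.mem_cons.mp ha with rfl | ha
    · exact ⟨SemidirectProduct.inl v₀, by
        rw [orderOf_injective _ SemidirectProduct.inl_injective]
        exact orderOf_eq_prime (hpow v₀) hv₀⟩
    · obtain ⟨t, ht⟩ := hex a ha
      exact ⟨SemidirectProduct.inr t, by rw [orderOf_injective _ SemidirectProduct.inr_injective, ht]⟩

theorem solvable_semidirect {V T : Type*} [CommGroup V] [Group T] (φ : T →* MulAut V)
    [Group.IsSolvable T] : Group.IsSolvable (V ⋊[φ] T) :=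
  Group.isSolvable_of_ker_le_range (SemidirectProduct.inl (φ := φ)) SemidirectProduct.rightHom
    (le_of_eq SemidirectProduct.range_inl_eq_ker_rightHom.symm)

section Planar

variable {K : Type*} [CommRing K]

/-- a two by two matrix as a quadruple -/
def toM (q : K × K × K × K) : Matrix (Fin 2) (Fin 2) K := !![q.1, q.2.1; q.2.2.1, q.2.2.2]

/-- product of quadruples -/
def qmul (q r : K × K × K × K) : K × K × K × K :=
  (q.1 * r.1 + q.2.1 * r.2.2.1, q.1 * r.2.1 + q.2.1 * r.2.2.2,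
    q.2.2.1 * r.1 + q.2.2.2 * r.2.2.1, q.2.2.1 * r.2.1 + q.2.2.2 * r.2.2.2)

/-- power of quadruples -/
def qpow (q : K × K × K × K) : ℕ → K × K × K × K
  | 0 => (1, 0, 0, 1)
  | n + 1 => qmul (qpow q n) q

theorem toM_mul (q r : K × K × K × K) : toM (qmul q r) = toM q * toM r := by
  ext i j
  fin_cases i <;> fin_cases j <;> simp [toM, qmul, Matrix.mul_apply, Fin.sum_univ_two]

theorem toM_one : toM ((1, 0, 0, 1) : K × K × K × K) = 1 := by
  ext i j
  fin_cases i <;> fin_cases j <;> simp [toM]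

theorem toM_pow (q : K × K × K × K) (n : ℕ) : toM (qpow q n) = toM q ^ n := by
  induction n with
  | zero => simp [qpow, toM_one]
  | succ n ih => rw [qpow, toM_mul, ih, pow_succ]

theorem toM_injective : Function.Injective (toM : K × K × K × K → Matrix (Fin 2) (Fin 2) K) := by
  intro q r h
  have h00 := congrFun (congrFun h 0) 0
  have h01 := congrFun (congrFun h 0) 1
  have h10 := congrFun (congrFun h 1) 0
  have h11 := congrFun (congrFun h 1) 1
  simp [toM] at h00 h01 h10 h11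
  ext <;> assumption

/-- linear action on column vectors -/
def act : (Matrix (Fin 2) (Fin 2) K)ˣ →* MulAut (Multiplicative (Fin 2 → K)) where
  toFun u :=
    { toFun := fun v => Multiplicative.ofAdd ((u : Matrix (Fin 2) (Fin 2) K) *ᵥ v.toAdd)
      invFun := fun v => Multiplicative.ofAdd (((u⁻¹ : (Matrix (Fin 2) (Fin 2) K)ˣ) : Matrix (Fin 2) (Fin 2) K) *ᵥ v.toAdd)
      left_inv := fun v => by
        show Multiplicative.ofAdd ((↑u⁻¹ : Matrix (Fin 2) (Fin 2) K) *ᵥ ((u : Matrix (Fin 2) (Fin 2) K) *ᵥ v.toAdd)) = v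
        rw [Matrix.mulVec_mulVec, Units.inv_mul, Matrix.one_mulVec]; rfl
      right_inv := fun v => by
        show Multiplicative.ofAdd ((u : Matrix (Fin 2) (Fin 2) K) *ᵥ ((↑u⁻¹ : Matrix (Fin 2) (Fin 2) K) *ᵥ v.toAdd)) = v
        rw [Matrix.mulVec_mulVec, Units.mul_inv, Matrix.one_mulVec]; rfl
      map_mul' := fun v w => congrArg Multiplicative.ofAdd (Matrix.mulVec_add _ v.toAdd w.toAdd) }
  map_one' := by
    apply MulEquiv.ext; intro v
    exact congrArg Multiplicative.ofAdd (Matrix.one_mulVec v.toAdd)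
  map_mul' u w := by
    apply MulEquiv.ext; intro v
    exact congrArg Multiplicative.ofAdd (Matrix.mulVec_mulVec v.toAdd _ _).symm

theorem no_fixed (u : (Matrix (Fin 2) (Fin 2) K)ˣ) (q : K × K × K × K) (hq : toM q = u)
    (h2 : ∃ c : K, c * 2 = 1) (h3 : ∃ c : K, c * 3 = 1)
    (hcases : (∃ k ∈ [1, 2, 3, 4, 5, 6], qpow q k = (-1, 0, 0, -1)) ∨
      qmul q q = (-1 - q.1, -q.2.1, -q.2.2.1, -1 - q.2.2.2))
    (v : Multiplicative (Fin 2 → K)) (hv : act u v = v) : v = 1 := by
  have hv' : (toM q) *ᵥ v.toAdd = v.toAdd := by rw [hq]; exact congrArg Multiplicative.toAdd hv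
  have hk : ∀ k : ℕ, (toM q ^ k) *ᵥ v.toAdd = v.toAdd := by
    intro k
    induction k with
    | zero => simp
    | succ k ih => rw [pow_succ, ← Matrix.mulVec_mulVec, hv', ih]
  suffices ∀ i, v.toAdd i = 0 by
    apply Multiplicative.toAdd.injective
    funext i; simpa using this i
  intro i
  rcases hcases with ⟨k, -, h⟩ | h
  · obtain ⟨c, hc⟩ := h2
    have := congrFun (hk k) i
    rw [← toM_pow, h] at this
    fin_cases i <;>
    · simp [toM, Matrix.mulVec, dotProduct, Fin.sum_univ_two] at this ⊢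
      linear_combination -c * this - (Multiplicative.toAdd v _) * hc
  · obtain ⟨c, hc⟩ := h3
    have e2 := congrFun (hk 2) i
    rw [pow_two, ← toM_mul, h] at e2
    have e1 := congrFun hv' i
    fin_cases i <;>
    · simp [toM, Matrix.mulVec, dotProduct, Fin.sum_univ_two] at e1 e2 ⊢
      linear_combination -c * e1 - c * e2 - (Multiplicative.toAdd v _) * hc

theorem mem_closure {u : (Matrix (Fin 2) (Fin 2) K)ˣ} (A B : (Matrix (Fin 2) (Fin 2) K)ˣ)
    [Finite (Matrix (Fin 2) (Fin 2) K)ˣ] (a b : K × K × K × K) (hA : toM a = A) (hB : toM b = B)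
    (L : List (K × K × K × K)) (h1 : (1, 0, 0, 1) ∈ L) (ha : ∀ q ∈ L, qmul q a ∈ L)
    (hb : ∀ q ∈ L, qmul q b ∈ L) (hu : u ∈ Subgroup.closure {A, B}) : ∃ q ∈ L, toM q = u := by
  let S : Set (Matrix (Fin 2) (Fin 2) K)ˣ := {x | ∃ q ∈ L, toM q = x}
  have hstep : ∀ (g : (Matrix (Fin 2) (Fin 2) K)ˣ) (r : K × K × K × K), toM r = g →
      (∀ q ∈ L, qmul q r ∈ L) → ∀ x ∈ S, ∀ n : ℕ, x * g ^ n ∈ S := by
    intro g r hr hL x hx n
    induction n with
    | zero => simpa using hx
    | succ n ih =>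
      obtain ⟨q, hq, he⟩ := ih
      refine ⟨qmul q r, hL q hq, ?_⟩
      rw [toM_mul, he, hr, pow_succ, ← mul_assoc, Units.val_mul]
      simp [mul_assoc]
  have hinv : ∀ g : (Matrix (Fin 2) (Fin 2) K)ˣ, g⁻¹ = g ^ (orderOf g - 1) := by
    intro g
    rw [inv_eq_iff_mul_eq_one, ← pow_succ',
      show orderOf g - 1 + 1 = orderOf g from Nat.succ_pred_eq_of_pos (orderOf_pos g),
      pow_orderOf_eq_one]
  suffices u ∈ S from this
  induction hu using Subgroup.closure_induction_right with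
  | one => exact ⟨_, h1, by simp [toM_one]⟩
  | mul_right x hx y hy ih =>
    rcases hy with rfl | rfl
    · simpa using hstep _ a hA ha x ih 1
    · simpa using hstep _ b hB hb x ih 1
  | mul_inv_cancel x hx y hy ih =>
    rw [hinv y]
    rcases hy with rfl | rfl
    · exact hstep _ a hA ha x ih _
    · exact hstep _ b hB hb x ih _

/-- the unit of a quadruple of finite order -/
def unitOf (q : K × K × K × K) (n : ℕ) (h : qpow q n = (1, 0, 0, 1)) (hn : n ≠ 0) :
    (Matrix (Fin 2) (Fin 2) K)ˣ :=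
  Units.ofPowEqOne (toM q) n (by rw [← toM_pow, h, toM_one]) hn

theorem two_three {n : ℕ} (hn : n ≠ 0) (h : ∀ r : ℕ, r.Prime → r ∣ n → r = 2 ∨ r = 3) :
    n = 2 ^ n.factorization 2 * 3 ^ n.factorization 3 := by
  refine Nat.eq_of_factorization_eq hn (by positivity) fun r => ?_
  rw [Nat.factorization_mul (by positivity) (by positivity),
    Nat.Prime.factorization_pow Nat.prime_two, Nat.Prime.factorization_pow Nat.prime_three]
  simp only [Finsupp.coe_add, Pi.add_apply, Finsupp.single_apply]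
  by_cases h2 : 2 = r
  · subst h2; simp
  by_cases h3 : 3 = r
  · subst h3; simp
  simp only [h2, h3, if_false, add_zero]
  by_contra h0
  have hr : r.Prime := by
    by_contra hr; exact h0 (Nat.factorization_eq_zero_of_not_prime n hr)
  rcases h r hr (Nat.dvd_of_factorization_pos h0) with e | e
  · exact h2 e.symm
  · exact h3 e.symm

/-- Everything about the group generated by two matrices with list of elements `L`. -/
theorem planar {K : Type} [CommRing K] [Finite K] [Nontrivial K] (p : ℕ) (hp : p.Prime)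
    (hpK : (p : K) = 0) (h2 : ∃ c : K, c * 2 = 1) (h3 : ∃ c : K, c * 3 = 1)
    (a b : K × K × K × K) (na nb : ℕ) (hna : na ≠ 0) (hnb : nb ≠ 0)
    (ha : qpow a na = (1, 0, 0, 1)) (hb : qpow b nb = (1, 0, 0, 1))
    (L : List (K × K × K × K)) (h1 : (1, 0, 0, 1) ∈ L)
    (hLa : ∀ q ∈ L, qmul q a ∈ L) (hLb : ∀ q ∈ L, qmul q b ∈ L)
    (hfix : ∀ q ∈ L, q = (1, 0, 0, 1) ∨ (∃ k ∈ [1, 2, 3, 4, 5, 6], qpow q k = (-1, 0, 0, -1)) ∨
      qmul q q = (-1 - q.1, -q.2.1, -q.2.2.1, -1 - q.2.2.2))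
    (A : List ℕ) (h0 : 0 ∉ A) (hA : ∀ c ∈ A, ∃ i j, c = 2 ^ i * 3 ^ j)
    (hle : ∀ q ∈ L, ∃ c ∈ A, qpow q c = (1, 0, 0, 1))
    (hex : ∀ c ∈ A, ∃ u ∈ Subgroup.closure {unitOf a na ha hna, unitOf b nb hb hnb}, orderOf u = c) :
    ∃ (H : Type) (_ : Group H) (_ : Fintype H), Group.IsSolvable H ∧
      Set.range (orderOf : H → ℕ) = {n | ∃ c ∈ p :: A, n ∣ c} := by
  classical
  haveI := Fintype.ofFinite K
  let U := (Matrix (Fin 2) (Fin 2) K)ˣ
  let T : Subgroup U := Subgroup.closure {unitOf a na ha hna, unitOf b nb hb hnb}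
  let φ : T →* MulAut (Multiplicative (Fin 2 → K)) := act.comp T.subtype
  have hmem : ∀ t : T, ∃ q ∈ L, toM q = (t : U) := fun t =>
    mem_closure _ _ a b rfl rfl L h1 hLa hLb t.2
  have hord : ∀ t : T, ∃ c ∈ A, t ^ c = 1 := by
    intro t
    obtain ⟨q, hq, he⟩ := hmem t
    obtain ⟨c, hc, hqc⟩ := hle q hq
    refine ⟨c, hc, Subtype.ext (Units.ext ?_)⟩
    show (((t ^ c : T) : U) : Matrix (Fin 2) (Fin 2) K) = 1
    rw [SubmonoidClass.coe_pow, Units.val_pow_eq_pow_val, ← he, ← toM_pow, hqc, toM_one]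
  haveI : Group.IsSolvable T := by
    refine Cfsg.Agent.Char.solvable_of_card_prime_pow_mul 2 3 Nat.prime_two Nat.prime_three _ _ rfl
      ⟨_, _, two_three Nat.card_pos.ne' fun r hr hrd => ?_⟩
    haveI := Fact.mk hr
    obtain ⟨t, ht⟩ := exists_prime_orderOf_dvd_card' r hrd
    obtain ⟨c, hc, htc⟩ := hord t
    obtain ⟨i, j, rfl⟩ := hA c hc
    have := orderOf_dvd_of_pow_eq_one htc
    rw [ht] at this
    rcases (Nat.Prime.dvd_mul hr).mp this with h | h
    · exact Or.inl ((Nat.prime_dvd_prime_iff_eq hr Nat.prime_two).mp (hr.dvd_of_dvd_pow h))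
    · exact Or.inr ((Nat.prime_dvd_prime_iff_eq hr Nat.prime_three).mp (hr.dvd_of_dvd_pow h))
  have hfpf : ∀ t : T, t ≠ 1 → ∀ v, φ t v = v → v = 1 := by
    intro t ht v hv
    obtain ⟨q, hq, he⟩ := hmem t
    rcases hfix q hq with h | h
    · exfalso; apply ht
      apply Subtype.ext; apply Units.ext
      rw [← he, h, toM_one]; rfl
    · exact no_fixed (t : U) q he h2 h3 h v hv
  haveI : Finite (Multiplicative (Fin 2 → K) ⋊[φ] T) := Finite.of_equiv _ SemidirectProduct.equivProd.symm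
  refine ⟨Multiplicative (Fin 2 → K) ⋊[φ] T, inferInstance, Fintype.ofFinite _, solvable_semidirect φ, ?_⟩
  refine range_frobenius φ p hp (fun v => ?_) (Multiplicative.ofAdd (fun _ => 1)) ?_ hfpf A h0 hord
    (fun c hc => ?_)
  · apply Multiplicative.toAdd.injective
    funext i
    simp [hpK]
  · intro h
    exact one_ne_zero (congrFun (congrArg Multiplicative.toAdd h) 0)
  · obtain ⟨u, hu, ho⟩ := hex c hc
    exact ⟨⟨u, hu⟩, by rw [← ho, ← Subgroup.orderOf_coe]⟩

end Planar

section Three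

variable {R : Type*} [CommRing R]

/-- coefficients of the powers of a matrix in its square, itself and the identity -/
def coeffs (t s : R) : ℕ → R × R × R
  | 0 => (0, 0, 1)
  | n + 1 => ((coeffs t s n).1 * t + (coeffs t s n).2.1, (coeffs t s n).2.2 - (coeffs t s n).1 * s,
      (coeffs t s n).1)

theorem coeffs_map {S : Type*} [CommRing S] (f : R →+* S) (t s : R) (n : ℕ) :
    coeffs (f t) (f s) n = (f (coeffs t s n).1, f (coeffs t s n).2.1, f (coeffs t s n).2.2) := by
  induction n with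
  | zero => simp [coeffs]
  | succ n ih => simp [coeffs, ih]

theorem cayley (M : Matrix (Fin 3) (Fin 3) R) :
    M * M * M = M.trace • (M * M) - (M.adjugate).trace • M + M.det • 1 := by
  ext i j
  fin_cases i <;> fin_cases j <;>
    simp [Matrix.mul_apply, Matrix.trace, Fin.sum_univ_three, Matrix.det_fin_three,
      Matrix.adjugate_fin_three] <;> ring

theorem pow_eq_coeffs (M : Matrix (Fin 3) (Fin 3) R) (hd : M.det = 1) (n : ℕ) :
    M ^ n = (coeffs M.trace M.adjugate.trace n).1 • (M * M) +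
      (coeffs M.trace M.adjugate.trace n).2.1 • M + (coeffs M.trace M.adjugate.trace n).2.2 • 1 := by
  induction n with
  | zero => simp [coeffs]
  | succ n ih =>
    rw [pow_succ, ih, coeffs]
    simp only [add_mul, smul_mul_assoc, one_mul, cayley M, hd, one_smul, smul_add, smul_sub, smul_smul,
      add_smul, sub_smul]
    abel

theorem sl_pow_eq_one {F : Type*} [CommRing F] (g : Matrix.SpecialLinearGroup (Fin 3) F) (f : R →+* F)
    (t s : R) (ht : (g : Matrix (Fin 3) (Fin 3) F).trace = f t)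
    (hs : (g : Matrix (Fin 3) (Fin 3) F).adjugate.trace = f s) (n : ℕ)
    (hn : coeffs t s n = (0, 0, 1)) : g ^ n = 1 := by
  apply Matrix.SpecialLinearGroup.ext
  intro i j
  rw [Matrix.SpecialLinearGroup.coe_pow, pow_eq_coeffs _ g.det_coe, ht, hs, coeffs_map, hn]
  simp

end Three

section Centre

variable {F : Type*} [Field F]

/-- a special diagonal sign matrix -/
def D1 : Matrix (Fin 3) (Fin 3) F := !![-1, 0, 0; 0, -1, 0; 0, 0, 1]
/-- a special diagonal sign matrix -/
def D2 : Matrix (Fin 3) (Fin 3) F := !![1, 0, 0; 0, -1, 0; 0, 0, -1]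
/-- the cyclic permutation matrix -/
def P3 : Matrix (Fin 3) (Fin 3) F := !![0, 0, 1; 1, 0, 0; 0, 1, 0]

theorem center_bot [CharP F 3] (S : Subgroup (Matrix.SpecialLinearGroup (Fin 3) F))
    (hd : ∀ M ∈ ([D1, D2, P3] : List (Matrix (Fin 3) (Fin 3) F)),
      ∃ g ∈ S, (g : Matrix (Fin 3) (Fin 3) F) = M) :
    Subgroup.center S = ⊥ := by
  rw [Subgroup.eq_bot_iff_forall]
  intro z hz
  set Z : Matrix (Fin 3) (Fin 3) F := ((z : Matrix.SpecialLinearGroup (Fin 3) F) : Matrix (Fin 3) (Fin 3) F) with hZ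
  have h3 : (3 : F) = 0 := CharP.cast_eq_zero F 3
  have h2 : (2 : F) ≠ 0 := by intro h; exact one_ne_zero (show (1 : F) = 0 by linear_combination h3 - h)
  have hcom : ∀ M ∈ ([D1, D2, P3] : List (Matrix (Fin 3) (Fin 3) F)), M * Z = Z * M := by
    intro M hM
    obtain ⟨g, hg, rfl⟩ := hd M hM
    have := congrArg (fun x : S => ((x : Matrix.SpecialLinearGroup (Fin 3) F) : Matrix (Fin 3) (Fin 3) F))
      (Subgroup.mem_center_iff.mp hz ⟨g, hg⟩)
    simpa using this
  have e1 := hcom D1 (by simp)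
  have e2 := hcom D2 (by simp)
  have e3 := hcom P3 (by simp)
  have f : ∀ a : F, -a = a → a = 0 := fun a h => by
    have : (2 : F) * a = 0 := by linear_combination -h
    exact (mul_eq_zero.mp this).resolve_left h2
  have o02 := congrFun (congrFun e1 0) 2
  have o20 := congrFun (congrFun e1 2) 0
  have o12 := congrFun (congrFun e1 1) 2
  have o21 := congrFun (congrFun e1 2) 1
  have o01 := congrFun (congrFun e2 0) 1
  have o10 := congrFun (congrFun e2 1) 0
  have d1 := congrFun (congrFun e3 1) 0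
  have d2 := congrFun (congrFun e3 2) 1
  simp [D1, D2, P3, Matrix.mul_apply, Fin.sum_univ_three] at o02 o20 o12 o21 o01 o10 d1 d2
  have z02 : Z 0 2 = 0 := f _ o02
  have z20 : Z 2 0 = 0 := f _ o20.symm
  have z12 : Z 1 2 = 0 := f _ o12
  have z21 : Z 2 1 = 0 := f _ o21.symm
  have z01 : Z 0 1 = 0 := f _ o01.symm
  have z10 : Z 1 0 = 0 := f _ o10
  have hdet : Z.det = 1 := (z : Matrix.SpecialLinearGroup (Fin 3) F).det_coe
  rw [Matrix.det_fin_three, z02, z20, z12, z21, z01, z10, ← d1] at hdet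
  rw [← d2, ← d1] at hdet
  have hc : Z 0 0 = 1 := by
    have : (Z 0 0 - 1) ^ 3 = 0 := by linear_combination hdet - (Z 0 0 ^ 2 - Z 0 0) * h3
    exact sub_eq_zero.mp (pow_eq_zero_iff (by norm_num) |>.mp this)
  apply Subtype.ext
  apply Matrix.SpecialLinearGroup.ext
  intro i j
  show Z i j = _
  fin_cases i <;> fin_cases j <;> simp [z02, z20, z12, z21, z01, z10, hc, ← d1, ← d2]

theorem orderOf_mk_of_center_bot {G : Type*} [Group G] (h : Subgroup.center G = ⊥) (g : G) :
    orderOf (QuotientGroup.mk g : G ⧸ Subgroup.center G) = orderOf g := by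
  refine orderOf_injective (QuotientGroup.mk' (Subgroup.center G)) ?_ g
  rw [← MonoidHom.ker_eq_bot_iff, QuotientGroup.ker_mk', h]

end Centre

end Cfsg.Agent.Solv.Spectrum

namespace Cfsg.Agent.Solv.Spectrum

open Matrix

theorem orderOf_quad {K : Type*} [CommRing K] (u : (Matrix (Fin 2) (Fin 2) K)ˣ)
    (q : K × K × K × K) (hq : toM q = u) (c : ℕ) (hc : 0 < c) (h1 : qpow q c = (1, 0, 0, 1))
    (h2 : ∀ m ∈ List.range c, m = 0 ∨ qpow q m ≠ (1, 0, 0, 1)) : orderOf u = c := by
  refine (orderOf_eq_iff hc).mpr ⟨Units.ext ?_, fun m hm hm0 h => (h2 m (List.mem_range.mpr hm)).elim (by omega) fun hne => hne (toM_injective ?_)⟩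
  · rw [Units.val_pow_eq_pow_val, ← hq, ← toM_pow, h1, toM_one, Units.val_one]
  · rw [toM_pow, hq, ← Units.val_pow_eq_pow_val, h, toM_one, Units.val_one]

end Cfsg.Agent.Solv.Spectrum
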