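import Cfsg.Agent.Lib.Solv.ZJApps
import Cfsg.Agent.Lib.Solv.Coprime
import Cfsg.Agent.Lib.Local.AmalgamBasics

/-!
The stable normal closure of `Ω₁(Z(S))`.
-/

set_option autoImplicit false
set_option linter.style.haveILetI false
set_option linter.unusedSectionVars false

universe u

namespace Cfsg.Agent.Solv.SNC

open Subgroup
open scoped commutatorElement

variable {S : Type u} [Group S] [Finite S] {p : ℕ} [Fact p.Prime]

/-- The defining family. -/
def Member (p : ℕ) (W : Subgroup S) : Prop :=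
  omegaOne p (center S) ≤ W ∧
    ∀ (H : Type u) [Group H] (τ : S →* H), IsStableEmbedding p τ → (W.map τ).Normal

theorem elemAbelian_omegaCenterThompson : IsElementaryAbelian p (omegaCenterThompson p S) := by
  set M := thompsonSubgroup p S ⊓ centralizer (thompsonSubgroup p S : Set S) with hM
  have hle : omegaCenterThompson p S ≤ M := Local.Amalgam.omegaOne_le M
  have hc : ∀ x ∈ M, ∀ y ∈ M, x * y = y * x := fun x hx y hy => mem_centralizer_iff.mp hy.2 x hx.1
  refine ⟨⟨⟨fun a b => Subtype.ext (hc a (hle a.2) b (hle b.2))⟩⟩, fun a ha => ?_⟩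
  have hgoal : ∀ a ∈ omegaOne p M, a ∈ M ∧ a ^ p = 1 := fun a ha => by
    induction ha using closure_induction with
    | mem x hx => exact hx
    | one => exact ⟨one_mem _, one_pow _⟩
    | mul x y _ _ ihx ihy =>
      exact ⟨mul_mem ihx.1 ihy.1, by
        rw [(show Commute x y from hc x ihx.1 y ihy.1).mul_pow, ihx.2, ihy.2, one_mul]⟩
    | inv x _ ih => exact ⟨inv_mem ih.1, by rw [inv_pow, ih.2, inv_one]⟩
  exact (hgoal a ha).2

theorem omegaCenter_le : omegaOne p (center S) ≤ omegaCenterThompson p S := by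
  obtain ⟨A, hA⟩ := exists_maxElemAbelian (G := S) p
  refine (closure_le _).2 fun x hx => subset_closure ⟨⟨?_, ?_⟩, hx.2⟩
  · exact le_thompson hA (mem_of_centralizes_maxElemAbelian hA hx.2
      (mem_centralizer_iff.mpr fun a _ => mem_center_iff.mp hx.1 a))
  · exact mem_centralizer_iff.mpr fun a _ => mem_center_iff.mp hx.1 a

theorem member_omega : Member p (omegaCenterThompson p S) := by
  refine ⟨omegaCenter_le, fun H _ τ hτ => ?_⟩
  obtain ⟨hinj, -, -, -, hJ, -⟩ := hτ
  haveI := hJ
  set J := (thompsonSubgroup p S).map τ with hJdef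
  rw [omegaCenterThompson, Local.Amalgam.omegaOne_map τ hinj, center_map τ _ (by
    rw [(MonoidHom.ker_eq_bot_iff τ).mpr hinj, inf_bot_eq]), ← hJdef, omegaOne]
  constructor
  intro n hn g
  induction hn using closure_induction with
  | mem x hx =>
    refine subset_closure ⟨⟨hJ.conj_mem x hx.1.1 g, ?_⟩, by rw [conj_pow, hx.2]; group⟩
    refine mem_centralizer_iff.mpr fun y hy => ?_
    have h1 : Commute (g⁻¹ * y * g) x :=
      mem_centralizer_iff.mp hx.1.2 _ (by simpa using hJ.conj_mem y hy g⁻¹)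
    have h2 := h1.map (MulAut.conj g).toMonoidHom
    simp only [MulEquiv.coe_toMonoidHom, MulAut.conj_apply] at h2
    rw [show g * (g⁻¹ * y * g) * g⁻¹ = y by group] at h2
    exact h2
  | one => simp
  | mul x y _ _ ihx ihy =>
    have h := mul_mem ihx ihy
    rwa [show g * x * g⁻¹ * (g * y * g⁻¹) = g * (x * y) * g⁻¹ by group] at h
  | inv x _ ih =>
    have h := inv_mem ih
    rwa [show (g * x * g⁻¹)⁻¹ = g * x⁻¹ * g⁻¹ by group] at h

theorem le_omega : stableNormalClosure p S ≤ omegaCenterThompson p S := sInf_le member_omega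

theorem member_self : Member p (stableNormalClosure p S) := by
  refine ⟨le_sInf fun W hW => hW.1, fun H _ τ hτ => ?_⟩
  constructor
  rintro _ ⟨w, hw, rfl⟩ g
  have key : ∀ W : Subgroup S, Member p W → g * τ w * g⁻¹ ∈ W.map τ := fun W hW =>
    (hW.2 H τ hτ).conj_mem _ (mem_map_of_mem τ (mem_sInf.mp hw W hW)) g
  obtain ⟨v, hv, hve⟩ := key _ member_omega
  refine ⟨v, mem_sInf.mpr fun W hW => ?_, hve⟩
  obtain ⟨v', hv', hve'⟩ := key W hW
  rwa [hτ.1 (hve.trans hve'.symm)]

theorem comm_of_mem {x y : S} (hx : x ∈ stableNormalClosure p S) (hy : y ∈ stableNormalClosure p S) :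
    x * y = y * x :=
  comm_of_elemAbelian elemAbelian_omegaCenterThompson (le_omega hx) (le_omega hy)

theorem quad_zpowers {G : Type*} [Group G] (W : Subgroup G) {y : G} (h : ∀ w ∈ W, Commute y ⁅w, y⁆) :
    ⁅⁅W, zpowers y⁆, zpowers y⁆ = ⊥ := by
  have hn : ∀ (n : ℕ), ∀ w ∈ W, Commute y ⁅w, y ^ n⁆ := by
    intro n w hw
    induction n with
    | zero => rw [pow_zero, commutatorElement_one_right]; exact Commute.one_right y
    | succ n ih =>
      rw [pow_succ, Repl.comm_mul_right]
      exact ih.mul_right ((((Commute.refl y).pow_right n).mul_right (h w hw)).mul_right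
        ((Commute.refl y).pow_right n).inv_right)
  rw [commutator_eq_bot_iff_le_centralizer, commutator_le]
  intro w hw z hz
  have hy : Commute y ⁅w, z⁆ := by
    obtain ⟨n, rfl⟩ := hz
    cases n with
    | ofNat n => simpa using hn n w hw
    | negSucc n =>
      have h1 := hn (n + 1) w hw
      have h2 : ⁅w, y ^ Int.negSucc n⁆ = (y ^ (n + 1))⁻¹ * ⁅w, y ^ (n + 1)⁆⁻¹ * y ^ (n + 1) := by
        rw [zpow_negSucc, commutatorElement_def, commutatorElement_def]; group
      show Commute y ⁅w, y ^ Int.negSucc n⁆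
      rw [h2]
      exact (((Commute.refl y).pow_right (n + 1)).inv_right.mul_right h1.inv_right).mul_right
        ((Commute.refl y).pow_right (n + 1))
  rw [mem_centralizer_iff]
  rintro _ ⟨m, rfl⟩
  exact (hy.zpow_left m).eq

/-- An element acting quadratically on the closure centralizes it. -/
theorem quadratic_central (hS : IsPGroup p S) {x : S}
    (hq : ⁅⁅stableNormalClosure p S, zpowers x⁆, zpowers x⁆ = ⊥) :
    ⁅stableNormalClosure p S, zpowers x⁆ = ⊥ := by
  set W := stableNormalClosure p S with hW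
  let X : Set S := {y | ∀ w ∈ W, Commute y ⁅w, y⁆}
  have key : Member p (W ⊓ centralizer X) := by
    refine ⟨le_inf member_self.1 ?_, fun H _ τ hτ => ?_⟩
    · exact fun z hz => mem_centralizer_iff.mpr fun y _ =>
        mem_center_iff.mp (Local.Amalgam.omegaOne_le _ hz) y
    haveI hVn := member_self.2 H τ hτ
    have hinj := hτ.1
    haveI : Finite H := hτ.2.1
    obtain ⟨P, hP⟩ := hτ.2.2.1
    set V := W.map τ with hV
    have hst := hτ.2.2.2.2.2 V (map_mono le_omega)
    set C := centralizer (V : Set H)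
    set π := QuotientGroup.mk' C
    constructor
    rintro _ ⟨y, hy, rfl⟩ h
    obtain ⟨z, hz, hze⟩ := hVn.conj_mem _ (mem_map_of_mem τ hy.1) h
    refine ⟨z, ⟨hz, mem_centralizer_iff.mpr fun x hx => ?_⟩, hze⟩
    have hxD : π (τ x) ∈ pCore p (H ⧸ C) := by
      refine hst (τ x) (le_bot_iff.mp ?_)
      rw [← MonoidHom.map_zpowers, ← map_commutator, ← map_commutator]
      rw [quad_zpowers W hx, Subgroup.map_bot]
    have hx' : π (h⁻¹ * τ x * h) ∈ pCore p (H ⧸ C) := by
      rw [map_mul, map_mul, map_inv]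
      have h0 := (inferInstance : (pCore p (H ⧸ C)).Normal).conj_mem _ hxD (π h)⁻¹
      rwa [inv_inv] at h0
    obtain ⟨q, hq', hqe⟩ := pCore_le_sylow (P.mapSurjective (QuotientGroup.mk'_surjective C)) hx'
    rw [hP] at hq'
    obtain ⟨s, rfl⟩ := hq'
    have hc : (τ s)⁻¹ * (h⁻¹ * τ x * h) ∈ C := QuotientGroup.eq.mp hqe
    -- `s` acts quadratically on `W`
    have hxq : ∀ v ∈ V, Commute (τ x) (τ x * v * (τ x)⁻¹ * v⁻¹) := by
      rintro _ ⟨w, hw, rfl⟩
      have h1 := Quad.quadGrp_conjNormal V (a := τ x) (le_bot_iff.mp (by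
        rw [← MonoidHom.map_zpowers, ← map_commutator, ← map_commutator,
          quad_zpowers W hx, Subgroup.map_bot]))
      have h2 := congrArg Subtype.val (h1 ⟨τ w, mem_map_of_mem τ hw⟩)
      simp only [MulAut.conjNormal_apply, Subgroup.coe_mul, Subgroup.coe_inv] at h2
      exact mul_inv_eq_iff_eq_mul.mp h2
    have hact : ∀ v ∈ V, τ s * v * (τ s)⁻¹ = (h⁻¹ * τ x * h) * v * (h⁻¹ * τ x * h)⁻¹ := fun v hv => by
      have h1 := mem_centralizer_iff.mp hc v hv
      calc τ s * v * (τ s)⁻¹ = τ s * (v * ((τ s)⁻¹ * (h⁻¹ * τ x * h))) * ((τ s)⁻¹ * (h⁻¹ * τ x * h))⁻¹ * (τ s)⁻¹ := by group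
        _ = _ := by rw [h1]; group
    have hsq : s ∈ X := by
      have hgen : ∀ w ∈ W, Commute s ⁅w, s⁆ := by
        intro w hw
        have hv := mem_map_of_mem τ hw
        set v := τ w
        set d := τ s * v * (τ s)⁻¹ * v⁻¹ with hd
        have hdV : d ∈ V := mul_mem (hVn.conj_mem v hv (τ s)) (inv_mem hv)
        have h3 : τ s * d * (τ s)⁻¹ = d := by
          rw [hact d hdV]
          have hd' : d = h⁻¹ * (τ x * (h * v * h⁻¹) * (τ x)⁻¹ * (h * v * h⁻¹)⁻¹) * h := by
            rw [hd, hact v hv]; group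
          have h4 := (hxq _ (hVn.conj_mem v hv h)).eq
          rw [hd']
          calc _ = h⁻¹ * (τ x * (τ x * (h * v * h⁻¹) * (τ x)⁻¹ * (h * v * h⁻¹)⁻¹) * (τ x)⁻¹) * h := by group
            _ = _ := by rw [h4]; group
        have h5 : d = τ (⁅w, s⁆⁻¹) := by
          simp only [hd, v, commutatorElement_def, map_mul, map_inv, mul_inv_rev, inv_inv, mul_assoc]
        rw [h5, ← map_inv τ s, ← map_mul, ← map_mul] at h3
        have h6 := mul_inv_eq_iff_eq_mul.mp (hinj h3)
        exact (Commute.inv_right (show Commute s ⁅w, s⁆⁻¹ from h6) : Commute s ⁅w, s⁆⁻¹⁻¹) |> fun t => by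
          simpa using t
      exact hgen
    have h7 : Commute s y := mem_centralizer_iff.mp hy.2 s hsq
    have h8 : (h⁻¹ * τ x * h) * τ y * (h⁻¹ * τ x * h)⁻¹ = τ y := by
      rw [← hact _ (mem_map_of_mem τ hy.1), ← map_inv, ← map_mul, ← map_mul, h7.eq, mul_inv_cancel_right]
    apply hinj
    rw [map_mul, map_mul, hze]
    have h9 := congrArg (fun t => h * t * h⁻¹) h8
    have h10 : τ x * (h * τ y * h⁻¹) * (τ x)⁻¹ = h * τ y * h⁻¹ := by
      calc _ = h * ((h⁻¹ * τ x * h) * τ y * (h⁻¹ * τ x * h)⁻¹) * h⁻¹ := by group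
        _ = _ := h9
    exact mul_inv_eq_iff_eq_mul.mp h10
  have hle : W ≤ W ⊓ centralizer X := sInf_le key
  have hxX : x ∈ X := fun w hw => by
    have h1 := commutator_mem_commutator (commutator_mem_commutator hw (mem_zpowers x)) (mem_zpowers x)
    rw [hq, mem_bot, commutatorElement_eq_one_iff_mul_comm] at h1
    exact h1.symm
  rw [commutator_eq_bot_iff_le_centralizer, le_centralizer_iff]
  exact zpowers_le.mpr (mem_centralizer_iff.mpr fun w hw =>
    (mem_centralizer_iff.mp (hle hw).2 x hxX).symm)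

theorem ne_bot (hS : IsPGroup p S) [Nontrivial S] : stableNormalClosure p S ≠ ⊥ := by
  intro h
  haveI := hS.center_nontrivial
  obtain ⟨k, hk⟩ := IsPGroup.iff_card.mp (hS.to_subgroup (center S))
  have hdvd : p ∣ Nat.card (center S) := by
    rw [hk]
    refine dvd_pow_self p fun h0 => ?_
    rw [h0, pow_zero] at hk
    have := Finite.one_lt_card (α := center S)
    omega
  obtain ⟨z, hz⟩ := exists_prime_orderOf_dvd_card' p hdvd
  have hzm : (z : S) ∈ omegaOne p (center S) := subset_closure ⟨z.2, by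
    rw [← SubgroupClass.coe_pow, ← hz, pow_orderOf_eq_one]; rfl⟩
  have h1 := member_self.1 hzm
  rw [h, mem_bot] at h1
  rw [show z = 1 from Subtype.ext h1, orderOf_one] at hz
  exact (Fact.out : p.Prime).one_lt.ne hz

theorem member_comap {S' : Type u} [Group S'] (η : S ≃* S') {W : Subgroup S'}
    (h1 : omegaOne p (center S') ≤ W)
    (h2 : ∀ (H : Type u) [Group H] (τ : S' →* H), IsStableEmbedding p τ → (W.map τ).Normal) :
    Member p (W.comap η.toMonoidHom) := by
  refine ⟨(closure_le _).2 fun x hx => ?_, fun H _ τ hτ => ?_⟩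
  · refine h1 (subset_closure ⟨mem_center_iff.mpr fun y => ?_, ?_⟩)
    · obtain ⟨y, rfl⟩ := η.surjective y
      exact ((map_mul η y x).symm.trans (congrArg η (mem_center_iff.mp hx.1 y))).trans (map_mul η x y)
    · exact (map_pow η x p).symm.trans ((congrArg η hx.2).trans (map_one η))
  · have hstable : IsStableEmbedding p (τ.comp η.symm.toMonoidHom) := by
      obtain ⟨hinj, hfin, ⟨P, hP⟩, hc, hJ, hst⟩ := hτ
      haveI : Finite S' := Finite.of_equiv S η.toEquiv
      have hJm : (thompsonSubgroup p S').map η.symm.toMonoidHom = thompsonSubgroup p S :=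
        thompson_map_equiv η.symm
      refine ⟨hinj.comp η.symm.injective, hfin, ⟨P, ?_⟩, hc, ?_, ?_⟩
      · rw [hP]
        ext y
        exact ⟨fun ⟨x, hx⟩ => ⟨η x, by simpa using hx⟩, fun ⟨x, hx⟩ => ⟨η.symm x, hx⟩⟩
      · rwa [← map_map, hJm]
      · intro V _ hV
        refine hst V (hV.trans_eq ?_)
        rw [← map_map, omegaCenterThompson, omegaCenterThompson,
          Local.Amalgam.omegaOne_map _ η.symm.injective, center_map _ _ (by
            rw [(MonoidHom.ker_eq_bot_iff _).mpr η.symm.injective, inf_bot_eq]), hJm]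
    have h3 := h2 H _ hstable
    rwa [← map_map, show W.map η.symm.toMonoidHom = W.comap η.toMonoidHom from map_equiv_eq_comap_symm η.symm W] at h3

theorem map_equiv {S' : Type u} [Group S'] (η : S ≃* S') :
    (stableNormalClosure p S).map η.toMonoidHom = stableNormalClosure p S' := by
  haveI : Finite S' := Finite.of_equiv S η.toEquiv
  refine le_antisymm ?_ ?_
  · rw [map_le_iff_le_comap]
    exact sInf_le (member_comap η member_self.1 member_self.2)
  · have h : stableNormalClosure p S' ≤ (stableNormalClosure p S).comap η.symm.toMonoidHom :=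
      sInf_le (member_comap η.symm member_self.1 member_self.2)
    exact h.trans (map_equiv_eq_comap_symm η _).ge

/-- The closure of a Sylow subgroup is normal in a stable constrained group. -/
theorem normal_of_stable {G : Type u} [Group G] [Finite G] (hst : IsActionPStable p G)
    (hc : centralizer (pCore p G : Set G) ≤ pCore p G) (P : Sylow p G) :
    ((stableNormalClosure p (P : Subgroup G)).map (P : Subgroup G).subtype).Normal := by
  set W := (stableNormalClosure p (P : Subgroup G)).map (P : Subgroup G).subtype with hWdef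
  set Q := pCore p G with hQ
  haveI : Q.Characteristic := pCore_characteristic p G
  have hQP : Q ≤ (P : Subgroup G) := pCore_le_sylow P
  have hWP : W ≤ (P : Subgroup G) := map_subtype_le _
  have hWZ : W ≤ ZJ.zj p (P : Subgroup G) := by
    rw [ZJ.zj_prime]; exact map_mono le_omega
  have hWc : ∀ x ∈ W, ∀ y ∈ W, x * y = y * x := fun x hx y hy => ZJ.zj_comm _ (hWZ hx) (hWZ hy)
  have hPW : normalizer ((P : Subgroup G) : Set G) ≤ normalizer (W : Set G) := by
    intro g hg
    let φ : (P : Subgroup G) ≃* (P : Subgroup G) :=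
      ((P : Subgroup G).equivMapOfInjective _ (MulAut.conj g).injective).trans
        (MulEquiv.subgroupCongr (mem_normalizer_iff_map_conj_eq.1 hg))
    rw [mem_normalizer_iff_map_conj_eq]
    conv_rhs => rw [hWdef, ← map_equiv (p := p) φ]
    rw [hWdef, map_map, map_map]
    rfl
  -- `W` is normal in the normalizer of `J`
  set J := thompsonSubgroupOf p (P : Subgroup G) with hJ
  set N := normalizer (J : Set G) with hN
  have hPN : (P : Subgroup G) ≤ N := by
    refine le_trans le_normalizer fun g hg => ?_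
    rw [mem_normalizer_iff_map_conj_eq] at hg ⊢
    rw [thompsonOf_map _ _ (by
      rw [(MonoidHom.ker_eq_bot_iff _).mpr (MulAut.conj g).injective, inf_bot_eq]), hg]
  have hNW : N ≤ normalizer (W : Set G) := by
    let τ : (P : Subgroup G) →* N := Subgroup.inclusion hPN
    have hτr : τ.range = (P : Subgroup G).subgroupOf N := Subgroup.inclusion_range hPN
    have hτ : IsStableEmbedding p τ := by
      refine ⟨Subgroup.inclusion_injective hPN, inferInstance, ⟨P.subtype hPN, hτr.symm⟩, ?_, ?_, ?_⟩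
      · have hO : Q.subgroupOf N ≤ pCore p N := le_pCore (IsPGroup.comap_subtype (isPGroup_pCore p G))
        intro x hx
        refine hO (hc fun y hy => ?_)
        exact congrArg Subtype.val (hx ⟨y, hPN (hQP hy)⟩ (hO hy))
      · have e : (thompsonSubgroup p (P : Subgroup G)).map τ = J.subgroupOf N := by
          apply map_injective N.subtype_injective
          rw [map_map, map_subgroupOf_eq_of_le (le_normalizer : J ≤ N)]
          rfl
        rw [e]; exact normal_in_normalizer
      · intro V _ hV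
        refine hst.2.2 P V ?_
        refine (map_mono hV).trans_eq ?_
        rw [map_map]
        rfl
    have h := member_self.2 N τ hτ
    have e : (stableNormalClosure p (P : Subgroup G)).map τ = W.subgroupOf N := by
      apply map_injective N.subtype_injective
      rw [map_map, map_subgroupOf_eq_of_le (hWP.trans hPN)]
      rfl
    rw [e] at h
    intro g hg
    rw [mem_normalizer_iff]
    intro x
    constructor
    · exact fun hx => h.conj_mem ⟨x, hPN (hWP hx)⟩ hx ⟨g, hg⟩
    · intro hx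
      have h1 := h.conj_mem ⟨_, hPN (hWP hx)⟩ hx ⟨g, hg⟩⁻¹
      simpa [mem_subgroupOf, mul_assoc] using h1
  -- `W ≤ Q`
  have hWQ : W ≤ Q := by
    intro w hw
    have hq : ⁅⁅Q, zpowers w⁆, zpowers w⁆ = ⊥ := by
      refine le_bot_iff.1 ((commutator_mono (commutator_mono le_rfl (zpowers_le.mpr hw)) (zpowers_le.mpr hw)).trans ?_)
      refine le_of_eq (commutator_eq_bot_iff_le_centralizer.mpr ((commutator_le.mpr ?_ : ⁅Q, W⁆ ≤ W).trans
        fun a ha => mem_centralizer_iff.mpr fun b hb => hWc b hb a ha))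
      intro q hq a ha
      rw [commutatorElement_def]
      exact mul_mem ((mem_normalizer_iff.1 (hPW (le_normalizer (hQP hq))) a).1 ha) (inv_mem ha)
    set Φ := (frattini ↥Q).map Q.subtype with hΦ
    obtain ⟨D, hDn, hKD, ⟨k, hk⟩, hwD⟩ := hst.2.1 w (hq.le.trans bot_le)
    haveI := hDn
    have hKp : IsPGroup p (sectionKernel Q Φ) := by
      intro c
      obtain ⟨j, m, hm, hcm⟩ := Nat.exists_eq_pow_mul_and_not_dvd (orderOf_pos c).ne' p (Fact.out : p.Prime).ne_one
      set d : sectionKernel Q Φ := c ^ p ^ j with hd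
      have hdm : d ^ m = 1 := by
        rw [hd, ← pow_mul, ← hcm, pow_orderOf_eq_one]
      have hcop : (Nat.card (zpowers (d : G))).Coprime p := by
        rw [Nat.card_zpowers]
        refine Nat.Coprime.coprime_dvd_left (orderOf_dvd_of_pow_eq_one (congrArg Subtype.val hdm)) ?_
        exact ((Nat.Prime.coprime_iff_not_dvd Fact.out).2 hm).symm
      have hcen : zpowers (d : G) ≤ centralizer (Q : Set G) := by
        refine centralizes_of_trivial_on_frattini_quotient _ Q (by rw [normalizer_eq_top]; exact le_top) ?_ ?_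
        · obtain ⟨i, hi⟩ := IsPGroup.iff_card.mp ((isPGroup_pCore p G).to_subgroup (frattini Q))
          rw [hi]
          exact hcop.pow_right i
        · intro a ha k hk
          have hak : a ∈ sectionKernel Q Φ := (zpowers_le.mpr d.2) ha
          have h1 : (QuotientGroup.mk' Φ) a * (QuotientGroup.mk' Φ) k = (QuotientGroup.mk' Φ) k * (QuotientGroup.mk' Φ) a :=
            (mem_centralizer_iff.mp hak _ (mem_map_of_mem _ hk)).symm
          refine (QuotientGroup.eq_one_iff _).mp ?_
          show (QuotientGroup.mk' Φ) (a * k * a⁻¹ * k⁻¹) = 1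
          rw [map_mul, map_mul, map_mul, h1, map_inv, map_inv]; group
      have hdQ : (d : G) ∈ Q := hc (hcen (mem_zpowers _))
      have h2 : orderOf (d : G) = 1 := by
        obtain ⟨i, hi⟩ := IsPGroup.iff_card.mp (isPGroup_pCore p G)
        refine Nat.eq_one_of_dvd_coprimes ((Nat.card_zpowers (d : G) ▸ hcop).pow_right i) dvd_rfl ?_
        exact hi ▸ Subgroup.orderOf_dvd_natCard Q hdQ
      exact ⟨j, Subtype.ext (orderOf_eq_one_iff.mp h2)⟩
    have hDp : IsPGroup p D := by
      obtain ⟨i, hi⟩ := IsPGroup.iff_card.mp hKp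
      refine IsPGroup.of_card (n := i + k) ?_
      have h1 := ((sectionKernel Q Φ).subgroupOf D).card_mul_index
      rw [card_subgroupOf hKD, hi] at h1
      rw [← h1, pow_add]
      exact congrArg (p ^ i * ·) hk
    exact (le_pCore hDp : D ≤ Q) hwD
  -- the normal closure is elementary abelian
  set V := normalClosure (W : Set G) with hV
  have hVQ : V ≤ Q := normalClosure_le_normal hWQ
  have hcomm : ∀ g : G, ∀ w ∈ W, ∀ v ∈ W, Commute (g * w * g⁻¹) v := by
    intro g w hw v hv
    set x := g * w * g⁻¹ with hx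
    have hxQ : x ∈ Q := (inferInstance : Q.Normal).conj_mem w (hWQ hw) g
    have hWgc : ∀ a ∈ W, ∀ b ∈ W, Commute (g * a * g⁻¹) (g * b * g⁻¹) := fun a ha b hb => by
      have h := (show Commute a b from hWc a ha b hb).map (MulAut.conj g).toMonoidHom
      simpa using h
    have hin : ∀ y ∈ Q, ∃ u ∈ W, ⁅y, x⁆ = g * u * g⁻¹ := fun y hy => by
      refine ⟨(g⁻¹ * y * g) * w * (g⁻¹ * y * g)⁻¹ * w⁻¹, mul_mem ?_ (inv_mem hw), by
        rw [hx, commutatorElement_def]; group⟩
      refine (mem_normalizer_iff.1 (hPW (le_normalizer (hQP ?_))) w).1 hw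
      simpa using (inferInstance : Q.Normal).conj_mem y hy g⁻¹
    let xs : (P : Subgroup G) := ⟨x, hQP hxQ⟩
    have hq : ⁅⁅stableNormalClosure p (P : Subgroup G), zpowers xs⁆, zpowers xs⁆ = ⊥ := by
      refine quad_zpowers _ fun a ha => ?_
      obtain ⟨u, hu, hue⟩ := hin (a : G) (hWQ ⟨a, ha, rfl⟩)
      have h1 : Commute x ⁅(a : G), x⁆ := by rw [hue, hx]; exact hWgc w hw u hu
      exact Subtype.ext h1
    have h2 := quadratic_central P.isPGroup' hq
    obtain ⟨v', hv', rfl⟩ := hv
    have h3 := commutator_mem_commutator hv' (mem_zpowers xs)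
    rw [h2, mem_bot, commutatorElement_eq_one_iff_mul_comm] at h3
    exact (congrArg Subtype.val h3).symm
  have hWp : ∀ w ∈ W, w ^ p = 1 := by
    rintro _ ⟨w, hw, rfl⟩
    rw [← map_pow, elemAbelian_omegaCenterThompson.2 w (le_omega hw), map_one]
  have hVc : ∀ x ∈ V, ∀ y ∈ V, x * y = y * x := by
    have h1 : V ≤ centralizer (V : Set G) := by
      rw [hV, normalClosure, centralizer_closure, closure_le]
      intro x hx
      obtain ⟨w, hw, hwx⟩ := Group.mem_conjugatesOfSet_iff.mp hx
      obtain ⟨g, rfl⟩ := isConj_iff.mp hwx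
      rw [SetLike.mem_coe, mem_centralizer_iff]
      intro y hy
      obtain ⟨v, hv, hvy⟩ := Group.mem_conjugatesOfSet_iff.mp hy
      obtain ⟨k, rfl⟩ := isConj_iff.mp hvy
      have h := (hcomm (k⁻¹ * g) w hw v hv).map (MulAut.conj k).toMonoidHom
      simp only [MulEquiv.coe_toMonoidHom, MulAut.conj_apply] at h
      rw [show k * (k⁻¹ * g * w * (k⁻¹ * g)⁻¹) * k⁻¹ = g * w * g⁻¹ by group] at h
      exact h.eq.symm
    exact fun x hx y hy => mem_centralizer_iff.mp (h1 hy) x hx
  have hVe : IsElementaryAbelian p V := by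
    refine ⟨⟨⟨fun a b => Subtype.ext (hVc a a.2 b b.2)⟩⟩, fun a ha => ?_⟩
    rw [hV, normalClosure] at ha
    induction ha using closure_induction with
    | mem x hx =>
      obtain ⟨w, hw, hwx⟩ := Group.mem_conjugatesOfSet_iff.mp hx
      obtain ⟨g, rfl⟩ := isConj_iff.mp hwx
      rw [conj_pow, hWp w hw]; group
    | one => exact one_pow _
    | mul x y hx hy ihx ihy =>
      rw [(show Commute x y from hVc x hx y hy).mul_pow, ihx, ihy, one_mul]
    | inv x _ ih => rw [inv_pow, ih, inv_one]
  -- the kernel of the action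
  set C := centralizer (V : Set G) with hC
  set π := QuotientGroup.mk' C
  set M := (pCore p (G ⧸ C)).comap π with hM
  haveI : M.Normal := inferInstance
  have hMW : M ≤ normalizer (W : Set G) := by
    intro x hx
    obtain ⟨y, hy, hyx⟩ := pCore_le_sylow (P.mapSurjective (QuotientGroup.mk'_surjective C)) hx
    have hcn : ∀ c ∈ C, c ∈ normalizer (W : Set G) := fun c hc => by
      refine centralizer_le_normalizer _ (mem_centralizer_iff.mpr fun w hw => ?_)
      exact mem_centralizer_iff.mp hc w (subset_normalClosure hw)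
    have := mul_mem (hPW (le_normalizer hy)) (hcn _ (QuotientGroup.eq.mp hyx))
    rwa [mul_inv_cancel_left] at this
  have hquad : ∀ A ∈ ZJ.fam p (P : Subgroup G), V ≤ normalizer (A : Set G) → A ≤ M := by
    intro A hA hVA a ha
    refine hst.1 V hVe a (le_bot_iff.mp ((commutator_mono (commutator_mono le_rfl (zpowers_le.mpr ha))
      (zpowers_le.mpr ha)).trans (le_of_eq ?_)))
    refine commutator_eq_bot_iff_le_centralizer.mpr ((commutator_le.mpr ?_ : ⁅V, A⁆ ≤ A).trans
      fun x hx => mem_centralizer_iff.mpr fun b hb => hA.2.1.comm hb hx)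
    intro y hy b hb
    rw [commutatorElement_def]
    exact mul_mem ((mem_normalizer_iff.mp (hVA hy) b).mp hb) (inv_mem hb)
  obtain ⟨PM, hPM⟩ := ZJ.exists_sylow_inf P M
  have hfr := Sylow.normalizer_sup_eq_top PM
  rw [hPM] at hfr
  set T := (P : Subgroup G) ⊓ M with hT
  by_cases hall : ∀ A ∈ ZJ.fam p (P : Subgroup G), A ≤ M
  · rw [← normalizer_eq_top_iff, eq_top_iff, ← hfr]
    refine sup_le (fun g hg => hNW ?_) hMW
    have hJT : thompsonSubgroupOf p T = J := by
      rw [hJ, ZJ.thompsonOf_eq_jf, ZJ.thompsonOf_eq_jf]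
      obtain ⟨A, hA⟩ := ZJ.exists_fam p (P : Subgroup G)
      have hfe := ZJ.fam_eq_of_le (Q' := T) inf_le_left hA (le_inf hA.1 (hall A hA))
      rw [ZJ.jf, ZJ.jf, hfe]
      exact congrArg sSup (Set.ext fun X => ⟨fun h => h.1, fun h => ⟨h, le_inf h.1 (hall X h)⟩⟩)
    rw [hN, ← hJT]
    rw [mem_normalizer_iff_map_conj_eq] at hg ⊢
    rw [thompsonOf_map _ _ (by
      rw [(MonoidHom.ker_eq_bot_iff _).mpr (MulAut.conj g).injective, inf_bot_eq]), hg]
  exfalso
  push Not at hall
  obtain ⟨A, ⟨hA, hAM⟩, hmax⟩ := Set.exists_max_image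
    {A | A ∈ ZJ.fam p (P : Subgroup G) ∧ ¬ A ≤ M} (fun A => Nat.card ↥(A ⊓ V)) (Set.toFinite _)
    (by obtain ⟨A, h1, h2⟩ := hall; exact ⟨A, h1, h2⟩)
  have hnot : ¬ V ≤ normalizer (A : Set G) := fun h => hAM (hquad A hA h)
  have hVP : V ≤ (P : Subgroup G) := hVQ.trans hQP
  -- replacement inside `P`
  set B0 := V.subgroupOf (P : Subgroup G) with hB0
  set A0 := A.subgroupOf (P : Subgroup G) with hA0
  have hnot0 : ¬ B0 ≤ normalizer (A0 : Set (P : Subgroup G)) := fun h => hnot fun y hy => by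
    have h1 := h (show (⟨y, hVP hy⟩ : (P : Subgroup G)) ∈ B0 from hy)
    rw [mem_normalizer_iff] at h1 ⊢
    intro x
    constructor
    · intro hx
      exact (h1 ⟨x, hA.1 hx⟩).mp hx
    · intro hx
      have hxP : x ∈ (P : Subgroup G) := by
        have := mul_mem (mul_mem (inv_mem (hVP hy)) (hA.1 hx)) (hVP hy)
        simpa [mul_assoc] using this
      exact (h1 ⟨x, hxP⟩).mpr hx
  have hB0c : IsMulCommutative B0 := ⟨⟨fun a b => Subtype.ext (Subtype.ext (hVc _ a.2 _ b.2))⟩⟩
  have hA0c : IsMulCommutative A0 := by haveI := hA.2.1.1; exact subgroupOf_isMulCommutative _ _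
  have hB0A0 : ⁅B0, B0⁆ ≤ A0 := commutator_le.mpr fun a ha b hb => by
    have : ⁅a, b⁆ = 1 := commutatorElement_eq_one_iff_mul_comm.mpr (Subtype.ext (hVc _ ha _ hb))
    rw [this]; exact one_mem _
  obtain ⟨b, hb, hbN, hbA⟩ := Repl.exists_normalizer_step P.isPGroup' B0 A0 hnot0
  obtain ⟨hcard, hab, -, hlt, -, -, hN2, -, -, -⟩ :=
    Repl.star_spec P.isPGroup' B0 (fun _ => hB0c) A0 hA0c hB0A0 b hb hbN hbA
  set A₂ := (Repl.star A0 b).map (P : Subgroup G).subtype with hA₂
  have hA₂fam : A₂ ∈ ZJ.fam p (P : Subgroup G) := by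
    refine ⟨map_subtype_le _, ⟨?_, ?_⟩, fun D hD hDa => ?_⟩
    · haveI := hab; exact map_isMulCommutative _ _
    · rintro _ ⟨a, ha, rfl⟩
      rw [← map_pow]
      suffices h : a ^ p = 1 by rw [h, map_one]
      rw [Repl.star] at ha
      have hcl : ∀ a ∈ (A0 ⊓ A0.map (MulAut.conj (b⁻¹)).toMonoidHom) ⊔
          closure {g | ∃ a ∈ A0, g = a * b⁻¹ * a⁻¹ * b}, a ∈ Repl.star A0 b ∧ a ^ p = 1 := by
        intro a ha
        rw [sup_eq_closure] at ha
        induction ha using closure_induction with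
        | mem x hx =>
          refine ⟨?_, ?_⟩
          · rw [Repl.star, sup_eq_closure]; exact subset_closure hx
          · rcases hx with hx | hx
            · exact Subtype.ext (by rw [SubgroupClass.coe_pow]; exact hA.2.1.2 (x : G) hx.1)
            · have hxB : x ∈ B0 := by
                refine (closure_le _).2 ?_ hx
                rintro _ ⟨c, hc, rfl⟩
                exact mul_mem ((inferInstance : B0.Normal).conj_mem b⁻¹ (inv_mem hb) c) hb
              exact Subtype.ext (by rw [SubgroupClass.coe_pow]; exact hVe.2 _ hxB)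
        | one => exact ⟨one_mem _, one_pow _⟩
        | mul x y _ _ ihx ihy =>
          refine ⟨mul_mem ihx.1 ihy.1, ?_⟩
          have hxy : Commute x y := congrArg Subtype.val (hab.is_comm.comm (⟨x, ihx.1⟩ : Repl.star A0 b) ⟨y, ihy.1⟩)
          rw [hxy.mul_pow, ihx.2, ihy.2, one_mul]
        | inv x _ ih => exact ⟨inv_mem ih.1, by rw [inv_pow, ih.2, inv_one]⟩
      exact (hcl a ha).2
    · rw [hA₂, card_map_subtype, hcard, card_subgroupOf hA.1]
      exact hA.2.2 D hD hDa
  have hA₂M : A₂ ≤ M := by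
    by_contra h
    have h1 := hmax A₂ ⟨hA₂fam, h⟩
    have h2 : Nat.card ↥(A0 ⊓ B0) < Nat.card ↥(Repl.star A0 b ⊓ B0) :=
      lt_of_le_of_ne (card_le_of_le hlt.le) fun h => hlt.ne (eq_of_le_of_card_ge hlt.le h.ge)
    have h3 : A₂ ⊓ V = (Repl.star A0 b ⊓ B0).map (P : Subgroup G).subtype := by
      rw [map_inf_eq _ _ _ (P : Subgroup G).subtype_injective, hB0, map_subgroupOf_eq_of_le hVP]
    simp only [h3, card_map_subtype] at h1
    rw [show Nat.card ↥(A ⊓ V) = Nat.card ↥(A0 ⊓ B0) from (card_subgroupOf (inf_le_left.trans hA.1)).symm] at h1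
    omega
  have hA₂T : A₂ ≤ T := le_inf hA₂fam.1 hA₂M
  have hfe := ZJ.fam_eq_of_le inf_le_left hA₂fam hA₂T
  have hVA₂ : V ≤ A₂ := by
    rw [hV, normalClosure, closure_le]
    intro x hx
    obtain ⟨w, hw, hwx⟩ := Group.mem_conjugatesOfSet_iff.mp hx
    obtain ⟨g, rfl⟩ := isConj_iff.mp hwx
    have hg : g ∈ normalizer (T : Set G) ⊔ M := by rw [hfr]; trivial
    rw [mem_sup_of_normal_right] at hg
    obtain ⟨k, hk, l, hl, rfl⟩ := hg
    have hlw : l * w * l⁻¹ ∈ W := (mem_normalizer_iff.mp (hMW hl) w).mp hw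
    have h4 : l * w * l⁻¹ ∈ ZJ.zj p T := ZJ.zj_mono inf_le_left hA₂fam hA₂T (hWZ hlw)
    have h5 := (mem_normalizer_iff.mp (ZJ.normalizer_le_zj T hk) _).mp h4
    refine ZJ.zj_le_mem (show A₂ ∈ ZJ.fam p T by rw [hfe]; exact ⟨hA₂fam, hA₂T⟩) ?_
    simpa [mul_assoc] using h5
  refine hnot0 fun y hy => hN2 ?_
  obtain ⟨y', hy', he⟩ := hVA₂ (show (y : G) ∈ V from hy)
  rwa [← (P : Subgroup G).subtype_injective he]

/-- The closure as a functor. -/
def WS (p : ℕ) (Q : Type u) [Group Q] : Subgroup Q := stableNormalClosure p Q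

theorem isCharPFunctor_WS : IsCharPFunctor.{u} p (WS p) := by
  refine ⟨fun Q _ _ hQ _ => ne_bot hQ, fun Q R _ _ _ _ φ => map_equiv φ⟩

end Cfsg.Agent.Solv.SNC
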