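import Cfsg.Agent.Lib.Solv.Supersolvable

/-!
Consequences of supersolvability: products, derived subgroup, ordered chains, converse of Lagrange.
-/

set_option autoImplicit false
set_option linter.style.haveILetI false

namespace Cfsg.Agent.Solv

open Subgroup
open scoped Pointwise commutatorElement

universe u

theorem isSupersolvable_prod {G : Type*} {H : Type*} [Group G] [Group H]
    (hG : Cfsg.IsSupersolvable G) (hH : Cfsg.IsSupersolvable H) :
    Cfsg.IsSupersolvable (G × H) := by
  refine isSupersolvable_of_inf_eq_bot (MonoidHom.fst G H).ker (MonoidHom.snd G H).ker ?_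
    (isSupersolvable_of_surjective (QuotientGroup.quotientKerEquivOfSurjective (MonoidHom.fst G H)
      Prod.fst_surjective).symm.toMonoidHom (MulEquiv.surjective _) hG)
    (isSupersolvable_of_surjective (QuotientGroup.quotientKerEquivOfSurjective (MonoidHom.snd G H)
      Prod.snd_surjective).symm.toMonoidHom (MulEquiv.surjective _) hH)
  refine eq_bot_iff.mpr fun x hx => mem_bot.mpr ?_
  exact Prod.ext hx.1 hx.2

theorem isNilpotent_commutator_of_isSupersolvable_aux : ∀ (n : ℕ) (G : Type u) [Group G] [Finite G],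
    Nat.card G ≤ n → Cfsg.IsSupersolvable G → Group.IsNilpotent (commutator G) := by
  intro n
  induction n with
  | zero => intro G _ _ hn; exact absurd hn (not_le.mpr Nat.card_pos)
  | succ n ih =>
    intro G _ _ hn hG
    rcases subsingleton_or_nontrivial G with h | h
    · infer_instance
    obtain ⟨N, hN, -, hp⟩ := exists_prime_normal_le hG (N := (⊤ : Subgroup G))
      (fun h => bot_ne_top h.symm)
    haveI := hN
    have hNb : N ≠ ⊥ := fun h => Nat.not_prime_one (by rwa [h, card_bot] at hp)
    set f := QuotientGroup.mk' N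
    have hq := ih (G ⧸ N) (by have := card_quotient_lt hNb; omega)
      (isSupersolvable_of_surjective f (QuotientGroup.mk'_surjective N) hG)
    have hle : (commutator G).map f ≤ commutator (G ⧸ N) := by
      rw [commutator_def, commutator_def, map_commutator]
      exact commutator_mono le_top le_top
    -- the derived subgroup centralises `N`
    have hc : commutator G ≤ centralizer (N : Set G) := by
      haveI := Fact.mk hp
      haveI : IsCyclic N := isCyclic_of_prime_card (p := Nat.card N) rfl
      obtain ⟨g, hg⟩ := Subgroup.isCyclic_iff_exists_zpowers_eq_top N |>.mp inferInstance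
      rw [commutator_def, commutator_le]
      intro a _ b _
      have hpow : ∀ x : G, ∃ m : ℤ, x * g * x⁻¹ = g ^ m := fun x => by
        have h1 : x * g * x⁻¹ ∈ zpowers g := hg ▸ hN.conj_mem g (hg ▸ mem_zpowers g) x
        exact (mem_zpowers_iff.mp h1).imp fun m hm => hm.symm
      obtain ⟨m, hm⟩ := hpow a⁻¹
      obtain ⟨l, hl⟩ := hpow b⁻¹
      have e1 : (a⁻¹ * b⁻¹) * g * (a⁻¹ * b⁻¹)⁻¹ = (b⁻¹ * a⁻¹) * g * (b⁻¹ * a⁻¹)⁻¹ := by
        calc (a⁻¹ * b⁻¹) * g * (a⁻¹ * b⁻¹)⁻¹
            = a⁻¹ * (b⁻¹ * g * b⁻¹⁻¹) * a⁻¹⁻¹ := by group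
          _ = g ^ (m * l) := by rw [hl, ← conj_zpow, hm, ← zpow_mul]
          _ = b⁻¹ * (a⁻¹ * g * a⁻¹⁻¹) * b⁻¹⁻¹ := by
            rw [hm, ← conj_zpow, hl, ← zpow_mul, mul_comm]
          _ = (b⁻¹ * a⁻¹) * g * (b⁻¹ * a⁻¹)⁻¹ := by group
      rw [commutatorElement_def]
      have e2 : (a * b * a⁻¹ * b⁻¹) * g * (a * b * a⁻¹ * b⁻¹)⁻¹ = g := by
        calc a * b * a⁻¹ * b⁻¹ * g * (a * b * a⁻¹ * b⁻¹)⁻¹
            = a * b * ((a⁻¹ * b⁻¹) * g * (a⁻¹ * b⁻¹)⁻¹) * (a * b)⁻¹ := by group
          _ = a * b * ((b⁻¹ * a⁻¹) * g * (b⁻¹ * a⁻¹)⁻¹) * (a * b)⁻¹ := by rw [e1]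
          _ = g := by group
      intro y hy
      obtain ⟨k, rfl⟩ := mem_zpowers_iff.mp (hg.symm ▸ hy : y ∈ zpowers g)
      exact (Commute.zpow_left (mul_inv_eq_iff_eq_mul.mp e2).symm k).eq
    let φ : commutator G →* commutator (G ⧸ N) :=
      (inclusion hle).comp ((QuotientGroup.mk' N).subgroupMap (commutator G))
    haveI := hq
    refine Subgroup.isNilpotent_of_ker_le_center φ ?_
    intro x hx
    have hxN : (x : G) ∈ N :=
      (QuotientGroup.eq_one_iff _).mp (congrArg Subtype.val hx)
    rw [mem_center_iff]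
    exact fun y => Subtype.ext (hc y.2 x hxN).symm

theorem isNilpotent_commutator_of_isSupersolvable {G : Type u} [Group G] [Finite G]
    (hG : Cfsg.IsSupersolvable G) : Group.IsNilpotent (commutator G) :=
  isNilpotent_commutator_of_isSupersolvable_aux _ G le_rfl hG

theorem exists_ordered_chain_aux : ∀ (n : ℕ) (G : Type u) [Group G] [Finite G],
    Nat.card G ≤ n → Cfsg.IsSupersolvable G →
    ∃ (k : ℕ) (H : Fin (k + 1) → Subgroup G), H 0 = ⊥ ∧ H (Fin.last k) = ⊤ ∧
      (∀ i, (H i).Normal) ∧
      (∀ i : Fin k, H i.castSucc ≤ H i.succ ∧ ((H i.castSucc).relIndex (H i.succ)).Prime) ∧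
      (∀ i : Fin k, (H i.castSucc).relIndex (H i.succ) ∣ Nat.card G) ∧
      ∀ i j : Fin k, i ≤ j →
        (H j.castSucc).relIndex (H j.succ) ≤ (H i.castSucc).relIndex (H i.succ) := by
  intro n
  induction n with
  | zero => intro G _ _ hn; exact absurd hn (not_le.mpr Nat.card_pos)
  | succ n ih =>
    intro G _ _ hn hG
    rcases subsingleton_or_nontrivial G with h | h
    · exact ⟨0, fun _ => ⊥, rfl, Subsingleton.elim _ _, fun _ => inferInstance, fun i => i.elim0,
        fun i => i.elim0, fun i => i.elim0⟩
    obtain ⟨p, hp, hpd, hmax⟩ := exists_max_prime (G := G)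
    haveI := Fact.mk hp
    obtain ⟨P⟩ : Nonempty (Sylow p G) := inferInstance
    haveI := sylow_normal_of_prime_index (index_prime_of_isSupersolvable hG) hmax P
    obtain ⟨N, hN, hNP, hNp⟩ := exists_prime_normal_le hG (P.ne_bot_of_dvd_card hpd)
    haveI := hN
    have hNcard : Nat.card N = p := by
      obtain ⟨i, hi⟩ := IsPGroup.iff_card.mp (P.isPGroup'.to_le hNP)
      have h1 := hNp.eq_one_or_self_of_dvd p
      rcases i with _ | i
      · rw [hi, pow_zero] at hNp; exact absurd hNp Nat.not_prime_one
      · rcases h1 (hi ▸ dvd_pow_self p i.succ_ne_zero) with h2 | h2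
        · exact absurd h2 hp.one_lt.ne'
        · exact h2.symm
    have hNb : N ≠ ⊥ := fun h => Nat.not_prime_one (by rwa [h, card_bot] at hNp)
    set f := QuotientGroup.mk' N with hf
    have hfs : Function.Surjective f := QuotientGroup.mk'_surjective N
    obtain ⟨k, H, h0, hl, hn', hs, hd, hmono⟩ := ih (G ⧸ N) (by have := card_quotient_lt hNb; omega)
      (isSupersolvable_of_surjective f hfs hG)
    let H' : Fin (k + 1 + 1) → Subgroup G := Fin.cases ⊥ fun i => (H i).comap f
    have hr0 : (H' (Fin.castSucc 0)).relIndex (H' (Fin.succ 0)) = p := by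
      change (⊥ : Subgroup G).relIndex ((H 0).comap f) = p
      rw [relIndex_bot_left, h0, MonoidHom.comap_bot, hf, QuotientGroup.ker_mk', hNcard]
    have hrs : ∀ i : Fin k, (H' i.succ.castSucc).relIndex (H' i.succ.succ) =
        (H i.castSucc).relIndex (H i.succ) := by
      intro i
      change (H' i.castSucc.succ).relIndex _ = _
      change ((H i.castSucc).comap f).relIndex ((H i.succ).comap f) = _
      rw [relIndex_comap, map_comap_eq_self_of_surjective hfs]
    refine ⟨k + 1, H', rfl, ?_, ?_, ?_, ?_, ?_⟩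
    · change H' (Fin.last k).succ = ⊤
      change (H (Fin.last k)).comap f = ⊤
      rw [hl, comap_top]
    · intro i
      induction i using Fin.cases with
      | zero => exact Subgroup.normal_bot
      | succ i => exact (hn' i).comap f
    · intro i
      induction i using Fin.cases with
      | zero => exact ⟨bot_le, hr0.symm ▸ hp⟩
      | succ i => exact ⟨comap_mono (hs i).1, (hrs i).symm ▸ (hs i).2⟩
    · intro i
      induction i using Fin.cases with
      | zero => exact hr0.symm ▸ hpd
      | succ i => exact (hrs i).symm ▸ (hd i).trans (card_quotient_dvd_card N)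
    · intro i j hij
      induction i using Fin.cases with
      | zero =>
        induction j using Fin.cases with
        | zero => exact le_rfl
        | succ j =>
          rw [hr0, hrs]
          exact hmax _ (hs j).2 ((hd j).trans (card_quotient_dvd_card N))
      | succ i =>
        induction j using Fin.cases with
        | zero => exact absurd hij (not_le.mpr (Fin.succ_pos i))
        | succ j =>
          rw [hrs, hrs]
          exact hmono i j (Fin.succ_le_succ_iff.mp hij)

theorem hasSubgroupOfEveryOrder_of_isSupersolvable_aux : ∀ (n : ℕ) (G : Type u) [Group G] [Finite G],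
    Nat.card G ≤ n → Cfsg.IsSupersolvable G → Cfsg.HasSubgroupOfEveryOrder G := by
  intro n
  induction n with
  | zero => intro G _ _ hn; exact absurd hn (not_le.mpr Nat.card_pos)
  | succ n ih =>
    intro G _ _ hn hG d hd
    rcases subsingleton_or_nontrivial G with h | h
    · rw [Nat.card_of_subsingleton (1 : G), Nat.dvd_one] at hd
      exact ⟨⊥, by rw [hd, card_bot]⟩
    obtain ⟨N, hN, -, hp⟩ := exists_prime_normal_le hG (N := (⊤ : Subgroup G))
      (fun h => bot_ne_top h.symm)
    haveI := hN
    have hNb : N ≠ ⊥ := fun h => Nat.not_prime_one (by rwa [h, card_bot] at hp)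
    set p := Nat.card N
    have hq : Nat.card G = Nat.card (G ⧸ N) * p := card_eq_card_quotient_mul_card_subgroup N
    have hih := ih (G ⧸ N) (by have := card_quotient_lt hNb; omega)
      (isSupersolvable_of_surjective (QuotientGroup.mk' N) (QuotientGroup.mk'_surjective N) hG)
    have key : ∀ e : ℕ, e ∣ Nat.card (G ⧸ N) →
        ∃ X : Subgroup G, N ≤ X ∧ Nat.card X = e * p := by
      intro e he
      obtain ⟨Y, hY⟩ := hih e he
      refine ⟨Y.comap (QuotientGroup.mk' N), PSolvable_le_comap N Y, ?_⟩
      rw [card_comap_mk', hY, mul_comm]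
    by_cases hpd : p ∣ d
    · obtain ⟨e, rfl⟩ := hpd
      obtain ⟨X, -, hX⟩ := key e (by
        rw [hq, mul_comm (Nat.card (G ⧸ N)) p] at hd
        exact Nat.dvd_of_mul_dvd_mul_left hp.pos hd)
      exact ⟨X, hX.trans (mul_comm _ _)⟩
    · have hc : d.Coprime p := (hp.coprime_iff_not_dvd.mpr hpd).symm
      obtain ⟨X, hNX, hX⟩ := key d (by rw [hq] at hd; exact hc.dvd_of_dvd_mul_right hd)
      haveI : (N.subgroupOf X).Normal := hN.subgroupOf X
      have hcard : Nat.card (N.subgroupOf X) = p := card_subgroupOf hNX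
      have hidx : (N.subgroupOf X).index = d := by
        have := (N.subgroupOf X).index_mul_card
        rw [hcard, hX] at this
        exact Nat.eq_of_mul_eq_mul_right hp.pos this
      obtain ⟨Y, hY⟩ := exists_right_complement'_of_coprime (N := N.subgroupOf X)
        (by rw [hcard, hidx]; exact hc.symm)
      exact ⟨Y.map X.subtype, by rw [card_map_subtype, hY.symm.index_eq_card.symm, hidx]⟩
where
  PSolvable_le_comap {G : Type u} [Group G] (N : Subgroup G) [N.Normal] (Y : Subgroup (G ⧸ N)) :
      N ≤ Y.comap (QuotientGroup.mk' N) := by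
    intro x hx
    rw [mem_comap, QuotientGroup.mk'_apply, (QuotientGroup.eq_one_iff x).mpr hx]
    exact one_mem _

theorem isSupersolvable_two_mul_aux {p : ℕ} [Fact p.Prime] (hp2 : p ≠ 2) :
    ∀ (n : ℕ) (G : Type u) [Group G] [Finite G], Nat.card G ≤ n →
      ∀ a : ℕ, Nat.card G = 2 * p ^ a → Cfsg.IsSupersolvable G := by
  intro n
  induction n with
  | zero => intro G _ _ hn; exact absurd hn (not_le.mpr Nat.card_pos)
  | succ n ih =>
    intro G _ _ hn a hG
    have hp : p.Prime := Fact.out
    rcases a with _ | a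
    · rw [pow_zero, mul_one] at hG
      haveI : Fact (Nat.Prime 2) := ⟨Nat.prime_two⟩
      exact isSupersolvable_of_isPGroup (p := 2) (IsPGroup.of_card (n := 1) (by rw [hG, pow_one]))
    obtain ⟨P⟩ : Nonempty (Sylow p G) := inferInstance
    have hP : Nat.card (P : Subgroup G) = p ^ (a + 1) := by
      rw [P.card_eq_multiplicity, hG, Nat.factorization_mul two_ne_zero (pow_ne_zero _ hp.ne_zero),
        hp.factorization_pow, Finsupp.add_apply, Finsupp.single_eq_same,
        Nat.factorization_eq_zero_of_not_dvd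
          (fun h => hp2 ((Nat.prime_dvd_prime_iff_eq hp Nat.prime_two).mp h)), zero_add]
    have hPi : (P : Subgroup G).index = 2 := by
      have := (P : Subgroup G).index_mul_card
      rw [hP, hG] at this
      exact Nat.eq_of_mul_eq_mul_right (pow_pos hp.pos _) this
    haveI : (P : Subgroup G).Normal := normal_of_index_eq_two hPi
    haveI : Fact (Nat.Prime 2) := ⟨Nat.prime_two⟩
    obtain ⟨t, ht⟩ := exists_prime_orderOf_dvd_card' (G := G) 2 (hG ▸ dvd_mul_right 2 _)
    have htP : t ∉ (P : Subgroup G) := fun h => by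
      have h1 := (P : Subgroup G).orderOf_dvd_natCard h
      rw [ht, hP] at h1
      exact hp2 ((Nat.prime_dvd_prime_iff_eq Nat.prime_two hp).mp
        (Nat.prime_two.dvd_of_dvd_pow h1)).symm
    have htop : (P : Subgroup G) ⊔ zpowers t = ⊤ := by
      by_contra hne
      have h1 := index_dvd_of_le (le_sup_left : (P : Subgroup G) ≤ (P : Subgroup G) ⊔ zpowers t)
      rw [hPi] at h1
      rcases (Nat.dvd_prime Nat.prime_two).mp h1 with h2 | h2
      · exact hne (index_eq_one.mp h2)
      · refine htP ?_
        have : (P : Subgroup G) = (P : Subgroup G) ⊔ zpowers t :=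
          eq_of_le_of_card_ge le_sup_left (by
            apply le_of_eq
            apply Nat.eq_of_mul_eq_mul_left (show 0 < 2 by norm_num)
            conv_lhs => rw [← h2, index_mul_card]
            rw [← hPi, index_mul_card])
        exact this ▸ mem_sup_right (mem_zpowers t)
    have hPb : (P : Subgroup G) ≠ ⊥ := fun h => by
      rw [h, card_bot] at hP
      exact (Nat.one_lt_pow a.succ_ne_zero hp.one_lt).ne hP
    haveI hnil : Group.IsNilpotent (P : Subgroup G) := P.isPGroup'.isNilpotent
    haveI : Nontrivial (P : Subgroup G) := (nontrivial_iff_ne_bot _).mpr hPb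
    haveI := IsPGroup.center_nontrivial P.isPGroup'
    obtain ⟨z₀, hz₀⟩ := exists_ne (1 : center (P : Subgroup G))
    obtain ⟨i, hi⟩ := IsPGroup.iff_orderOf.mp P.isPGroup' (z₀ : (P : Subgroup G))
    rcases i with _ | i
    · exact absurd (Subtype.ext (orderOf_eq_one_iff.mp (hi.trans (pow_zero p)))) hz₀
    set z : G := ((z₀ : (P : Subgroup G)) : G) ^ (p ^ i) with hz
    have hzord : orderOf z = p := by
      rw [hz, orderOf_pow_of_dvd (pow_ne_zero _ hp.ne_zero), Subgroup.orderOf_coe, hi, pow_succ,
        Nat.mul_div_cancel_left _ (pow_pos hp.pos _)]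
      rw [Subgroup.orderOf_coe, hi]
      exact pow_dvd_pow p i.le_succ
    have hzc : ∀ x ∈ (P : Subgroup G), x * z = z * x := fun x hx =>
      ((show Commute x ((z₀ : (P : Subgroup G)) : G) from
        congrArg Subtype.val (mem_center_iff.mp z₀.2 ⟨x, hx⟩)).pow_right _).eq
    have hzP : z ∈ (P : Subgroup G) := pow_mem (z₀ : (P : Subgroup G)).2 _
    have ht2 : t * t = 1 := by rw [← sq, ← ht, pow_orderOf_eq_one]
    have htz : t * z * t⁻¹ ∈ (P : Subgroup G) := Normal.conj_mem inferInstance z hzP t
    -- a normal subgroup of order `p`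
    obtain ⟨w, hwP, hwc, hwt, hword⟩ : ∃ w : G, w ∈ (P : Subgroup G) ∧
        (∀ x ∈ (P : Subgroup G), x * w = w * x) ∧ t * w * t⁻¹ ∈ zpowers w ∧ orderOf w = p := by
      by_cases hm : z * (t * z * t⁻¹) = 1
      · refine ⟨z, hzP, hzc, ?_, hzord⟩
        rw [eq_inv_of_mul_eq_one_right hm]
        exact inv_mem (mem_zpowers z)
      · refine ⟨z * (t * z * t⁻¹), mul_mem hzP htz, fun x hx => ?_, ?_, ?_⟩
        · have h1 := hzc (t⁻¹ * x * t) (by simpa using (inferInstance : (P : Subgroup G).Normal).conj_mem x hx t⁻¹)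
          have h2 : x * (t * z * t⁻¹) = t * z * t⁻¹ * x := by
            calc x * (t * z * t⁻¹) = t * ((t⁻¹ * x * t) * z) * t⁻¹ := by group
              _ = t * z * t⁻¹ * x := by rw [h1]; group
          rw [← mul_assoc, hzc x hx, mul_assoc, h2, ← mul_assoc]
        · have h3 := hzc _ htz
          have : t * (z * (t * z * t⁻¹)) * t⁻¹ = z * (t * z * t⁻¹) := by
            calc t * (z * (t * z * t⁻¹)) * t⁻¹ = (t * z * t⁻¹) * ((t * t) * z * (t * t)⁻¹) := by group
              _ = z * (t * z * t⁻¹) := by rw [ht2, one_mul, inv_one, mul_one, h3]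
          rw [this]; exact mem_zpowers _
        · refine orderOf_eq_prime ?_ hm
          rw [Commute.mul_pow (hzc _ htz).symm, conj_pow,
            show z ^ p = 1 from hzord ▸ pow_orderOf_eq_one z]
          group
    haveI hWn : (zpowers w).Normal := by
      refine normalizer_eq_top_iff.mp (top_le_iff.mp ?_)
      rw [← htop]
      refine sup_le (fun x hx => centralizer_le_normalizer _ ?_) (zpowers_le.mpr ?_)
      · intro y hy
        obtain ⟨j, rfl⟩ := mem_zpowers_iff.mp hy
        exact (Commute.zpow_left (hwc x hx).symm j).eq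
      · rw [mem_normalizer_iff]
        intro y
        have hself : ∀ y ∈ zpowers w, t * y * t⁻¹ ∈ zpowers w := by
          intro y hy
          obtain ⟨j, rfl⟩ := mem_zpowers_iff.mp hy
          rw [← conj_zpow]
          exact zpow_mem hwt j
        refine ⟨hself y, fun h => ?_⟩
        have h' := hself _ h
        rwa [show t * (t * y * t⁻¹) * t⁻¹ = (t * t) * y * (t * t)⁻¹ by group, ht2, one_mul, inv_one,
          mul_one] at h'
    have hcard : Nat.card (zpowers w) = p := by rw [Nat.card_zpowers, hword]
    refine isSupersolvable_of_prime_normal (zpowers w) (hcard ▸ hp) (ih _ ?_ a ?_)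
    · have := card_quotient_lt (N := zpowers w) fun h => by
        rw [h, card_bot] at hcard; exact hp.one_lt.ne hcard
      omega
    · have := card_eq_card_quotient_mul_card_subgroup (zpowers w)
      rw [hcard, hG, pow_succ, ← mul_assoc] at this
      exact (Nat.eq_of_mul_eq_mul_right hp.pos this).symm

end Cfsg.Agent.Solv
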