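import Mathlib
import Cfsg.Agent.Lib.Solv.SchurZassenhaus
import Cfsg.Agent.Lib.Solv.Basic

/-!
Fusion of a coprime subgroup inside a supplement of a normal subgroup.
-/

set_option autoImplicit false

namespace Cfsg.Agent.Solv.SupplementFusion

open Subgroup
open scoped Pointwise commutatorElement

universe u

variable {G : Type u} [Group G] [Finite G] (K U H : Subgroup G) [K.Normal] (hKU : K ⊔ U = ⊤) (hH : H ≤ U)
  (hcop : (Nat.card H).Coprime (Nat.card K))

include hKU in
theorem exists_decomp (g : G) : ∃ u ∈ U, ∃ k ∈ K, g = u * k := by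
  obtain ⟨u, hu, k, hk, h⟩ := mem_sup_of_normal_right.1 (show g ∈ U ⊔ K by rw [sup_comm, hKU]; exact mem_top g)
  exact ⟨u, hu, k, hk, h.symm⟩

include hKU hH hcop in
theorem exists_factor [Group.IsSolvable G] {g : G} (hg : H.map (MulAut.conj g).toMonoidHom ≤ U) :
    ∃ u ∈ U, ∃ c ∈ K ⊓ centralizer (H : Set G), g = u * c := by
  obtain ⟨w, hw, k, hk, rfl⟩ := exists_decomp K U hKU g
  have hk' : ∀ h ∈ H, k * h * k⁻¹ ∈ U := fun h hh => by
    have h1 := hg ⟨h, hh, rfl⟩
    have h2 := U.mul_mem (U.mul_mem (U.inv_mem hw) h1) hw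
    simpa [mul_assoc] using h2
  have hHN : H ≤ normalizer ((K ⊓ U : Subgroup G) : Set G) := by
    intro h hh
    rw [mem_normalizer_iff]
    intro x
    constructor
    · intro hx
      exact ⟨Normal.conj_mem inferInstance x hx.1 h, U.mul_mem (U.mul_mem (hH hh) hx.2) (U.inv_mem (hH hh))⟩
    · intro hx
      have e : x = h⁻¹ * (h * x * h⁻¹) * h := by group
      rw [e]
      exact ⟨by simpa using Normal.conj_mem inferInstance _ hx.1 h⁻¹, U.mul_mem (U.mul_mem (U.inv_mem (hH hh)) hx.2) (hH hh)⟩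
  have hle : MulAut.conj k • H ≤ K ⊓ U ⊔ H := by
    rintro _ ⟨h, hh, rfl⟩
    show k * h * k⁻¹ ∈ K ⊓ U ⊔ H
    have h1 : k * h * k⁻¹ * h⁻¹ ∈ K := by
      have : k * (h * k⁻¹ * h⁻¹) ∈ K := K.mul_mem hk (Normal.conj_mem inferInstance _ (K.inv_mem hk) h)
      simpa [mul_assoc] using this
    have h2 : k * h * k⁻¹ * h⁻¹ ∈ U := U.mul_mem (hk' h hh) (U.inv_mem (hH hh))
    have h3 := mul_mem (mem_sup_left (T := H) (show k * h * k⁻¹ * h⁻¹ ∈ K ⊓ U from ⟨h1, h2⟩)) (mem_sup_right hh)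
    simpa [mul_assoc] using h3
  obtain ⟨v, hv, hve⟩ := conj_of_card_eq (K ⊓ U) H (MulAut.conj k • H) (Or.inr inferInstance) hHN hle
    (Nat.card_congr (equivSMul (MulAut.conj k) H).toEquiv).symm (hcop.symm.coprime_dvd_left (card_dvd_of_le inf_le_left))
  refine ⟨w * v, U.mul_mem hw hv.2, v⁻¹ * k, ⟨K.mul_mem (K.inv_mem hv.1) hk, ?_⟩, by group⟩
  refine mem_centralizer_iff.2 fun h hh => ?_
  have hm : v⁻¹ * k * h * (v⁻¹ * k)⁻¹ ∈ H := by
    have h1 : k * h * k⁻¹ ∈ MulAut.conj v • H := hve.symm ▸ ⟨h, hh, rfl⟩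
    obtain ⟨h', hh', he⟩ := h1
    have he' : v * h' * v⁻¹ = k * h * k⁻¹ := he
    have : v⁻¹ * k * h * (v⁻¹ * k)⁻¹ = h' := by
      calc v⁻¹ * k * h * (v⁻¹ * k)⁻¹ = v⁻¹ * (k * h * k⁻¹) * v := by group
        _ = h' := by rw [← he']; group
    rwa [this]
  set c := v⁻¹ * k
  have hc : c ∈ K := K.mul_mem (K.inv_mem hv.1) hk
  have h1 : c * h * c⁻¹ * h⁻¹ ∈ H ⊓ K := by
    refine ⟨H.mul_mem hm (H.inv_mem hh), ?_⟩
    have : c * (h * c⁻¹ * h⁻¹) ∈ K := K.mul_mem hc (Normal.conj_mem inferInstance _ (K.inv_mem hc) h)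
    simpa [mul_assoc] using this
  rw [inf_eq_bot_of_coprime hcop, mem_bot, mul_inv_eq_one, mul_inv_eq_iff_eq_mul] at h1
  exact h1.symm

include hKU hH hcop in
theorem normalizer_eq [Group.IsSolvable G] :
    normalizer (H : Set G) = (K ⊓ centralizer (H : Set G)) ⊔ (U ⊓ normalizer (H : Set G)) := by
  refine le_antisymm (fun g hg => ?_) (sup_le (fun x hx => ?_) inf_le_right)
  · obtain ⟨u, hu, c, hc, rfl⟩ := exists_factor K U H hKU hH hcop (g := g) (by
      rintro _ ⟨h, hh, rfl⟩; exact hH ((mem_normalizer_iff.1 hg h).1 hh))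
    refine mul_mem (mem_sup_right ⟨hu, ?_⟩) (mem_sup_left hc)
    have hcN : c ∈ normalizer (H : Set G) := mem_normalizer_iff.2 fun x => by
      constructor
      · intro hx
        rw [← mem_centralizer_iff.1 hc.2 x hx, mul_inv_cancel_right]; exact hx
      · intro hx
        have h1 := mem_centralizer_iff.1 hc.2 _ hx
        rw [inv_mul_cancel_right] at h1
        have h2 : c * x * c⁻¹ = x := mul_left_cancel h1.symm
        rwa [← h2]
    simpa using mul_mem hg (inv_mem hcN)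
  · refine mem_normalizer_iff.2 fun y => ?_
    constructor
    · intro hy
      rw [← mem_centralizer_iff.1 hx.2 y hy, mul_inv_cancel_right]; exact hy
    · intro hy
      have h1 := mem_centralizer_iff.1 hx.2 _ hy
      rw [inv_mul_cancel_right] at h1
      have h2 : x * y * x⁻¹ = y := mul_left_cancel h1.symm
      rwa [← h2]

include hKU hH hcop in
theorem inf_commutator : H ⊓ commutator G = H ⊓ ⁅U, U⁆ := by
  refine le_antisymm (fun x hx => ⟨hx.1, ?_⟩) (inf_le_inf_left H (commutator_mono le_top le_top))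
  set f := QuotientGroup.mk' K
  have h1 : commutator G ≤ ⁅U, U⁆ ⊔ K := by
    have hU : U.map f = (⊤ : Subgroup (G ⧸ K)) := by
      rw [eq_top_iff, ← map_top_of_surjective f (QuotientGroup.mk'_surjective K), ← hKU, Subgroup.map_sup,
        show K.map f = ⊥ from QuotientGroup.map_mk'_self K, bot_sup_eq]
    have h2 : (commutator G).map f = (⁅U, U⁆).map f := by
      rw [_root_.commutator_def, map_commutator, map_commutator, hU, map_top_of_surjective f (QuotientGroup.mk'_surjective K)]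
    calc commutator G ≤ ((commutator G).map f).comap f := le_comap_map _ _
      _ = ⁅U, U⁆ ⊔ K := by rw [h2, comap_map_eq, QuotientGroup.ker_mk']
  obtain ⟨c, hc, k, hk, hck⟩ := mem_sup_of_normal_right.1 (h1 hx.2)
  have hcU : c ∈ U := commutator_le.2 (fun a ha b hb => by
    rw [commutatorElement_def]; exact U.mul_mem (U.mul_mem (U.mul_mem ha hb) (U.inv_mem ha)) (U.inv_mem hb)) hc
  have hkU : k ∈ U := by
    have : c⁻¹ * x ∈ U := U.mul_mem (U.inv_mem hcU) (hH hx.1)
    rwa [← hck, inv_mul_cancel_left] at this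
  set D := ⁅U, U⁆.subgroupOf U
  haveI : D.Normal := by
    rw [show D = commutator U from ?_]; · infer_instance
    refine map_injective U.subtype_injective ?_
    rw [map_subgroupOf_eq_of_le ?_, _root_.commutator_def, map_commutator, ← MonoidHom.range_eq_map, range_subtype]
    exact commutator_le.2 (fun a ha b hb => by
      rw [commutatorElement_def]; exact U.mul_mem (U.mul_mem (U.mul_mem ha hb) (U.inv_mem ha)) (U.inv_mem hb))
  set q := QuotientGroup.mk' D
  have hq : q ⟨x, hH hx.1⟩ = q ⟨k, hkU⟩ := by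
    rw [show (⟨x, hH hx.1⟩ : U) = ⟨c, hcU⟩ * ⟨k, hkU⟩ from Subtype.ext hck.symm, map_mul,
      show q ⟨c, hcU⟩ = 1 from (QuotientGroup.eq_one_iff _).2 hc, one_mul]
  have ho : orderOf (q ⟨x, hH hx.1⟩) = 1 := by
    refine Nat.eq_one_of_dvd_coprimes hcop ?_ ?_
    · exact (orderOf_map_dvd q _).trans (by rw [Subgroup.orderOf_mk]; exact orderOf_dvd_natCard H hx.1)
    · rw [hq]; exact (orderOf_map_dvd q _).trans (by rw [Subgroup.orderOf_mk]; exact orderOf_dvd_natCard K hk)
  exact (QuotientGroup.eq_one_iff (N := D) (⟨x, hH hx.1⟩ : U)).1 (orderOf_eq_one_iff.1 ho)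

end Cfsg.Agent.Solv.SupplementFusion
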