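import Cfsg.Agent.Lib.Solv.Hall
import Cfsg.Agent.Lib.Solv.Misc
import Cfsg.Agent.Lib.Char.Burnside

/-!
Wielandt's three-subgroup solvability criterion, Hall's converse, Sylow systems.
-/

set_option autoImplicit false
set_option linter.style.haveILetI false

namespace Cfsg.Agent.Solv

open Subgroup
open scoped Pointwise

universe u

theorem solvable_of_three_aux : ∀ (n : ℕ) (G : Type u) [Group G] [Finite G], Nat.card G ≤ n →
    ∀ H₁ H₂ H₃ : Subgroup G, Group.IsSolvable H₁ → Group.IsSolvable H₂ → Group.IsSolvable H₃ →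
    (∀ g : G, ∃ x ∈ H₁, ∃ y ∈ H₂, g = x * y) → (∀ g : G, ∃ x ∈ H₁, ∃ y ∈ H₃, g = x * y) →
    H₂.index.Coprime H₃.index → Group.IsSolvable G := by
  intro n
  induction n with
  | zero => intro G _ _ hn; exact absurd hn (not_le.mpr Nat.card_pos)
  | succ n ih =>
    intro G _ _ hn H₁ H₂ H₃ s1 s2 s3 h12 h13 hcop
    rcases eq_or_ne H₁ ⊥ with h1 | h1
    · have h2 : H₂ = ⊤ := by
        refine eq_top_iff.mpr fun g _ => ?_
        obtain ⟨x, hx, y, hy, rfl⟩ := h12 g
        rw [h1, mem_bot] at hx
        rw [hx, one_mul]; exact hy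
      subst h2
      exact Group.isSolvable_of_surjective (f := (⊤ : Subgroup G).subtype)
        (fun x => ⟨⟨x, mem_top x⟩, rfl⟩)
    have key : ∀ (K : Subgroup G), Group.IsSolvable K →
        (∀ g : G, ∃ x ∈ H₁, ∃ y ∈ K, g = x * y) →
        ∀ M : Subgroup G, M ≤ H₁ → H₁ ≤ normalizer (M : Set G) → M ≠ ⊥ →
        ∀ p : ℕ, [Fact p.Prime] → IsPGroup p M → ¬ p ∣ K.index → Group.IsSolvable G := by
      intro K sK hK M hMH hMn hM p _ hMp hp
      obtain ⟨Q⟩ : Nonempty (Sylow p K) := inferInstance
      have hidx : ¬ p ∣ ((Q : Subgroup K).map K.subtype).index := by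
        rw [index_map_subtype]
        exact fun h => ((Fact.out : p.Prime).dvd_mul.mp h).elim Q.not_dvd_index hp
      obtain ⟨R, hR⟩ := hMp.exists_le_sylow
      obtain ⟨g, hg⟩ := MulAction.exists_smul_eq G R ((Q.isPGroup'.map K.subtype).toSylow hidx)
      have hgM : MulAut.conj g • M ≤ K := by
        refine (smul_mono_right _ hR).trans ?_
        rw [← Sylow.coe_subgroup_smul, hg, IsPGroup.toSylow_coe]
        exact map_subtype_le _
      have hcM : ∀ x ∈ H₁, MulAut.conj x • M = M := fun x hx =>
        conj_smul_eq_self_of_mem_normalizer (hMn hx)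
      have hMK : M ≤ K := by
        obtain ⟨x, hx, y, hy, he⟩ := hK g⁻¹
        have e : g = y⁻¹ * x⁻¹ := by rw [← mul_inv_rev, ← he, inv_inv]
        rw [e, map_mul, mul_smul, hcM _ (H₁.inv_mem hx)] at hgM
        intro m hm
        have h := hgM (smul_mem_pointwise_smul m (MulAut.conj y⁻¹) M hm)
        simp only [MulAut.smul_def, MulAut.conj_apply, inv_inv] at h
        simpa [mul_assoc] using K.mul_mem (K.mul_mem hy h) (K.inv_mem hy)
      set N := normalClosure (M : Set G) with hN
      have hNK : N ≤ K := by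
        rw [hN, normalClosure, closure_le]
        intro z hz
        obtain ⟨m, hm, hmz⟩ := Group.mem_conjugatesOfSet_iff.mp hz
        obtain ⟨c, rfl⟩ := isConj_iff.mp hmz
        obtain ⟨x, hx, y, hy, he⟩ := hK c⁻¹
        have e : c = y⁻¹ * x⁻¹ := by rw [← mul_inv_rev, ← he, inv_inv]
        have h1 : x⁻¹ * m * x ∈ M := by
          simpa using (mem_normalizer_iff.mp (hMn (H₁.inv_mem hx)) m).mp hm
        have h2 := K.mul_mem (K.mul_mem (K.inv_mem hy) (hMK h1)) hy
        rw [SetLike.mem_coe, e]
        simpa [mul_assoc] using h2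
      haveI : N.Normal := normalClosure_normal
      haveI : Group.IsSolvable N := isSolvable_of_le hNK sK
      haveI : Group.IsSolvable (G ⧸ N) := by
        have hlt : Nat.card (G ⧸ N) < Nat.card G := by
          rw [card_eq_card_quotient_mul_card_subgroup N]
          refine lt_mul_of_one_lt_right Nat.card_pos ((one_lt_card_iff_ne_bot N).mpr fun h => hM ?_)
          exact le_bot_iff.mp (h ▸ le_normalClosure)
        have hs := QuotientGroup.mk'_surjective N
        have him : ∀ H : Subgroup G, Group.IsSolvable H →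
            Group.IsSolvable (H.map (QuotientGroup.mk' N)) := fun H hH =>
          haveI := hH
          Group.isSolvable_of_surjective ((QuotientGroup.mk' N).subgroupMap_surjective H)
        have hprod : ∀ X : Subgroup G, (∀ g : G, ∃ x ∈ H₁, ∃ y ∈ X, g = x * y) →
            ∀ g : G ⧸ N, ∃ x ∈ H₁.map (QuotientGroup.mk' N), ∃ y ∈ X.map (QuotientGroup.mk' N),
              g = x * y := fun X hX g => by
          obtain ⟨z, rfl⟩ := hs g
          obtain ⟨x, hx, y, hy, rfl⟩ := hX z
          exact ⟨_, mem_map_of_mem _ hx, _, mem_map_of_mem _ hy, map_mul _ _ _⟩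
        exact ih _ (by omega) _ _ _ (him _ s1) (him _ s2) (him _ s3) (hprod _ h12) (hprod _ h13)
          (Nat.Coprime.coprime_dvd_left (index_map_dvd _ hs)
            (hcop.coprime_dvd_right (index_map_dvd _ hs)))
      exact (Group.isSolvable_iff_subgroup_quotient N).mpr ⟨inferInstance, inferInstance⟩
    haveI := s1
    haveI : Nontrivial H₁ := (nontrivial_iff_ne_bot H₁).mpr h1
    obtain ⟨M, hMn, -, hM, hmin⟩ :=
      exists_minimal_normal_le (N := (⊤ : Subgroup H₁)) top_ne_bot
    haveI := hMn
    obtain ⟨-, p, hp, hpow⟩ := minimal_normal_elementary M hM hmin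
    haveI := Fact.mk hp
    have hMp : IsPGroup p ↥(M.map H₁.subtype) := by
      have : IsPGroup p M := fun x => ⟨1, Subtype.ext (by rw [pow_one]; exact hpow x x.2)⟩
      exact this.map _
    have hMn' : H₁ ≤ normalizer ((M.map H₁.subtype : Subgroup G) : Set G) := by
      have := le_normalizer_map (H := M) H₁.subtype
      rwa [normalizer_eq_top_iff.mpr hMn, ← MonoidHom.range_eq_map, range_subtype] at this
    have hM' : M.map H₁.subtype ≠ ⊥ := fun h =>
      hM ((map_eq_bot_iff_of_injective M H₁.subtype_injective).mp h)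
    by_cases hd : p ∣ H₂.index
    · exact key H₃ s3 h13 _ (map_subtype_le M) hMn' hM' p hMp fun h =>
        hp.one_lt.ne' (Nat.eq_one_of_dvd_coprimes hcop hd h)
    · exact key H₂ s2 h12 _ (map_subtype_le M) hMn' hM' p hMp hd

theorem solvable_of_three {G : Type u} [Group G] [Finite G] {H₁ H₂ H₃ : Subgroup G}
    (s1 : Group.IsSolvable H₁) (s2 : Group.IsSolvable H₂) (s3 : Group.IsSolvable H₃)
    (h12 : ∀ g : G, ∃ x ∈ H₁, ∃ y ∈ H₂, g = x * y) (h13 : ∀ g : G, ∃ x ∈ H₁, ∃ y ∈ H₃, g = x * y)
    (hcop : H₂.index.Coprime H₃.index) : Group.IsSolvable G :=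
  solvable_of_three_aux _ G le_rfl H₁ H₂ H₃ s1 s2 s3 h12 h13 hcop

/-- Hall's converse theorem. -/
theorem solvable_of_complements_aux : ∀ (n : ℕ) (G : Type u) [Group G] [Finite G], Nat.card G ≤ n →
    (∀ p : ℕ, p.Prime → ∃ H : Subgroup G, H.index = p ^ (Nat.card G).factorization p) →
    Group.IsSolvable G := by
  intro n
  induction n with
  | zero => intro G _ _ hn; exact absurd hn (not_le.mpr Nat.card_pos)
  | succ n ih =>
    intro G _ _ hn h
    set S := (Nat.card G).primeFactors with hS
    by_cases h3 : S.card ≤ 2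
    · obtain ⟨p, q, hp, hq, a, b, hab⟩ :
          ∃ p q : ℕ, p.Prime ∧ q.Prime ∧ ∃ a b : ℕ, Nat.card G = p ^ a * q ^ b := by
        have hprod := Nat.factorization_prod_pow_eq_self (n := Nat.card G) Nat.card_pos.ne'
        rw [Finsupp.prod, Nat.support_factorization, ← hS] at hprod
        rcases lt_or_eq_of_le h3 with h2 | h2
        · rcases Nat.lt_succ_iff.mp h2 |>.lt_or_eq with h1 | h1
          · rw [Finset.card_eq_zero.mp (Nat.lt_one_iff.mp h1), Finset.prod_empty] at hprod
            exact ⟨2, 2, Nat.prime_two, Nat.prime_two, 0, 0, by simpa using hprod.symm⟩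
          · obtain ⟨p, hp⟩ := Finset.card_eq_one.mp h1
            have hp' : p.Prime :=
              Nat.prime_of_mem_primeFactors (show p ∈ S by rw [hp]; exact Finset.mem_singleton_self p)
            rw [hp, Finset.prod_singleton] at hprod
            exact ⟨p, p, hp', hp', (Nat.card G).factorization p, 0, by
              rw [pow_zero, mul_one]; exact hprod.symm⟩
        · obtain ⟨p, q, hpq, hS2⟩ := Finset.card_eq_two.mp h2
          have hp' : p.Prime := Nat.prime_of_mem_primeFactors (show p ∈ S by simp [hS2])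
          have hq' : q.Prime := Nat.prime_of_mem_primeFactors (show q ∈ S by simp [hS2])
          rw [hS2, Finset.prod_pair hpq] at hprod
          exact ⟨p, q, hp', hq', _, _, hprod.symm⟩
      exact Cfsg.Agent.Char.solvable_of_card_prime_pow_mul p q hp hq _ G hab ⟨a, b, rfl⟩
    push Not at h3
    obtain ⟨p₁, p₂, p₃, hp₁, hp₂, hp₃, h12, h13, h23⟩ := Finset.two_lt_card_iff.mp h3
    have hsol : ∀ q ∈ S, ∀ H : Subgroup G, H.index = q ^ (Nat.card G).factorization q →
        Group.IsSolvable H := by
      intro q hq H hH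
      have hq' := Nat.prime_of_mem_primeFactors hq
      have hlt : Nat.card H < Nat.card G := by
        rw [← H.card_mul_index]
        refine lt_mul_of_one_lt_right Nat.card_pos ?_
        rw [hH]
        exact Nat.one_lt_pow (Finsupp.mem_support_iff.mp
          (by rw [Nat.support_factorization]; exact hq)) hq'.one_lt
      refine ih H (by omega) fun p hp => ?_
      have hcard : Nat.card H * q ^ (Nat.card G).factorization q = Nat.card G := by
        rw [← hH]; exact H.card_mul_index
      rcases eq_or_ne p q with rfl | hpq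
      · refine ⟨⊤, ?_⟩
        rw [index_top, eq_comm]
        have e := congrArg (fun m => m.factorization p) hcard
        simp only [Nat.factorization_mul Nat.card_pos.ne' (pow_ne_zero _ hp.ne_zero),
          Finsupp.add_apply, hp.factorization_pow, Finsupp.single_eq_same] at e
        rw [show (Nat.card H).factorization p = 0 by omega, pow_zero]
      · obtain ⟨K, hK⟩ := h p hp
        refine ⟨K.subgroupOf H, ?_⟩
        have hco : H.index.Coprime K.index := by
          rw [hH, hK]; exact Nat.coprime_pow_primes _ _ hq' hp hpq.symm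
        change K.relIndex H = _
        rw [(index_inf_of_coprime H K hco).2, hK]
        congr 1
        have e := congrArg (fun m => m.factorization p) hcard
        simp only [Nat.factorization_mul Nat.card_pos.ne' (pow_ne_zero _ hq'.ne_zero),
          Finsupp.add_apply, hq'.factorization_pow, Finsupp.single_eq_of_ne hpq] at e
        omega
    obtain ⟨H₁, e1⟩ := h p₁ (Nat.prime_of_mem_primeFactors hp₁)
    obtain ⟨H₂, e2⟩ := h p₂ (Nat.prime_of_mem_primeFactors hp₂)
    obtain ⟨H₃, e3⟩ := h p₃ (Nat.prime_of_mem_primeFactors hp₃)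
    have cop : ∀ {a b : ℕ}, a ∈ S → b ∈ S → a ≠ b → ∀ {A B : Subgroup G},
        A.index = a ^ (Nat.card G).factorization a → B.index = b ^ (Nat.card G).factorization b →
        A.index.Coprime B.index := by
      intro a b ha hb hab A B hA hB
      rw [hA, hB]
      exact Nat.coprime_pow_primes _ _ (Nat.prime_of_mem_primeFactors ha)
        (Nat.prime_of_mem_primeFactors hb) hab
    exact solvable_of_three (hsol _ hp₁ _ e1) (hsol _ hp₂ _ e2) (hsol _ hp₃ _ e3)
      (exists_mul_eq_of_relIndex _ _ (index_inf_of_coprime _ _ (cop hp₁ hp₂ h12 e1 e2)).2)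
      (exists_mul_eq_of_relIndex _ _ (index_inf_of_coprime _ _ (cop hp₁ hp₃ h13 e1 e3)).2)
      (cop hp₂ hp₃ h23 e2 e3)

/-- Hall's converse theorem. -/
theorem solvable_of_complements {G : Type u} [Group G] [Finite G]
    (h : ∀ p : ℕ, p.Prime → ∃ H : Subgroup G, H.index = p ^ (Nat.card G).factorization p) :
    Group.IsSolvable G :=
  solvable_of_complements_aux _ G le_rfl h

variable {G : Type u} [Group G]

/-- The join of two permuting subgroups is their product. -/
theorem coe_sup_of_permute {A B : Subgroup G} (h : (A : Set G) * B = (B : Set G) * A) :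
    ((A ⊔ B : Subgroup G) : Set G) = (A : Set G) * B := by
  refine le_antisymm ?_ (Set.mul_subset_iff.mpr fun a ha b hb => mul_mem_sup ha hb)
  let P : Subgroup G :=
    { carrier := (A : Set G) * B
      one_mem' := ⟨1, A.one_mem, 1, B.one_mem, mul_one 1⟩
      mul_mem' := by
        rintro _ _ ⟨a, ha, b, hb, rfl⟩ ⟨c, hc, d, hd, rfl⟩
        obtain ⟨c', hc', b', hb', he⟩ : b * c ∈ (A : Set G) * B := by
          rw [h]; exact Set.mul_mem_mul hb hc
        refine ⟨a * c', A.mul_mem ha hc', b' * d, B.mul_mem hb' hd, ?_⟩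
        simp only at he ⊢
        calc a * c' * (b' * d) = a * (c' * b') * d := by simp [mul_assoc]
          _ = a * b * (c * d) := by rw [he]; simp [mul_assoc]
      inv_mem' := by
        rintro _ ⟨a, ha, b, hb, rfl⟩
        rw [h, mul_inv_rev]
        exact Set.mul_mem_mul (B.inv_mem hb) (A.inv_mem ha) }
  exact (sup_le (fun a ha => ⟨a, ha, 1, B.one_mem, mul_one a⟩)
    (fun b hb => ⟨1, A.one_mem, b, hb, one_mul b⟩) : A ⊔ B ≤ P)

theorem card_sup_of_permute [Finite G] {A B : Subgroup G} (h : (A : Set G) * B = (B : Set G) * A)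
    (hcop : (Nat.card A).Coprime (Nat.card B)) :
    Nat.card ↥(A ⊔ B : Subgroup G) = Nat.card A * Nat.card B := by
  let f : A × B → ↥(A ⊔ B : Subgroup G) := fun x => ⟨x.1 * x.2, mul_mem_sup x.1.2 x.2.2⟩
  have hinj : Function.Injective f := fun x y hxy =>
    mul_injective_of_disjoint (disjoint_iff.mpr (inf_eq_bot_of_coprime_card A B hcop))
      (congrArg Subtype.val hxy)
  have hsur : Function.Surjective f := by
    rintro ⟨z, hz⟩
    obtain ⟨a, ha, b, hb, hab⟩ : z ∈ (A : Set G) * B := by
      rw [← coe_sup_of_permute h]; exact hz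
    exact ⟨(⟨a, ha⟩, ⟨b, hb⟩), Subtype.ext hab⟩
  rw [← Nat.card_eq_of_bijective f ⟨hinj, hsur⟩, Nat.card_prod]

end Cfsg.Agent.Solv
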