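import Cfsg.Agent.Lib.Solv.SymFour

/-!
A homomorphism from the symmetric group of degree five out of the braid relations.
-/

set_option autoImplicit false

namespace Cfsg.Agent.Solv.SymFive

variable {G : Type*} [Group G]

open Cfsg.Agent.Solv

abbrev Idx := (Fin 4 × Fin 3 × Fin 2) × Fin 5

abbrev S5 := Equiv.Perm (Fin 5)

/-- The transversal words. -/
def w4 {M : Type*} [Monoid M] (a b c e : M) : Fin 5 → M := ![1, e, e * c, e * c * b, e * c * b * a]

/-- The normal form word. -/
def word {M : Type*} [Monoid M] (a b c e : M) (t : Idx) : M := SymFour.word a b c t.1 * w4 a b c e t.2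

/-- The standard generators. -/
def gen : Fin 4 → S5 := ![Equiv.swap 0 1, Equiv.swap 1 2, Equiv.swap 2 3, Equiv.swap 3 4]

/-- The word in the transpositions. -/
def permWord (t : Idx) : S5 := word (gen 0) (gen 1) (gen 2) (gen 3) t

theorem permWord_bijective : Function.Bijective permWord := by
  rw [Fintype.bijective_iff_surjective_and_card]
  refine ⟨?_, by rw [Fintype.card_perm]; rfl⟩
  set_option maxRecDepth 100000 in decide +kernel

/-- The coordinates of a permutation. -/
noncomputable def coords : S5 ≃ Idx := (Equiv.ofBijective _ permWord_bijective).symm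

/-- The action on the transversal: the generator passed down and the new coset. -/
def tab : Fin 5 → Fin 4 → Option (Fin 3) × Fin 5 :=
  ![![(some 0, 0), (some 1, 0), (some 2, 0), (none, 1)],
    ![(some 0, 1), (some 1, 1), (none, 2), (none, 0)],
    ![(some 0, 2), (none, 3), (none, 1), (some 2, 2)],
    ![(none, 4), (none, 2), (some 1, 3), (some 2, 3)],
    ![(none, 3), (some 0, 4), (some 1, 4), (some 2, 4)]]

/-- The transition table. -/
def nxt (t : Idx) (i : Fin 4) : Idx :=
  match tab t.2 i with
  | (none, k) => (t.1, k)
  | (some l, k) => (SymFour.nxt t.1 l, k)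

theorem nxt_spec : ∀ (t : Idx) (i : Fin 4), permWord (nxt t i) = permWord t * gen i := by
  set_option maxRecDepth 100000 in decide +kernel

theorem swap_pairs : ∀ i j k l : Fin 5, i ≠ j → k ≠ l → Equiv.swap i j ≠ Equiv.swap k l →
    ∃ σ : S5, σ * Equiv.swap i j * σ⁻¹ = gen 0 ∧ (σ * Equiv.swap k l * σ⁻¹ = gen 1 ∨ σ * Equiv.swap k l * σ⁻¹ = gen 2) := by
  set_option maxRecDepth 100000 in decide +kernel

variable (a b c e : G) (ha : a * a = 1) (hb : b * b = 1) (hc : c * c = 1) (he : e * e = 1)
  (hca : c * a = a * c) (hea : e * a = a * e) (heb : e * b = b * e)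
  (hab : b * a * b = a * b * a) (hbc : c * b * c = b * c * b) (hce : e * c * e = c * e * c)

/-- The candidate map. -/
noncomputable def toFun (σ : S5) : G := word a b c e (coords σ)

include ha hb hc he hca hea heb hab hbc hce

theorem coset_step (j : Fin 5) (i : Fin 4) :
    w4 a b c e j * ![a, b, c, e] i =
      (match (tab j i).1 with | none => 1 | some l => ![a, b, c] l) * w4 a b c e (tab j i).2 := by
  have a1 : ∀ w, a * (a * w) = w := fun w => by rw [← mul_assoc, ha, one_mul]
  have b1 : ∀ w, b * (b * w) = w := fun w => by rw [← mul_assoc, hb, one_mul]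
  have c1 : ∀ w, c * (c * w) = w := fun w => by rw [← mul_assoc, hc, one_mul]
  fin_cases j <;> fin_cases i <;> simp [tab, w4]
  all_goals first
    | exact hea | exact heb | exact he
    | (rw [mul_assoc, hca, ← mul_assoc, hea]; simp [mul_assoc])
    | (simp [mul_assoc, ha, hb, hc, a1, b1, c1]; done)
    | skip
  · rw [hce]; group
  · calc e * c * b * c = e * (c * b * c) := by group
      _ = (e * b) * c * b := by rw [hbc]; group
      _ = _ := by rw [heb]; group
  · calc e * c * b * e = e * c * (b * e) := by group
      _ = (e * c * e) * b := by rw [← heb]; group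
      _ = _ := by rw [hce]; group
  · calc e * c * b * a * b = e * c * (b * a * b) := by group
      _ = e * (c * a) * b * a := by rw [hab]; group
      _ = (e * a) * c * b * a := by rw [hca]; group
      _ = _ := by rw [hea]; group
  · calc e * c * b * a * c = e * c * b * (a * c) := by group
      _ = e * (c * b * c) * a := by rw [← hca]; group
      _ = (e * b) * c * b * a := by rw [hbc]; group
      _ = _ := by rw [heb]; group
  · calc e * c * b * a * e = e * c * b * (a * e) := by group
      _ = e * c * (b * e) * a := by rw [← hea]; group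
      _ = (e * c * e) * b * a := by rw [← heb]; group
      _ = _ := by rw [hce]; group

theorem word_step (t : Idx) (i : Fin 4) : word a b c e (nxt t i) = word a b c e t * ![a, b, c, e] i := by
  have h := coset_step a b c e ha hb hc he hca hea heb hab hbc hce t.2 i
  rw [word, word, mul_assoc, h, nxt]
  rcases tab t.2 i with ⟨_ | l, k⟩
  · simp
  · show SymFour.word a b c (SymFour.nxt t.1 l) * _ = _
    rw [SymFour.word_step a b c ha hb hc hca hab hbc, mul_assoc]

theorem toFun_step (σ : S5) (i : Fin 4) : toFun a b c e (σ * gen i) = toFun a b c e σ * ![a, b, c, e] i := by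
  have h := nxt_spec (coords σ) i
  have e2 : permWord (coords σ) = σ := Equiv.ofBijective_apply_symm_apply _ permWord_bijective σ
  rw [e2] at h
  have e3 : coords (σ * gen i) = nxt (coords σ) i := by
    rw [← h]; exact Equiv.ofBijective_symm_apply_apply _ permWord_bijective _
  show word a b c e _ = _
  rw [e3]
  exact word_step a b c e ha hb hc he hca hea heb hab hbc hce (coords σ) i

theorem toFun_one : toFun a b c e 1 = 1 := by
  have h : coords 1 = ((0, 0, 0), 0) := by
    rw [Equiv.apply_eq_iff_eq_symm_apply]
    rfl
  simp [toFun, h, word, w4, SymFour.word, SymFour.w1, SymFour.w2, SymFour.w3]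

theorem toFun_mul (σ τ : S5) : toFun a b c e (σ * τ) = toFun a b c e σ * toFun a b c e τ := by
  have hs := toFun_step a b c e ha hb hc he hca hea heb hab hbc hce
  suffices H : ∀ t : Idx, ∀ σ, toFun a b c e (σ * permWord t) = toFun a b c e σ * word a b c e t by
    have hτ := H (coords τ) σ
    rwa [show permWord (coords τ) = τ from Equiv.ofBijective_apply_symm_apply _ permWord_bijective τ] at hτ
  intro t σ
  have s0 := fun σ => hs σ 0
  have s1 := fun σ => hs σ 1
  have s2 := fun σ => hs σ 2
  have s3 := fun σ => hs σ 3
  simp only [Matrix.cons_val_zero, Matrix.cons_val_one, Matrix.cons_val] at s0 s1 s2 s3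
  obtain ⟨⟨u, v, w⟩, k⟩ := t
  fin_cases u <;> fin_cases v <;> fin_cases w <;> fin_cases k <;>
    simp [permWord, word, w4, SymFour.word, SymFour.w1, SymFour.w2, SymFour.w3, ← mul_assoc, s0, s1, s2, s3]

/-- The homomorphism. -/
noncomputable def hom : S5 →* G :=
  MonoidHom.mk' (toFun a b c e) (toFun_mul a b c e ha hb hc he hca hea heb hab hbc hce)

theorem hom_gen (i : Fin 4) : hom a b c e ha hb hc he hca hea heb hab hbc hce (gen i) = ![a, b, c, e] i := by
  show toFun a b c e _ = _
  have := toFun_step a b c e ha hb hc he hca hea heb hab hbc hce 1 i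
  rwa [one_mul, toFun_one a b c e ha hb hc he hca hea heb hab hbc hce, one_mul] at this

end Cfsg.Agent.Solv.SymFive
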