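import Cfsg.Agent.Lib.Solv.SystemNormalizer

/-!
System normalizers cover and avoid chief factors; relation with Carter subgroups.
-/

set_option autoImplicit false
set_option linter.style.haveILetI false

namespace Cfsg.Agent.Solv

open Subgroup Cfsg
open scoped Pointwise commutatorElement

universe u

variable {G : Type u} [Group G] [Finite G] {K : Nat.Primes → Subgroup G}

theorem systemNormalizer_inf_minimal_normal [Group.IsSolvable G] (hK : IsComplementSystem K)
    (B : Subgroup G) [B.Normal] (hBb : B ≠ ⊥)
    (hmin : ∀ M : Subgroup G, M.Normal → M ≤ B → M = ⊥ ∨ M = B) (hnc : ¬ B ≤ center G) :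
    B ⊓ systemNormalizer K = ⊥ := by
  rw [eq_bot_iff]
  rintro x ⟨hxB, hxD⟩
  obtain ⟨-, p, hp, hexp⟩ := minimal_normal_elementary B hBb hmin
  haveI := Fact.mk hp
  set Kp := K ⟨p, hp⟩
  have hBp : IsPGroup p B := fun y => ⟨1, by rw [pow_one]; exact Subtype.ext (hexp y y.2)⟩
  have hinf : B ⊓ Kp = ⊥ := inf_eq_bot_of_coprime_card _ _
    (coprime_card_of_isPGroup hBp (card_coprime_of_system hK ⟨p, hp⟩))
  have hcen : ∀ k ∈ Kp, x * k = k * x := by
    intro k hk
    have h1 : x * k * x⁻¹ * k⁻¹ ∈ B ⊓ Kp :=
      ⟨by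
        rw [mul_assoc x k, mul_assoc x]
        exact B.mul_mem hxB (Subgroup.Normal.conj_mem inferInstance _ (B.inv_mem hxB) k),
      Kp.mul_mem ((mem_normalizer_iff.mp (mem_systemNormalizer.mp hxD ⟨p, hp⟩) k).mp hk)
        (Kp.inv_mem hk)⟩
    rw [hinf, mem_bot] at h1
    rwa [← commutatorElement_eq_one_iff_mul_comm, commutatorElement_def]
  set C := centralizer (B : Set G)
  have hCt : C ≠ ⊤ := fun e => hnc fun b hb => mem_center_iff.mpr fun g =>
    ((mem_centralizer_iff.mp (e ▸ mem_top g : g ∈ C)) b hb).symm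
  haveI : Nontrivial (G ⧸ C) := QuotientGroup.nontrivial_iff.mpr hCt
  obtain ⟨Lb, hLb, -, hLbb, hLmin⟩ := exists_minimal_normal_le (N := (⊤ : Subgroup (G ⧸ C)))
    (fun h => bot_ne_top h.symm)
  haveI := hLb
  obtain ⟨-, r, hr, hrexp⟩ := minimal_normal_elementary Lb hLbb hLmin
  haveI := Fact.mk hr
  set f := QuotientGroup.mk' C with hf
  set L := Lb.comap f
  have hCL : C ≤ L := by rw [← QuotientGroup.ker_mk' C]; exact ker_le_comap _ _
  have hLC : ¬ L ≤ C := by
    intro h
    refine hLbb (eq_bot_iff.mpr fun y hy => ?_)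
    obtain ⟨g, rfl⟩ := QuotientGroup.mk'_surjective C y
    exact mem_bot.mpr ((QuotientGroup.eq_one_iff g).mpr (h hy))
  obtain ⟨i, hi⟩ : ∃ i, C.relIndex L = r ^ i := by
    obtain ⟨i, hi⟩ := IsPGroup.iff_card.mp
      (fun y => ⟨1, by rw [pow_one]; exact Subtype.ext (hrexp y y.2)⟩ : IsPGroup r Lb)
    refine ⟨i, ?_⟩
    calc C.relIndex L = f.ker.relIndex L :=
          congrArg (fun X => X.relIndex L) (QuotientGroup.ker_mk' C).symm
      _ = r ^ i := by
          rw [relIndex_ker, map_comap_eq_self_of_surjective (QuotientGroup.mk'_surjective C), hi]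
  have hBC : ∀ Y : Subgroup G, Y.Normal → B ⊓ centralizer (Y : Set G) ≠ ⊥ → Y ≤ C := by
    intro Y hY h
    rcases hmin (B ⊓ centralizer (Y : Set G)) inferInstance inf_le_left with e | e
    · exact absurd e h
    · exact le_centralizer_iff.mp (inf_eq_left.mp e)
  have hrp : r ≠ p := by
    rintro rfl
    obtain ⟨P⟩ : Nonempty (Sylow r L) := inferInstance
    set P' := (P : Subgroup L).map L.subtype
    have hP' : IsPGroup r P' := P.isPGroup'.map _
    have hBP : IsPGroup r ↥(B ⊔ P') := IsPGroup.to_sup_of_normal_left hBp hP'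
    haveI := hBP.isNilpotent
    have hne : (B.subgroupOf (B ⊔ P')) ≠ ⊥ := fun e => hBb (by
      rw [eq_bot_iff]; intro b hb
      have : (⟨b, mem_sup_left hb⟩ : ↥(B ⊔ P')) ∈ B.subgroupOf (B ⊔ P') := hb
      rw [e, mem_bot] at this
      exact congrArg Subtype.val this)
    obtain ⟨z, hz, hz1⟩ := (Subgroup.ne_bot_iff_exists_ne_one).mp
      (inf_center_ne_bot _ hne) |> fun ⟨⟨z, hz⟩, h⟩ => (⟨z, hz, fun e => h (Subtype.ext e)⟩ :
        ∃ z, z ∈ B.subgroupOf (B ⊔ P') ⊓ center ↥(B ⊔ P') ∧ z ≠ 1)
    -- `L = C ⊔ P'`, so `z` centralises `L`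
    have hsup : L ≤ C ⊔ P' := by
      have h1 : (C ⊔ P').relIndex L ∣ C.relIndex L := relIndex_dvd_of_le_left _ le_sup_left
      have h2 : (C ⊔ P').relIndex L ∣ P'.relIndex L := relIndex_dvd_of_le_left _ le_sup_right
      have h3 : P'.relIndex L = (P : Subgroup L).index := by
        rw [show P'.relIndex L = (P'.subgroupOf L).index from rfl]
        congr 1
        exact Subgroup.comap_map_eq_self_of_injective L.subtype_injective _
      refine relIndex_eq_one.mp (Nat.eq_one_of_dvd_one ?_)
      rw [hi] at h1
      rw [h3] at h2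
      have hco : (r ^ i).Coprime (P : Subgroup L).index :=
        Nat.Coprime.pow_left _ ((Nat.Prime.coprime_iff_not_dvd hr).mpr P.not_dvd_index)
      exact hco ▸ Nat.dvd_gcd h1 h2
    refine hLC (hBC L inferInstance ?_)
    intro e
    have : (z : G) ∈ B ⊓ centralizer (L : Set G) := by
      refine ⟨hz.1, mem_centralizer_iff.mpr fun l hl => ((mem_centralizer_iff.mp
        ((hsup.trans (sup_le ?_ ?_) : L ≤ centralizer ({(z : G)} : Set G)) hl)) (z : G) rfl).symm⟩
      · exact fun c hc => mem_centralizer_iff.mpr fun w hw => by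
          rw [Set.mem_singleton_iff.mp hw]; exact mem_centralizer_iff.mp hc _ hz.1
      · exact fun c hc => mem_centralizer_iff.mpr fun w hw => by
          rw [Set.mem_singleton_iff.mp hw]
          exact (congrArg Subtype.val (mem_center_iff.mp hz.2 ⟨c, mem_sup_right hc⟩)).symm
    rw [e, mem_bot] at this
    exact hz1 (Subtype.ext this)
  -- `L ≤ C ⊔ Kp`
  have hsup : L ≤ C ⊔ Kp := by
    refine relIndex_eq_one.mp (Nat.eq_one_of_dvd_one ?_)
    have h1 : (C ⊔ Kp).relIndex L ∣ r ^ i := hi ▸ relIndex_dvd_of_le_left _ le_sup_left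
    have h2 : (C ⊔ Kp).relIndex L ∣ p ^ (Nat.card G).factorization p := by
      refine (relIndex_normal_dvd_index L _).trans ?_
      have := hK ⟨p, hp⟩
      exact this ▸ index_dvd_of_le le_sup_right
    exact (Nat.coprime_pow_primes _ _ hr hp hrp) ▸ Nat.dvd_gcd h1 h2
  have hx : x ∈ B ⊓ centralizer (L : Set G) := by
    refine ⟨hxB, mem_centralizer_iff.mpr fun l hl => ((mem_centralizer_iff.mp
        ((hsup.trans (sup_le ?_ ?_) : L ≤ centralizer ({x} : Set G)) hl)) x rfl).symm⟩
    · exact fun c hc => mem_centralizer_iff.mpr fun w hw => by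
        rw [Set.mem_singleton_iff.mp hw]; exact mem_centralizer_iff.mp hc _ hxB
    · exact fun c hc => mem_centralizer_iff.mpr fun w hw => by
        rw [Set.mem_singleton_iff.mp hw]; exact hcen c hc
  by_contra hx1
  exact hLC (hBC L inferInstance fun e => hx1 (by rwa [← e]))

theorem cover_avoid [Group.IsSolvable G] (hK : IsComplementSystem K) (A B : Subgroup G) [A.Normal]
    [B.Normal] (hAB : A < B)
    (hchief : ∀ N : Subgroup G, N.Normal → A ≤ N → N ≤ B → N = A ∨ N = B) :
    (⁅B, (⊤ : Subgroup G)⁆ ≤ A → B ≤ A ⊔ systemNormalizer K) ∧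
      (¬ ⁅B, (⊤ : Subgroup G)⁆ ≤ A → B ⊓ systemNormalizer K ≤ A) := by
  set f := QuotientGroup.mk' A with hf
  have hfs : Function.Surjective f := QuotientGroup.mk'_surjective A
  have hsys := system_map hK A
  refine ⟨fun hc b hb => ?_, fun hnc x hx => ?_⟩
  · have hfb : f b ∈ systemNormalizer (fun p => (K p).map f) := by
      refine mem_systemNormalizer.mpr fun p => mem_normalizer_iff.mpr fun y => ?_
      obtain ⟨g, rfl⟩ := hfs y
      have h1 : f b * f g = f g * f b := by
        rw [← commutatorElement_eq_one_iff_mul_comm, ← map_commutatorElement]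
        exact (QuotientGroup.eq_one_iff _).mpr (hc (commutator_mem_commutator hb (mem_top g)))
      rw [h1, mul_inv_cancel_right]
    rw [systemNormalizer_map hK A] at hfb
    rw [sup_comm, show systemNormalizer K ⊔ A = ((systemNormalizer K).map f).comap f by
      rw [comap_map_eq, hf, QuotientGroup.ker_mk']]
    exact hfb
  · haveI hBn : (B.map f).Normal := Subgroup.Normal.map inferInstance f hfs
    have hker : A = f.ker := (QuotientGroup.ker_mk' A).symm
    have hb : B.map f ≠ ⊥ := fun e => hAB.not_ge
      (by rw [hker]; exact (Subgroup.map_eq_bot_iff _).mp e)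
    have hcomap : (B.map f).comap f = B := by
      rw [comap_map_eq, ← hker, sup_eq_left.mpr hAB.le]
    have hmin : ∀ M : Subgroup (G ⧸ A), M.Normal → M ≤ B.map f → M = ⊥ ∨ M = B.map f := by
      intro M hM hMB
      rcases hchief (M.comap f) (hM.comap f) (hker.le.trans (ker_le_comap _ _))
        ((comap_mono hMB).trans hcomap.le) with e | e
      · refine Or.inl ?_
        rw [← map_comap_eq_self_of_surjective hfs M, e, Subgroup.map_eq_bot_iff]
        exact hker.le
      · refine Or.inr ?_
        rw [← map_comap_eq_self_of_surjective hfs M, e]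
    have hnc' : ¬ B.map f ≤ center (G ⧸ A) := by
      intro h
      refine hnc (commutator_le.mpr fun b hb g _ => ?_)
      refine (QuotientGroup.eq_one_iff _).mp ?_
      change f ⁅b, g⁆ = 1
      rw [map_commutatorElement, commutatorElement_eq_one_iff_mul_comm]
      exact ((mem_center_iff.mp (h (mem_map_of_mem f hb))) (f g)).symm
    have h1 := systemNormalizer_inf_minimal_normal hsys (B.map f) hb hmin hnc'
    have h2 : f x ∈ B.map f ⊓ systemNormalizer (fun p => (K p).map f) :=
      ⟨mem_map_of_mem f hx.1, by rw [systemNormalizer_map hK A]; exact mem_map_of_mem f hx.2⟩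
    rw [h1, mem_bot] at h2
    exact (QuotientGroup.eq_one_iff x).mp h2

theorem normalizes_hall_of_nilpotent {C H : Subgroup G} (hC : Group.IsNilpotent C) (hHC : H ≤ C)
    {p k : ℕ} [Fact p.Prime] (hidx : H.relIndex C = p ^ k) (hco : (Nat.card H).Coprime p) :
    C ≤ normalizer (H : Set G) := by
  obtain ⟨S⟩ : Nonempty (Sylow p C) := inferInstance
  have hcop : (S : Subgroup C).index.Coprime (H.subgroupOf C).index := by
    change (S : Subgroup C).index.Coprime (H.relIndex C)
    rw [hidx]
    exact Nat.Coprime.pow_right _ ((Nat.Prime.coprime_iff_not_dvd Fact.out).mpr S.not_dvd_index).symm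
  refine le_normalizer_of_conj_mem fun c hc y hy => ?_
  obtain ⟨s, hs, h, hh, he⟩ := exists_mul_eq_of_relIndex (S : Subgroup C) (H.subgroupOf C)
    (index_inf_of_coprime _ _ hcop).2 ⟨c, hc⟩
  have he' : c = (s : G) * (h : G) := congrArg Subtype.val he
  set y' := (h : G) * y * (h : G)⁻¹
  have hy' : y' ∈ H := H.mul_mem (H.mul_mem hh hy) (H.inv_mem hh)
  obtain ⟨i, hi⟩ := IsPGroup.iff_orderOf.mp S.isPGroup' ⟨s, hs⟩
  have hcm : Commute (s : G) y' := commute_of_sylow hC s.2 (hHC hy') (by
    rw [Subgroup.orderOf_coe, show orderOf s = p ^ i by rwa [← Subgroup.orderOf_coe] at hi]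
    refine Nat.Coprime.pow_left _ (Nat.Coprime.coprime_dvd_right ?_ hco.symm)
    rw [show orderOf y' = orderOf (⟨y', hy'⟩ : H) from (Subgroup.orderOf_coe (⟨y', hy'⟩ : H))]
    exact orderOf_dvd_natCard _)
  rw [he', show (s : G) * h * y * ((s : G) * h)⁻¹ = (s : G) * y' * (s : G)⁻¹ by
    simp [y', mul_assoc], hcm.eq, mul_inv_cancel_right]
  exact hy'

/-- A system reduces into `C` when the indices in `C` are prime powers. -/
def Reduces (K : Nat.Primes → Subgroup G) (C : Subgroup G) : Prop :=
  ∀ p : Nat.Primes, ∃ k, (K p).relIndex C = (p : ℕ) ^ k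

omit [Finite G] in
theorem reduces_map (N : Subgroup G) [N.Normal] {C : Subgroup G} (h : Reduces K C) :
    Reduces (fun p => (K p).map (QuotientGroup.mk' N)) (C.map (QuotientGroup.mk' N)) := by
  intro p
  obtain ⟨k, hk⟩ := h p
  have h1 : ((K p).map (QuotientGroup.mk' N)).relIndex (C.map (QuotientGroup.mk' N)) ∣ (p : ℕ) ^ k := by
    rw [← relIndex_comap, ← hk]
    exact relIndex_dvd_of_le_left _ (le_comap_map _ _)
  obtain ⟨j, -, hj⟩ := (Nat.dvd_prime_pow p.2).mp h1
  exact ⟨j, hj⟩

theorem exists_system_reduces [Group.IsSolvable G] (C : Subgroup G) :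
    ∃ K : Nat.Primes → Subgroup G, IsComplementSystem K ∧ Reduces K C := by
  have h : ∀ p : Nat.Primes, ∃ H : Subgroup G,
      H.index = (p : ℕ) ^ (Nat.card G).factorization p ∧ ∃ k, H.relIndex C = (p : ℕ) ^ k := by
    intro p
    have hCd : Nat.card C = (Nat.card C / (p : ℕ) ^ (Nat.card C).factorization p) *
        (p : ℕ) ^ (Nat.card C).factorization p :=
      (Nat.div_mul_cancel (Nat.ordProj_dvd _ _)).symm
    obtain ⟨Hc, hHc⟩ := hall_exists (G := C) hCd
      ((Nat.coprime_ordCompl p.2 Nat.card_pos.ne').symm.pow_right _)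
    have hGd : Nat.card G = (Nat.card G / (p : ℕ) ^ (Nat.card G).factorization p) *
        (p : ℕ) ^ (Nat.card G).factorization p :=
      (Nat.div_mul_cancel (Nat.ordProj_dvd _ _)).symm
    obtain ⟨H, hH, hle⟩ := hall_contained hGd
      ((Nat.coprime_ordCompl p.2 Nat.card_pos.ne').symm.pow_right _) (Hc.map C.subtype)
      (by rw [card_map_subtype, hHc]
          exact (Nat.coprime_ordCompl p.2 Nat.card_pos.ne').symm.pow_right _)
    refine ⟨H, ?_, ?_⟩
    · have h2 := H.card_mul_index
      rw [hH] at h2
      exact Nat.eq_of_mul_eq_mul_left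
        (Nat.pos_of_ne_zero fun e => Nat.card_pos.ne' (by rw [hGd, e, zero_mul])) (h2.trans hGd)
    · have h2 : H.relIndex C ∣ (p : ℕ) ^ (Nat.card C).factorization p := by
        have h3 : Hc.index = (p : ℕ) ^ (Nat.card C).factorization p := by
          have h4 := Hc.card_mul_index
          rw [hHc] at h4
          exact Nat.eq_of_mul_eq_mul_left
            (Nat.pos_of_ne_zero fun e => (Nat.card_pos (α := C)).ne' (by rw [hCd, e, zero_mul]))
            (h4.trans hCd)
        rw [← h3]
        exact index_dvd_of_le fun z hz => hle (mem_map_of_mem _ hz)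
      obtain ⟨k, -, hk⟩ := (Nat.dvd_prime_pow p.2).mp h2
      exact ⟨k, hk⟩
  choose K hK hR using h
  exact ⟨K, hK, hR⟩

theorem systemNormalizer_le_of_reduces_aux : ∀ (n : ℕ) (G : Type u) [Group G] [Finite G]
    [Group.IsSolvable G], Nat.card G ≤ n → ∀ (K : Nat.Primes → Subgroup G),
      IsComplementSystem K → ∀ C : Subgroup G, IsCarterSubgroup C → Reduces K C →
        systemNormalizer K ≤ C := by
  intro n
  induction n with
  | zero => intro G _ _ _ hn; exact absurd hn (not_le.mpr Nat.card_pos)
  | succ n ih =>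
    intro G _ _ _ hn K hK C hC hR
    rcases subsingleton_or_nontrivial G with h | h
    · intro x _; rw [Subsingleton.elim x 1]; exact C.one_mem
    obtain ⟨N, hN, -, hNb, hNmin⟩ := exists_minimal_normal_le (N := (⊤ : Subgroup G))
      (fun h => bot_ne_top h.symm)
    haveI := hN
    obtain ⟨hNab, p, hp, hexp⟩ := minimal_normal_elementary N hNb hNmin
    haveI := hNab
    haveI := Fact.mk hp
    have hNp : IsPGroup p N := fun x => ⟨1, by rw [pow_one]; exact Subtype.ext (hexp x x.2)⟩
    obtain ⟨e, he⟩ := IsPGroup.iff_card.mp hNp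
    set f := QuotientGroup.mk' N with hf
    have hfs : Function.Surjective f := QuotientGroup.mk'_surjective N
    have hquot := ih (G ⧸ N) (by have := card_quotient_lt_of_ne_bot N hNb; omega) _
      (system_map hK N) _ (isCarter_map hC N) (reduces_map N hR)
    rw [systemNormalizer_map hK N] at hquot
    set X := C ⊔ N
    have hXc : X = (C.map f).comap f := by rw [comap_map_eq, hf, QuotientGroup.ker_mk']
    have hDX : systemNormalizer K ≤ X := by
      rw [hXc]; exact map_le_iff_le_comap.mp hquot
    -- `N` lies in the complements for the other primes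
    have hNq : ∀ q : Nat.Primes, (q : ℕ) ≠ p → N ≤ K q := by
      intro q hq
      refine relIndex_eq_one.mp (Nat.eq_one_of_dvd_one ?_)
      have h1 : (K q).relIndex N ∣ p ^ e := he ▸ relIndex_dvd_card _ _
      have h2 : (K q).relIndex N ∣ (q : ℕ) ^ (Nat.card G).factorization q :=
        hK q ▸ relIndex_normal_dvd_index N _
      exact (Nat.coprime_pow_primes _ _ hp q.2 (Ne.symm hq)) ▸ Nat.dvd_gcd h1 h2
    have hRX : Reduces K X := by
      intro q
      obtain ⟨k, hk⟩ := hR q
      by_cases hq : (q : ℕ) = p
      · have h1 : (K q ⊓ C).relIndex X = (K q ⊓ C).relIndex C * C.relIndex X :=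
          (relIndex_mul_relIndex _ _ _ inf_le_right le_sup_left).symm
        have h2 : C.relIndex X ∣ p ^ e := by
          rw [show X = N ⊔ C from sup_comm _ _, relIndex_sup_eq_of_card N C (by
            rw [sup_comm, inf_comm, card_sup_mul_card_inf N C le_normalizer_of_normal, mul_comm]),
            ← he]
          exact relIndex_dvd_card _ _
        have h3 : (K q).relIndex X ∣ (q : ℕ) ^ (k + e) := by
          refine (relIndex_dvd_of_le_left _ (inf_le_left : K q ⊓ C ≤ K q)).trans ?_
          rw [h1, inf_relIndex_right, hk, pow_add]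
          exact mul_dvd_mul_left _ (hq ▸ h2)
        obtain ⟨j, -, hj⟩ := (Nat.dvd_prime_pow q.2).mp h3
        exact ⟨j, hj⟩
      · obtain ⟨j, hj⟩ := reduces_map N hR q
        refine ⟨j, ?_⟩
        rw [← hj]
        change (K q).relIndex X = ((K q).map f).relIndex (C.map f)
        conv_lhs => rw [show K q = ((K q).map f).comap f by
          rw [comap_map_eq, hf, QuotientGroup.ker_mk', sup_eq_left.mpr (hNq q hq)]]
        rw [relIndex_comap, hXc, map_comap_eq_self_of_surjective hfs]
    by_cases hX : X = ⊤
    swap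
    · have hsys : IsComplementSystem fun q => (K q).subgroupOf X := by
        intro q
        obtain ⟨j, hj⟩ := hRX q
        refine exact_of_pow_coprime _ q (hj.dvd : ((K q).subgroupOf X).index ∣ (q : ℕ) ^ j) ?_
        refine (card_coprime_of_system hK q).coprime_dvd_left ?_
        change Nat.card ↥((K q).subgroupOf X) ∣ _
        rw [show (K q).subgroupOf X = (K q ⊓ X).subgroupOf X from (inf_subgroupOf_right _ _).symm,
          card_subgroupOf inf_le_right]
        exact card_dvd_of_le inf_le_left
      have hred : Reduces (fun q => (K q).subgroupOf X) (C.subgroupOf X) := by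
        intro q
        obtain ⟨k, hk⟩ := hR q
        exact ⟨k, by rw [← hk]; exact relIndex_subgroupOf le_sup_left⟩
      have h1 := ih X (by
        have : Nat.card X < Nat.card G :=
          lt_of_le_of_ne (card_le_card_group _) fun e => hX (eq_top_of_card_eq _ e)
        omega) _ hsys _ (isCarter_subgroupOf hC le_sup_left) hred
      intro x hx
      exact h1 (x := ⟨x, hDX hx⟩) (mem_systemNormalizer.mpr fun q => mem_normalizer_iff.mpr
        fun z => mem_normalizer_iff.mp (mem_systemNormalizer.mp hx q) (z : G))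
    by_cases hCt : C = ⊤
    · rw [hCt]; exact le_top
    have htop : N ⊔ C = ⊤ := by rw [sup_comm]; exact hX
    have hNC : N ⊓ C = ⊥ := by
      have hn : (N ⊓ C).Normal := by
        refine normalizer_eq_top_iff.mp (top_le_iff.mp (htop ▸ sup_le ?_
          (le_normalizer_inf le_normalizer_of_normal le_normalizer)))
        exact (le_centralizer_iff_isMulCommutative.mpr hNab).trans
          ((centralizer_le fun _ h => h.1).trans (centralizer_le_normalizer _))
      rcases hNmin _ hn inf_le_left with e | e
      · exact e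
      · exact absurd (top_le_iff.mp (htop.symm.le.trans (sup_le (inf_eq_left.mp e) le_rfl))) hCt
    have hcoat := coatom_of_complement hNmin hNb htop hNC
    set q0 : Nat.Primes := ⟨p, hp⟩
    -- `K p ≤ C`
    obtain ⟨k, hk⟩ := hR q0
    have hKC : K q0 ≤ C := by
      have h1 : Nat.card ↥(K q0 ⊓ C) * p ^ k = Nat.card C := by
        have h := ((K q0 ⊓ C).subgroupOf C).card_mul_index
        rw [card_subgroupOf inf_le_right, show ((K q0 ⊓ C).subgroupOf C).index = p ^ k from
          ((inf_relIndex_right _ _).trans hk)] at h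
        exact h
      have h2 := card_sup_mul_card_inf N C le_normalizer_of_normal
      rw [htop, card_top, hNC, card_bot, mul_one, he] at h2
      have h3 : Nat.card (K q0) ∣ Nat.card ↥(K q0 ⊓ C) := by
        have h4 : Nat.card (K q0) ∣ Nat.card ↥(K q0 ⊓ C) * p ^ (k + e) := by
          refine (card_subgroup_dvd_card _).trans (dvd_of_eq ?_)
          rw [h2, ← h1, pow_add]; ring
        exact (Nat.Coprime.pow_right _ (card_coprime_of_system hK q0)).dvd_of_dvd_mul_right h4
      have h5 := eq_of_le_of_card_ge (inf_le_left : K q0 ⊓ C ≤ K q0) (Nat.le_of_dvd Nat.card_pos h3)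
      exact inf_eq_left.mp h5
    have hCN : C ≤ normalizer (K q0 : Set G) :=
      normalizes_hall_of_nilpotent hC.1 hKC hk (card_coprime_of_system hK q0)
    rcases hCN.lt_or_eq with hlt | heq
    · -- `K p` is normal, so `G` is nilpotent
      exfalso
      haveI := normalizer_eq_top_iff.mp (hcoat.2 _ hlt)
      haveI : Group.IsNilpotent (G ⧸ K q0) := by
        refine (IsPGroup.of_card (p := p) (n := (Nat.card G).factorization p) ?_).isNilpotent
        rw [← index_eq_card]; exact hK q0
      haveI := hC.1
      haveI : Group.IsNilpotent (G ⧸ N) := by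
        refine Group.nilpotent_of_surjective (f.comp C.subtype) fun y => ?_
        obtain ⟨g, rfl⟩ := hfs y
        obtain ⟨m, hm, c, hc, rfl⟩ := mem_sup_of_normal_left.mp (htop ▸ mem_top g)
        refine ⟨⟨c, hc⟩, ?_⟩
        change f c = f (m * c)
        rw [map_mul, show f m = 1 from (QuotientGroup.eq_one_iff m).mpr hm, one_mul]
      haveI : Group.IsNilpotent G := by
        suffices hinj : Function.Injective ((QuotientGroup.mk' (K q0)).prod f) from
          (Group.isNilpotent_congr (MonoidHom.ofInjective hinj)).mpr inferInstance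
        rw [injective_iff_map_eq_one]
        intro g hg
        have h1 : g ∈ K q0 ⊓ N := ⟨(QuotientGroup.eq_one_iff g).mp (congrArg Prod.fst hg),
          (QuotientGroup.eq_one_iff g).mp (congrArg Prod.snd hg)⟩
        rw [inf_eq_bot_of_coprime_card _ _ (by
          rw [he]; exact Nat.Coprime.pow_right _ (card_coprime_of_system hK q0)), mem_bot] at h1
        exact h1
      exact hCt (eq_top_of_isCarter hC)
    · exact (iInf_le _ q0).trans heq.ge

theorem systemNormalizer_le_of_reduces [Group.IsSolvable G] (hK : IsComplementSystem K)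
    {C : Subgroup G} (hC : IsCarterSubgroup C) (hR : Reduces K C) : systemNormalizer K ≤ C :=
  systemNormalizer_le_of_reduces_aux _ G le_rfl K hK C hC hR

theorem carter_eq_systemNormalizer_aux : ∀ (n : ℕ) (G : Type u) [Group G] [Finite G]
    [Group.IsSolvable G], Nat.card G ≤ n → ∀ (F : Subgroup G) [F.Normal], Group.IsNilpotent F →
      Group.IsNilpotent (G ⧸ F) → ∀ (K : Nat.Primes → Subgroup G), IsComplementSystem K →
      ∀ C : Subgroup G, IsCarterSubgroup C → Reduces K C → C = systemNormalizer K := by
  intro n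
  induction n with
  | zero => intro G _ _ _ hn; exact absurd hn (not_le.mpr Nat.card_pos)
  | succ n ih =>
    intro G _ _ _ hn F _ hF hGF K hK C hC hR
    have hDC := systemNormalizer_le_of_reduces hK hC hR
    refine le_antisymm ?_ hDC
    rcases subsingleton_or_nontrivial G with h | h
    · intro x _; rw [Subsingleton.elim x 1]; exact Subgroup.one_mem _
    obtain ⟨N, hN, -, hNb, hNmin⟩ := exists_minimal_normal_le (N := (⊤ : Subgroup G))
      (fun h => bot_ne_top h.symm)
    haveI := hN
    haveI := hF
    haveI := hC.1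
    set f := QuotientGroup.mk' N with hf
    have hfs : Function.Surjective f := QuotientGroup.mk'_surjective N
    haveI hFn : (F.map f).Normal := Subgroup.Normal.map inferInstance f hfs
    have hFm : Group.IsNilpotent (F.map f) :=
      Group.nilpotent_of_surjective _ (f.subgroupMap_surjective F)
    have hGFm : Group.IsNilpotent ((G ⧸ N) ⧸ F.map f) := by
      refine Group.nilpotent_of_surjective (QuotientGroup.lift F
        ((QuotientGroup.mk' (F.map f)).comp f) fun x hx => ?_) ?_
      · exact (QuotientGroup.eq_one_iff _).mpr (mem_map_of_mem f hx)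
      · intro y
        obtain ⟨g, rfl⟩ := (QuotientGroup.mk'_surjective (F.map f)).comp hfs y
        exact ⟨QuotientGroup.mk g, rfl⟩
    have hquot := ih (G ⧸ N) (by have := card_quotient_lt_of_ne_bot N hNb; omega) (F.map f) hFm
      hGFm _ (system_map hK N) _ (isCarter_map hC N) (reduces_map N hR)
    rw [systemNormalizer_map hK N] at hquot
    by_cases hcent : N ≤ center G
    · have hND : N ≤ systemNormalizer K := fun x hx => mem_systemNormalizer.mpr fun q =>
        mem_normalizer_iff.mpr fun y => by
          rw [← mem_center_iff.mp (hcent hx) y, mul_inv_cancel_right]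
      have h1 : C ≤ ((systemNormalizer K).map f).comap f := map_le_iff_le_comap.mp hquot.le
      rwa [comap_map_eq, hf, QuotientGroup.ker_mk', sup_eq_left.mpr hND] at h1
    -- `F ⊔ C = ⊤`
    have hFC : F ⊔ C = ⊤ := by
      haveI := hGF
      have h1 := eq_top_of_isCarter (isCarter_map hC F)
      rw [sup_comm, show C ⊔ F = (C.map (QuotientGroup.mk' F)).comap (QuotientGroup.mk' F) by
        rw [comap_map_eq, QuotientGroup.ker_mk'], h1, comap_top]
    have hcF : N ≤ centralizer (F : Set G) := by
      have hne : N ⊓ centralizer (F : Set G) ≠ ⊥ := by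
        intro e
        by_cases hb : N.subgroupOf F = ⊥
        · refine hNb (eq_bot_iff.mpr fun x hx => ?_)
          rw [← e]
          refine ⟨hx, mem_centralizer_iff.mpr fun y hy => ?_⟩
          exact (Subgroup.commute_of_normal_of_disjoint N F inferInstance inferInstance
            (disjoint_iff.mpr (eq_bot_iff.mpr fun z hz => by
              have : (⟨z, hz.2⟩ : F) ∈ N.subgroupOf F := hz.1
              rw [hb, mem_bot] at this
              exact mem_bot.mpr (congrArg Subtype.val this))) x y hx hy).symm.eq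
        · refine inf_center_ne_bot (N.subgroupOf F) hb (eq_bot_iff.mpr fun z hz => ?_)
          have : (z : G) ∈ N ⊓ centralizer (F : Set G) :=
            ⟨hz.1, mem_centralizer_iff.mpr fun y hy =>
              congrArg Subtype.val (mem_center_iff.mp hz.2 ⟨y, hy⟩)⟩
          rw [e, mem_bot] at this
          exact mem_bot.mpr (Subtype.ext this)
      rcases hNmin (N ⊓ centralizer (F : Set G)) inferInstance inf_le_left with e | e
      · exact absurd e hne
      · exact inf_eq_left.mp e
    have hNC : N ⊓ C = ⊥ := by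
      by_contra hne
      have hne' : N.subgroupOf C ≠ ⊥ := fun e => hne (eq_bot_iff.mpr fun z hz => by
        have : (⟨z, hz.2⟩ : C) ∈ N.subgroupOf C := hz.1
        rw [e, mem_bot] at this
        exact mem_bot.mpr (congrArg Subtype.val this))
      refine inf_center_ne_bot (N.subgroupOf C) hne' (eq_bot_iff.mpr fun z hz => ?_)
      have hzc : (z : G) ∈ center G := by
        rw [mem_center_iff]
        intro g
        have hle : F ⊔ C ≤ centralizer ({(z : G)} : Set G) := by
          refine sup_le (fun y hy => ?_) fun y hy => ?_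
          · refine mem_centralizer_iff.mpr fun w hw => ?_
            rw [Set.mem_singleton_iff.mp hw]
            exact (mem_centralizer_iff.mp (hcF hz.1) y hy).symm
          · refine mem_centralizer_iff.mpr fun w hw => ?_
            rw [Set.mem_singleton_iff.mp hw]
            exact (congrArg Subtype.val (mem_center_iff.mp hz.2 ⟨y, hy⟩)).symm
        exact (mem_centralizer_iff.mp (hle (hFC ▸ mem_top g)) (z : G) rfl).symm
      rcases hNmin (N ⊓ center G) inferInstance inf_le_left with e | e
      · have h2 : (z : G) ∈ N ⊓ center G := ⟨hz.1, hzc⟩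
        rw [e, mem_bot] at h2
        exact mem_bot.mpr (Subtype.ext h2)
      · exact absurd (inf_eq_left.mp e) hcent
    intro c hc
    have h1 : C ≤ ((systemNormalizer K).map f).comap f := map_le_iff_le_comap.mp hquot.le
    rw [comap_map_eq, hf, QuotientGroup.ker_mk', sup_comm] at h1
    obtain ⟨m, hm, d, hd, rfl⟩ := mem_sup_of_normal_left.mp (h1 hc)
    have h2 : m ∈ N ⊓ C := ⟨hm, by simpa using C.mul_mem hc (C.inv_mem (hDC hd))⟩
    rw [hNC, mem_bot] at h2
    rwa [h2, one_mul]

end Cfsg.Agent.Solv
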