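import Cfsg.Prelude.Def_SolvableStructure
import Cfsg.Agent.Lib.Solv.Carter
import Cfsg.Agent.Lib.Solv.Hall
import Cfsg.Agent.Lib.Solv.MinimalNonNilpotent

/-!
Hall complement systems, system normalizers and their relation with Carter subgroups.
-/

set_option autoImplicit false
set_option linter.style.haveILetI false

namespace Cfsg.Agent.Solv

open Subgroup Cfsg
open scoped Pointwise commutatorElement

universe u

variable {G : Type u} [Group G] [Finite G] {K : Nat.Primes → Subgroup G}

theorem relIndex_sup_eq_of_card (A H : Subgroup G)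
    (h : Nat.card ↥(H ⊔ A) * Nat.card ↥(H ⊓ A) = Nat.card H * Nat.card A) :
    H.relIndex (A ⊔ H) = H.relIndex A := by
  have h1 := (H.subgroupOf (A ⊔ H)).card_mul_index
  rw [card_subgroupOf le_sup_right] at h1
  have h2 := ((H ⊓ A).subgroupOf A).card_mul_index
  rw [card_subgroupOf inf_le_right] at h2
  change Nat.card H * H.relIndex (A ⊔ H) = _ at h1
  change Nat.card ↥(H ⊓ A) * (H ⊓ A).relIndex A = _ at h2
  rw [inf_relIndex_right] at h2
  rw [sup_comm H A, ← h1, ← h2, mul_assoc] at h
  have h3 := Nat.eq_of_mul_eq_mul_left Nat.card_pos h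
  rw [mul_comm, Nat.mul_left_cancel_iff Nat.card_pos] at h3
  exact h3

theorem relIndex_dvd_index_of_le_normalizer (A H : Subgroup G) (h : A ≤ normalizer (H : Set G)) :
    H.relIndex A ∣ H.index := by
  rw [← relIndex_sup_eq_of_card A H (card_sup_mul_card_inf H A h)]
  exact relIndex_dvd_index_of_le le_sup_right

theorem relIndex_normal_dvd_index (N H : Subgroup G) [N.Normal] : H.relIndex N ∣ H.index := by
  rw [← relIndex_sup_eq_of_card N H ?_]
  · exact relIndex_dvd_index_of_le le_sup_right
  · rw [sup_comm, inf_comm, card_sup_mul_card_inf N H le_normalizer_of_normal, mul_comm]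

/-- `(K p)` has order prime to `p`. -/
theorem card_coprime_of_system (hK : IsComplementSystem K) (p : Nat.Primes) :
    (Nat.card (K p)).Coprime p := by
  have h0 : Nat.card G ≠ 0 := Nat.card_pos.ne'
  have h1 : Nat.card (K p) = Nat.card G / (p : ℕ) ^ (Nat.card G).factorization p := by
    refine Nat.eq_div_of_mul_eq_left (pow_ne_zero _ p.2.ne_zero) ?_
    rw [← hK p]; exact (K p).card_mul_index
  rw [h1]
  exact (Nat.coprime_ordCompl p.2 h0).symm

theorem exact_of_pow_coprime (X : Subgroup G) (p : Nat.Primes) {a : ℕ}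
    (h : X.index ∣ (p : ℕ) ^ a) (hc : (Nat.card X).Coprime p) :
    X.index = (p : ℕ) ^ (Nat.card G).factorization p := by
  obtain ⟨j, -, hj⟩ := (Nat.dvd_prime_pow p.2).mp h
  rw [← X.card_mul_index, hj, Nat.factorization_mul Nat.card_pos.ne' (pow_ne_zero _ p.2.ne_zero),
    Finsupp.add_apply, Nat.factorization_eq_zero_of_not_dvd
      ((Nat.Prime.coprime_iff_not_dvd p.2).mp hc.symm), p.2.factorization_pow,
    Finsupp.single_eq_same, zero_add]

theorem system_top (hK : IsComplementSystem K) {p : Nat.Primes} (hp : ¬ (p : ℕ) ∣ Nat.card G) :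
    K p = ⊤ := by
  rw [← index_eq_one, hK p, Nat.factorization_eq_zero_of_not_dvd hp, pow_zero]

theorem index_coprime_of_ne (hK : IsComplementSystem K) {p q : Nat.Primes} (hpq : p ≠ q) :
    (K p).index.Coprime (K q).index := by
  rw [hK p, hK q]
  exact Nat.coprime_pow_primes _ _ p.2 q.2 fun e => hpq (Subtype.ext e)

/-- Indices multiply along a finite set of primes. -/
theorem index_finsetInf (hK : IsComplementSystem K) (s : Finset Nat.Primes) :
    (s.inf K).index = ∏ p ∈ s, (K p).index := by
  classical
  induction s using Finset.induction with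
  | empty => simp
  | insert a s ha ih =>
    rw [Finset.inf_insert, Finset.prod_insert ha, ← ih]
    refine (index_inf_of_coprime _ _ ?_).1
    rw [ih]
    exact Nat.Coprime.prod_right fun q hq => index_coprime_of_ne hK fun e => ha (e ▸ hq)

theorem exists_single_conj (M : Subgroup G) (A B : Nat.Primes → Subgroup G)
    (h : ∀ p, ∃ m ∈ M, MulAut.conj m • A p = B p)
    (hidx : ∀ p : Nat.Primes, ∃ k, (normalizer (A p : Set G)).relIndex M = (p : ℕ) ^ k)
    (s : Finset Nat.Primes) : ∃ m ∈ M, ∀ p ∈ s, MulAut.conj m • A p = B p := by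
  classical
  -- the index of the partial intersections
  have hdvd : ∀ t : Finset Nat.Primes, ∀ q : Nat.Primes, q ∉ t →
      ((t.inf fun p => normalizer (A p : Set G)).relIndex M).Coprime q := by
    intro t
    induction t using Finset.induction with
    | empty => intro q _; rw [Finset.inf_empty, relIndex_top_left]; exact Nat.coprime_one_left _
    | insert a t ha ih =>
      intro q hq
      rw [Finset.mem_insert, not_or] at hq
      obtain ⟨k, hk⟩ := hidx a
      set T := t.inf fun p => normalizer (A p : Set G)
      have hco : ((T.subgroupOf M).index).Coprime ((normalizer (A a : Set G)).subgroupOf M).index := by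
        change (T.relIndex M).Coprime ((normalizer (A a : Set G)).relIndex M)
        rw [hk]
        exact Nat.Coprime.pow_right _ (ih a ha)
      have h1 := (index_inf_of_coprime (T.subgroupOf M)
        ((normalizer (A a : Set G)).subgroupOf M) hco).1
      rw [Finset.inf_insert, inf_comm]
      change ((T ⊓ normalizer (A a : Set G)).subgroupOf M).index.Coprime q
      rw [show (T ⊓ normalizer (A a : Set G)).subgroupOf M =
        T.subgroupOf M ⊓ (normalizer (A a : Set G)).subgroupOf M from comap_inf _ _ _, h1]
      change (T.relIndex M * (normalizer (A a : Set G)).relIndex M).Coprime q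
      rw [hk]
      exact Nat.Coprime.mul_left (ih q hq.2) (Nat.Coprime.pow_left _
        ((Nat.coprime_primes a.2 q.2).mpr fun e => hq.1 (Subtype.ext e).symm))
  induction s using Finset.induction with
  | empty => exact ⟨1, M.one_mem, by simp⟩
  | insert a s ha ih =>
    obtain ⟨m, hm, hms⟩ := ih
    obtain ⟨ma, hma, hmA⟩ := h a
    set T := s.inf fun p => normalizer (A p : Set G)
    obtain ⟨k, hk⟩ := hidx a
    obtain ⟨d, hd, n, hn, he⟩ := exists_mul_eq_of_relIndex (T.subgroupOf M)
      ((normalizer (A a : Set G)).subgroupOf M) ((index_inf_of_coprime _ _ (by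
        change (T.relIndex M).Coprime ((normalizer (A a : Set G)).relIndex M)
        rw [hk]
        exact Nat.Coprime.pow_right _ (hdvd s a ha))).2) ⟨m⁻¹ * ma, mul_mem (inv_mem hm) hma⟩
    have he' : (m : G) * d = ma * (n : G)⁻¹ := by
      have := congrArg Subtype.val he
      change m⁻¹ * ma = (d : G) * n at this
      rw [eq_mul_inv_iff_mul_eq, mul_assoc, ← this, mul_inv_cancel_left]
    refine ⟨m * d, mul_mem hm d.2, fun p hp => ?_⟩
    rcases Finset.mem_insert.mp hp with rfl | hp
    · rw [he', map_mul, mul_smul,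
        mem_normalizer_conj_iff.mp (inv_mem (show (n : G) ∈ normalizer (A p : Set G) from hn)), hmA]
    · have hd' : (d : G) ∈ normalizer (A p : Set G) := Finset.inf_le (f := fun p => normalizer (A p : Set G)) hp hd
      rw [map_mul, mul_smul, mem_normalizer_conj_iff.mp hd', hms p hp]

/-- The primes dividing the order of `G`. -/
noncomputable def groupPrimes (G : Type u) [Group G] : Finset Nat.Primes :=
  (Nat.card G).primeFactors.subtype Nat.Prime

theorem mem_groupPrimes {p : Nat.Primes} : p ∈ groupPrimes G ↔ (p : ℕ) ∣ Nat.card G := by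
  constructor
  · intro h
    exact Nat.dvd_of_mem_primeFactors (Finset.mem_subtype.mp h)
  · intro h
    exact Finset.mem_subtype.mpr (Nat.mem_primeFactors.mpr ⟨p.2, h, Nat.card_pos.ne'⟩)

theorem exists_conj_of_systems (M : Subgroup G) (A B : Nat.Primes → Subgroup G)
    (hA : IsComplementSystem A) (h : ∀ p, ∃ m ∈ M, MulAut.conj m • A p = B p)
    (hidx : ∀ p : Nat.Primes, ∃ k, (normalizer (A p : Set G)).relIndex M = (p : ℕ) ^ k) :
    ∃ m ∈ M, ∀ p, MulAut.conj m • A p = B p := by
  obtain ⟨m, hm, hms⟩ := exists_single_conj M A B h hidx (groupPrimes G)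
  refine ⟨m, hm, fun p => ?_⟩
  by_cases hp : p ∈ groupPrimes G
  · exact hms p hp
  obtain ⟨m', -, hm'⟩ := h p
  rw [← hm', system_top hA (fun h => hp (mem_groupPrimes.mpr h)),
    mem_normalizer_conj_iff.mp (le_normalizer (mem_top m)),
    mem_normalizer_conj_iff.mp (le_normalizer (mem_top m'))]

theorem normalizer_index_dvd (hK : IsComplementSystem K) (p : Nat.Primes) :
    (normalizer (K p : Set G)).index ∣ (p : ℕ) ^ (Nat.card G).factorization p :=
  hK p ▸ index_dvd_of_le le_normalizer

theorem system_conj [Group.IsSolvable G] (hK : IsComplementSystem K)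
    {L : Nat.Primes → Subgroup G} (hL : IsComplementSystem L) :
    ∃ g : G, ∀ p : Nat.Primes, MulAut.conj g • K p = L p := by
  obtain ⟨m, -, hm⟩ := exists_conj_of_systems ⊤ K L hK (fun p => by
    have hc : (Nat.card (K p)).Coprime (K p).index := by
      rw [hK p]; exact Nat.Coprime.pow_right _ (card_coprime_of_system hK p)
    have hcard : Nat.card (L p) = Nat.card (K p) := by
      refine Nat.eq_of_mul_eq_mul_right (Nat.pos_of_ne_zero (index_ne_zero_of_finite (H := K p))) ?_
      rw [(K p).card_mul_index, hK p, ← hL p, (L p).card_mul_index]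
    obtain ⟨g, hg⟩ := hall_conj (K p).card_mul_index.symm hc (K p) (L p) rfl hcard
    exact ⟨g, mem_top g, hg⟩) (fun p => by
      obtain ⟨j, -, hj⟩ := (Nat.dvd_prime_pow p.2).mp (normalizer_index_dvd hK p)
      exact ⟨j, by rw [relIndex_top_right, hj]⟩)
  exact ⟨m, hm⟩

theorem mem_systemNormalizer {g : G} :
    g ∈ systemNormalizer K ↔ ∀ p, g ∈ normalizer (K p : Set G) := mem_iInf

theorem systemNormalizer_conj (K : Nat.Primes → Subgroup G) (g : G) :
    systemNormalizer (fun p => MulAut.conj g • K p) = MulAut.conj g • systemNormalizer K := by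
  ext x
  simp only [mem_systemNormalizer, mem_conj_smul, normalizer_conj]

theorem system_map (hK : IsComplementSystem K) (N : Subgroup G) [N.Normal] :
    IsComplementSystem (fun p => (K p).map (QuotientGroup.mk' N)) := fun p =>
  exact_of_pow_coprime _ p ((index_map_dvd (H := K p) (QuotientGroup.mk'_surjective N)).trans
    (hK p).dvd) ((card_coprime_of_system hK p).coprime_dvd_left (card_map_dvd _ _))

theorem systemNormalizer_map [Group.IsSolvable G] (hK : IsComplementSystem K) (N : Subgroup G)
    [N.Normal] : systemNormalizer (fun p => (K p).map (QuotientGroup.mk' N)) =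
      (systemNormalizer K).map (QuotientGroup.mk' N) := by
  set f := QuotientGroup.mk' N with hf
  refine le_antisymm (fun y hy => ?_) ?_
  · obtain ⟨g, rfl⟩ := QuotientGroup.mk'_surjective N y
    rw [mem_systemNormalizer] at hy
    have hA : ∀ p, ∃ n ∈ N, MulAut.conj n • K p = MulAut.conj g • K p := by
      intro p
      have hgX : MulAut.conj g • K p ≤ N ⊔ K p := by
        intro x hx
        rw [mem_conj_smul] at hx
        have h1 := (mem_normalizer_iff.mp (hy p) (f (g⁻¹ * x * g))).mp (mem_map_of_mem f hx)
        rw [← map_inv, ← map_mul, ← map_mul, show g * (g⁻¹ * x * g) * g⁻¹ = x by group] at h1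
        rw [sup_comm, show K p ⊔ N = ((K p).map f).comap f by
          rw [comap_map_eq, hf, QuotientGroup.ker_mk']]
        exact h1
      have hc : (Nat.card ↥((K p).subgroupOf (N ⊔ K p))).Coprime
          ((K p).subgroupOf (N ⊔ K p)).index := by
        rw [card_subgroupOf le_sup_right]
        refine Nat.Coprime.coprime_dvd_right (relIndex_dvd_index_of_le le_sup_right) ?_
        rw [hK p]
        exact Nat.Coprime.pow_right _ (card_coprime_of_system hK p)
      obtain ⟨x, hx⟩ := hall_conj ((K p).subgroupOf (N ⊔ K p)).card_mul_index.symm hc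
        ((K p).subgroupOf (N ⊔ K p)) ((MulAut.conj g • K p).subgroupOf (N ⊔ K p)) rfl
        (by rw [card_subgroupOf hgX, card_subgroupOf le_sup_right, card_conj_smul])
      have h1 := congrArg (Subgroup.map (N ⊔ K p).subtype) hx
      rw [map_conj_smul, map_subgroupOf_eq_of_le le_sup_right, map_subgroupOf_eq_of_le hgX,
        coe_subtype] at h1
      obtain ⟨n, hn, k, hk, he⟩ := mem_sup_of_normal_left.mp x.2
      refine ⟨n, hn, ?_⟩
      rw [← h1, ← he, map_mul, mul_smul, mem_normalizer_conj_iff.mp (le_normalizer hk)]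
    obtain ⟨m, hm, hms⟩ := exists_conj_of_systems N K _ hK hA fun p => by
      obtain ⟨j, -, hj⟩ := (Nat.dvd_prime_pow p.2).mp
        ((relIndex_normal_dvd_index N (normalizer (K p : Set G))).trans (normalizer_index_dvd hK p))
      exact ⟨j, hj⟩
    refine ⟨m⁻¹ * g, mem_systemNormalizer.mpr fun p => ?_, ?_⟩
    · rw [mem_normalizer_conj_iff, map_mul, mul_smul, ← hms p, ← mul_smul, ← map_mul,
        inv_mul_cancel, map_one, one_smul]
    · rw [map_mul, map_inv, show f m = 1 from (QuotientGroup.eq_one_iff m).mpr hm, inv_one, one_mul]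
  · refine le_iInf fun p => ?_
    exact (map_mono (iInf_le _ p)).trans (le_normalizer_map f)

theorem isNilpotent_systemNormalizer (hK : IsComplementSystem K) :
    Group.IsNilpotent (systemNormalizer K) := by
  classical
  set D := systemNormalizer K
  refine ((Group.isNilpotent_of_finite_tfae (G := D)).out 0 3 rfl rfl).mpr fun r hr S => ?_
  set p : Nat.Primes := ⟨r, hr.out⟩
  set t := (groupPrimes G).erase p
  have hi : ∀ g ∈ D, MulAut.conj g • t.inf K = t.inf K := by
    intro g hg
    induction t using Finset.induction with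
    | empty => rw [Finset.inf_empty, mem_normalizer_conj_iff.mp (le_normalizer (mem_top g))]
    | insert a t _ ih => rw [Finset.inf_insert, smul_inf, ih,
        mem_normalizer_conj_iff.mp (mem_systemNormalizer.mp hg a)]
  have hidx : (t.inf K).index = ∏ q ∈ t, (K q).index := index_finsetInf hK t
  have hnd : ¬ r ∣ (t.inf K).index := by
    rw [hidx, ← Nat.Prime.coprime_iff_not_dvd hr.out]
    exact Nat.Coprime.prod_right fun q hq => by
      rw [hK q]
      exact Nat.Coprime.pow_right _ ((Nat.coprime_primes hr.out q.2).mpr fun e =>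
        Finset.ne_of_mem_erase hq (Subtype.ext e).symm)
  have hP : IsPGroup r (t.inf K : Subgroup G) := by
    refine IsPGroup.of_card (n := (Nat.card ↥(t.inf K)).primeFactorsList.length)
      (Nat.eq_prime_pow_of_unique_prime_dvd Nat.card_pos.ne' ?_)
    intro q hq hqd
    by_contra hne
    have hmem : (⟨q, hq⟩ : Nat.Primes) ∈ t := Finset.mem_erase.mpr
      ⟨fun e => hne (congrArg Subtype.val e),
        mem_groupPrimes.mpr (hqd.trans (card_subgroup_dvd_card _))⟩
    have h1 : q ^ (Nat.card G).factorization q ∣ (t.inf K).index := by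
      rw [hidx]
      exact (hK ⟨q, hq⟩).symm.dvd.trans (Finset.dvd_prod_of_mem _ hmem)
    have h2 : q ^ ((Nat.card G).factorization q + 1) ∣ Nat.card G := by
      rw [← (t.inf K).card_mul_index, pow_succ']
      exact mul_dvd_mul hqd (by rwa [(t.inf K).card_mul_index])
    exact Nat.pow_succ_factorization_not_dvd Nat.card_pos.ne' hq h2
  have hDP : D ≤ normalizer ((t.inf K : Subgroup G) : Set G) := fun g hg =>
    mem_normalizer_conj_iff.mpr (hi g hg)
  haveI : ((t.inf K).subgroupOf D).Normal := normal_subgroupOf_of_le_normalizer hDP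
  haveI := hr
  have hpg : IsPGroup r ((t.inf K).subgroupOf D) :=
    hP.comap_of_injective D.subtype D.subtype_injective
  obtain ⟨a, ha⟩ := MulAction.exists_smul_eq D
    (hpg.toSylow fun h => hnd (h.trans (relIndex_dvd_index_of_le_normalizer D _ hDP))) S
  haveI : ((hpg.toSylow fun h => hnd (h.trans (relIndex_dvd_index_of_le_normalizer D _ hDP)) :
    Sylow r D) : Subgroup D).Normal := by rw [IsPGroup.toSylow_coe]; infer_instance
  rw [Sylow.smul_eq_of_normal] at ha
  exact ha ▸ inferInstance

theorem normalClosure_systemNormalizer [Group.IsSolvable G] (hK : IsComplementSystem K) :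
    normalClosure ((systemNormalizer K : Subgroup G) : Set G) = ⊤ := by
  set R := normalClosure ((systemNormalizer K : Subgroup G) : Set G)
  by_contra hne
  set M := R ⊔ commutator G
  have hM : M ≠ ⊤ := by
    intro h
    haveI : Nontrivial (G ⧸ R) := QuotientGroup.nontrivial_iff.mpr hne
    refine (Group.IsSolvable.commutator_lt_top_of_nontrivial (G := G ⧸ R)).ne ?_
    have hfs := QuotientGroup.mk'_surjective R
    have h1 := congrArg (Subgroup.map (QuotientGroup.mk' R)) h
    rw [Subgroup.map_sup, commutator_def, map_commutator, map_top_of_surjective _ hfs,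
      (Subgroup.map_eq_bot_iff R).mpr (QuotientGroup.ker_mk' R).symm.le, bot_sup_eq] at h1
    exact h1
  refine hM ?_
  have hD : (systemNormalizer K).map (QuotientGroup.mk' M) = ⊥ :=
    (Subgroup.map_eq_bot_iff _).mpr (by
      rw [QuotientGroup.ker_mk']; exact (le_normalClosure).trans le_sup_left)
  rw [← systemNormalizer_map hK M] at hD
  have hcomm : ∀ a b : G ⧸ M, a * b = b * a := by
    intro a b
    obtain ⟨a, rfl⟩ := QuotientGroup.mk'_surjective M a
    obtain ⟨b, rfl⟩ := QuotientGroup.mk'_surjective M b
    rw [← commutatorElement_eq_one_iff_mul_comm, ← map_commutatorElement]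
    exact (QuotientGroup.eq_one_iff _).mpr (mem_sup_right (commutator_mem_commutator (mem_top a) (mem_top b)))
  have htop : systemNormalizer (fun p => (K p).map (QuotientGroup.mk' M)) = ⊤ :=
    iInf_eq_top.mpr fun p => normalizer_eq_top_iff.mpr
      ⟨fun x hx g => by rwa [hcomm g x, mul_inv_cancel_right]⟩
  rw [htop] at hD
  rw [eq_top_iff]
  intro g _
  have : QuotientGroup.mk' M g ∈ (⊥ : Subgroup (G ⧸ M)) := hD ▸ mem_top _
  exact (QuotientGroup.eq_one_iff g).mp (mem_bot.mp this)

end Cfsg.Agent.Solv
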