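import Cfsg.Agent.Lib.Solv.ThompsonComplement
import Cfsg.Prelude.Def_PLocal

/-! Lifting normalisers modulo a normal subgroup of order prime to `p`. -/

set_option autoImplicit false

namespace Cfsg.Agent.Solv.ThompsonFactor

open Subgroup

variable {p : ℕ} {G : Type*} [Group G] [Finite G]

theorem inf_eq_bot {O P : Subgroup G} (hP : IsPGroup p P) [Fact p.Prime] (hO : (Nat.card O).Coprime p) :
    P ⊓ O = ⊥ := by
  obtain ⟨i, hi⟩ := IsPGroup.iff_card.mp hP
  exact (disjoint_of_coprime_natCard (hi ▸ (hO.pow_right i).symm)).eq_bot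

/-- Frattini argument modulo a normal subgroup of order prime to `p`. -/
theorem exists_mul_normalizer [Fact p.Prime] (O : Subgroup G) [O.Normal] (hO : (Nat.card O).Coprime p)
    {P : Subgroup G} (hP : IsPGroup p P) {n : G}
    (hn : ∀ x ∈ P, n * x * n⁻¹ ∈ O ⊔ P) :
    ∃ x ∈ O, x * n ∈ normalizer (P : Set G) := by
  classical
  set W := O ⊔ P
  have hmax : ∀ R : Subgroup G, IsPGroup p R → R ≤ W → Nat.card R ≤ Nat.card P := by
    intro R hR hRW
    have e : ∀ Q : Subgroup G, IsPGroup p Q → Nat.card (Q.map (QuotientGroup.mk' O)) = Nat.card Q := fun Q hQ => by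
      refine (Nat.card_congr (MulEquiv.ofBijective ((QuotientGroup.mk' O).subgroupMap Q) ⟨?_, MonoidHom.subgroupMap_surjective _ Q⟩).toEquiv).symm
      rw [← MonoidHom.ker_eq_bot_iff, eq_bot_iff]
      intro x hx
      have : (x : G) ∈ Q ⊓ O := ⟨x.2, (QuotientGroup.eq_one_iff _).mp (congrArg Subtype.val hx)⟩
      rw [inf_eq_bot hQ hO, mem_bot] at this
      exact mem_bot.mpr (Subtype.ext this)
    rw [← e R hR, ← e P hP]
    refine Subgroup.card_le_of_le (map_le_iff_le_comap.mpr (hRW.trans ?_))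
    rw [comap_map_eq, QuotientGroup.ker_mk', sup_comm]
  have hPW : P ≤ W := le_sup_right
  obtain ⟨R, hR⟩ := (hP.comap_subtype (K := W)).exists_le_sylow
  have hRP : (R : Subgroup W).map W.subtype = P := by
    refine (eq_of_le_of_card_ge ?_ ?_).symm
    · intro x hx
      exact ⟨⟨x, hPW hx⟩, hR hx, rfl⟩
    · exact hmax _ (R.2.map _) (map_subtype_le _)
  have hP' : IsPGroup p (P.map (MulAut.conj n).toMonoidHom) := hP.map _
  have hP'W : P.map (MulAut.conj n).toMonoidHom ≤ W := map_le_iff_le_comap.mpr hn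
  obtain ⟨R', hR'⟩ := (hP'.comap_subtype (K := W)).exists_le_sylow
  obtain ⟨w, hw⟩ := MulAction.exists_smul_eq W R R'
  have hR'P : (R' : Subgroup W).map W.subtype = P.map (MulAut.conj n).toMonoidHom := by
    refine (eq_of_le_of_card_ge ?_ ?_).symm
    · intro x hx
      exact ⟨⟨x, hP'W hx⟩, hR' hx, rfl⟩
    · exact (hmax _ (R'.2.map _) (map_subtype_le _)).trans
        (card_map_of_injective (f := (MulAut.conj n).toMonoidHom) (MulAut.conj n).injective).ge
  have hnorm : (w : G)⁻¹ * n ∈ normalizer (P : Set G) := by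
    refine mem_normalizer_fintype fun x hx => ?_
    have h1 : n * x * n⁻¹ ∈ (R' : Subgroup W).map W.subtype := by rw [hR'P]; exact ⟨x, hx, rfl⟩
    obtain ⟨y, hy, hye⟩ := h1
    rw [← hw] at hy
    obtain ⟨z, hz, rfl⟩ := hy
    have h2 : (z : G) ∈ P := hRP ▸ ⟨z, hz, rfl⟩
    have h3 : (w : G)⁻¹ * n * x * ((w : G)⁻¹ * n)⁻¹ = z := by
      have : (w : G) * z * (w : G)⁻¹ = n * x * n⁻¹ := hye
      calc (w : G)⁻¹ * n * x * ((w : G)⁻¹ * n)⁻¹ = (w : G)⁻¹ * (n * x * n⁻¹) * w := by group
        _ = (w : G)⁻¹ * ((w : G) * z * (w : G)⁻¹) * w := by rw [this]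
        _ = z := by group
    rw [h3]
    exact h2
  obtain ⟨o, ho, q, hq, hoq⟩ := (mem_sup_of_normal_left).mp w.2
  refine ⟨o⁻¹, inv_mem ho, ?_⟩
  rw [show o⁻¹ * n = q * ((w : G)⁻¹ * n) by rw [← hoq]; group]
  exact mul_mem (le_normalizer hq) hnorm

omit [Finite G] in
theorem omegaOne_map {G' : Type*} [Group G'] (f : G →* G') (H : Subgroup G) (h : H ⊓ f.ker = ⊥) :
    (omegaOne p H).map f = omegaOne p (H.map f) := by
  rw [omegaOne, omegaOne, MonoidHom.map_closure]
  congr 1
  ext y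
  constructor
  · rintro ⟨x, ⟨hx, hxp⟩, rfl⟩
    exact ⟨mem_map_of_mem _ hx, by rw [← map_pow, hxp, map_one]⟩
  · rintro ⟨⟨x, hx, rfl⟩, hxp⟩
    refine ⟨x, ⟨hx, ?_⟩, rfl⟩
    have : x ^ p ∈ H ⊓ f.ker := ⟨pow_mem hx p, by show f (x ^ p) = 1; rw [map_pow]; exact hxp⟩
    rwa [h, mem_bot] at this

omit [Finite G] in
theorem omegaOne_le (H : Subgroup G) : omegaOne p H ≤ H :=
  (closure_le _).mpr fun _ hx => hx.1

theorem max_conj {A : Subgroup G} (hA : A ∈ maxElementaryAbelianSubgroups p G) (g : G) :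
    A.map (MulAut.conj g).toMonoidHom ∈ maxElementaryAbelianSubgroups p G :=
  map_mem_maxElemAbelian (MulAut.conj g) hA

omit [Finite G] in
theorem exists_sylow [Fact p.Prime] {A : Subgroup G} (hA : IsElementaryAbelian p A) : ∃ S : Sylow p G, A ≤ S :=
  IsPGroup.exists_le_sylow fun a => ⟨1, Subtype.ext (by simpa using hA.2 a a.2)⟩

theorem exists_max_le_sylow [Fact p.Prime] (S : Sylow p G) :
    ∃ A ∈ maxElementaryAbelianSubgroups p G, A ≤ S := by
  obtain ⟨A, hA⟩ := exists_maxElemAbelian (G := G) p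
  obtain ⟨T, hT⟩ := exists_sylow hA.1
  obtain ⟨g, hg⟩ := MulAction.exists_smul_eq G T S
  refine ⟨_, max_conj hA g, ?_⟩
  rw [← hg]
  exact map_mono hT

theorem iff_of_core [Fact p.Prime] (hO : pPrimeCore p G = ⊥) :
    IsThompsonFactorizable p G ↔ thompsonSubgroup p G ≤
      centralizer ((⨆ S : Sylow p G, omegaOne p ((S : Subgroup G) ⊓ centralizer ((S : Subgroup G) : Set G)) : Subgroup G) : Set G) := by
  constructor
  · intro hf
    refine le_centralizer_iff.mp (iSup_le fun T => le_centralizer_iff.mp (sSup_le fun A hA => ?_))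
    obtain ⟨S, hS⟩ := exists_sylow hA.1
    obtain ⟨g, rfl⟩ := MulAction.exists_smul_eq G S T
    obtain ⟨x, hx, c, hc, n, hn, hxg⟩ := hf S g⁻¹
    rw [hO, mem_bot] at hx
    subst hx
    rw [one_mul] at hxg
    have hg : g = n⁻¹ * c⁻¹ := by rw [← mul_inv_rev, ← hxg, inv_inv]
    intro a ha
    rw [mem_centralizer_iff]
    intro z hz
    -- pull `a` and `z` back to the fixed Sylow subgroup
    have hJ : a ∈ thompsonSubgroupOf p (S : Subgroup G) := le_thompsonOf hA hS ha
    have ha' : n * a * n⁻¹ ∈ thompsonSubgroupOf p (S : Subgroup G) := (mem_normalizer_iff.mp hn a).mp hJ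
    have hz' : g⁻¹ * z * g ∈ omegaOne p ((S : Subgroup G) ⊓ centralizer ((S : Subgroup G) : Set G)) := by
      have hle : omegaOne p (((g • S : Sylow p G) : Subgroup G) ⊓ centralizer (((g • S : Sylow p G) : Subgroup G) : Set G)) ≤
          (omegaOne p ((S : Subgroup G) ⊓ centralizer ((S : Subgroup G) : Set G))).map (MulAut.conj g).toMonoidHom := by
        have e0 : (S : Subgroup G) ⊓ (MulAut.conj g).toMonoidHom.ker = ⊥ := by
          rw [(MonoidHom.ker_eq_bot_iff _).mpr (MulAut.conj g).injective, inf_bot_eq]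
        rw [omegaOne_map _ _ (eq_bot_iff.mpr ((inf_le_inf_right _ inf_le_left).trans e0.le)), center_map _ _ e0]
        exact le_of_eq rfl
      obtain ⟨w, hw, hwz⟩ := hle hz
      rw [show g⁻¹ * z * g = w by rw [← hwz]; simp [mul_assoc]]
      exact hw
    have hzc : n * z * n⁻¹ = g⁻¹ * z * g := by
      have h1 := mem_centralizer_iff.mp hc _ hz'
      calc n * z * n⁻¹ = c⁻¹ * ((g⁻¹ * z * g) * c) := by rw [hg]; group
        _ = c⁻¹ * (c * (g⁻¹ * z * g)) := by rw [h1]
        _ = g⁻¹ * z * g := by group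
    have hS' : thompsonSubgroupOf p (S : Subgroup G) ≤ S := map_subtype_le _
    have key : n * a * n⁻¹ * (n * z * n⁻¹) = (n * z * n⁻¹) * (n * a * n⁻¹) := by
      rw [hzc]
      exact mem_centralizer_iff.mp (omegaOne_le _ hz').2 _ (hS' ha')
    calc z * a = n⁻¹ * ((n * z * n⁻¹) * (n * a * n⁻¹)) * n := by group
      _ = n⁻¹ * (n * a * n⁻¹ * (n * z * n⁻¹)) * n := by rw [key]
      _ = a * z := by group
  · intro hJ S g
    set V : Subgroup G := ⨆ S : Sylow p G, omegaOne p ((S : Subgroup G) ⊓ centralizer ((S : Subgroup G) : Set G))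
    -- the centraliser of the Thompson subgroup's complement
    set N := (centralizer (V : Set G)).normalCore with hN
    have hJN : thompsonSubgroup p G ≤ N := by
      have := thompson_characteristic (p := p) (G := G)
      exact normal_le_normalCore.mpr hJ
    have hcop : ∀ Q : Sylow p N, ∃ n ∈ N, ∀ x ∈ (Q : Subgroup N).map N.subtype,
        (n⁻¹ * g) * x * (n⁻¹ * g)⁻¹ ∈ (Q : Subgroup N).map N.subtype := by
      intro Q
      have htop := Sylow.normalizer_sup_eq_top Q
      have hg : g ∈ N ⊔ normalizer (((Q : Subgroup N).map N.subtype : Subgroup G) : Set G) := by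
        rw [sup_comm, htop]; exact mem_top g
      obtain ⟨n, hn, m, hm, rfl⟩ := mem_sup_of_normal_left.mp hg
      exact ⟨n, hn, fun x hx => by rw [inv_mul_cancel_left]; exact (mem_normalizer_iff.mp hm x).mp hx⟩
    obtain ⟨Q, hQ⟩ := (S.2.comap_subtype (K := N)).exists_le_sylow
    have hsub : (S : Subgroup G) ⊓ N ≤ (Q : Subgroup N).map N.subtype := fun x hx =>
      ⟨⟨x, hx.2⟩, hQ (show (⟨x, hx.2⟩ : N) ∈ (S : Subgroup G).comap N.subtype from hx.1), rfl⟩
    have hQS : (Q : Subgroup N).map N.subtype = (S : Subgroup G) ⊓ N := by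
      obtain ⟨T, hT⟩ := (Q.2.map N.subtype).exists_le_sylow
      obtain ⟨h, hh⟩ := MulAction.exists_smul_eq G T S
      have h1 : ((Q : Subgroup N).map N.subtype).map (MulAut.conj h).toMonoidHom ≤ (S : Subgroup G) ⊓ N := by
        refine le_inf (hh ▸ map_mono hT) ?_
        rw [map_le_iff_le_comap]
        intro x hx
        exact (inferInstance : N.Normal).conj_mem x (map_subtype_le _ hx) h
      have h2 : Nat.card (((Q : Subgroup N).map N.subtype).map (MulAut.conj h).toMonoidHom : Subgroup G) =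
          Nat.card ((Q : Subgroup N).map N.subtype) :=
        card_map_of_injective (f := (MulAut.conj h).toMonoidHom) (MulAut.conj h).injective
      exact (eq_of_le_of_card_ge hsub (h2 ▸ card_le_of_le h1)).symm
    obtain ⟨n, hn, hnQ⟩ := hcop Q
    refine ⟨1, one_mem _, n, ?_, n⁻¹ * g, ?_, by group⟩
    · exact centralizer_le (SetLike.coe_subset_coe.mpr (le_iSup_of_le S le_rfl)) (normalCore_le _ hn)
    · obtain ⟨A₀, hA₀, hA₀S⟩ := exists_max_le_sylow S
      have hle : thompsonSubgroupOf p (S : Subgroup G) ≤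
          (thompsonSubgroupOf p (S : Subgroup G)).comap (MulAut.conj (n⁻¹ * g)).toMonoidHom := by
        conv_lhs => rw [thompsonSubgroupOf]
        rw [map_le_iff_le_comap]
        refine sSup_le fun B hB => map_le_iff_le_comap.mp (map_le_iff_le_comap.mp ?_)
        have hBG := map_maxElemAbelian hA₀ hA₀S hB
        have hBN : B.map (S : Subgroup G).subtype ≤ (S : Subgroup G) ⊓ N :=
          le_inf (map_subtype_le _) ((le_thompson hBG).trans hJN)
        refine le_thompsonOf (max_conj hBG _) ?_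
        rw [map_le_iff_le_comap]
        intro x hx
        have := hnQ x (hQS ▸ hBN hx)
        rw [hQS] at this
        exact this.1
      exact mem_normalizer_fintype fun x hx => hle hx

theorem iff_quotient [Fact p.Prime] :
    IsThompsonFactorizable p G ↔ IsThompsonFactorizable p (G ⧸ pPrimeCore p G) := by
  set O := pPrimeCore p G
  set f := QuotientGroup.mk' O
  have hsurj : Function.Surjective f := QuotientGroup.mk'_surjective _
  have hcop := card_pPrimeCore_coprime p G
  have hk : ∀ S : Sylow p G, (S : Subgroup G) ⊓ f.ker = ⊥ := fun S => by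
    rw [QuotientGroup.ker_mk']; exact inf_eq_bot S.2 hcop
  have hZ : ∀ S : Sylow p G,
      (omegaOne p ((S : Subgroup G) ⊓ centralizer ((S : Subgroup G) : Set G))).map f =
        omegaOne p ((S : Subgroup G).map f ⊓ centralizer (((S : Subgroup G).map f : Subgroup _) : Set (G ⧸ O))) := by
    intro S
    rw [omegaOne_map f _ (eq_bot_iff.mpr ((inf_le_inf_right _ inf_le_left).trans (hk S).le)), center_map f _ (hk S)]
  have hJ : ∀ S : Sylow p G,
      (thompsonSubgroupOf p (S : Subgroup G)).map f = thompsonSubgroupOf p ((S : Subgroup G).map f) :=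
    fun S => thompsonOf_map f _ (hk S)
  constructor
  · intro hf T u
    obtain ⟨S, rfl⟩ := Sylow.mapSurjective_surjective hsurj p T
    obtain ⟨g, rfl⟩ := hsurj u
    obtain ⟨x, hx, c, hc, n, hn, rfl⟩ := hf S g
    refine ⟨1, one_mem _, f c, ?_, f n, ?_, ?_⟩
    · rw [Sylow.coe_mapSurjective, ← hZ S, mem_centralizer_iff]
      rintro _ ⟨z, hz, rfl⟩
      rw [← map_mul, ← map_mul, mem_centralizer_iff.mp hc z hz]
    · rw [Sylow.coe_mapSurjective, ← hJ S]
      exact le_normalizer_map f ⟨n, hn, rfl⟩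
    · rw [map_mul, map_mul, show f x = 1 from (QuotientGroup.eq_one_iff x).mpr hx]
  · intro hf S g
    obtain ⟨x, hx, c', hc', n', hn', hg⟩ := hf (S.mapSurjective hsurj) (f g)
    rw [pPrimeCore_quotient_pPrimeCore, mem_bot] at hx
    subst hx
    obtain ⟨c, rfl⟩ := hsurj c'
    obtain ⟨n, rfl⟩ := hsurj n'
    rw [Sylow.coe_mapSurjective, ← hZ S] at hc'
    rw [Sylow.coe_mapSurjective, ← hJ S] at hn'
    set Z := omegaOne p ((S : Subgroup G) ⊓ centralizer ((S : Subgroup G) : Set G))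
    set J := thompsonSubgroupOf p (S : Subgroup G)
    have hZS : Z ≤ (S : Subgroup G) := (omegaOne_le _).trans inf_le_left
    have hcomap : ∀ P : Subgroup G, ∀ y : G, f y ∈ P.map f → y ∈ O ⊔ P := fun P y hy => by
      have : y ∈ (P.map f).comap f := hy
      rwa [comap_map_eq, QuotientGroup.ker_mk', sup_comm] at this
    obtain ⟨x₁, hx₁, hc₁⟩ := exists_mul_normalizer O hcop (S.2.to_le hZS) (n := c) fun z hz => hcomap _ _ (by
      rw [map_mul, map_mul, map_inv, ← mem_centralizer_iff.mp hc' (f z) ⟨z, hz, rfl⟩, mul_inv_cancel_right]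
      exact ⟨z, hz, rfl⟩)
    obtain ⟨x₂, hx₂, hn₂⟩ := exists_mul_normalizer O hcop (S.2.to_le (map_subtype_le _)) (P := J) (n := n) fun z hz =>
      hcomap _ _ (by
        rw [map_mul, map_mul, map_inv]
        exact (mem_normalizer_iff.mp hn' (f z)).mp ⟨z, hz, rfl⟩)
    have hfx : ∀ y ∈ O, f y = 1 := fun y hy => (QuotientGroup.eq_one_iff y).mpr hy
    have hc₂ : x₁ * c ∈ centralizer (Z : Set G) := by
      rw [mem_centralizer_iff]
      intro z hz
      have h1 : (x₁ * c) * z * (x₁ * c)⁻¹ * z⁻¹ ∈ Z ⊓ O := by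
        refine ⟨mul_mem ((mem_normalizer_iff.mp hc₁ z).mp hz) (Z.inv_mem hz), (QuotientGroup.eq_one_iff _).mp ?_⟩
        show f _ = 1
        rw [map_mul, map_mul, map_mul, map_inv, map_inv, map_mul, hfx x₁ hx₁, one_mul,
          ← mem_centralizer_iff.mp hc' (f z) ⟨z, hz, rfl⟩, mul_inv_cancel_right, mul_inv_cancel]
      rw [inf_eq_bot (S.2.to_le hZS) hcop, mem_bot] at h1
      exact (mul_inv_eq_iff_eq_mul.mp (mul_inv_eq_one.mp h1)).symm
    refine ⟨g * (x₁ * c * (x₂ * n))⁻¹, (QuotientGroup.eq_one_iff _).mp ?_, x₁ * c, hc₂, x₂ * n, hn₂, by group⟩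
    show f _ = 1
    rw [map_mul, map_inv, map_mul, map_mul, map_mul, hfx x₁ hx₁, hfx x₂ hx₂, one_mul, one_mul, hg]
    group

end Cfsg.Agent.Solv.ThompsonFactor
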