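import Cfsg.Prelude.Def_FischerSpaces
import Cfsg.Agent.Lib.Inv.ZStar
import Cfsg.Agent.Lib.Inv.BaerSuzuki
import Cfsg.Agent.Lib.Solv.Basic
import Cfsg.Agent.S0215

/-!
Groups generated by 3-transpositions: braid facts, the groups of width one, the classes
of equal commuting sets and their radicals.
-/

set_option autoImplicit false
set_option linter.style.haveILetI false
set_option linter.unusedSectionVars false

namespace Cfsg.Agent.Solv.ThreeTrans

open Subgroup
open scoped Pointwise commutatorElement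

variable {G : Type*} [Group G] {D : Set G}

/-- A conjugation closed set of 3-transpositions. -/
structure TT (D : Set G) : Prop where
  set : IsThreeTranspositionSet D
  conj : ∀ g : G, ∀ d ∈ D, g * d * g⁻¹ ∈ D

theorem TT.of_group (h : IsThreeTranspositionGroup D) : TT D := ⟨h.1, h.2.1⟩

theorem class_conj (h : IsThreeTranspositionClass D) {a b : G} (ha : a ∈ D) (hb : b ∈ D) :
    ∃ g : G, g * a * g⁻¹ = b := by
  obtain ⟨-, ⟨d, -, rfl⟩, -⟩ := h
  exact isConj_iff.mp (IsConj.trans (IsConj.symm (ha : IsConj d a)) (hb : IsConj d b))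

theorem TT.of_class (h : IsThreeTranspositionClass D) : TT D := by
  refine ⟨h.1, fun g a ha => ?_⟩
  obtain ⟨-, ⟨d, -, rfl⟩, -⟩ := h
  exact (show IsConj d a from ha).trans (isConj_iff.mpr ⟨g, rfl⟩)

section Basic

variable (h : TT D) {a b c : G} (ha : a ∈ D) (hb : b ∈ D)
include h ha

theorem TT.order_two : orderOf a = 2 := h.set.1 a ha

theorem TT.mul_self : a * a = 1 := by
  have := pow_orderOf_eq_one a
  rwa [h.order_two ha, pow_two] at this

theorem TT.inv_eq : a⁻¹ = a := inv_eq_of_mul_eq_one_right (h.mul_self ha)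

include hb

theorem TT.commute_iff : Commute a b ↔ (a * b) * (a * b) = 1 := by
  constructor
  · intro e
    rw [mul_assoc a b, ← mul_assoc b a, ← e.eq, mul_assoc a b b, h.mul_self hb, mul_one, h.mul_self ha]
  · intro e
    have := inv_eq_of_mul_eq_one_right e
    rw [mul_inv_rev, h.inv_eq ha, h.inv_eq hb] at this
    exact this.symm

theorem TT.cube (hn : ¬ Commute a b) : a * b * (a * b) * (a * b) = 1 := by
  rcases h.set.2 a ha b hb with e | e
  · exact absurd ((h.commute_iff ha hb).mpr (by rwa [pow_two] at e)) hn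
  · rwa [pow_succ, pow_two] at e

theorem TT.braid (hn : ¬ Commute a b) : a * b * a = b * a * b := by
  have e := h.cube ha hb hn
  calc a * b * a = (a * b * (a * b) * (a * b)) * (b⁻¹ * a⁻¹ * b⁻¹) := by group
    _ = b * a * b := by rw [e, one_mul, h.inv_eq ha, h.inv_eq hb]

theorem TT.ne_of_not_commute (hn : ¬ Commute a b) : a ≠ b := fun e => hn (e ▸ Commute.refl a)

theorem TT.conj_self : a * b * a ∈ D := by
  have := h.conj a b hb
  rwa [h.inv_eq ha] at this

theorem TT.conj_product (hn : ¬ Commute a b) : (a * b) * a * (a * b)⁻¹ = b := by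
  have e := h.braid ha hb hn
  calc a * b * a * (a * b)⁻¹ = b * a * b * (a * b)⁻¹ := by rw [e]
    _ = b := by group

theorem TT.orderOf_mul_of_commute (he : Commute a b) (hne : a ≠ b) : orderOf (a * b) = 2 := by
  refine orderOf_eq_prime (by rw [pow_two]; exact (h.commute_iff ha hb).mp he) fun e => hne ?_
  rw [mul_eq_one_iff_eq_inv.mp e, h.inv_eq hb]

theorem TT.orderOf_mul_of_not_commute (hn : ¬ Commute a b) : orderOf (a * b) = 3 := by
  haveI : Fact (Nat.Prime 3) := ⟨Nat.prime_three⟩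
  refine orderOf_eq_prime (by rw [pow_succ, pow_two]; exact h.cube ha hb hn) fun e => h.ne_of_not_commute ha hb hn ?_
  rw [mul_eq_one_iff_eq_inv.mp e, h.inv_eq hb]

/-- Congruence of noncommuting behaviour modulo a normal subgroup. -/
theorem TT.mem_of_congr (N : Subgroup G) [N.Normal] (hc : c ∈ D) (hac : a * c ∈ N) (hab : Commute a b)
    (hcb : ¬ Commute c b) : a * b ∈ N := by
  rw [← QuotientGroup.eq_one_iff (N := N)] at hac ⊢
  have hA : (a : G ⧸ N) * a = 1 := by rw [← QuotientGroup.mk_mul, h.mul_self ha, QuotientGroup.mk_one]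
  have hca : (c : G ⧸ N) = a := by
    rw [QuotientGroup.mk_mul] at hac
    exact mul_left_cancel (hac.trans hA.symm)
  have h3 := congrArg (fun t : G => (t : G ⧸ N)) (h.cube hc hb hcb)
  have h2 := congrArg (fun t : G => (t : G ⧸ N)) ((h.commute_iff ha hb).mp hab)
  simp only [QuotientGroup.mk_mul, QuotientGroup.mk_one, hca] at h3 h2 ⊢
  rwa [h2, one_mul] at h3

theorem TT.commute_of_mem {N : Subgroup G} (hN : IsPGroup 2 N) (hab : a * b ∈ N) : Commute a b := by
  by_contra hn
  obtain ⟨k, hk⟩ := hN ⟨_, hab⟩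
  have h2 : (a * b) ^ (2 ^ k) = 1 := congrArg Subtype.val hk
  have h3 := h.orderOf_mul_of_not_commute ha hb hn
  have hd := orderOf_dvd_of_pow_eq_one h2
  rw [h3] at hd
  exact absurd (Nat.prime_three.dvd_of_dvd_pow hd) (by decide)

theorem TT.not_commute_of_mem {N : Subgroup G} (hN : IsPGroup 3 N) (hab : a * b ∈ N) (hne : a ≠ b) :
    ¬ Commute a b := by
  intro he
  obtain ⟨k, hk⟩ := hN ⟨_, hab⟩
  have h2 : (a * b) ^ (3 ^ k) = 1 := congrArg Subtype.val hk
  have hd := orderOf_dvd_of_pow_eq_one h2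
  rw [h.orderOf_mul_of_commute ha hb he hne] at hd
  exact absurd (Nat.prime_two.dvd_of_dvd_pow hd) (by decide)

end Basic

theorem TT.centralizes_pgroup (h : TT D) {p : ℕ} (hp : p.Prime) (hp3 : 3 < p) (P : Subgroup G)
    (hP : IsPGroup p P) {d : G} (hd : d ∈ D) (hn : d ∈ normalizer (P : Set G)) : ∀ x ∈ P, Commute d x := by
  intro x hx
  have hd' : x * d * x⁻¹ ∈ D := h.conj x d hd
  have hm : d * (x * d * x⁻¹) ∈ P := by
    rw [show d * (x * d * x⁻¹) = (d * x * d⁻¹) * (d * d) * x⁻¹ by group, h.mul_self hd, mul_one]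
    exact P.mul_mem ((mem_normalizer_iff.mp hn x).mp hx) (P.inv_mem hx)
  obtain ⟨k, hk⟩ := hP ⟨_, hm⟩
  have h2 : (d * (x * d * x⁻¹)) ^ (p ^ k) = 1 := congrArg Subtype.val hk
  have hd2 := orderOf_dvd_of_pow_eq_one h2
  have key : orderOf (d * (x * d * x⁻¹)) = 1 := by
    have h6 : orderOf (d * (x * d * x⁻¹)) ∣ 6 := by
      rcases h.set.2 d hd _ hd' with e | e
      · exact (orderOf_dvd_of_pow_eq_one e).trans (by norm_num)
      · exact (orderOf_dvd_of_pow_eq_one e).trans (by norm_num)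
    refine Nat.eq_one_of_dvd_coprimes (Nat.Coprime.pow_right k ?_) h6 hd2
    rw [Nat.coprime_comm, hp.coprime_iff_not_dvd]
    intro hd6
    rcases Nat.lt_or_ge 6 p with hlt | hge
    · exact absurd (Nat.le_of_dvd (by norm_num) hd6) (by omega)
    · interval_cases p <;> revert hp hd6 <;> decide
  rw [orderOf_eq_one_iff, mul_eq_one_iff_eq_inv] at key
  rw [h.inv_eq hd'] at key
  exact mul_inv_eq_iff_eq_mul.mp key.symm |> fun e => e.symm

theorem orbit_card (H : Subgroup G) (a : G) :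
    Nat.card {x : G // ∃ g ∈ H, g * a * g⁻¹ = x} = (centralizer ({a} : Set G)).relIndex H := by
  rw [relIndex, index]
  symm
  refine Nat.card_congr (Equiv.ofBijective (Quotient.lift (fun g : H => (⟨(g : G) * a * (g : G)⁻¹, g, g.2, rfl⟩ :
    {x : G // ∃ g ∈ H, g * a * g⁻¹ = x})) fun u v huv => Subtype.ext ?_) ⟨fun u v e => ?_, fun x => ?_⟩)
  · replace huv := QuotientGroup.leftRel_apply.mp huv
    rw [mem_subgroupOf, mem_centralizer_singleton_iff] at huv
    simp only [Subgroup.coe_mul, Subgroup.coe_inv] at huv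
    calc (u : G) * a * (u : G)⁻¹ = (u : G) * (a * ((u : G)⁻¹ * v)) * (v : G)⁻¹ := by group
      _ = (v : G) * a * (v : G)⁻¹ := by rw [← huv]; group
  · induction u using Quotient.inductionOn with
    | _ u =>
      induction v using Quotient.inductionOn with
      | _ v =>
        refine Quotient.sound (QuotientGroup.leftRel_apply.mpr ?_)
        have e' : (u : G) * a * (u : G)⁻¹ = (v : G) * a * (v : G)⁻¹ := congrArg Subtype.val e
        rw [mem_subgroupOf, mem_centralizer_singleton_iff, Subgroup.coe_mul, Subgroup.coe_inv]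
        calc (u : G)⁻¹ * v * a = (u : G)⁻¹ * ((v : G) * a * (v : G)⁻¹) * v := by group
          _ = a * ((u : G)⁻¹ * v) := by rw [← e']; group
  · obtain ⟨x, g, hg, rfl⟩ := x
    exact ⟨Quotient.mk _ ⟨g, hg⟩, rfl⟩

theorem cj' {k u v : G} : k * (u * v) * k⁻¹ = (k * u * k⁻¹) * (k * v * k⁻¹) := by group

variable [Finite G]

/-- The groups of width one. -/
theorem TT.width_one (h : TT D) (hgen : closure D = ⊤)
    (hw : ∀ u ∈ D, ∀ v ∈ D, u ≠ v → ¬ Commute u v) {a b : G} (ha : a ∈ D) (hb : b ∈ D) :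
    a * b ∈ pCore 3 G := by
  classical
  haveI : Fact (Nat.Prime 2) := ⟨Nat.prime_two⟩
  haveI : Fact (Nat.Prime 3) := ⟨Nat.prime_three⟩
  set O := oddCore G
  have hOodd : Odd (Nat.card O) := Local.oddCore_card_odd
  have hiso : ∀ u ∈ D, IsIsolatedInvolution u := fun u hu => ⟨h.order_two hu, fun g hc => by
    by_contra hne
    exact hw u hu _ (h.conj g u hu) (Ne.symm hne) hc⟩
  have hprod : ∀ u ∈ D, ∀ v ∈ D, u * v ∈ O := by
    intro u hu v hv
    by_cases e : u = v
    · subst e; rw [h.mul_self hu]; exact one_mem _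
    · have hg := Inv.glauberman (hiso u hu) (u * v)
      rwa [show u * (u * v) * u⁻¹ * (u * v)⁻¹ = u * ((u * v) * u⁻¹ * (u * v)⁻¹) by group, h.inv_eq hu,
        h.conj_product hu hv (hw u hu v hv e)] at hg
  have horb : ∀ u ∈ D, ∀ v ∈ D, ∃ x ∈ O, x * u * x⁻¹ = v := by
    intro u hu v hv
    by_cases e : u = v
    · exact ⟨1, one_mem _, by rw [e, one_mul, inv_one, mul_one]⟩
    · exact ⟨u * v, hprod u hu v hv, h.conj_product hu hv (hw u hu v hv e)⟩
  have haO : a ∉ O := fun hc => by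
    have : Odd (orderOf a) := hOodd.of_dvd_nat (by rw [← Subgroup.orderOf_mk a hc]; exact orderOf_dvd_natCard _)
    rw [h.order_two ha] at this
    exact absurd this (by decide)
  have hcos : ∀ g : G, g ∈ O ∨ g * a ∈ O := by
    intro g
    have hg : g ∈ closure D := hgen ▸ mem_top g
    induction hg using closure_induction with
    | mem u hu => exact Or.inr (hprod u hu a ha)
    | one => exact Or.inl (one_mem _)
    | mul u v _ _ iu iv =>
      rcases iu with iu | iu <;> rcases iv with iv | iv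
      · exact Or.inl (mul_mem iu iv)
      · exact Or.inr (by rw [mul_assoc]; exact mul_mem iu iv)
      · refine Or.inr ?_
        rw [show u * v * a = (u * a) * (a⁻¹ * v * a) by group]
        exact mul_mem iu ((inferInstance : O.Normal).conj_mem' v iv a)
      · refine Or.inl ?_
        have e : u * v = (u * a) * (a⁻¹ * (v * a) * a) * (a * a)⁻¹ := by group
        rw [e, h.mul_self ha, inv_one, mul_one]
        exact mul_mem iu ((inferInstance : O.Normal).conj_mem' _ iv a)
    | inv u _ iu =>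
      rcases iu with iu | iu
      · exact Or.inl (inv_mem iu)
      · refine Or.inr ?_
        rw [show u⁻¹ * a = a * (u * a)⁻¹ * a⁻¹ * (a * a) by group, h.mul_self ha, mul_one]
        exact (inferInstance : O.Normal).conj_mem _ (inv_mem iu) a
  -- every subgroup supplementing `O` contains a transposition
  have htrans : ∀ N : Subgroup G, N ⊔ O = ⊤ → ∃ t ∈ D, t ∈ N := by
    intro N hN
    obtain ⟨n, hn, o, ho, he⟩ := Subgroup.mem_sup_of_normal_right.mp (hN ▸ mem_top a)
    have hnO : n ∉ O := fun hc => haO (he ▸ mul_mem hc ho)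
    obtain ⟨m, hm⟩ := hOodd
    set t := n ^ Nat.card O
    have htO : t ∉ O := by
      intro hc
      apply hnO
      have h2 : n * n ∈ O := by
        rcases hcos n with e | e
        · exact mul_mem e e
        · rw [show n * n = (n * a) * (a⁻¹ * (n * a) * a) * (a * a)⁻¹ by group, h.mul_self ha, inv_one, mul_one]
          exact mul_mem e ((inferInstance : O.Normal).conj_mem' _ e a)
      have h3 : (n * n) ^ m * n ∈ O := by
        rw [← pow_two, ← pow_mul, ← pow_succ, ← hm]; exact hc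
      exact (Subgroup.mul_mem_cancel_left O (pow_mem h2 m)).mp h3
    have hindex : Nat.card G ∣ Nat.card O * 2 := by
      have hle : Nat.card (G ⧸ O) ≤ 2 := by
        have hsurj : Function.Surjective (fun i : Fin 2 => ((a ^ (i : ℕ) : G) : G ⧸ O)) := by
          intro q
          induction q using QuotientGroup.induction_on with
          | H g =>
            rcases hcos g with e | e
            · exact ⟨0, QuotientGroup.eq.mpr (by simpa using e)⟩
            · refine ⟨1, QuotientGroup.eq.mpr ?_⟩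
              show (a ^ 1)⁻¹ * g ∈ O
              rw [pow_one, show a⁻¹ * g = a⁻¹ * (g * a) * a * (a * a)⁻¹ by group, h.mul_self ha, inv_one, mul_one]
              exact (inferInstance : O.Normal).conj_mem' _ e a
        simpa using Nat.card_le_card_of_surjective _ hsurj
      rw [Subgroup.card_eq_card_quotient_mul_card_subgroup O, mul_comm]
      refine mul_dvd_mul_left _ ?_
      rcases Nat.le_one_iff_eq_zero_or_eq_one.mp (le_refl 1) with _ | _
      all_goals
        have := Nat.card_pos (α := G ⧸ O)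
        interval_cases Nat.card (G ⧸ O) <;> norm_num
    have ht2 : t * t = 1 := by
      rw [← pow_two, ← pow_mul]
      exact orderOf_dvd_iff_pow_eq_one.mp ((orderOf_dvd_natCard n).trans hindex)
    have htord : orderOf t = 2 := orderOf_eq_prime (by rw [pow_two, ht2]) fun e => htO (e ▸ one_mem _)
    have hsyl : ∀ s : G, orderOf s = 2 → ∀ S : Sylow 2 G, s ∈ S → (S : Subgroup G) = zpowers s := by
      intro s hs S hsS
      refine (Subgroup.eq_of_le_of_card_ge (zpowers_le.mpr hsS) ?_).symm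
      rw [Nat.card_zpowers, hs]
      obtain ⟨i, hi⟩ := IsPGroup.iff_card.mp S.isPGroup'
      have hd : 2 ^ i ∣ Nat.card O * 2 := by rw [← hi]; exact (Subgroup.card_subgroup_dvd_card _).trans hindex
      have : 2 ^ i ∣ 2 := Nat.Coprime.dvd_of_dvd_mul_left ((Odd.coprime_two_left ⟨m, hm⟩).pow_left i) hd
      rw [hi]; exact Nat.le_of_dvd (by norm_num) this
    have hp : ∀ s : G, orderOf s = 2 → ∃ S : Sylow 2 G, s ∈ S := fun s hs => by
      obtain ⟨S, hS⟩ := IsPGroup.exists_le_sylow (P := zpowers s)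
        (IsPGroup.of_card (p := 2) (n := 1) (by rw [Nat.card_zpowers, hs, pow_one]))
      exact ⟨S, hS (mem_zpowers s)⟩
    obtain ⟨S, hS⟩ := hp t htord
    obtain ⟨T, hT⟩ := hp a (h.order_two ha)
    obtain ⟨g, hg⟩ := MulAction.exists_smul_eq G T S
    have hmem : g * a * g⁻¹ ∈ zpowers t := by
      rw [← hsyl t htord S hS, ← hg]
      exact ⟨a, hT, rfl⟩
    obtain ⟨i, hi⟩ := mem_powers_iff_mem_zpowers.mpr hmem
    simp only at hi
    rw [← pow_mod_orderOf, htord] at hi
    rcases Nat.mod_two_eq_zero_or_one i with e | e <;> rw [e] at hi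
    · exfalso
      rw [pow_zero, eq_comm, conj_eq_one_iff] at hi
      exact absurd (h.order_two ha) (by rw [hi, orderOf_one]; norm_num)
    · rw [pow_one] at hi
      exact ⟨t, hi ▸ h.conj g a ha, N.pow_mem hn _⟩
  -- Sylow subgroups of `O` are normalized by transpositions
  have hfr : ∀ p : ℕ, p.Prime → ∀ P : Sylow p O, ∃ t ∈ D, t ∈ normalizer (((P : Subgroup O).map O.subtype : Subgroup G) : Set G) := by
    intro p hp P
    haveI : Fact p.Prime := ⟨hp⟩
    exact htrans _ (Sylow.normalizer_sup_eq_top P)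
  obtain ⟨P0⟩ := Sylow.nonempty (p := 3) (G := O)
  obtain ⟨c, hcD, hcN⟩ := hfr 3 Nat.prime_three P0
  set P := (P0 : Subgroup O).map O.subtype
  have hPp : IsPGroup 3 P := P0.isPGroup'.map _
  have hPO : P ≤ O := map_subtype_le _
  set C := O ⊓ centralizer ({c} : Set G)
  set m := (centralizer ({c} : Set G)).relIndex O
  have hm0 : m ≠ 0 := by
    have : Finite (O ⧸ (centralizer ({c} : Set G)).subgroupOf O) := inferInstance
    exact index_ne_zero_of_finite
  have hmO : Nat.card C * m = Nat.card O := by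
    have := ((centralizer ({c} : Set G)).subgroupOf O).card_mul_index
    rwa [Nat.card_congr (Subgroup.subgroupOfEquivOfLe (inf_le_left : C ≤ O)).toEquiv.symm,
      show C.subgroupOf O = (centralizer ({c} : Set G)).subgroupOf O by ext; simp [C, mem_subgroupOf]]
  have hm3 : ∀ q : ℕ, q.Prime → q ∣ m → q = 3 := by
    intro q hq hqd
    haveI : Fact q.Prime := ⟨hq⟩
    by_contra hne
    have hqO : q ∣ Nat.card O := hqd.trans (Dvd.intro_left _ hmO)
    have hq2 : q ≠ 2 := by rintro rfl; exact absurd (hOodd.of_dvd_nat hqO) (by decide)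
    have hq3 : 3 < q := by
      have := hq.two_le
      omega
    obtain ⟨Q⟩ := Sylow.nonempty (p := q) (G := O)
    obtain ⟨t, htD, htN⟩ := hfr q hq Q
    have hQc : (Q : Subgroup O).map O.subtype ≤ centralizer ({t} : Set G) := fun x hx =>
      mem_centralizer_singleton_iff.mpr (h.centralizes_pgroup hq hq3 _ (Q.isPGroup'.map _) htD htN x hx).symm.eq
    obtain ⟨x, hxO, hx⟩ := horb t htD c hcD
    have hle : (((Q : Subgroup O).map O.subtype).map (MulAut.conj x).toMonoidHom) ≤ C := by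
      rintro _ ⟨y, hy, rfl⟩
      refine ⟨O.mul_mem (O.mul_mem hxO (map_subtype_le (Q : Subgroup O) hy)) (O.inv_mem hxO), ?_⟩
      have hyt := mem_centralizer_singleton_iff.mp (hQc hy)
      show x * y * x⁻¹ ∈ centralizer ({c} : Set G)
      rw [mem_centralizer_singleton_iff, ← hx, ← cj', ← cj', hyt]
    have hd := Subgroup.card_dvd_of_le hle
    rw [card_map_of_injective (MulAut.conj x).injective, card_map_subtype] at hd
    have h5 : Nat.card (Q : Subgroup O) * q ∣ Nat.card O := hmO ▸ mul_dvd_mul hd hqd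
    rw [Sylow.card_eq_multiplicity, ← pow_succ] at h5
    exact absurd ((hq.pow_dvd_iff_le_factorization Nat.card_pos.ne').mp h5) (by omega)
  obtain ⟨k, hk⟩ : ∃ k, m = 3 ^ k := ⟨_, Nat.eq_prime_pow_of_unique_prime_dvd hm0 (fun {q} hq hd => hm3 q hq hd)⟩
  have horbit : ∀ u ∈ D, ∃ p ∈ P, p * c * p⁻¹ = u := by
    have hO : Nat.card {x : G // ∃ g ∈ O, g * c * g⁻¹ = x} = m := orbit_card O c
    have hP := orbit_card P c
    have hge : m ≤ (centralizer ({c} : Set G)).relIndex P := by
      have hPC : Nat.card ↥(P ⊓ centralizer ({c} : Set G) : Subgroup G) * (centralizer ({c} : Set G)).relIndex P = Nat.card P := by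
        have := ((centralizer ({c} : Set G)).subgroupOf P).card_mul_index
        rwa [Nat.card_congr (Subgroup.subgroupOfEquivOfLe (inf_le_left : P ⊓ centralizer ({c} : Set G) ≤ P)).toEquiv.symm,
          show (P ⊓ centralizer ({c} : Set G)).subgroupOf P = (centralizer ({c} : Set G)).subgroupOf P by ext; simp [mem_subgroupOf]]
      obtain ⟨i, hi⟩ := IsPGroup.iff_card.mp (hPp.to_le (inf_le_left : P ⊓ centralizer ({c} : Set G) ≤ P))
      have hdvd : Nat.card ↥(P ⊓ centralizer ({c} : Set G) : Subgroup G) * m ∣ Nat.card O :=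
        hmO ▸ mul_dvd_mul_right (Subgroup.card_dvd_of_le (inf_le_inf hPO le_rfl)) m
      rw [hi, hk, ← pow_add] at hdvd
      have h6 := (Nat.prime_three.pow_dvd_iff_le_factorization Nat.card_pos.ne').mp hdvd
      have h7 : Nat.card P = 3 ^ (Nat.card O).factorization 3 := by rw [card_map_subtype, Sylow.card_eq_multiplicity]
      rw [h7, hi] at hPC
      have hj : 3 ^ i * 3 ^ k ≤ 3 ^ i * (centralizer ({c} : Set G)).relIndex P := by
        rw [hPC, ← pow_add]; exact Nat.pow_le_pow_right (by norm_num) h6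
      rw [hk]
      exact Nat.le_of_mul_le_mul_left hj (by positivity)
    let f : {x : G // ∃ g ∈ P, g * c * g⁻¹ = x} → {x : G // ∃ g ∈ O, g * c * g⁻¹ = x} :=
      fun x => ⟨x.1, x.2.imp fun g hg => ⟨hPO hg.1, hg.2⟩⟩
    have hfi : Function.Injective f := fun x y e => Subtype.ext (congrArg (fun z => z.1) e)
    have hbij := (hfi.bijective_of_nat_card_le (by rw [hO, hP]; exact hge)).2
    intro u hu
    obtain ⟨x, hx⟩ := hbij ⟨u, horb c hcD u hu⟩
    obtain ⟨g, hg, hge'⟩ := x.2
    exact ⟨g, hg, hge'.trans (congrArg Subtype.val hx)⟩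
  have hPmem : ∀ u ∈ D, ∀ v ∈ D, u * v ∈ P := by
    intro u hu v hv
    obtain ⟨p, hp, rfl⟩ := horbit u hu
    obtain ⟨q, hq, rfl⟩ := horbit v hv
    rw [show p * c * p⁻¹ * (q * c * q⁻¹) = p * (c * (p⁻¹ * q) * c⁻¹) * (c * c) * q⁻¹ by group, h.mul_self hcD, mul_one]
    exact mul_mem (mul_mem hp ((mem_normalizer_iff.mp hcN _).mp (mul_mem (inv_mem hp) hq))) (inv_mem hq)
  set M := normalClosure {x : G | ∃ u ∈ D, ∃ v ∈ D, x = u * v}
  have hMP : M ≤ P := by
    rw [show M = closure (Group.conjugatesOfSet {x : G | ∃ u ∈ D, ∃ v ∈ D, x = u * v}) from rfl, closure_le]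
    intro x hx
    obtain ⟨y, ⟨u, hu, v, hv, rfl⟩, hc⟩ := Group.mem_conjugatesOfSet_iff.mp hx
    obtain ⟨g, rfl⟩ := isConj_iff.mp hc
    rw [show g * (u * v) * g⁻¹ = (g * u * g⁻¹) * (g * v * g⁻¹) by group]
    exact hPmem _ (h.conj g u hu) _ (h.conj g v hv)
  exact le_pCore (N := M) (hPp.to_le hMP) (subset_normalClosure ⟨a, ha, b, hb, rfl⟩)

/-- Members with the same commuting set as `d`. -/
def Vset (D : Set G) (d : G) : Set G := {v : G | v ∈ D ∧ ∀ e ∈ D, Commute v e ↔ Commute d e}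

/-- Members with the same commuting partners as `d`. -/
def Wset (D : Set G) (d : G) : Set G :=
  {w : G | w ∈ D ∧ {y : G | y ∈ D ∧ y ≠ d ∧ Commute d y} = {y : G | y ∈ D ∧ y ≠ w ∧ Commute w y}}

theorem commute_conj {g u v : G} : Commute (g * u * g⁻¹) (g * v * g⁻¹) ↔ Commute u v :=
  Commute.conj_iff g

theorem TT.vset_conj (h : TT D) (g : G) {d v : G} (hv : v ∈ Vset D d) : g * v * g⁻¹ ∈ Vset D (g * d * g⁻¹) := by
  refine ⟨h.conj g v hv.1, fun e he => ?_⟩
  have he' : g⁻¹ * e * g ∈ D := by simpa using h.conj g⁻¹ e he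
  have hee : g * (g⁻¹ * e * g) * g⁻¹ = e := by group
  rw [← hee, commute_conj, commute_conj]
  exact hv.2 _ he'

theorem vset_eq_of_mem {d v : G} (hv : v ∈ Vset D d) : Vset D v = Vset D d := by
  ext u
  exact ⟨fun hu => ⟨hu.1, fun e he => (hu.2 e he).trans (hv.2 e he)⟩,
    fun hu => ⟨hu.1, fun e he => (hu.2 e he).trans (hv.2 e he).symm⟩⟩

theorem vset_commute {d a b : G} (hd : d ∈ D) (ha : a ∈ Vset D d) (hb : b ∈ Vset D d) : Commute a b := by
  rw [ha.2 b hb.1]
  exact ((hb.2 d hd).mpr (Commute.refl d)).symm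

theorem wset_self {d : G} (hd : d ∈ D) : d ∈ Wset D d := ⟨hd, rfl⟩

theorem vset_self {d : G} (hd : d ∈ D) : d ∈ Vset D d := ⟨hd, fun _ _ => Iff.rfl⟩

theorem wset_eq_of_mem {d w : G} (hw : w ∈ Wset D d) : Wset D w = Wset D d := by
  ext u
  exact ⟨fun hu => ⟨hu.1, hw.2.trans hu.2⟩, fun hu => ⟨hu.1, hw.2.symm.trans hu.2⟩⟩

theorem wset_iff {d w : G} (hw : w ∈ Wset D d) {e : G} (he : e ∈ D) :
    (e ≠ d ∧ Commute d e) ↔ (e ≠ w ∧ Commute w e) := by
  have := Set.ext_iff.mp hw.2 e
  exact ⟨fun h => (this.mp ⟨he, h⟩).2, fun h => (this.mpr ⟨he, h⟩).2⟩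

theorem wset_not_commute {d a b : G} (ha : a ∈ Wset D d) (hb : b ∈ Wset D d) (hne : a ≠ b) : ¬ Commute a b := by
  intro hc
  have h1 := (wset_iff ha hb.1).mpr ⟨hne.symm, hc⟩
  exact ((wset_iff hb hb.1).mp h1).1 rfl

theorem TT.wset_conj (h : TT D) (g : G) {d w : G} (hw : w ∈ Wset D d) : g * w * g⁻¹ ∈ Wset D (g * d * g⁻¹) := by
  refine ⟨h.conj g w hw.1, ?_⟩
  ext e
  simp only [Set.mem_setOf_eq, and_congr_right_iff]
  intro he
  have he' : g⁻¹ * e * g ∈ D := by simpa using h.conj g⁻¹ e he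
  have hee : g * (g⁻¹ * e * g) * g⁻¹ = e := by group
  rw [← hee, commute_conj, commute_conj]
  simp only [ne_eq, mul_left_inj, mul_right_inj]
  exact wset_iff hw he'

/-- A class moved by a noncommuting member of a second class. -/
theorem TT.vset_move (h : TT D) {d d' a b : G} (hd : d ∈ D) (hd' : d' ∈ D) (hn : ¬ Commute d d')
    (ha : a ∈ Vset D d) (hb : b ∈ Vset D d') : b * a * b ∈ Vset D (d * d' * d) := by
  have hab : ¬ Commute a b := fun e => hn ((hb.2 d hd).mp ((ha.2 b hb.1).mp e).symm).symm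
  have had' : ¬ Commute a d' := fun e => hn ((ha.2 d' hd').mp e)
  rw [← h.braid ha.1 hb.1 hab]
  have h1 := h.vset_conj a hb
  rw [h.inv_eq ha.1, h.braid ha.1 hd' had'] at h1
  have h2 := h.vset_conj d' ha
  rw [h.inv_eq hd', ← h.braid hd hd' hn] at h2
  exact vset_eq_of_mem h2 ▸ h1

theorem TT.wset_move (h : TT D) {d d' a b : G} (hd : d ∈ D) (hd' : d' ∈ D) (hn : ¬ Commute d d')
    (hne : d' ∉ Wset D d) (ha : a ∈ Wset D d) (hb : b ∈ Wset D d') : b * a * b ∈ Wset D (d * d' * d) := by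
  have key : ∀ {a b : G}, a ∈ Wset D d → b ∈ Wset D d' → ¬ Commute a b := by
    intro a b ha hb e
    have hne' : b ≠ a := fun e' => hne (by
      have h1 : Wset D d' = Wset D d := by rw [← wset_eq_of_mem hb, e', wset_eq_of_mem ha]
      exact h1 ▸ wset_self hd')
    obtain ⟨h1, h2⟩ := (wset_iff ha hb.1).mpr ⟨hne', e⟩
    obtain ⟨-, h4⟩ := (wset_iff hb hd).mpr ⟨h1.symm, h2.symm⟩
    exact hn h4.symm
  have hab := key ha hb
  have had' := key ha (wset_self hd')
  rw [← h.braid ha.1 hb.1 hab]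
  have h1 := h.wset_conj a hb
  rw [h.inv_eq ha.1, h.braid ha.1 hd' had'] at h1
  have h2 := h.wset_conj d' ha
  rw [h.inv_eq hd', ← h.braid hd hd' hn] at h2
  exact wset_eq_of_mem h2 ▸ h1

theorem baer_mem {p : ℕ} [Fact p.Prime] (A : Subgroup G) (hA : IsPGroup p A) (u : G) (hu : u ∈ A)
    (h : ∀ g : G, Commute u (g * u * g⁻¹) ∨ g * u * g⁻¹ ∈ normalizer (A : Set G)) : u ∈ pCore p G := by
  have hX : IsPGroup p (zpowers u) := hA.to_le (zpowers_le.mpr hu)
  obtain ⟨N, hN, hNp, hle⟩ := Inv.baerSuzuki (zpowers u) hX fun g => by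
    have e : MulAut.conj g • zpowers u = zpowers (g * u * g⁻¹) := by
      show (zpowers u).map _ = _
      exact MonoidHom.map_zpowers _ u
    have hY : IsPGroup p (zpowers (g * u * g⁻¹)) := by
      rw [← e]; exact hX.map _
    rw [e]
    rcases h g with hc | hn
    · refine IsPGroup.to_sup_of_normal_right' hX hY (zpowers_le.mpr (centralizer_le_normalizer _ ?_))
      rw [zpowers_eq_closure, centralizer_closure, mem_centralizer_singleton_iff]
      exact hc
    · exact (IsPGroup.to_sup_of_normal_right' hY hA (zpowers_le.mpr hn)).to_le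
        (sup_le ((zpowers_le.mpr hu).trans le_sup_right) le_sup_left)
  exact le_pCore (N := N) hNp (hle (mem_zpowers u))

/-- The subgroup generated by the products of pairs. -/
def pairs (S : Set G) : Subgroup G := closure {x | ∃ a ∈ S, ∃ b ∈ S, x = a * b}

theorem mem_normalizer_pairs {S : Set G} {u : G} (hu : ∀ a ∈ S, u * a * u⁻¹ ∈ S) : u ∈ normalizer (pairs S : Set G) := by
  have hle : (pairs S).map (MulAut.conj u).toMonoidHom ≤ pairs S := by
    rw [pairs, MonoidHom.map_closure, closure_le]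
    rintro _ ⟨x, ⟨a, ha, b, hb, rfl⟩, rfl⟩
    refine subset_closure ⟨_, hu a ha, _, hu b hb, ?_⟩
    show u * (a * b) * u⁻¹ = _
    exact cj'
  have e : (pairs S).map (MulAut.conj u).toMonoidHom = pairs S := Subgroup.eq_of_le_of_card_ge hle
    (le_of_eq (card_map_of_injective (MulAut.conj u).injective).symm)
  rw [mem_normalizer_iff]
  refine fun v => ⟨fun hv => hle ⟨v, hv, rfl⟩, fun hv => ?_⟩
  obtain ⟨w, hw, hwe⟩ := (e.ge hv : u * v * u⁻¹ ∈ (pairs S).map (MulAut.conj u).toMonoidHom)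
  have hwe' : u * w * u⁻¹ = u * v * u⁻¹ := hwe
  rwa [← mul_left_cancel (mul_right_cancel hwe')]

theorem TT.pairs_isPGroup_two (h : TT D) (S : Set G) (hS : S ⊆ D) (hc : ∀ a ∈ S, ∀ b ∈ S, Commute a b) :
    IsPGroup 2 (pairs S) := by
  have hcl : ∀ x ∈ closure S, x * x = 1 ∧ ∀ y ∈ closure S, x * y = y * x := by
    have hcm : ∀ x ∈ closure S, ∀ y ∈ closure S, x * y = y * x := by
      haveI := Subgroup.isMulCommutative_closure (k := S) fun a ha b hb => hc a ha b hb
      exact fun x hx y hy => congrArg Subtype.val (‹IsMulCommutative (closure S)›.is_comm.comm ⟨x, hx⟩ ⟨y, hy⟩)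
    intro x hx
    refine ⟨?_, hcm x hx⟩
    induction hx using closure_induction with
    | mem a ha => exact h.mul_self (hS ha)
    | one => exact one_mul 1
    | mul a b ha hb ia ib =>
      rw [show a * b * (a * b) = a * (b * a) * b by group, hcm b hb a ha, show a * (a * b) * b = (a * a) * (b * b) by group, ia, ib, one_mul]
    | inv a _ ia => rw [← mul_inv_rev, ia, inv_one]
  have hle : pairs S ≤ closure S := (closure_le _).mpr (by
    rintro _ ⟨a, ha, b, hb, rfl⟩
    exact mul_mem (subset_closure ha) (subset_closure hb))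
  exact fun x => ⟨1, Subtype.ext (by simpa [pow_two] using (hcl x (hle x.2)).1)⟩

theorem TT.pairs_isPGroup_three (h : TT D) (S : Set G) (hS : S ⊆ D) (hc : ∀ a ∈ S, ∀ b ∈ S, a ≠ b → ¬ Commute a b)
    (hinv : ∀ a ∈ S, ∀ b ∈ S, a * b * a⁻¹ ∈ S) : IsPGroup 3 (pairs S) := by
  haveI : Fact (Nat.Prime 3) := ⟨Nat.prime_three⟩
  set H := closure S
  have hconjH : ∀ g ∈ H, ∀ b ∈ S, g * b * g⁻¹ ∈ S ∧ g⁻¹ * b * g⁻¹⁻¹ ∈ S := by
    intro g hg
    induction hg using closure_induction with
    | mem a ha =>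
      refine fun b hb => ⟨hinv a ha b hb, ?_⟩
      rw [h.inv_eq (hS ha)]; exact hinv a ha b hb
    | one => exact fun b hb => by simp [hb]
    | mul a b _ _ ia ib =>
      intro c hc'
      refine ⟨?_, ?_⟩
      · rw [show a * b * c * (a * b)⁻¹ = a * (b * c * b⁻¹) * a⁻¹ by group]; exact (ia _ (ib c hc').1).1
      · rw [show (a * b)⁻¹ * c * (a * b)⁻¹⁻¹ = b⁻¹ * (a⁻¹ * c * a⁻¹⁻¹) * b⁻¹⁻¹ by group]; exact (ib _ (ia c hc').2).2
    | inv a _ ia => exact fun b hb => ⟨(ia b hb).2, by rw [inv_inv]; exact (ia b hb).1⟩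
  let D' : Set H := {x | (x : G) ∈ S}
  have h' : TT D' := by
    refine ⟨⟨fun d hd => by rw [← Subgroup.orderOf_coe]; exact h.order_two (hS hd), fun d hd e he => ?_⟩,
      fun g d hd => (hconjH g g.2 d hd).1⟩
    rcases h.set.2 _ (hS hd) _ (hS he) with e1 | e1
    · exact Or.inl (Subtype.ext (by simpa using e1))
    · exact Or.inr (Subtype.ext (by simpa using e1))
  have hgen : closure D' = ⊤ := by
    rw [show D' = ((↑) : H → G) ⁻¹' S from rfl]
    exact Subgroup.closure_closure_coe_preimage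
  have hw : ∀ u ∈ D', ∀ v ∈ D', u ≠ v → ¬ Commute u v := fun u hu v hv hne hcm =>
    hc _ hu _ hv (fun e => hne (Subtype.ext e)) (hcm.map H.subtype)
  have hle : pairs S ≤ (pCore 3 H).map H.subtype := (closure_le _).mpr (by
    rintro _ ⟨a, ha, b, hb, rfl⟩
    exact ⟨_, h'.width_one hgen hw (a := ⟨a, subset_closure ha⟩) (b := ⟨b, subset_closure hb⟩) ha hb, rfl⟩)
  exact ((isPGroup_pCore 3 H).map _).to_le hle

theorem TT.mul_mem_two_of_vset (h : TT D) {d v : G} (hd : d ∈ D) (hv : v ∈ Vset D d) : d * v ∈ pCore 2 G := by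
  haveI : Fact (Nat.Prime 2) := ⟨Nat.prime_two⟩
  have hmem : d * v ∈ pairs (Vset D d) := subset_closure ⟨d, vset_self hd, v, hv, rfl⟩
  refine baer_mem _ (h.pairs_isPGroup_two _ (fun a ha => ha.1) fun a ha b hb => vset_commute hd ha hb) _ hmem
    fun g => ?_
  have hd' := h.conj g d hd
  have hv' := h.vset_conj g hv
  rw [show g * (d * v) * g⁻¹ = (g * d * g⁻¹) * (g * v * g⁻¹) from cj']
  set d' := g * d * g⁻¹
  set v' := g * v * g⁻¹
  by_cases hc : Commute d d'
  · left
    have e2 : Commute d v' := ((hv'.2 d hd).mpr hc.symm).symm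
    exact ((hc.mul_right e2).mul_left
      (((hv.2 d' hd').mpr hc).mul_right ((hv.2 v' hv'.1).mpr e2)))
  · refine Or.inr (mem_normalizer_pairs fun a ha => ?_)
    have h1 := h.vset_move hd hd' hc ha hv'
    have h2 := h.vset_conj d' h1
    rw [h.inv_eq hd', h.braid hd hd' hc, show d' * (d' * d * d') * d' = (d' * d') * d * (d' * d') by group,
      h.mul_self hd', one_mul, mul_one] at h2
    rw [show d' * v' * a * (d' * v')⁻¹ = d' * (v' * a * v'⁻¹) * d'⁻¹ by group, h.inv_eq hd', h.inv_eq hv'.1]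
    exact h2

theorem TT.vset_iff (h : TT D) {d : G} (hd : d ∈ D) {v : G} :
    v ∈ Vset D d ↔ v ∈ D ∧ d⁻¹ * v ∈ pCore 2 G := by
  rw [h.inv_eq hd]
  refine ⟨fun hv => ⟨hv.1, h.mul_mem_two_of_vset hd hv⟩, fun ⟨hvD, hm⟩ => ⟨hvD, ?_⟩⟩
  suffices key : ∀ {d v : G}, d ∈ D → v ∈ D → d * v ∈ pCore 2 G → ∀ e ∈ D, Commute d e → Commute v e by
    have hm' : v * d ∈ pCore 2 G := by
      have := inv_mem hm
      rwa [mul_inv_rev, h.inv_eq hd, h.inv_eq hvD] at this
    exact fun e he => ⟨key hvD hd hm' e he, key hd hvD hm e he⟩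
  intro d v hd hv hm e he hde
  by_contra hn
  have h1 := h.mem_of_congr hd he (pCore 2 G) hv hm hde hn
  have h2 : v * e ∈ pCore 2 G := by
    have := mul_mem (inv_mem hm) h1
    rwa [mul_inv_rev, h.inv_eq hd, h.inv_eq hv, show v * d * (d * e) = v * (d * d) * e by group, h.mul_self hd,
      mul_one] at this
  exact hn (h.commute_of_mem hv he (isPGroup_pCore 2 G) h2)

theorem TT.vset_orbit (h : TT D) {d : G} (hd : d ∈ D) (hnc : ∃ e ∈ D, ¬ Commute d e) {v : G} :
    v ∈ Vset D d ↔ ∃ g ∈ pCore 2 G, v = g * d * g⁻¹ := by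
  constructor
  · intro hv
    by_cases hne : v = d
    · exact ⟨1, one_mem _, by simp [hne]⟩
    obtain ⟨e, he, hn⟩ := hnc
    have hnv : ¬ Commute v e := fun hc => hn ((hv.2 e he).mp hc)
    have hcdv : Commute d v := vset_commute hd (vset_self hd) hv
    refine ⟨e * (d * v) * e⁻¹, (inferInstance : (pCore 2 G).Normal).conj_mem _ (h.mul_mem_two_of_vset hd hv) e, ?_⟩
    have k1 : v * (d * e * d) * v = e * (v * d * v) * e ∨ True := Or.inr trivial
    symm
    calc e * (d * v) * e⁻¹ * d * (e * (d * v) * e⁻¹)⁻¹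
        = e * (d * v) * (e⁻¹ * d * e) * (v⁻¹ * d⁻¹) * e⁻¹ := by group
      _ = e * (d * (v * (d * e * d) * v) * d) * e := by
          rw [h.inv_eq he, ← h.braid hd he hn, h.inv_eq hd, h.inv_eq hv.1]; group
      _ = e * ((d * d) * (v * e * v) * (d * d)) * e := by
          rw [show v * (d * e * d) * v = (v * d) * e * (d * v) by group, ← hcdv.eq,
            show (d * v) * e * (d * v) = (d * v) * e * (v * d) by rw [← hcdv.eq]]
          group
      _ = v := by
          rw [h.mul_self hd, one_mul, mul_one, h.braid hv.1 he hnv,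
            show e * (e * v * e) * e = (e * e) * v * (e * e) by group, h.mul_self he, one_mul, mul_one]
  · rintro ⟨g, hg, rfl⟩
    refine (h.vset_iff hd).mpr ⟨h.conj g d hd, ?_⟩
    rw [show d⁻¹ * (g * d * g⁻¹) = (d⁻¹ * g * d) * g⁻¹ by group]
    exact mul_mem ((inferInstance : (pCore 2 G).Normal).conj_mem' g hg d) (inv_mem hg)

theorem TT.mul_mem_three_of_wset (h : TT D) {d w : G} (hd : d ∈ D) (hw : w ∈ Wset D d) : d * w ∈ pCore 3 G := by
  haveI : Fact (Nat.Prime 3) := ⟨Nat.prime_three⟩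
  have hmem : d * w ∈ pairs (Wset D d) := subset_closure ⟨d, wset_self hd, w, hw, rfl⟩
  have hinv : ∀ a ∈ Wset D d, ∀ b ∈ Wset D d, a * b * a⁻¹ ∈ Wset D d := by
    intro a ha b hb
    have h1 : b ∈ Wset D a := wset_eq_of_mem ha ▸ hb
    have h2 := h.wset_conj a h1
    rwa [mul_inv_cancel_right, wset_eq_of_mem ha] at h2
  by_cases hwd : w = d
  · rw [hwd, h.mul_self hd]; exact one_mem _
  refine baer_mem _ (h.pairs_isPGroup_three _ (fun a ha => ha.1) (fun a ha b hb => wset_not_commute ha hb) hinv)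
    _ hmem fun g => ?_
  have hd' := h.conj g d hd
  have hw' := h.wset_conj g hw
  rw [show g * (d * w) * g⁻¹ = (g * d * g⁻¹) * (g * w * g⁻¹) from cj']
  set d' := g * d * g⁻¹
  set w' := g * w * g⁻¹
  have hne' : w' ≠ d' := fun e => hwd (mul_left_cancel (mul_right_cancel e))
  by_cases hW : d' ∈ Wset D d
  · refine Or.inr (mem_normalizer_pairs fun a ha => ?_)
    have hw'' : w' ∈ Wset D d := wset_eq_of_mem hW ▸ hw'
    rw [show d' * w' * a * (d' * w')⁻¹ = d' * (w' * a * w'⁻¹) * d'⁻¹ by group]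
    exact hinv d' hW _ (hinv w' hw'' a ha)
  by_cases hc : Commute d d'
  · left
    have hne : d' ≠ d := fun e => hW (by rw [e]; exact wset_self hd)
    obtain ⟨hdw1, hdw2⟩ := (wset_iff hw hd').mp ⟨hne, hc⟩
    obtain ⟨hw1, hw2⟩ := (wset_iff hw' hd).mp ⟨hne.symm, hc.symm⟩
    obtain ⟨-, hww⟩ := (wset_iff hw hw'.1).mp ⟨hw1.symm, hw2.symm⟩
    exact (hc.mul_right hw2.symm).mul_left (hdw2.mul_right hww)
  · refine Or.inr (mem_normalizer_pairs fun a ha => ?_)
    have h1 := h.wset_move hd hd' hc hW ha hw'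
    have h2 := h.wset_conj d' h1
    rw [h.inv_eq hd', h.braid hd hd' hc, show d' * (d' * d * d') * d' = (d' * d') * d * (d' * d') by group,
      h.mul_self hd', one_mul, mul_one] at h2
    rw [show d' * w' * a * (d' * w')⁻¹ = d' * (w' * a * w'⁻¹) * d'⁻¹ by group, h.inv_eq hd', h.inv_eq hw'.1]
    exact h2

theorem TT.wset_mem_iff (h : TT D) {d : G} (hd : d ∈ D) {w : G} :
    w ∈ Wset D d ↔ w ∈ D ∧ d⁻¹ * w ∈ pCore 3 G := by
  rw [h.inv_eq hd]
  refine ⟨fun hw => ⟨hw.1, h.mul_mem_three_of_wset hd hw⟩, fun ⟨hwD, hm⟩ => ⟨hwD, ?_⟩⟩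
  suffices key : ∀ {d w : G}, d ∈ D → w ∈ D → d * w ∈ pCore 3 G → ∀ e ∈ D, e ≠ d → Commute d e → e ≠ w ∧ Commute w e by
    ext e
    simp only [Set.mem_setOf_eq, and_congr_right_iff]
    intro he
    have hm' : w * d ∈ pCore 3 G := by
      have := inv_mem hm
      rwa [mul_inv_rev, h.inv_eq hd, h.inv_eq hwD] at this
    exact ⟨fun h1 => key hd hwD hm e he h1.1 h1.2, fun h1 => key hwD hd hm' e he h1.1 h1.2⟩
  intro d w hd hw hm e he hne hde
  refine ⟨fun e1 => h.not_commute_of_mem hd hw (isPGroup_pCore 3 G) hm (fun e2 => hne (e1.trans e2.symm)) (e1 ▸ hde), ?_⟩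
  by_contra hn
  have h1 := h.mem_of_congr hd he (pCore 3 G) hw hm hde hn
  exact h.not_commute_of_mem hd he (isPGroup_pCore 3 G) h1 hne.symm hde

theorem TT.wset_orbit (h : TT D) {d : G} (hd : d ∈ D) {w : G} :
    w ∈ Wset D d ↔ ∃ g ∈ pCore 3 G, w = g * d * g⁻¹ := by
  constructor
  · intro hw
    by_cases hne : w = d
    · exact ⟨1, one_mem _, by simp [hne]⟩
    · refine ⟨d * w, h.mul_mem_three_of_wset hd hw, ?_⟩
      exact (h.conj_product hd hw.1 (wset_not_commute (wset_self hd) hw (Ne.symm hne))).symm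
  · rintro ⟨g, hg, rfl⟩
    refine (h.wset_mem_iff hd).mpr ⟨h.conj g d hd, ?_⟩
    rw [show d⁻¹ * (g * d * g⁻¹) = (d⁻¹ * g * d) * g⁻¹ by group]
    exact mul_mem ((inferInstance : (pCore 3 G).Normal).conj_mem' g hg d) (inv_mem hg)

theorem class_exists_not_commute (hD : IsThreeTranspositionClass D) (hD2 : ∃ a ∈ D, ∃ b ∈ D, a ≠ b)
    {d : G} (hd : d ∈ D) : ∃ e ∈ D, ¬ Commute d e := by
  by_contra hall
  push Not at hall
  have hcen : d ∈ center G := by
    rw [mem_center_iff]
    intro g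
    have hg : g ∈ closure D := hD.2.2.ge (mem_top g)
    induction hg using closure_induction with
    | mem u hu => exact (hall u hu).symm
    | one => rw [one_mul, mul_one]
    | mul u v _ _ iu iv => exact ((show Commute u d from iu).mul_left iv).eq
    | inv u _ iu => exact (show Commute u d from iu).inv_left.eq
  have hsing : ∀ u ∈ D, u = d := fun u hu => by
    obtain ⟨g, hg⟩ := class_conj hD hd hu
    rw [← hg, mem_center_iff.mp hcen g, mul_inv_cancel_right]
  obtain ⟨a, ha, b, hb, hne⟩ := hD2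
  exact hne ((hsing a ha).trans (hsing b hb).symm)

end Cfsg.Agent.Solv.ThreeTrans
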