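import Cfsg.Agent.Lib.Solv.ThreeTrans
import Cfsg.Agent.Lib.Local.FStar
import Cfsg.Agent.Lib.Local.ComponentPair
import Cfsg.Agent.Lib.Char.Burnside
import Cfsg.Agent.Lib.Struct.CoprimeMinimal

/-!
The layer of a group generated by a class of 3-transpositions, primitivity, connectedness.
-/

set_option autoImplicit false
set_option linter.style.haveILetI false
set_option linter.unusedSectionVars false

namespace Cfsg.Agent.Solv.ThreeTrans

open Subgroup
open scoped commutatorElement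

variable {G : Type*} [Group G] [Finite G] {D : Set G}

theorem perfect_centralizes (E : Subgroup G) [hn : E.Normal] (hE : ⁅E, E⁆ = E) (d : G)
    (hc : ∀ e ∈ E, ∀ f ∈ E, (e * d * e⁻¹ * d⁻¹) * f = f * (e * d * e⁻¹ * d⁻¹)) : ∀ e ∈ E, e * d = d * e := by
  have hcE : ∀ e ∈ E, e * d * e⁻¹ * d⁻¹ ∈ E := fun e he => by
    rw [show e * d * e⁻¹ * d⁻¹ = e * (d * e⁻¹ * d⁻¹) by group]
    exact mul_mem he (hn.conj_mem _ (inv_mem he) d)
  have hswap : ∀ a ∈ E, ∀ b ∈ E, (a * b) * d * (a * b)⁻¹ = (b * a) * d * (b * a)⁻¹ := by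
    intro a ha b hb
    have f1 : ∀ x ∈ E, ∀ y ∈ E, (x * y) * d * (x * y)⁻¹ = (y * d * y⁻¹ * d⁻¹) * ((x * d * x⁻¹ * d⁻¹) * d) := by
      intro x hx y hy
      calc (x * y) * d * (x * y)⁻¹ = x * (y * d * y⁻¹ * d⁻¹) * (d * x⁻¹) := by group
        _ = (y * d * y⁻¹ * d⁻¹) * x * (d * x⁻¹) := by rw [← hc y hy x hx]
        _ = _ := by group
    rw [f1 a ha b hb, f1 b hb a ha, ← mul_assoc (b * d * b⁻¹ * d⁻¹), hc b hb _ (hcE a ha), mul_assoc]
  have hle : E ≤ centralizer ({d} : Set G) := by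
    conv_lhs => rw [← hE]
    rw [commutator_le]
    intro a ha b hb
    rw [mem_centralizer_singleton_iff, commutatorElement_def]
    refine mul_inv_eq_iff_eq_mul.mp ?_
    have e := hswap a⁻¹ (inv_mem ha) b⁻¹ (inv_mem hb)
    calc a * b * a⁻¹ * b⁻¹ * d * (a * b * a⁻¹ * b⁻¹)⁻¹ = a * b * ((a⁻¹ * b⁻¹) * d * (a⁻¹ * b⁻¹)⁻¹) * (a * b)⁻¹ := by group
      _ = d := by rw [e]; group
  exact fun e he => mem_centralizer_singleton_iff.mp (hle he)

/-- A perfect normal subgroup centralizing the Fitting subgroup is centralized by a transposition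
whose conjugates under it all commute, or never commute. -/
theorem TT.centralizes_perfect (h : TT D) (E : Subgroup G) [hn : E.Normal] (hE : ⁅E, E⁆ = E)
    (hF : E ≤ centralizer (fittingSubgroup G : Set G)) {d : G} (hd : d ∈ D)
    (halt : (∀ e ∈ E, e * d * e⁻¹ ≠ d → Commute d (e * d * e⁻¹)) ∨
      (∀ e ∈ E, e * d * e⁻¹ ≠ d → ¬ Commute d (e * d * e⁻¹))) : ∀ e ∈ E, e * d = d * e := by
  set S : Set G := {x | ∃ e ∈ E, e * d * e⁻¹ = x}
  have hSD : S ⊆ D := by rintro _ ⟨e, -, rfl⟩; exact h.conj e d hd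
  have hSE : ∀ g ∈ E, ∀ x ∈ S, g * x * g⁻¹ ∈ S := by
    rintro g hg _ ⟨e, he, rfl⟩
    exact ⟨g * e, mul_mem hg he, by group⟩
  have hinv : ∀ a ∈ S, ∀ b ∈ S, a * b * a⁻¹ ∈ S := by
    rintro _ ⟨e, he, rfl⟩ _ ⟨f, hf, rfl⟩
    exact ⟨e * (d * (e⁻¹ * f) * d⁻¹), mul_mem he (hn.conj_mem _ (mul_mem (inv_mem he) hf) d), by group⟩
  have hrel : ∀ a ∈ S, ∀ b ∈ S, a ≠ b → ∃ e ∈ E, e * d * e⁻¹ ≠ d ∧ (Commute a b ↔ Commute d (e * d * e⁻¹)) := by
    rintro _ ⟨e, he, rfl⟩ _ ⟨f, hf, rfl⟩ hne
    refine ⟨e⁻¹ * f, mul_mem (inv_mem he) hf, fun e1 => hne ?_, ?_⟩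
    · calc e * d * e⁻¹ = e * ((e⁻¹ * f) * d * (e⁻¹ * f)⁻¹) * e⁻¹ := by rw [e1]
        _ = f * d * f⁻¹ := by group
    · rw [show f * d * f⁻¹ = e * ((e⁻¹ * f) * d * (e⁻¹ * f)⁻¹) * e⁻¹ by group, commute_conj]
  obtain ⟨p, hp, hA⟩ : ∃ p : ℕ, p.Prime ∧ IsPGroup p (pairs S) := by
    rcases halt with halt | halt
    · refine ⟨2, Nat.prime_two, h.pairs_isPGroup_two S hSD fun a ha b hb => ?_⟩
      by_cases hne : a = b
      · exact hne ▸ Commute.refl a
      · obtain ⟨e, he, h1, h2⟩ := hrel a ha b hb hne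
        exact h2.mpr (halt e he h1)
    · refine ⟨3, Nat.prime_three, h.pairs_isPGroup_three S hSD (fun a ha b hb hne hc => ?_) hinv⟩
      obtain ⟨e, he, h1, h2⟩ := hrel a ha b hb hne
      exact halt e he h1 (h2.mp hc)
  haveI : Fact p.Prime := ⟨hp⟩
  have hAE : pairs S ≤ E := (closure_le _).mpr (by
    rintro _ ⟨_, ⟨e, he, rfl⟩, _, ⟨f, hf, rfl⟩, rfl⟩
    rw [show e * d * e⁻¹ * (f * d * f⁻¹) = e * (d * (e⁻¹ * f) * d⁻¹) * (d * d) * f⁻¹ by group, h.mul_self hd, mul_one]
    exact mul_mem (mul_mem he (hn.conj_mem _ (mul_mem (inv_mem he) hf) d)) (inv_mem hf))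
  haveI : ((pairs S).subgroupOf E).Normal := (normal_subgroupOf_iff_le_normalizer hAE).mpr
    fun g hg => mem_normalizer_pairs (hSE g hg)
  have hsub : (pairs S).IsSubnormal := by
    have := (inferInstance : ((pairs S).subgroupOf E).Normal).isSubnormal.trans' hn.isSubnormal
    rwa [map_subgroupOf_eq_of_le hAE] at this
  have hAF := Solv.le_fittingSubgroup_of_isSubnormal hsub hA.isNilpotent
  refine perfect_centralizes E hE d fun e he f hf => ?_
  refine mem_centralizer_iff.mp (hF hf) _ (hAF (subset_closure ?_))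
  refine ⟨e * d * e⁻¹, ⟨e, he, rfl⟩, d, ⟨1, one_mem _, by group⟩, ?_⟩
  rw [h.inv_eq hd]

theorem le_center_of_class (hD : IsThreeTranspositionClass D) (N : Subgroup G)
    (h : ∀ n ∈ N, ∀ d ∈ D, n * d = d * n) : N ≤ center G := by
  intro n hn
  rw [mem_center_iff]
  intro g
  have hg : g ∈ closure D := hD.2.2.ge (mem_top g)
  induction hg using closure_induction with
  | mem u hu => exact (h n hn u hu).symm
  | one => rw [one_mul, mul_one]
  | mul u v _ _ iu iv => exact ((show Commute u n from iu).mul_left iv).eq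
  | inv u _ iu => exact (show Commute u n from iu).inv_left.eq

theorem TT.exists_vset_ne (h : TT D) (hD : IsThreeTranspositionClass D) (hD2 : ∃ a ∈ D, ∃ b ∈ D, a ≠ b)
    (hq : ¬ pCore 2 G ≤ center G) {d : G} (hd : d ∈ D) : ∃ v ∈ Vset D d, v ≠ d := by
  by_contra hh
  push Not at hh
  refine hq (le_center_of_class hD _ fun n hn u hu => ?_)
  obtain ⟨g, rfl⟩ := class_conj hD hd hu
  have hn' := (inferInstance : (pCore 2 G).Normal).conj_mem' n hn g
  have := hh _ ((h.vset_orbit hd (class_exists_not_commute hD hD2 hd)).mpr ⟨_, hn', rfl⟩)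
  calc n * (g * d * g⁻¹) = g * ((g⁻¹ * n * g) * d * (g⁻¹ * n * g)⁻¹) * g⁻¹ * n := by group
    _ = g * d * g⁻¹ * n := by rw [this]

theorem TT.exists_wset_ne (h : TT D) (hD : IsThreeTranspositionClass D)
    (hq : ¬ pCore 3 G ≤ center G) {d : G} (hd : d ∈ D) : ∃ w ∈ Wset D d, w ≠ d := by
  by_contra hh
  push Not at hh
  refine hq (le_center_of_class hD _ fun n hn u hu => ?_)
  obtain ⟨g, rfl⟩ := class_conj hD hd hu
  have hn' := (inferInstance : (pCore 3 G).Normal).conj_mem' n hn g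
  have := hh _ ((h.wset_orbit hd).mpr ⟨_, hn', rfl⟩)
  calc n * (g * d * g⁻¹) = g * ((g⁻¹ * n * g) * d * (g⁻¹ * n * g)⁻¹) * g⁻¹ * n := by group
    _ = g * d * g⁻¹ * n := by rw [this]

theorem layer_eq_bot_of_centralized (hD : IsThreeTranspositionClass D)
    (h : ∀ d ∈ D, ∀ e ∈ layer G, e * d = d * e) : layer G = ⊥ := by
  have hc := le_center_of_class hD (layer G) fun n hn d hd => h d hd n hn
  rw [eq_bot_iff, ← Local.layer_commutator, commutator_le]
  intro a ha b hb
  rw [mem_bot, commutatorElement_eq_one_iff_mul_comm]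
  exact (mem_center_iff.mp (hc ha) b).symm

theorem TT.layer_eq_bot_two (h : TT D) (hD : IsThreeTranspositionClass D) (hD2 : ∃ a ∈ D, ∃ b ∈ D, a ≠ b)
    (hq : ¬ pCore 2 G ≤ center G) : layer G = ⊥ := by
  haveI : Fact (Nat.Prime 2) := ⟨Nat.prime_two⟩
  haveI := Local.layer_normal (G := G)
  refine layer_eq_bot_of_centralized hD fun d hd => ?_
  refine h.centralizes_perfect (layer G) Local.layer_commutator Local.layer_le_centralizer_fitting hd (Or.inl ?_)
  intro e he hne
  obtain ⟨v, hv, hvd⟩ := h.exists_vset_ne hD hD2 hq hd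
  have hu : e * (d * v) * e⁻¹ = d * v := mul_inv_eq_iff_eq_mul.mpr
    (mem_centralizer_iff.mp (Local.layer_le_centralizer_fitting he) _
      (Solv.pCore_le_fittingSubgroup 2 (h.mul_mem_two_of_vset hd hv))).symm
  rw [cj'] at hu
  have hd' := h.conj e d hd
  have hv' := h.vset_conj e hv
  set d' := e * d * e⁻¹
  set v' := e * v * e⁻¹
  by_contra hn
  have hnv : ¬ Commute v d' := fun hc => hn ((hv.2 d' hd').mp hc)
  have hdv : Commute d v := vset_commute hd (vset_self hd) hv
  have hc' : Commute d' (d * v) := hu ▸ (Commute.refl d').mul_right (vset_commute hd' (vset_self hd') hv')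
  have e1 : d * v = d' * (d * v) * d' := by
    rw [hc'.eq, mul_assoc, h.mul_self hd', mul_one]
  have e3 : d * v = d * (d' * (d * v) * d') * v := by
    calc d * v = d' * (d * v) * d' := e1
      _ = (d' * d * d') * (d'⁻¹ * v * d') := by group
      _ = (d * d' * d) * (v * d' * v) := by
        rw [h.inv_eq hd', ← h.braid hd hd' hn, h.braid hd' hv.1 fun c => hnv c.symm]
      _ = d * (d' * (d * v) * d') * v := by group
  rw [← e1, ← mul_assoc, h.mul_self hd, one_mul, h.mul_self hv.1] at e3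
  exact hvd ((eq_inv_of_mul_eq_one_right e3).trans (h.inv_eq hd))

theorem TT.layer_eq_bot_three (h : TT D) (hD : IsThreeTranspositionClass D)
    (hq : ¬ pCore 3 G ≤ center G) : layer G = ⊥ := by
  haveI : Fact (Nat.Prime 3) := ⟨Nat.prime_three⟩
  haveI := Local.layer_normal (G := G)
  refine layer_eq_bot_of_centralized hD fun d hd => ?_
  refine h.centralizes_perfect (layer G) Local.layer_commutator Local.layer_le_centralizer_fitting hd (Or.inr ?_)
  intro e he hne hc
  obtain ⟨w, hw, hwd⟩ := h.exists_wset_ne hD hq hd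
  have hu : e * (d * w) * e⁻¹ = d * w := mul_inv_eq_iff_eq_mul.mpr
    (mem_centralizer_iff.mp (Local.layer_le_centralizer_fitting he) _
      (Solv.pCore_le_fittingSubgroup 3 (h.mul_mem_three_of_wset hd hw))).symm
  have hd' := h.conj e d hd
  obtain ⟨hne', hcw⟩ := (wset_iff hw hd').mp ⟨hne, hc⟩
  have hc' : Commute (e * d * e⁻¹) (d * w) := hc.symm.mul_right hcw.symm
  have hw' : e * w * e⁻¹ = (e * d * e⁻¹) * (d * w) := by
    have e0 : e * (d * w) * e⁻¹ = (e * d * e⁻¹) * (e * w * e⁻¹) := cj'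
    rw [← hu, e0, ← mul_assoc, h.mul_self hd', one_mul]
  have hu2 : (d * w) * (d * w) = 1 := by
    have := h.mul_self (h.conj e w hw.1)
    rw [hw', show e * d * e⁻¹ * (d * w) * (e * d * e⁻¹ * (d * w)) = e * d * e⁻¹ * ((d * w) * (e * d * e⁻¹)) * (d * w) by group,
      ← hc'.eq, show e * d * e⁻¹ * ((e * d * e⁻¹) * (d * w)) * (d * w) = ((e * d * e⁻¹) * (e * d * e⁻¹)) * ((d * w) * (d * w)) by group,
      h.mul_self hd', one_mul] at this
    exact this
  exact wset_not_commute (wset_self hd) hw (Ne.symm hwd) ((h.commute_iff hd hw.1).mpr hu2)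

theorem TT.pCore_le_center (h : TT D) (hD : IsThreeTranspositionClass D) {p : ℕ} (hp : p.Prime) (hp3 : 3 < p) :
    pCore p G ≤ center G := le_center_of_class hD _ fun n hn d hd => by
  haveI : Fact p.Prime := ⟨hp⟩
  exact (h.centralizes_pgroup hp hp3 _ (isPGroup_pCore p G) hd
    (normalizer_eq_top_iff.mpr (inferInstance : (pCore p G).Normal) ▸ mem_top d) n hn).symm.eq

theorem TT.fitting_eq_center (h : TT D) (hD : IsThreeTranspositionClass D)
    (h2 : pCore 2 G ≤ center G) (h3 : pCore 3 G ≤ center G) : fittingSubgroup G = center G := by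
  refine le_antisymm ?_ ?_
  · rw [fittingSubgroup_eq_iSup_pCore]
    refine iSup_le fun p => ?_
    by_cases e2 : (p : ℕ) = 2
    · rw [e2]; exact h2
    by_cases e3 : (p : ℕ) = 3
    · rw [e3]; exact h3
    exact h.pCore_le_center hD p.2 (by have := p.2.two_le; omega)
  · refine Solv.le_fittingSubgroup ?_
    letI : CommGroup (center G) := { (inferInstance : Group (center G)) with
      mul_comm := fun a b => Subtype.ext (mem_center_iff.mp b.2 a) }
    infer_instance

theorem TT.layer_ne_bot (h : TT D) (hD : IsThreeTranspositionClass D) (hD2 : ∃ a ∈ D, ∃ b ∈ D, a ≠ b)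
    (h2 : pCore 2 G ≤ center G) (h3 : pCore 3 G ≤ center G) : layer G ≠ ⊥ := by
  intro hE
  obtain ⟨d, hd, -⟩ := id hD2
  obtain ⟨e, he, hn⟩ := class_exists_not_commute hD hD2 hd
  have htop := Local.center_eq_top_of_layer_eq_bot hE (h.fitting_eq_center hD h2 h3).le
  exact hn (mem_center_iff.mp (htop.ge (mem_top e)) d)

universe u in
theorem three_power_quotient {X : Type u} [Group X] [Finite X]
    (h : ∀ x : X, x ^ 2 = 1 ∨ x ^ 3 = 1) : Group.IsSolvable X := by
  refine Char.solvable_of_card_prime_pow_mul 2 3 Nat.prime_two Nat.prime_three _ X rfl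
    ⟨(Nat.card X).factorization 2, (Nat.card X).factorization 3, ?_⟩
  have hsub : (Nat.card X).primeFactors ⊆ {2, 3} := by
    intro q hq
    obtain ⟨hqp, hqd, -⟩ := Nat.mem_primeFactors.mp hq
    haveI : Fact q.Prime := ⟨hqp⟩
    obtain ⟨x, hx⟩ := exists_prime_orderOf_dvd_card' q hqd
    rcases h x with e | e
    · have := orderOf_dvd_of_pow_eq_one e
      rw [hx] at this
      simp [(Nat.prime_dvd_prime_iff_eq hqp Nat.prime_two).mp this]
    · have := orderOf_dvd_of_pow_eq_one e
      rw [hx] at this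
      simp [(Nat.prime_dvd_prime_iff_eq hqp Nat.prime_three).mp this]
  conv_lhs => rw [Nat.prod_primeFactors_pow_factorization (n := Nat.card X) Nat.card_pos.ne']
  rw [Finset.prod_subset hsub (fun q _ hq => by
    rw [Finsupp.notMem_support_iff.mp (by rwa [Nat.support_factorization]), pow_zero])]
  rw [Finset.prod_pair (by norm_num)]

theorem TT.component_normal (h : TT D) (hD : IsThreeTranspositionClass D) {K : Subgroup G} (hK : IsComponent K) :
    K.Normal := by
  refine normalizer_eq_top_iff.mp (top_le_iff.mp (hD.2.2.ge.trans ((closure_le _).mpr fun d hd => ?_)))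
  by_contra hdK
  set K' := K.map (MulAut.conj d).toMonoidHom with hK'
  have hK'c : IsComponent K' := Local.isComponent_conj hK d
  have hne : K ≠ K' := fun e => hdK (by
    show d ∈ normalizer (K : Set G)
    rw [mem_normalizer_iff]
    intro x
    have hm : ∀ x ∈ K, d * x * d⁻¹ ∈ K := fun x hx => e.ge ⟨x, hx, rfl⟩
    refine ⟨hm x, fun hx => ?_⟩
    have h2 := hm _ hx
    rwa [h.inv_eq hd, show d * (d * x * d) * d = (d * d) * x * (d * d) by group, h.mul_self hd, one_mul, mul_one] at h2)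
  have hcc := commutator_eq_bot_iff_le_centralizer.mp (Local.components_commute hK hK'c hne)
  have hpow : ∀ k : K, (QuotientGroup.mk k : K ⧸ center K) ^ 2 = 1 ∨ (QuotientGroup.mk k : K ⧸ center K) ^ 3 = 1 := by
    intro k
    have hk' : d * (k : G)⁻¹ * d⁻¹ ∈ K' := ⟨_, inv_mem k.2, rfl⟩
    have hcm : Commute (k : G) (d * (k : G)⁻¹ * d⁻¹) := (mem_centralizer_iff.mp (hcc k.2) _ hk').symm
    have hcase : ∀ n : ℕ, ((k : G) * d * (k : G)⁻¹ * d) ^ n = 1 → (QuotientGroup.mk k : K ⧸ center K) ^ n = 1 := by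
      intro n hn
      rw [show (k : G) * d * (k : G)⁻¹ * d = (k : G) * (d * (k : G)⁻¹ * d⁻¹) by rw [h.inv_eq hd]; group,
        hcm.mul_pow] at hn
      have hmem : (k : G) ^ n ∈ K' := by
        rw [mul_eq_one_iff_eq_inv.mp hn]
        exact inv_mem (pow_mem hk' n)
      rw [← QuotientGroup.mk_pow, QuotientGroup.eq_one_iff, mem_center_iff]
      intro g
      exact Subtype.ext (by simpa using (mem_centralizer_iff.mp (hcc g.2) _ hmem).symm)
    rcases h.set.2 _ (h.conj k d hd) d hd with e | e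
    · exact Or.inl (hcase 2 e)
    · exact Or.inr (hcase 3 e)
  haveI := hK.2.2
  refine Local.qs_not_isMulCommutative_quotient hK.2 ?_
  haveI := three_power_quotient (X := K ⧸ center K) fun x => QuotientGroup.induction_on x hpow
  exact ⟨⟨fun a b => IsSimpleGroup.comm_iff_isSolvable.mpr inferInstance a b⟩⟩

theorem component_commutator (K : Subgroup G) (hK : IsComponent K) : ⁅K, K⁆ = K := Local.component_eq_commutator hK

theorem component_le_centralizer_fit {K : Subgroup G} (hK : IsComponent K) :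
    K ≤ centralizer (fittingSubgroup G : Set G) :=
  commutator_eq_bot_iff_le_centralizer.mp (Local.component_commutator_fitting hK)

theorem TT.not_centralizes (h : TT D) (hD : IsThreeTranspositionClass D) {K : Subgroup G} (hK : IsComponent K)
    {d : G} (hd : d ∈ D) : ¬ ∀ k ∈ K, k * d = d * k := by
  intro hall
  haveI := h.component_normal hD hK
  have hc := le_center_of_class hD K fun k hk u hu => by
    obtain ⟨g, rfl⟩ := class_conj hD hd hu
    have h1 := hall _ ((inferInstance : K.Normal).conj_mem' k hk g)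
    calc k * (g * d * g⁻¹) = g * ((g⁻¹ * k * g) * d) * g⁻¹ := by group
      _ = g * d * g⁻¹ * k := by rw [h1]; group
  exact Local.qs_not_isMulCommutative hK.2
    ⟨⟨fun a b => Subtype.ext (mem_center_iff.mp (hc b.2) (a : G))⟩⟩

theorem TT.component_unique (h : TT D) (hD : IsThreeTranspositionClass D) {d : G} (hd : d ∈ D)
    {K L : Subgroup G} (hK : IsComponent K) (hL : IsComponent L) : K = L := by
  by_contra hne
  haveI := h.component_normal hD hK
  haveI := h.component_normal hD hL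
  have hKL := commutator_eq_bot_iff_le_centralizer.mp (Local.components_commute hK hL hne)
  have hcomm : ∀ a ∈ K, ∀ b ∈ L, Commute a b := fun a ha b hb => (mem_centralizer_iff.mp (hKL ha) b hb).symm
  by_cases hex : ∃ k ∈ K, k * d * k⁻¹ ≠ d ∧ Commute d (k * d * k⁻¹)
  · obtain ⟨k, hk, hk1, hk2⟩ := hex
    refine h.not_centralizes hD hL hd (h.centralizes_perfect L (component_commutator L hL)
      (component_le_centralizer_fit hL) hd (Or.inl fun l hl hl1 => ?_))
    by_contra hl2
    have hd' := h.conj k d hd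
    have hd'' := h.conj l d hd
    have hx : orderOf (k * d * k⁻¹ * d) = 2 := h.orderOf_mul_of_commute hd' hd hk2.symm hk1
    have hy : orderOf (l * d * l⁻¹ * d) = 3 := h.orderOf_mul_of_not_commute hd'' hd fun c => hl2 c.symm
    have hxK : k * d * k⁻¹ * d ∈ K := by
      have : d * k⁻¹ * d⁻¹ ∈ K := (inferInstance : K.Normal).conj_mem _ (inv_mem hk) d
      rw [h.inv_eq hd] at this
      rw [show k * d * k⁻¹ * d = k * (d * k⁻¹ * d) by group]
      exact mul_mem hk this
    have hyL : l * d * l⁻¹ * d ∈ L := by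
      have : d * l⁻¹ * d⁻¹ ∈ L := (inferInstance : L.Normal).conj_mem _ (inv_mem hl) d
      rw [h.inv_eq hd] at this
      rw [show l * d * l⁻¹ * d = l * (d * l⁻¹ * d) by group]
      exact mul_mem hl this
    have hkl : k * l * d * (k * l)⁻¹ * d = (l * d * l⁻¹ * d) * (k * d * k⁻¹ * d) := by
      calc k * l * d * (k * l)⁻¹ * d = k * (l * d * l⁻¹ * d) * (d⁻¹ * k⁻¹ * d) := by group
        _ = (l * d * l⁻¹ * d) * k * (d⁻¹ * k⁻¹ * d) := by rw [(hcomm k hk _ hyL).eq]
        _ = _ := by rw [h.inv_eq hd]; group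
    have hxy : Commute (l * d * l⁻¹ * d) (k * d * k⁻¹ * d) := (hcomm _ hxK _ hyL).symm
    have horder := hxy.orderOf_mul_eq_mul_orderOf_of_coprime (by rw [hx, hy]; norm_num)
    rw [hx, hy, ← hkl] at horder
    rcases h.set.2 _ (h.conj (k * l) d hd) d hd with e | e <;>
    · have := Nat.le_of_dvd (by norm_num) (orderOf_dvd_of_pow_eq_one e)
      omega
  · push Not at hex
    exact h.not_centralizes hD hK hd (h.centralizes_perfect K (component_commutator K hK)
      (component_le_centralizer_fit hK) hd (Or.inr fun k hk hk1 => hex k hk hk1))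

theorem TT.exists_layer_component (h : TT D) (hD : IsThreeTranspositionClass D) (hD2 : ∃ a ∈ D, ∃ b ∈ D, a ≠ b)
    (h2 : pCore 2 G ≤ center G) (h3 : pCore 3 G ≤ center G) :
    IsComponent (layer G) ∧ (layer G).Normal ∧ generalizedFittingSubgroup G = layer G ⊔ center G := by
  obtain ⟨d, hd, -⟩ := id hD2
  obtain ⟨K, hK⟩ : ∃ K : Subgroup G, IsComponent K := by
    by_contra hno
    push Not at hno
    exact h.layer_ne_bot hD hD2 h2 h3 (eq_bot_iff.mpr (sSup_le fun K hK => absurd hK (hno K)))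
  have e : layer G = K := le_antisymm (sSup_le fun L hL => (h.component_unique hD hd hL hK).le) (le_sSup hK)
  refine ⟨e ▸ hK, Local.layer_normal, ?_⟩
  rw [generalizedFittingSubgroup, h.fitting_eq_center hD h2 h3]

theorem TT.coset_of_component (h : TT D) (hD : IsThreeTranspositionClass D) {L : Subgroup G} [hn : L.Normal]
    (hL : IsQuasisimple L) {a b : G} (ha : a ∈ D) (hb : b ∈ D) (hab : a * b * a⁻¹ * b⁻¹ ∈ L) : a⁻¹ * b ∈ L := by
  rw [h.inv_eq ha]
  by_contra hnot
  have hLc : IsComponent L := ⟨hn.isSubnormal, hL⟩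
  rw [h.inv_eq ha, h.inv_eq hb] at hab
  have hc0 : Commute a b := by
    by_contra hc
    refine hnot ?_
    have e : (a * b * a * b) * (a * b) = 1 := by rw [← h.cube ha hb hc]; group
    rw [mul_eq_one_iff_eq_inv] at e
    have := inv_mem hab
    rw [e, inv_inv] at this
    exact this
  have hall : ∀ e ∈ L, Commute (e * a * e⁻¹) b := fun e he => by
    by_contra hc
    refine hnot (h.mem_of_congr ha hb L (h.conj e a ha) ?_ hc0 hc)
    rw [show a * (e * a * e⁻¹) = (a * e * a⁻¹) * (a * a) * e⁻¹ by group, h.mul_self ha, mul_one]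
    exact mul_mem (hn.conj_mem _ he a) (inv_mem he)
  set N := L ⊓ centralizer ({b} : Set G) with hN
  have hcm : ∀ e ∈ L, e * a * e⁻¹ * a⁻¹ ∈ N := fun e he => by
    refine ⟨?_, (centralizer ({b} : Set G)).mul_mem (mem_centralizer_singleton_iff.mpr (hall e he).eq) ((centralizer ({b} : Set G)).inv_mem (mem_centralizer_singleton_iff.mpr hc0.eq))⟩
    rw [show e * a * e⁻¹ * a⁻¹ = e * (a * e⁻¹ * a⁻¹) by group]
    exact mul_mem he (hn.conj_mem _ (inv_mem he) a)
  set M := closure {x | ∃ e ∈ L, x = e * a * e⁻¹ * a⁻¹}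
  have hMN : M ≤ N := (closure_le _).mpr (by rintro _ ⟨e, he, rfl⟩; exact hcm e he)
  have hMn : (M.subgroupOf L).Normal := ⟨fun x hx g => by
    rw [mem_subgroupOf] at hx ⊢
    show (g : G) * x * (g : G)⁻¹ ∈ M
    generalize (x : G) = v at hx ⊢
    induction hx using closure_induction with
    | mem y hy =>
      obtain ⟨e, he, rfl⟩ := hy
      rw [show (g : G) * (e * a * e⁻¹ * a⁻¹) * (g : G)⁻¹ =
        ((g * e : G) * a * (g * e : G)⁻¹ * a⁻¹) * ((g : G) * a * (g : G)⁻¹ * a⁻¹)⁻¹ by group]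
      exact mul_mem (subset_closure ⟨_, mul_mem g.2 he, rfl⟩) (inv_mem (subset_closure ⟨_, g.2, rfl⟩))
    | one => rw [mul_one, mul_inv_cancel]; exact one_mem _
    | mul u v _ _ iu iv => rw [cj']; exact mul_mem iu iv
    | inv u _ iu => rw [show (g : G) * u⁻¹ * (g : G)⁻¹ = ((g : G) * u * (g : G)⁻¹)⁻¹ by group]; exact inv_mem iu⟩
  rcases Local.qs_normal_le_center_or_eq_top hL (M.subgroupOf L) (hN := hMn) with e | e
  · refine h.not_centralizes hD hLc ha (perfect_centralizes L (component_commutator L hLc) a fun x hx y hy => ?_)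
    have h1 : x * a * x⁻¹ * a⁻¹ ∈ L := (hcm x hx).1
    have h2 := mem_center_iff.mp (e (show (⟨_, h1⟩ : L) ∈ M.subgroupOf L from subset_closure ⟨x, hx, rfl⟩)) ⟨y, hy⟩
    exact (congrArg Subtype.val h2).symm
  · refine h.not_centralizes hD hLc hb fun k hk => ?_
    exact mem_centralizer_singleton_iff.mp (hMN (show k ∈ M from e.ge (mem_top (⟨k, hk⟩ : L)))).2

theorem index_le_two_of_zpowers (L : Subgroup G) [L.Normal] {d : G} (hd : orderOf d = 2)
    (h : L ⊔ zpowers d = ⊤) : L.index ≤ 2 := by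
  have hsurj : Function.Surjective (fun i : Fin 2 => ((d ^ (i : ℕ) : G) : G ⧸ L)) := by
    intro q
    induction q using QuotientGroup.induction_on with
    | H g =>
      obtain ⟨l, hl, e, he, rfl⟩ := mem_sup_of_normal_left.mp (h.ge (mem_top g))
      obtain ⟨i, hi⟩ := mem_powers_iff_mem_zpowers.mpr he
      simp only at hi
      rw [← pow_mod_orderOf, hd] at hi
      refine ⟨⟨i % 2, Nat.mod_lt _ (by norm_num)⟩, QuotientGroup.eq.mpr ?_⟩
      show (d ^ (i % 2))⁻¹ * (l * e) ∈ L
      rw [hi, ← mul_assoc]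
      exact (inferInstance : L.Normal).conj_mem' l hl e
  simpa [index] using Nat.card_le_card_of_surjective _ hsurj

theorem TT.connected_index (h : TT D) (hD : IsThreeTranspositionClass D) {L : Subgroup G} [hn : L.Normal]
    (hL : IsQuasisimple L) (hc : (commutingGraph D).Connected) : L.index ≤ 2 := by
  obtain ⟨d, hd, -⟩ := hD.2.1
  refine index_le_two_of_zpowers L (h.order_two hd) (top_le_iff.mp (hD.2.2.ge.trans ((closure_le _).mpr fun e he => ?_)))
  have key : ∀ u v : D, (commutingGraph D).Walk u v → (u : G)⁻¹ * v ∈ L := by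
    intro u v w
    induction w with
    | nil => rw [inv_mul_cancel]; exact one_mem _
    | @cons u m v huv _ ih =>
      have hum : Commute (u : G) m := huv.2.elim id fun e => e.symm
      have h1 : (u : G)⁻¹ * m ∈ L := h.coset_of_component hD hL u.2 m.2 (by
        rw [hum.eq, mul_inv_cancel_right, mul_inv_cancel]; exact one_mem _)
      have := mul_mem h1 ih
      rwa [mul_assoc, mul_inv_cancel_left] at this
  obtain ⟨w⟩ := hc.preconnected ⟨d, hd⟩ ⟨e, he⟩
  have h2 := key _ _ w
  have := mul_mem (mem_sup_right (mem_zpowers d) : d ∈ L ⊔ zpowers d) (mem_sup_left h2)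
  simpa using this

theorem TT.centralizer_le_center (h : TT D) (hD : IsThreeTranspositionClass D) (h2 : pCore 2 G ≤ center G)
    (h3 : pCore 3 G ≤ center G) {L : Subgroup G} [hn : L.Normal]
    (hF : generalizedFittingSubgroup G = L ⊔ center G) : centralizer (L : Set G) ≤ center G := by
  intro x hx
  have hxF : x ∈ generalizedFittingSubgroup G := by
    refine Local.centralizer_generalizedFitting_le ?_
    rw [hF, mem_centralizer_iff]
    intro v hv
    obtain ⟨l, hl, c, hc, rfl⟩ := mem_sup_of_normal_left.mp (SetLike.mem_coe.mp hv)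
    exact (((show Commute l x from mem_centralizer_iff.mp hx l hl)).mul_left
      (show Commute c x from (mem_center_iff.mp hc x).symm)).eq
  obtain ⟨l, hl, c, hc, rfl⟩ := mem_sup_of_normal_left.mp (hF ▸ hxF : x ∈ L ⊔ center G)
  have hA : IsMulCommutative (L ⊓ centralizer (L : Set G) : Subgroup G) := ⟨⟨fun a b => Subtype.ext
    (mem_centralizer_iff.mp b.2.2 a a.2.1)⟩⟩
  have hAF : L ⊓ centralizer (L : Set G) ≤ fittingSubgroup G := by
    refine Solv.le_fittingSubgroup ?_
    letI : CommGroup (L ⊓ centralizer (L : Set G) : Subgroup G) :=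
      { (inferInstance : Group _) with mul_comm := hA.is_comm.comm }
    infer_instance
  rw [h.fitting_eq_center hD h2 h3] at hAF
  refine mul_mem (hAF ⟨hl, ?_⟩) hc
  rw [show l = l * c * c⁻¹ by group]
  exact (centralizer (L : Set G)).mul_mem hx ((centralizer (L : Set G)).inv_mem (center_le_centralizer _ hc))

theorem TT.primitive_of_index (h : TT D) (hD : IsThreeTranspositionClass D) (hD2 : ∃ a ∈ D, ∃ b ∈ D, a ≠ b)
    (h2 : pCore 2 G ≤ center G) (h3 : pCore 3 G ≤ center G) {L : Subgroup G} [hn : L.Normal]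
    (hL : IsQuasisimple L) (hF : generalizedFittingSubgroup G = L ⊔ center G) (hi : L.index ≤ 2) :
    IsPrimitiveUnderConj D := by
  refine ⟨fun a ha b hb => class_conj hD ha hb, hD2, fun B hBD hblock => ?_⟩
  by_contra hcon
  push Not at hcon
  obtain ⟨hns, hne⟩ := hcon
  obtain ⟨d, hdB, a, haB, had⟩ := hns
  have hd := hBD hdB
  have ha := hBD haB
  let T : G → Set G := fun g => (fun x => g * x * g⁻¹) '' B
  have hT : ∀ g k : G, (fun x => k * x * k⁻¹) '' T g = T (k * g) := fun g k => by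
    show _ '' (_ '' B) = _
    rw [Set.image_image]
    exact Set.image_congr fun x _ => by group
  have hT1 : T 1 = B := by simp [T]
  have huniq : ∀ g g' x, x ∈ T g → x ∈ T g' → T g = T g' := by
    intro g g' x hx hx'
    rcases hblock (g'⁻¹ * g) with e | e
    · have h1 := congrArg (fun S => (fun x => g' * x * g'⁻¹) '' S) (show T (g'⁻¹ * g) = B from e)
      simp only [hT] at h1
      rwa [mul_inv_cancel_left] at h1
    · obtain ⟨u, hu, hux⟩ := hx
      obtain ⟨v, hv, hvx⟩ := hx'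
      refine absurd hv (Set.disjoint_left.mp e ⟨u, hu, ?_⟩)
      have hux' : g * u * g⁻¹ = x := hux
      have hvx' : g' * v * g'⁻¹ = x := hvx
      calc g'⁻¹ * g * u * (g'⁻¹ * g)⁻¹ = g'⁻¹ * (g * u * g⁻¹) * g' := by group
        _ = v := by rw [hux', ← hvx']; group
  have hfix : ∀ x ∈ B, T x = B := fun x hx => (huniq x 1 x ⟨x, hx, by group⟩ (by rw [hT1]; exact hx)).trans hT1
  have hdis : ∀ c ∈ D, c ∉ B → Commute c d → Commute c a := by
    intro c hc hcB hcd
    by_contra hn'
    have hcfix : T c = B := (huniq c 1 d ⟨d, hdB, show c * d * c⁻¹ = d by rw [hcd.eq, mul_inv_cancel_right]⟩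
      (by rw [hT1]; exact hdB)).trans hT1
    have h1 : c * a * c ∈ B := by
      rw [← hcfix]; exact ⟨a, haB, by show c * a * c⁻¹ = _; rw [h.inv_eq hc]⟩
    rw [h.braid hc ha hn'] at h1
    have h4 : a * (a * c * a) * a⁻¹ ∈ T a := ⟨_, h1, rfl⟩
    rw [hfix a haB, h.inv_eq ha, show a * (a * c * a) * a = (a * a) * c * (a * a) by group, h.mul_self ha,
      one_mul, mul_one] at h4
    exact hcB h4
  have hdis' : ∀ c ∈ D, c ∉ B → Commute c a → Commute c d := by
    intro c hc hcB hca
    by_contra hn'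
    have hcfix : T c = B := (huniq c 1 a ⟨a, haB, show c * a * c⁻¹ = a by rw [hca.eq, mul_inv_cancel_right]⟩
      (by rw [hT1]; exact haB)).trans hT1
    have h1 : c * d * c ∈ B := by
      rw [← hcfix]; exact ⟨d, hdB, by show c * d * c⁻¹ = _; rw [h.inv_eq hc]⟩
    rw [h.braid hc hd hn'] at h1
    have h4 : d * (d * c * d) * d⁻¹ ∈ T d := ⟨_, h1, rfl⟩
    rw [hfix d hdB, h.inv_eq hd, show d * (d * c * d) * d = (d * d) * c * (d * d) by group, h.mul_self hd,
      one_mul, mul_one] at h4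
    exact hcB h4
  let K : Subgroup G :=
    { carrier := {g | ∀ k, T (g * k) = T k}
      one_mem' := fun k => by rw [one_mul]
      mul_mem' := fun {g g'} hg hg' k => by rw [mul_assoc, hg, hg']
      inv_mem' := fun {g} hg k => by rw [← hg (g⁻¹ * k), mul_inv_cancel_left] }
  haveI hKn : K.Normal := ⟨fun g hg k m => by
    rw [show k * g * k⁻¹ * m = k * (g * (k⁻¹ * m)) by group, ← hT, hg, hT, mul_inv_cancel_left]⟩
  have hu : a * d ∈ K := by
    intro k
    obtain ⟨hc, hcD⟩ : k * d * k⁻¹ ∈ T k ∧ k * d * k⁻¹ ∈ D := ⟨⟨d, hdB, rfl⟩, h.conj k d hd⟩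
    set c := k * d * k⁻¹
    have e : T (d * k) = T (a * k) := by
      by_cases hcB : c ∈ B
      · have hk : T k = T 1 := huniq k 1 c hc (by rw [hT1]; exact hcB)
        have e1 : ∀ u, T (u * k) = T u := fun u => by rw [← hT k u, hk, hT, mul_one]
        rw [e1, e1, hfix d hdB, hfix a haB]
      by_cases hcd : Commute c d
      · have hca := hdis c hcD hcB hcd
        have m1 : d * c * d⁻¹ ∈ T (d * k) := by rw [← hT k d]; exact ⟨c, hc, rfl⟩
        have m2 : a * c * a⁻¹ ∈ T (a * k) := by rw [← hT k a]; exact ⟨c, hc, rfl⟩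
        rw [show d * c * d⁻¹ = c by rw [← hcd.eq, mul_inv_cancel_right]] at m1
        rw [show a * c * a⁻¹ = c by rw [← hca.eq, mul_inv_cancel_right]] at m2
        exact huniq _ _ c m1 m2
      · have hca : ¬ Commute c a := fun e => hcd (hdis' c hcD hcB e)
        have m1 : d * c * d⁻¹ ∈ T (d * k) := by rw [← hT k d]; exact ⟨c, hc, rfl⟩
        have m2 : a * c * a⁻¹ ∈ T (a * k) := by rw [← hT k a]; exact ⟨c, hc, rfl⟩
        have n1 : d * c * d⁻¹ ∈ T c := by
          rw [h.inv_eq hd, ← h.braid hcD hd hcd]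
          exact ⟨d, hdB, by show c * d * c⁻¹ = _; rw [h.inv_eq hcD]⟩
        have n2 : a * c * a⁻¹ ∈ T c := by
          rw [h.inv_eq ha, ← h.braid hcD ha hca]
          exact ⟨a, haB, by show c * a * c⁻¹ = _; rw [h.inv_eq hcD]⟩
        exact (huniq _ _ _ m1 n1).trans (huniq _ _ _ n2 m2)
    rw [mul_assoc, ← hT (d * k) a, e, hT, ← mul_assoc, h.mul_self ha, one_mul]
  have hLc : IsComponent L := ⟨hn.isSubnormal, hL⟩
  haveI : (K.subgroupOf L).Normal := inferInstance
  have hKc : K ≤ center G := by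
    rcases Local.qs_normal_le_center_or_eq_top hL (K.subgroupOf L) with e | e
    · refine le_trans (fun k hk => mem_centralizer_iff.mpr fun l hl => ?_) (h.centralizer_le_center hD h2 h3 hF)
      refine perfect_centralizes L (component_commutator L hLc) k (fun x hx y hy => ?_) l hl
      have h1 : x * k * x⁻¹ * k⁻¹ ∈ L := by
        rw [show x * k * x⁻¹ * k⁻¹ = x * (k * x⁻¹ * k⁻¹) by group]
        exact mul_mem hx (hn.conj_mem _ (inv_mem hx) k)
      have h1' : x * k * x⁻¹ * k⁻¹ ∈ K := mul_mem (hKn.conj_mem k hk x) (inv_mem hk)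
      exact (congrArg Subtype.val (mem_center_iff.mp (e (show (⟨_, h1⟩ : L) ∈ K.subgroupOf L from h1')) ⟨y, hy⟩)).symm
    · exfalso
      have hLK : L ≤ K := fun l hl => e.ge (mem_top (⟨l, hl⟩ : L))
      apply hne
      refine Set.Subset.antisymm hBD fun x hx => ?_
      obtain ⟨g, rfl⟩ := class_conj hD hd hx
      suffices T g = B by rw [← this]; exact ⟨d, hdB, rfl⟩
      by_cases htop : L = ⊤
      · have := hLK (htop ▸ mem_top g) 1
        rwa [mul_one, hT1] at this
      have hdL : d ∉ L := fun hdL => htop (top_le_iff.mp (hD.2.2.ge.trans ((closure_le _).mpr fun u hu => by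
        obtain ⟨k, rfl⟩ := class_conj hD hd hu
        exact hn.conj_mem d hdL k)))
      have hi2 : L.index = 2 := by
        have h0 : L.index ≠ 0 := index_ne_zero_of_finite
        have h1 : L.index ≠ 1 := fun e => htop (index_eq_one.mp e)
        omega
      by_cases hg : g ∈ L
      · have := hLK hg 1
        rwa [mul_one, hT1] at this
      · have hgd : g * d ∈ L := (mul_mem_iff_of_index_two hi2).mpr (iff_of_false hg hdL)
        have := hLK hgd d
        rw [show g * d * d = g * (d * d) by group, h.mul_self hd, mul_one, hfix d hdB] at this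
        exact this
  have hz := mem_center_iff.mp (hKc hu)
  have haV : a ∈ Vset D d := by
    refine ⟨ha, fun e he => ?_⟩
    have hce : Commute (a * d) e := (hz e).symm
    constructor
    · intro hae
      have := ((show Commute a e from hae).inv_left).mul_left hce
      rwa [inv_mul_cancel_left] at this
    · intro hde
      have := hce.mul_left ((show Commute d e from hde).inv_left)
      rwa [mul_inv_cancel_right] at this
  obtain ⟨g, hg, rfl⟩ := (h.vset_orbit hd (class_exists_not_commute hD hD2 hd)).mp haV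
  exact had (show d = g * d * g⁻¹ by rw [← mem_center_iff.mp (h2 hg) d, mul_inv_cancel_right])

theorem class_of_primitive (hD : IsThreeTranspositionGroup D) (hprim : IsPrimitiveUnderConj D) :
    IsThreeTranspositionClass D := by
  obtain ⟨d, hd, -⟩ := hprim.2.1
  exact ⟨hD.1, ⟨d, hd, Set.Subset.antisymm (fun x hx => isConj_iff.mpr (hprim.1 d hd x hx)) fun x hx => by
    obtain ⟨g, rfl⟩ := isConj_iff.mp (show IsConj d x from hx)
    exact hD.2.1 g d hd⟩, hD.2.2⟩

theorem TT.cores_of_primitive (h : TT D) (hD : IsThreeTranspositionClass D) (hprim : IsPrimitiveUnderConj D)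
    (hw : ∃ a ∈ D, ∃ b ∈ D, a ≠ b ∧ Commute a b) : pCore 2 G ≤ center G ∧ pCore 3 G ≤ center G := by
  obtain ⟨hcj, hD2, hbl⟩ := hprim
  obtain ⟨d, hd, -⟩ := id hD2
  have himg : ∀ (S : G → Set G), (∀ g u v, v ∈ S u → g * v * g⁻¹ ∈ S (g * u * g⁻¹)) →
      (∀ u v, v ∈ S u → S v = S u) → ∀ g : G,
      (fun x => g * x * g⁻¹) '' S d = S d ∨ Disjoint ((fun x => g * x * g⁻¹) '' S d) (S d) := by
    intro S h1 h2 g
    have e : (fun x => g * x * g⁻¹) '' S d = S (g * d * g⁻¹) := by
      refine Set.Subset.antisymm (by rintro _ ⟨x, hx, rfl⟩; exact h1 g d x hx) fun x hx => ⟨g⁻¹ * x * g, ?_, by group⟩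
      have := h1 g⁻¹ _ x hx
      simpa [mul_assoc] using this
    rw [e]
    by_contra hcon
    push Not at hcon
    obtain ⟨x, hx1, hx2⟩ := Set.not_disjoint_iff.mp hcon.2
    exact hcon.1 ((h2 _ _ hx1).symm.trans (h2 _ _ hx2))
  constructor
  · by_contra hq
    obtain ⟨v, hv, hvd⟩ := h.exists_vset_ne hD hD2 hq hd
    rcases hbl (Vset D d) (fun x hx => hx.1) (himg (Vset D) (fun g u v hv => h.vset_conj g hv) fun u v hv => vset_eq_of_mem hv) with e | e
    · exact hvd (e hv (vset_self hd))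
    · obtain ⟨u, hu, hnu⟩ := class_exists_not_commute hD hD2 hd
      exact hnu (vset_commute hd (vset_self hd) (e.ge hu))
  · by_contra hq
    obtain ⟨w, hwm, hwd⟩ := h.exists_wset_ne hD hq hd
    rcases hbl (Wset D d) (fun x hx => hx.1) (himg (Wset D) (fun g u v hv => h.wset_conj g hv) fun u v hv => wset_eq_of_mem hv) with e | e
    · exact hwd (e hwm (wset_self hd))
    · obtain ⟨a, ha, b, hb, hne, hc⟩ := hw
      exact wset_not_commute (e.ge ha) (e.ge hb) hne hc

theorem connected_of_primitive (h : TT D) (hprim : IsPrimitiveUnderConj D)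
    (hw : ∃ a ∈ D, ∃ b ∈ D, a ≠ b ∧ Commute a b) : (commutingGraph D).Connected := by
  obtain ⟨hcj, -, hbl⟩ := hprim
  obtain ⟨a, ha, b, hb, hne, hc⟩ := hw
  let cg : G → commutingGraph D →g commutingGraph D := fun g =>
    { toFun := fun u => ⟨g * u.1 * g⁻¹, h.conj g u.1 u.2⟩
      map_rel' := by
        intro u v huv
        refine ⟨fun e => huv.1 (Subtype.ext (mul_left_cancel (mul_right_cancel (congrArg Subtype.val e)))), ?_⟩
        rcases huv.2 with e | e
        exacts [Or.inl (commute_conj.mpr e), Or.inr (commute_conj.mpr e)] }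
  let B : Set G := {x | ∃ hx : x ∈ D, (commutingGraph D).Reachable ⟨a, ha⟩ ⟨x, hx⟩}
  have hblk : ∀ g : G, (fun x => g * x * g⁻¹) '' B = B ∨ Disjoint ((fun x => g * x * g⁻¹) '' B) B := by
    intro g
    by_cases hg : (commutingGraph D).Reachable ⟨a, ha⟩ (cg g ⟨a, ha⟩)
    · left
      refine Set.Subset.antisymm ?_ fun x ⟨hx, hr⟩ => ⟨g⁻¹ * x * g, ⟨by simpa using h.conj g⁻¹ x hx, ?_⟩, by group⟩
      · rintro _ ⟨x, ⟨hx, hr⟩, rfl⟩
        exact ⟨h.conj g x hx, hg.trans (SimpleGraph.Reachable.map (cg g) hr)⟩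
      · have h1 := SimpleGraph.Reachable.map (cg g⁻¹) (hg.symm.trans hr)
        have e1 : cg g⁻¹ (cg g ⟨a, ha⟩) = ⟨a, ha⟩ := Subtype.ext (by
          show g⁻¹ * (g * a * g⁻¹) * g⁻¹⁻¹ = a
          group)
        rw [e1] at h1
        have e2 : cg g⁻¹ ⟨x, hx⟩ = ⟨g⁻¹ * x * g, by simpa using h.conj g⁻¹ x hx⟩ := Subtype.ext (by
          show g⁻¹ * x * g⁻¹⁻¹ = g⁻¹ * x * g
          group)
        rwa [e2] at h1
    · right
      rw [Set.disjoint_left]
      rintro _ ⟨x, ⟨hx, hr⟩, rfl⟩ ⟨hy, hry⟩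
      exact hg (hry.trans (SimpleGraph.Reachable.map (cg g) hr).symm)
  rcases hbl B (fun x hx => hx.1) hblk with e | e
  · exact absurd (e ⟨ha, SimpleGraph.Reachable.refl _⟩
      ⟨hb, SimpleGraph.Adj.reachable ⟨fun e' => hne (congrArg Subtype.val e'), Or.inl hc⟩⟩) hne
  · haveI : Nonempty D := ⟨⟨a, ha⟩⟩
    exact ⟨fun u v => ((e.ge u.2).2).symm.trans (e.ge v.2).2⟩

/-- The group generated by the commutants of a member is a maximal `D`-subgroup. -/
theorem TT.dsub_maximal (h : TT D) (hD : IsThreeTranspositionClass D) (hprim : IsPrimitiveUnderConj D)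
    (hw : ∃ a ∈ D, ∃ b ∈ D, a ≠ b ∧ Commute a b) {d : G} (hd : d ∈ D) (H : Subgroup G) (hH : IsDSubgroup D H)
    (hM : closure {y | y ∈ D ∧ Commute d y} ≤ H) : H = closure {y | y ∈ D ∧ Commute d y} ∨ H = ⊤ := by
  classical
  by_contra hcon
  push Not at hcon
  obtain ⟨Hm, ⟨hHm1, hHm2, hHm3⟩, hmax⟩ := (Set.toFinite {H' : Subgroup G | IsDSubgroup D H' ∧ H ≤ H' ∧ H' ≠ ⊤}).exists_maximal
    ⟨H, hH, le_rfl, hcon.2⟩
  obtain ⟨e, heD, heH, hde⟩ : ∃ e ∈ D, e ∈ Hm ∧ ¬ Commute d e := by
    by_contra hall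
    push Not at hall
    refine hcon.1 (le_antisymm ?_ hM)
    conv_lhs => rw [← hH]
    exact closure_mono fun y hy => ⟨hy.1, hall y hy.1 (hHm2 hy.2)⟩
  have hdH : d ∈ Hm := hHm2 (hM (subset_closure ⟨hd, Commute.refl d⟩))
  set B : Set G := {x | ∃ k ∈ Hm, k * d * k⁻¹ = x}
  have hBD : B ⊆ D := by rintro _ ⟨k, -, rfl⟩; exact h.conj k d hd
  have hBH : ∀ x ∈ B, x ∈ Hm := by rintro _ ⟨k, hk, rfl⟩; exact mul_mem (mul_mem hk hdH) (inv_mem hk)
  have hdB : d ∈ B := ⟨1, one_mem _, by group⟩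
  have h1 : ∀ x ∈ B, ∀ y ∈ D, Commute x y → y ∈ Hm := by
    rintro _ ⟨k, hk, rfl⟩ y hy hc
    have hy' : k⁻¹ * y * k ∈ D := by simpa using h.conj k⁻¹ y hy
    have hc' : Commute d (k⁻¹ * y * k) := by
      rw [← commute_conj (g := k)]
      simpa [mul_assoc] using hc
    have := mul_mem (mul_mem hk (hHm2 (hM (subset_closure ⟨hy', hc'⟩)))) (inv_mem hk)
    simpa [mul_assoc] using this
  have h2 : ∀ x ∈ B, ∀ z ∈ D, z ∈ Hm → z ∉ B → Commute x z := by
    intro x hx z hz hzH hzB
    by_contra hn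
    obtain ⟨k, hk, rfl⟩ := id hx
    refine hzB ⟨k * d * k⁻¹ * z * k, mul_mem (mul_mem (hBH _ hx) hzH) hk, ?_⟩
    rw [show k * d * k⁻¹ * z * k * d * (k * d * k⁻¹ * z * k)⁻¹ =
      (k * d * k⁻¹ * z) * (k * d * k⁻¹) * (k * d * k⁻¹ * z)⁻¹ by group]
    exact h.conj_product (hBD hx) hz hn
  -- blocks
  have hblock : ∀ g : G, (fun x => g * x * g⁻¹) '' B = B ∨ Disjoint ((fun x => g * x * g⁻¹) '' B) B := by
    intro g
    by_contra hb
    push Not at hb
    obtain ⟨hne, hdis⟩ := hb
    obtain ⟨x, hxB', hxB⟩ := Set.not_disjoint_iff.mp hdis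
    set B' := (fun x => g * x * g⁻¹) '' B
    set H' := Hm.map (MulAut.conj g).toMonoidHom
    have hmemH' : ∀ k, k ∈ H' ↔ g⁻¹ * k * g ∈ Hm := fun k =>
      ⟨fun ⟨w, hw', e⟩ => by rw [← e]; simpa [mul_assoc] using hw',
        fun hk => ⟨_, hk, by show g * (g⁻¹ * k * g) * g⁻¹ = k; group⟩⟩
    have hB'D : B' ⊆ D := by rintro _ ⟨y, hy, rfl⟩; exact h.conj g y (hBD hy)
    have h1' : ∀ u ∈ B', ∀ y ∈ D, Commute u y → y ∈ H' := by
      rintro _ ⟨u, hu, rfl⟩ y hy hc
      refine (hmemH' y).mpr (h1 u hu _ (by simpa using h.conj g⁻¹ y hy) ?_)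
      rw [← commute_conj (g := g)]
      simpa [mul_assoc] using hc
    have h2' : ∀ u ∈ B', ∀ z ∈ D, z ∈ H' → z ∉ B' → Commute u z := by
      rintro _ ⟨u, hu, rfl⟩ z hz hzH hzB
      have := h2 u hu _ (by simpa using h.conj g⁻¹ z hz) ((hmemH' z).mp hzH) fun hc => hzB ⟨_, hc, by group⟩
      rw [← commute_conj (g := g)] at this
      simpa [mul_assoc] using this
    have hstable : ∀ k ∈ H', ∀ u ∈ B', k * u * k⁻¹ ∈ B' := by
      rintro k hk _ ⟨u, ⟨m, hm, rfl⟩, rfl⟩
      exact ⟨_, ⟨g⁻¹ * k * g * m, mul_mem ((hmemH' k).mp hk) hm, rfl⟩, by group⟩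
    obtain ⟨z, hzD, hzH', u, ⟨huB, huB'⟩, hzu⟩ : ∃ z ∈ D, z ∈ H' ∧ ∃ u, (u ∈ B ∧ u ∈ B') ∧ ¬ (z * u * z⁻¹ ∈ B) := by
      by_contra hall
      push Not at hall
      have hsub : B' ⊆ B := by
        intro w hw'
        obtain ⟨w0, ⟨m, hm, rfl⟩, rfl⟩ := hw'
        obtain ⟨x0, ⟨n, hn, rfl⟩, hxe⟩ := hxB'
        have hxe' : g * (n * d * n⁻¹) * g⁻¹ = x := hxe
        set k := g * m * n⁻¹ * g⁻¹
        have hk : k ∈ H' := (hmemH' k).mpr (by
          rw [show g⁻¹ * k * g = m * n⁻¹ by simp [k, mul_assoc]]; exact mul_mem hm (inv_mem hn))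
        suffices ∀ k ∈ H', ∀ v, v ∈ B → v ∈ B' → k * v * k⁻¹ ∈ B by
          have := this k hk x hxB ⟨_, ⟨n, hn, rfl⟩, hxe⟩
          show g * (m * d * m⁻¹) * g⁻¹ ∈ B
          rwa [← hxe', show k * (g * (n * d * n⁻¹) * g⁻¹) * k⁻¹ = g * (m * d * m⁻¹) * g⁻¹ by simp [k, mul_assoc]] at this
        intro k hk
        have hk' : k ∈ closure ((fun x => g * x * g⁻¹) '' {y | y ∈ D ∧ y ∈ Hm}) := by
          have := hk
          rw [show H' = Hm.map (MulAut.conj g).toMonoidHom from rfl, ← hHm1, MonoidHom.map_closure] at this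
          exact this
        have hst : ∀ y ∈ closure ((fun x => g * x * g⁻¹) '' {y | y ∈ D ∧ y ∈ Hm}), y ∈ H' := fun y hy =>
          (closure_le _).mpr (by rintro _ ⟨w, hw', rfl⟩; exact (hmemH' _).mpr (by simpa [mul_assoc] using hw'.2)) hy
        induction hk' using closure_induction'' with
        | mem y hy =>
          obtain ⟨w, hw', rfl⟩ := hy
          exact fun v hv hv' => hall _ (h.conj g w hw'.1) hk v ⟨hv, hv'⟩
        | inv_mem y hy =>
          obtain ⟨w, hw', rfl⟩ := hy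
          have e : (g * w * g⁻¹)⁻¹ = g * w * g⁻¹ := h.inv_eq (h.conj g w hw'.1)
          rw [e] at hk ⊢
          exact fun v hv hv' => hall _ (h.conj g w hw'.1) hk v ⟨hv, hv'⟩
        | one => exact fun v hv _ => by rwa [one_mul, inv_one, mul_one]
        | mul p q hp hq ip iq =>
          intro v hv hv'
          rw [show p * q * v * (p * q)⁻¹ = p * (q * v * q⁻¹) * p⁻¹ by group]
          exact ip (hst p hp) _ (iq (hst q hq) v hv hv') (hstable q (hst q hq) v hv')
      exact hne (Set.eq_of_subset_of_ncard_le hsub (le_of_eq (Set.ncard_image_of_injective B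
        fun a b e => mul_left_cancel (mul_right_cancel e)).symm) (Set.toFinite _))
    have hnzu : ¬ Commute u z := fun hc => hzu (by rw [← hc.eq, mul_inv_cancel_right]; exact huB)
    have hzB' : z ∈ B' := by_contra fun hc => hnzu (h2' u huB' z hzD hzH' hc)
    have hzH : z ∉ Hm := fun hc => hzu (by
      obtain ⟨m, hm, rfl⟩ := huB
      exact ⟨z * m, mul_mem hc hm, by group⟩)
    set Y : Set G := {y | y ∈ D ∧ y ∈ Hm ∧ y ∉ B}
    have hYz : ∀ w ∈ B', w ∈ B → True := fun _ _ _ => trivial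
    have hw' : ∃ w ∈ B, w ∉ H' := by
      by_contra hall
      push Not at hall
      have hsub : B ⊆ B' := fun b hb => by_contra fun hb' =>
        hzH (h1 b hb z hzD (h2' z hzB' b (hBD hb) (hall b hb) hb').symm)
      exact hne (Set.eq_of_subset_of_ncard_le hsub (le_of_eq (Set.ncard_image_of_injective B
        fun a b e => mul_left_cancel (mul_right_cancel e))) (Set.toFinite _)).symm
    obtain ⟨w, hwB, hwH'⟩ := hw'
    have hY : ∀ y ∈ Y, ∀ v ∈ B', Commute v y := fun y hy v hv => by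
      have hyu := h2 u huB y hy.1 hy.2.1 hy.2.2
      refine h2' v hv y hy.1 (h1' u huB' y hy.1 hyu) fun hyB' => ?_
      exact hwH' (h1' y hyB' w (hBD hwB) (h2 w hwB y hy.1 hy.2.1 hy.2.2).symm)
    by_cases hYne : Y.Nonempty
    · obtain ⟨y, hy⟩ := hYne
      have hS : IsDSubgroup D (closure (B ∪ B' ∪ Y)) := by
        refine le_antisymm ((closure_le _).mpr fun v hv => hv.2) ((closure_le _).mpr fun v hv => subset_closure ⟨?_, subset_closure hv⟩)
        rcases hv with (hv | hv) | hv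
        exacts [hBD hv, hB'D hv, hv.1]
      have hle : Hm ≤ closure (B ∪ B' ∪ Y) := by
        conv_lhs => rw [← hHm1]
        exact closure_mono fun v hv => if hvB : v ∈ B then Or.inl (Or.inl hvB) else Or.inr ⟨hv.1, hv.2, hvB⟩
      have htop : closure (B ∪ B' ∪ Y) = ⊤ := by
        by_contra hne'
        exact hzH (hmax ⟨hS, hHm2.trans hle, hne'⟩ hle (subset_closure (Or.inl (Or.inr hzB'))))
      set K := closure (B ∪ B')
      have hYc : ∀ y ∈ Y, ∀ k ∈ K, Commute k y := fun y hy k hk => by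
        induction hk using closure_induction with
        | mem v hv => rcases hv with hv | hv; exacts [h2 v hv y hy.1 hy.2.1 hy.2.2, hY y hy v hv]
        | one => exact Commute.one_left y
        | mul a b _ _ ia ib => exact ia.mul_left ib
        | inv a _ ia => exact ia.inv_left
      haveI : K.Normal := normalizer_eq_top_iff.mp (top_le_iff.mp (htop.ge.trans ((closure_le _).mpr fun v hv => by
        rcases hv with hv | hv
        · exact le_normalizer (subset_closure hv)
        · refine centralizer_le_normalizer _ (mem_centralizer_iff.mpr fun k hk => (hYc v hv k hk).eq))))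
      have hKtop : K = ⊤ := top_le_iff.mp (hD.2.2.ge.trans ((closure_le _).mpr fun v hv => by
        obtain ⟨k, rfl⟩ := class_conj hD hd hv
        exact (inferInstance : K.Normal).conj_mem d (subset_closure (Or.inl hdB)) k))
      obtain ⟨e', he', hn'⟩ := class_exists_not_commute hD hprim.2.1 hy.1
      exact hn' (hYc y hy e' (hKtop.ge (mem_top _))).symm
    · have hB : ∀ v ∈ B, ∀ v' ∈ D, Commute v v' → v' ∈ B := fun v hv v' hv' hc =>
        by_contra fun hn => hYne ⟨v', hv', h1 v hv v' hv' hc, hn⟩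
      have key : ∀ u v : D, (commutingGraph D).Walk u v → (u : G) ∈ B → (v : G) ∈ B := by
        intro u v p
        induction p with
        | nil => exact id
        | @cons u m v hum _ ih => exact fun hu => ih (hB u hu m m.2 (hum.2.elim id fun e => e.symm))
      obtain ⟨p⟩ := (connected_of_primitive h hprim hw).preconnected ⟨d, hd⟩ ⟨z, hzD⟩
      exact hzH (hBH z (key _ _ p hdB))
  rcases hprim.2.2 B hBD hblock with e1 | e1
  · refine hde ?_
    have hde' := h.conj_product hd heD hde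
    have : e ∈ B := ⟨d * e, mul_mem hdH heH, hde'⟩
    rw [e1 hdB this]
  · refine hHm3 (top_le_iff.mp (hD.2.2.ge.trans ((closure_le _).mpr fun v hv => hBH v (e1.ge hv))))

end Cfsg.Agent.Solv.ThreeTrans
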