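import Cfsg.Agent.Lib.Solv.ThreeTrans
import Cfsg.Agent.Lib.Solv.SymFive

/-!
3-transposition sets whose local sets generate symmetric groups of degree three.
-/

set_option autoImplicit false
set_option linter.style.haveILetI false
set_option linter.unusedSectionVars false

namespace Cfsg.Agent.Solv.ThreeTransLocal

open Subgroup Cfsg.Agent.Solv.ThreeTrans

variable {G : Type*} [Group G] [Finite G] {D : Set G}

/-- The members other than `d` commuting with `d`. -/
def nb (D : Set G) (d : G) : Set G := {y : G | y ∈ D ∧ y ≠ d ∧ Commute d y}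

set_option synthInstance.maxSize 2000 in
theorem s3_facts : ∀ x y z : Equiv.Perm (Fin 3), x * x = 1 → y * y = 1 → z * z = 1 → x ≠ 1 → y ≠ 1 → z ≠ 1 →
    x ≠ y → x * y ≠ y * x ∧ (z = x ∨ z = y ∨ z = x * y * x) := by
  set_option maxRecDepth 100000 in decide +kernel

theorem s3_center : ∀ x : Equiv.Perm (Fin 3), (∀ y, x * y = y * x) → x = 1 := by
  set_option maxRecDepth 100000 in decide +kernel

/-- The hypotheses. -/
structure Local (D : Set G) : Prop where
  tt : TT D
  iso : ∀ d ∈ D, Nonempty (↥(closure (nb D d)) ≃* Equiv.Perm (Fin 3))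
  core : ∀ d ∈ D, Nat.card (pCore 3 ↥(centralizer ({d} : Set G))) = 3

variable (h : Local D)

include h

theorem Local.noncomm {d : G} (hd : d ∈ D) {u v : G} (hu : u ∈ nb D d) (hv : v ∈ nb D d) (hne : u ≠ v) :
    ¬ Commute u v := by
  obtain ⟨φ⟩ := h.iso d hd
  let m : ∀ {w : G}, w ∈ nb D d → closure (nb D d) := fun {w} hw => ⟨w, subset_closure hw⟩
  have hsq : ∀ {w : G} (hw : w ∈ nb D d), φ (m hw) * φ (m hw) = 1 ∧ φ (m hw) ≠ 1 := fun {w} hw => by
    refine ⟨by rw [← map_mul, show m hw * m hw = 1 from Subtype.ext (h.tt.mul_self hw.1), map_one], fun e => ?_⟩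
    rw [← map_one φ] at e
    have : w = 1 := congrArg Subtype.val (φ.injective e)
    have h2 := h.tt.order_two hw.1
    rw [this, orderOf_one] at h2
    omega
  intro hc
  obtain ⟨h1, -⟩ := s3_facts _ _ (φ (m hu)) (hsq hu).1 (hsq hv).1 (hsq hu).1 (hsq hu).2 (hsq hv).2 (hsq hu).2
    fun e => hne (congrArg Subtype.val (φ.injective e))
  exact h1 (by rw [← map_mul, ← map_mul, show m hu * m hv = m hv * m hu from Subtype.ext hc.eq])

theorem Local.three {d : G} (hd : d ∈ D) {u v w : G} (hu : u ∈ nb D d) (hv : v ∈ nb D d) (hw : w ∈ nb D d)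
    (hne : u ≠ v) : w = u ∨ w = v ∨ w = u * v * u := by
  obtain ⟨φ⟩ := h.iso d hd
  let m : ∀ {w : G}, w ∈ nb D d → closure (nb D d) := fun {w} hw => ⟨w, subset_closure hw⟩
  have hsq : ∀ {w : G} (hw : w ∈ nb D d), φ (m hw) * φ (m hw) = 1 ∧ φ (m hw) ≠ 1 := fun {w} hw => by
    refine ⟨by rw [← map_mul, show m hw * m hw = 1 from Subtype.ext (h.tt.mul_self hw.1), map_one], fun e => ?_⟩
    rw [← map_one φ] at e
    have : w = 1 := congrArg Subtype.val (φ.injective e)
    have h2 := h.tt.order_two hw.1
    rw [this, orderOf_one] at h2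
    omega
  obtain ⟨-, h2⟩ := s3_facts _ _ (φ (m hw)) (hsq hu).1 (hsq hv).1 (hsq hw).1 (hsq hu).2 (hsq hv).2 (hsq hw).2
    fun e => hne (congrArg Subtype.val (φ.injective e))
  rcases h2 with e | e | e
  · exact Or.inl (congrArg Subtype.val (φ.injective e))
  · exact Or.inr (Or.inl (congrArg Subtype.val (φ.injective e)))
  · rw [← map_mul, ← map_mul] at e
    exact Or.inr (Or.inr (congrArg Subtype.val (φ.injective e)))

theorem Local.exists_pair {d : G} (hd : d ∈ D) : ∃ u ∈ nb D d, ∃ v ∈ nb D d, u ≠ v := by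
  by_contra hn
  push Not at hn
  obtain ⟨φ⟩ := h.iso d hd
  have hc : ∀ x y : closure (nb D d), x * y = y * x := by
    intro x y
    refine Subtype.ext ?_
    have key : closure (nb D d) ≤ centralizer (closure (nb D d) : Set G) := by
      rw [closure_le, centralizer_closure]
      exact fun a ha => mem_centralizer_iff.mpr fun b hb => by rw [hn a ha b hb]
    exact (mem_centralizer_iff.mp (key x.2) y y.2).symm
  have h1 : φ.symm (Equiv.swap 0 1) * φ.symm (Equiv.swap 1 2) = φ.symm (Equiv.swap 1 2) * φ.symm (Equiv.swap 0 1) := hc _ _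
  rw [← map_mul, ← map_mul] at h1
  exact absurd (φ.symm.injective h1) (by decide)

theorem Local.eq_of_two {d e : G} (hd : d ∈ D) (he : e ∈ D) {u v : G} (hu : u ∈ nb D d) (hv : v ∈ nb D d)
    (hu' : u ∈ nb D e) (hv' : v ∈ nb D e) (hne : u ≠ v) : nb D d = nb D e := by
  have key : ∀ {d e : G}, d ∈ D → e ∈ D → u ∈ nb D d → v ∈ nb D d → u ∈ nb D e → v ∈ nb D e → nb D d ⊆ nb D e := by
    intro d e hd he hu hv hu' hv' w hw
    rcases h.three hd hu hv hw hne with rfl | rfl | rfl
    · exact hu'
    · exact hv'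
    · refine ⟨h.tt.conj_self hu'.1 hv'.1, fun e' => ?_, (hu'.2.2.mul_right hv'.2.2).mul_right hu'.2.2⟩
      apply hv'.2.1
      have h2 : u * e * u = e := by
        rw [← hu'.2.2.eq, mul_assoc, h.tt.mul_self hu'.1, mul_one]
      conv_rhs => rw [← h2, ← e']
      rw [show u * (u * v * u) * u = (u * u) * v * (u * u) by group, h.tt.mul_self hu'.1, one_mul, mul_one]
  exact Set.Subset.antisymm (key hd he hu hv hu' hv') (key he hd hu' hv' hu hv)

omit h in
theorem commute_conj' {g u v : G} (hc : Commute u v) (hg : g * g = 1) : Commute (g * u * g) (g * v * g) := by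
  have := (Commute.conj_iff g).mpr hc
  rwa [inv_eq_of_mul_eq_one_right hg] at this

/-- Two non-commuting members have a common neighbour, unless two members share all neighbours. -/
theorem Local.common_neighbour (hinj : ∀ d ∈ D, ∀ f ∈ D, nb D d = nb D f → d = f) {d e : G} (hd : d ∈ D)
    (he : e ∈ D) (hde : ¬ Commute d e) : ∃ u ∈ nb D d, Commute u e := by
  by_contra hn
  push Not at hn
  obtain ⟨a, ha, b, hb, hab⟩ := h.exists_pair hd
  have hnab := h.noncomm hd ha hb hab
  have hae : ¬ Commute a e := hn a ha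
  have hbe : ¬ Commute b e := hn b hb
  set c := a * b * a
  have hc : c ∈ nb D d := by
    refine ⟨h.tt.conj_self ha.1 hb.1, fun e' => ?_, (ha.2.2.mul_right hb.2.2).mul_right ha.2.2⟩
    apply hb.2.1
    have h2 : a * d * a = d := by rw [← ha.2.2.eq, mul_assoc, h.tt.mul_self ha.1, mul_one]
    conv_rhs => rw [← h2, ← e']
    rw [show a * (a * b * a) * a = (a * a) * b * (a * a) by group, h.tt.mul_self ha.1, one_mul, mul_one]
  have hce : ¬ Commute c e := hn c hc
  have A := h.tt.mul_self ha.1
  have B := h.tt.mul_self hb.1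
  have E := h.tt.mul_self he
  have Dd := h.tt.mul_self hd
  have rde := h.tt.braid hd he hde
  -- the neighbours of `e`
  have hy : ∀ u ∈ nb D d, ¬ Commute u e → u * (d * e * d) * u ∈ nb D e := by
    intro u hu hue
    have U := h.tt.mul_self hu.1
    have hud : d * u = u * d := hu.2.2.eq
    have rue := h.tt.braid hu.1 he hue
    refine ⟨h.tt.conj_self hu.1 (h.tt.conj_self hd he), fun e' => ?_, ?_⟩
    · apply hde
      have h1 : d * (u * e * u) * d = e := by
        rw [show d * (u * e * u) * d = (d * u) * e * (u * d) by group, hud, ← hud]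
        rw [show d * u * e * (d * u) = (d * u) * e * d * u by group, hud]
        rw [show u * d * e * d * u = u * (d * e * d) * u by group]
        exact e'
      -- conjugating by `d` and then using the braid relation
      have h2 : u * e * u = d * e * d := by
        calc u * e * u = (d * d) * (u * e * u) * (d * d) := by rw [Dd, one_mul, mul_one]
          _ = d * (d * (u * e * u) * d) * d := by group
          _ = _ := by rw [h1]
      rw [rue, rde] at h2
      have : u = d := mul_left_cancel (mul_right_cancel h2)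
      exact absurd this hu.2.1
    · have h1 : Commute (d * e * d) (u * e * u) := by
        rw [rde, rue]
        exact commute_conj' hu.2.2 E
      have h2 := commute_conj' h1 U
      rw [show u * (u * e * u) * u = (u * u) * e * (u * u) by group, U, one_mul, mul_one] at h2
      exact h2.symm
  have hya := hy a ha hae
  have hyb := hy b hb hbe
  have hne : a * (d * e * d) * a ≠ b * (d * e * d) * b := by
    intro e'
    have hab' : Commute (b * a) (d * e * d) := by
      show b * a * (d * e * d) = d * e * d * (b * a)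
      calc b * a * (d * e * d) = b * (a * (d * e * d) * a) * a := by
            rw [show b * (a * (d * e * d) * a) * a = b * a * (d * e * d) * (a * a) by group, A, mul_one]
        _ = b * (b * (d * e * d) * b) * a := by rw [e']
        _ = (b * b) * (d * e * d) * (b * a) := by group
        _ = d * e * d * (b * a) := by rw [B, one_mul]
    have hd' : Commute (b * a) d := (hb.2.2.symm.mul_left ha.2.2.symm)
    have hbae : Commute (b * a) e := by
      have := (hd'.mul_right hab').mul_right hd'
      rwa [show d * (d * e * d) * d = (d * d) * e * (d * d) by group, Dd, one_mul, mul_one] at this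
    -- a product of two members cannot commute with a member commuting with neither
    have h1 : e * b * e * (e * a * e) = b * a := by
      calc e * b * e * (e * a * e) = e * b * (e * e) * a * e := by group
        _ = e * (b * a) * e := by rw [E]; group
        _ = b * a * e * e := by rw [hbae.symm.eq]
        _ = b * a := by rw [mul_assoc, E, mul_one]
    rw [← h.tt.braid hb.1 he hbe, ← h.tt.braid ha.1 he hae] at h1
    have h2 : e * b * a * e * a = a := by
      have := congrArg (b * ·) h1
      rw [show b * (b * e * b * (a * e * a)) = (b * b) * (e * b * a * e * a) by group,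
        show b * (b * a) = (b * b) * a by group, B, one_mul, one_mul] at this
      exact this
    have h3 : e * (b * a) * e = 1 := by
      have := congrArg (· * a) h2
      rw [show e * b * a * e * a * a = e * (b * a) * e * (a * a) by group, A, mul_one] at this
      exact this
    rw [hbae.symm.eq, mul_assoc, E, mul_one] at h3
    exact hab (by rw [eq_inv_of_mul_eq_one_left h3, h.tt.inv_eq ha.1])
  set e' := b * a * e * a * b with he'
  have he'D : e' ∈ D := by
    have := h.tt.conj (b * a) e he
    rwa [mul_inv_rev, h.tt.inv_eq ha.1, h.tt.inv_eq hb.1, ← mul_assoc] at this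
  have e1 : (a * e * a) * b * (a * e * a) = e' := by
    calc (a * e * a) * b * (a * e * a) = a * e * (a * b * a) * e * a := by group
      _ = a * (e * c * e) * a := by simp only [c]; group
      _ = a * (c * e * c) * a := by rw [h.tt.braid he hc.1 fun x => hce x.symm]
      _ = (a * a) * b * a * e * a * b * (a * a) := by simp only [c]; group
      _ = e' := by rw [A, he']; group
  have e2 : (b * e * b) * c * (b * e * b) = e' := by
    have hbab : a * b * a = b * a * b := h.tt.braid ha.1 hb.1 hnab
    calc (b * e * b) * c * (b * e * b) = b * e * b * (b * a * b) * b * e * b := by rw [← hbab]; simp only [c]; group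
      _ = b * e * (b * b) * a * (b * b) * e * b := by group
      _ = b * (e * a * e) * b := by rw [B]; group
      _ = b * (a * e * a) * b := by rw [h.tt.braid he ha.1 fun x => hae x.symm]
      _ = e' := by rw [he']; group
  have key : ∀ u v : G, u ∈ nb D d → v ∈ nb D d → ¬ Commute u e → (u * e * u) * v * (u * e * u) = e' →
      Commute (u * (d * e * d) * u) e' := by
    intro u v hu hv hue heq
    have U := h.tt.mul_self hu.1
    have huu : u * d * u = d := by rw [← hu.2.2.eq, mul_assoc, U, mul_one]
    have h1 : (u * e * u) * d * (u * e * u) = u * (d * e * d) * u := by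
      rw [show (u * e * u) * d * (u * e * u) = u * e * (u * d * u) * e * u by group, huu, rde]
      group
    rw [← h1, ← heq]
    exact commute_conj' hv.2.2 (h.tt.mul_self (h.tt.conj_self hu.1 he))
  have ka := key a b ha hb hae e1
  have kb := key b c hb hc hbe e2
  have hne' : e' ≠ e := by
    intro x
    have hbae : b * a * e = e * (b * a) := by
      calc b * a * e = b * a * e * (a * (b * b) * a) := by rw [B, mul_one, A, mul_one]
        _ = (b * a * e * a * b) * (b * a) := by group
        _ = e * (b * a) := by rw [← he', x]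
    have h1 : e * b * e * (e * a * e) = b * a := by
      calc e * b * e * (e * a * e) = e * b * (e * e) * a * e := by group
        _ = e * (b * a) * e := by rw [E]; group
        _ = b * a * e * e := by rw [hbae]
        _ = b * a := by rw [mul_assoc, E, mul_one]
    rw [← h.tt.braid hb.1 he hbe, ← h.tt.braid ha.1 he hae] at h1
    have h2 : e * b * a * e * a = a := by
      have := congrArg (b * ·) h1
      rw [show b * (b * e * b * (a * e * a)) = (b * b) * (e * b * a * e * a) by group,
        show b * (b * a) = (b * b) * a by group, B, one_mul, one_mul] at this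
      exact this
    have h3 : e * (b * a) * e = 1 := by
      have := congrArg (· * a) h2
      rw [show e * b * a * e * a * a = e * (b * a) * e * (a * a) by group, A, mul_one] at this
      exact this
    rw [← hbae, mul_assoc, E, mul_one] at h3
    exact hab (by rw [eq_inv_of_mul_eq_one_left h3, h.tt.inv_eq ha.1])
  have hmem : ∀ y ∈ nb D e, Commute y e' → y ∈ nb D e' := by
    intro y hy hye
    refine ⟨hy.1, fun x => ?_, hye.symm⟩
    subst x
    have : ∀ z ∈ nb D e, Commute z e' → z = e' := fun z hz hze => by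
      by_contra hn'
      exact h.noncomm he hz hy hn' hze
    exact hne ((this _ hya ka).trans (this _ hyb kb).symm)
  exact hne' (hinj e' he'D e he (h.eq_of_two he he'D hya hyb (hmem _ hya ka) (hmem _ hyb kb) hne).symm)

theorem Local.exists_e {d : G} (hd : d ∈ D) : ∃ e ∈ D, ¬ Commute d e := by
  obtain ⟨a, ha, b, hb, hne⟩ := h.exists_pair hd
  have hnab := h.noncomm hd ha hb hne
  by_contra hn
  push Not at hn
  have hadb : a ∈ nb D d ∧ d ∈ nb D a := ⟨ha, hd, fun e => ha.2.1 e.symm, ha.2.2.symm⟩
  obtain ⟨x, hx, y, hy, hxy⟩ := h.exists_pair ha.1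
  have key : ∀ z ∈ nb D a, z = d := fun z hz => by
    by_contra hzd
    exact h.noncomm ha.1 hz hadb.2 hzd (hn z hz.1).symm
  exact hxy ((key x hx).trans (key y hy).symm)

/-- The case of symmetric degree five. -/
theorem Local.five (hinj : ∀ d ∈ D, ∀ f ∈ D, nb D d = nb D f → d = f) {d : G} (hd : d ∈ D) :
    Nonempty (↥(closure D) ≃* Equiv.Perm (Fin 5)) := by
  have hex : ∀ x y : Fin 5, ∃ j : Fin 5, j ≠ x ∧ j ≠ y := by decide +kernel
  obtain ⟨e, he, hde⟩ := h.exists_e hd
  obtain ⟨c, hc, hce⟩ := h.common_neighbour hinj hd he hde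
  have hne_de : d ≠ e := h.tt.ne_of_not_commute hd he hde
  have hc_e : c ≠ e := fun x => hde (x ▸ hc.2.2)
  obtain ⟨a, ha, hac⟩ : ∃ a ∈ nb D d, a ≠ c := by
    obtain ⟨u, hu, v, hv, huv⟩ := h.exists_pair hd
    by_cases x : u = c
    · exact ⟨v, hv, fun y => huv (x.trans y.symm)⟩
    · exact ⟨u, hu, x⟩
  have hnac := h.noncomm hd ha hc hac
  have hae : ¬ Commute a e := by
    intro x
    have ha' : a ∈ nb D e := ⟨ha.1, fun y => hde (y ▸ ha.2.2), x.symm⟩
    have hc' : c ∈ nb D e := ⟨hc.1, hc_e, hce.symm⟩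
    exact hne_de (hinj d hd e he (h.eq_of_two hd he ha hc ha' hc' hac))
  set φ := SymFive.hom d e a c (h.tt.mul_self hd) (h.tt.mul_self he) (h.tt.mul_self ha.1) (h.tt.mul_self hc.1)
    ha.2.2.symm.eq hc.2.2.symm.eq hce.eq (h.tt.braid he hd fun x => hde x.symm) (h.tt.braid ha.1 he hae)
    (h.tt.braid hc.1 ha.1 fun x => hnac x.symm)
  have hgen : ∀ i, φ (SymFive.gen i) = ![d, e, a, c] i := fun i => SymFive.hom_gen _ _ _ _ _ _ _ _ _ _ _ _ _ _ i
  have g0 : φ (Equiv.swap 0 1) = d := hgen 0
  have g1 : φ (Equiv.swap 1 2) = e := hgen 1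
  have g2 : φ (Equiv.swap 2 3) = a := hgen 2
  have g3 : φ (Equiv.swap 3 4) = c := hgen 3
  have hswap : ∀ i j k l : Fin 5, i ≠ j → k ≠ l → φ (Equiv.swap i j) = φ (Equiv.swap k l) →
      Equiv.swap i j = Equiv.swap k l := by
    intro i j k l hij hkl heq
    by_contra hn
    obtain ⟨σ, h1, h2⟩ := SymFive.swap_pairs i j k l hij hkl hn
    have e1 : φ (SymFive.gen 0) = φ (σ * Equiv.swap k l * σ⁻¹) := by
      rw [← h1, map_mul, map_mul, map_mul _ _ σ⁻¹, map_mul _ σ, heq]
    rcases h2 with h2 | h2 <;> rw [h2, hgen, hgen] at e1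
    · exact hne_de e1
    · exact ha.2.1 e1.symm
  have hinjφ : Function.Injective φ := by
    refine (injective_iff_map_eq_one φ).mpr fun k hk => ?_
    refine Equiv.ext fun x => ?_
    have hk' : ∀ i j : Fin 5, i ≠ j → Equiv.swap (k i) (k j) = Equiv.swap i j := fun i j hij => by
      refine hswap _ _ _ _ (k.injective.ne hij) hij ?_
      rw [Equiv.swap_apply_apply, map_mul, map_mul, map_inv, hk, one_mul, inv_one, mul_one]
    show k x = x
    by_contra hx
    obtain ⟨j, hj1, hj2⟩ := hex x (k x)
    have h2 := congrArg (fun p : Equiv.Perm (Fin 5) => p (k x)) (hk' x j hj1.symm)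
    simp only [Equiv.swap_apply_left, Equiv.swap_apply_of_ne_of_ne hx hj2.symm] at h2
    exact hj1 (k.injective (h2.trans rfl))
  have hR : ∀ {u : G}, u ∈ nb D d → u ∈ φ.range := fun {u} hu => by
    rcases h.three hd ha hc hu hac with rfl | rfl | rfl
    · exact ⟨_, g2⟩
    · exact ⟨_, g3⟩
    · exact ⟨Equiv.swap 2 3 * Equiv.swap 3 4 * Equiv.swap 2 3, by rw [map_mul, map_mul, g2, g3]⟩
  have hRc : ∀ g ∈ φ.range, ∀ w ∈ nb D (g * d * g⁻¹), w ∈ φ.range := by
    intro g hg w hw
    have hw' : g⁻¹ * w * g ∈ nb D d := by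
      refine ⟨by simpa using h.tt.conj g⁻¹ w hw.1, fun x => hw.2.1 (by rw [← x]; group), ?_⟩
      have := (Commute.conj_iff g⁻¹).mpr hw.2.2
      simpa [mul_assoc] using this
    rw [show w = g * (g⁻¹ * w * g) * g⁻¹ by group]
    exact mul_mem (mul_mem hg (hR hw')) (inv_mem hg)
  have hconj : ∀ {u : G}, u ∈ nb D d → ∃ g ∈ φ.range, u = g * d * g⁻¹ := fun {u} hu => by
    have hca : φ (Equiv.swap 0 2 * Equiv.swap 1 3) * d * (φ (Equiv.swap 0 2 * Equiv.swap 1 3))⁻¹ = a := by
      rw [← g0, ← map_inv, ← map_mul, ← map_mul, ← g2]; exact congrArg φ (by decide)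
    have hcc : φ (Equiv.swap 0 3 * Equiv.swap 1 4) * d * (φ (Equiv.swap 0 3 * Equiv.swap 1 4))⁻¹ = c := by
      rw [← g0, ← map_inv, ← map_mul, ← map_mul, ← g3]; exact congrArg φ (by decide)
    rcases h.three hd ha hc hu hac with rfl | rfl | rfl
    · exact ⟨_, ⟨_, rfl⟩, hca.symm⟩
    · exact ⟨_, ⟨_, rfl⟩, hcc.symm⟩
    · refine ⟨a * φ (Equiv.swap 0 3 * Equiv.swap 1 4), mul_mem ⟨_, g2⟩ ⟨_, rfl⟩, ?_⟩
      conv_lhs => rw [← hcc]
      rw [mul_inv_rev, h.tt.inv_eq ha.1]
      group
  have hle : closure D ≤ φ.range := by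
    rw [closure_le]
    intro w hw
    by_cases hwd : Commute d w
    · by_cases x : w = d
      · exact ⟨_, x ▸ g0⟩
      · exact hR ⟨hw, x, hwd⟩
    · obtain ⟨u, hu, huw⟩ := h.common_neighbour hinj hd hw hwd
      obtain ⟨g, hg, rfl⟩ := hconj hu
      exact hRc g hg w ⟨hw, fun x => hwd (x ▸ hu.2.2), huw⟩
  have hge : φ.range ≤ closure D := by
    rw [MonoidHom.range_eq_map, ← Equiv.Perm.closure_isSwap, MonoidHom.map_closure, closure_le]
    rintro _ ⟨_, ⟨i, j, hij, rfl⟩, rfl⟩
    obtain ⟨σ, hσ⟩ : ∃ σ : Equiv.Perm (Fin 5), σ * Equiv.swap 0 1 * σ⁻¹ = Equiv.swap i j :=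
      isConj_iff.mp (Equiv.Perm.isConj_swap (by decide) hij)
    refine subset_closure ?_
    rw [← hσ, map_mul, map_mul, map_inv, g0]
    exact h.tt.conj _ d hd
  exact ⟨(MulEquiv.subgroupCongr (le_antisymm hle hge)).trans (MonoidHom.ofInjective hinjφ).symm⟩

/-- The case of two commuting symmetric groups of degree three. -/
theorem Local.square {d f : G} (hd : d ∈ D) (hf : f ∈ D) (heq : nb D d = nb D f) (hdf : d ≠ f) :
    Nonempty (↥(closure D) ≃* Equiv.Perm (Fin 3) × Equiv.Perm (Fin 3)) := by
  haveI : Fact (Nat.Prime 3) := ⟨Nat.prime_three⟩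
  have hfw : f ∈ Wset D d := ⟨hf, heq⟩
  have hO : d * f ∈ pCore 3 G := h.tt.mul_mem_three_of_wset hd hfw
  have hndf : ¬ Commute d f := by
    intro hc
    have : f ∈ nb D d := ⟨hf, hdf.symm, hc⟩
    rw [heq] at this
    exact this.2.1 rfl
  set r := d * f with hr
  have hr1 : r ≠ 1 := fun e => hdf (by rw [eq_inv_of_mul_eq_one_left (e : d * f = 1), h.tt.inv_eq hf])
  have hO3 : IsPGroup 3 (pCore 3 G) := by
    obtain ⟨P⟩ := (inferInstance : Nonempty (Sylow 3 G))
    exact P.isPGroup'.to_le (pCore_le_sylow P)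
  have hOn : (pCore 3 G).Normal := by
    haveI := pCore_characteristic 3 G
    infer_instance
  have hr3 : r * r * r = 1 := h.tt.cube hd hf hndf
  have A : ∀ a ∈ nb D d, Commute a r := fun a ha => ha.2.2.symm.mul_right ((heq ▸ ha : a ∈ nb D f).2.2.symm)
  have hCa : ∀ a ∈ nb D d, ∀ x ∈ pCore 3 G, Commute a x → x = 1 ∨ x = r ∨ x = r⁻¹ := by
    intro a ha x hx hax
    set C := centralizer ({a} : Set G)
    haveI : ((pCore 3 G).subgroupOf C).Normal := Subgroup.normal_subgroupOf
    have hle : (pCore 3 G).subgroupOf C ≤ pCore 3 C :=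
      le_pCore (hO3.comap_of_injective C.subtype Subtype.coe_injective)
    have hrC : r ∈ C := mem_centralizer_singleton_iff.mpr (A a ha).symm.eq
    have hxC : x ∈ C := mem_centralizer_singleton_iff.mpr hax.symm.eq
    have hord : orderOf (⟨r, hrC⟩ : C) = 3 := orderOf_eq_prime
      (Subtype.ext (by simpa [pow_succ] using hr3)) (fun e => hr1 (congrArg Subtype.val e))
    have hz : zpowers (⟨r, hrC⟩ : C) = pCore 3 C := eq_of_le_of_card_ge
      (zpowers_le.mpr (hle (show r ∈ pCore 3 G from hO))) (by rw [h.core a ha.1, Nat.card_zpowers, hord])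
    have hxm : (⟨x, hxC⟩ : C) ∈ zpowers (⟨r, hrC⟩ : C) := hz ▸ hle hx
    obtain ⟨i, hi⟩ := mem_powers_iff_mem_zpowers.mpr hxm
    simp only at hi
    rw [← pow_mod_orderOf, hord] at hi
    have hi' : r ^ (i % 3) = x := congrArg Subtype.val hi
    have : i % 3 = 0 ∨ i % 3 = 1 ∨ i % 3 = 2 := by omega
    rcases this with e | e | e <;> rw [e] at hi'
    · exact Or.inl (by rw [← hi', pow_zero])
    · exact Or.inr (Or.inl (by rw [← hi', pow_one]))
    · exact Or.inr (Or.inr (by rw [← hi', pow_two]; exact eq_inv_of_mul_eq_one_left hr3))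
  have hrd : ¬ Commute d r := by
    intro hc
    apply hndf
    have : d * (d * f) = d * f * d := hc.eq
    rw [mul_assoc d f d] at this
    exact mul_left_cancel this
  have hfix : ∀ a ∈ nb D d, ∀ x ∈ pCore 3 G, Commute a x → Commute d x → x = 1 := by
    intro a ha x hx hax hdx
    rcases hCa a ha x hx hax with e | e | e
    · exact e
    · exact absurd (e ▸ hdx) hrd
    · exact absurd (inv_inv r ▸ (e ▸ hdx : Commute d r⁻¹).inv_right) hrd
  -- `d * a` inverts the core
  have hinv : ∀ a ∈ nb D d, ∀ x ∈ pCore 3 G, (d * a) * x * (d * a)⁻¹ = x⁻¹ := by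
    intro a ha
    have A2 := h.tt.mul_self ha.1
    have D2 := h.tt.mul_self hd
    have had : a * d = d * a := ha.2.2.symm.eq
    have hq : (d * a) * (d * a) = 1 := by
      rw [show d * a * (d * a) = d * (a * d) * a by group, had, show d * (d * a) * a = (d * d) * (a * a) by group, D2, A2, one_mul]
    let ψ : MulAut (pCore 3 G) := (MulAut.conjNormal (H := pCore 3 G) (d * a))
    have hψ : ∀ x : pCore 3 G, ((ψ x : pCore 3 G) : G) = (d * a) * x * (d * a)⁻¹ := fun x => rfl
    have hfp : MonoidHom.FixedPointFree ψ := by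
      intro x hx
      refine Subtype.ext ?_
      have hqx : Commute (d * a) (x : G) := mul_inv_eq_iff_eq_mul.mp (congrArg Subtype.val hx)
      -- `a` acts on the fixed points without fixed points
      let N : Subgroup G := pCore 3 G ⊓ centralizer ({d * a} : Set G)
      have hxN : (x : G) ∈ N := ⟨x.2, mem_centralizer_singleton_iff.mpr hqx.symm.eq⟩
      have haN : ∀ n ∈ N, a * n * a ∈ N := fun n hn => by
        refine ⟨?_, ?_⟩
        · have := hOn.conj_mem n hn.1 a
          rwa [h.tt.inv_eq ha.1] at this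
        · have h1 : Commute (d * a) n := (mem_centralizer_singleton_iff.mp hn.2).symm
          have h2 : Commute (d * a) a := (ha.2.2.mul_left (Commute.refl a))
          exact mem_centralizer_singleton_iff.mpr ((h2.mul_right h1).mul_right h2).symm.eq
      let θ : N → N := fun n => ⟨a * n * a, haN n n.2⟩
      have hθ : ∀ n ∈ N, a * n * a = n⁻¹ := by
        intro n hn
        let θ' : N →* N :=
          { toFun := fun n => ⟨a * n * a, haN n n.2⟩
            map_one' := Subtype.ext (by simpa using A2)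
            map_mul' := fun u v => Subtype.ext (by
              show a * ((u : G) * v) * a = (a * u * a) * (a * v * a)
              rw [show (a * (u : G) * a) * (a * v * a) = a * u * (a * a) * v * a by group, A2]; group) }
        have hfp' : MonoidHom.FixedPointFree θ' := fun u hu => by
          refine Subtype.ext (hfix a ha u u.2.1 ?_ ?_)
          · have : a * (u : G) * a = u := congrArg Subtype.val hu
            show a * (u : G) = u * a
            calc a * (u : G) = a * u * (a * a) := by rw [A2, mul_one]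
              _ = (a * u * a) * a := by group
              _ = u * a := by rw [this]
          · have : a * (u : G) * a = u := congrArg Subtype.val hu
            have hau : Commute a (u : G) := by
              show a * (u : G) = u * a
              calc a * (u : G) = a * u * (a * a) := by rw [A2, mul_one]
                _ = (a * u * a) * a := by group
                _ = u * a := by rw [this]
            have hdau : Commute (d * a) (u : G) := (mem_centralizer_singleton_iff.mp u.2.2).symm
            have := hdau.mul_left hau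
            rwa [mul_assoc, A2, mul_one] at this
        have h2 : Function.Involutive θ' := fun u => Subtype.ext (by
          show a * (a * (u : G) * a) * a = u
          rw [show a * (a * (u : G) * a) * a = (a * a) * u * (a * a) by group, A2, one_mul, mul_one])
        exact congrArg Subtype.val (congrFun (MonoidHom.FixedPointFree.coe_eq_inv_of_involutive hfp' h2) ⟨n, hn⟩)
      set m := (x : G) with hm
      have hma : m * a * m⁻¹ ∈ D := h.tt.conj m a ha.1
      have e1 : m * a * m⁻¹ = a * (m⁻¹ * m⁻¹) := by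
        calc m * a * m⁻¹ = (a * a) * m * a * m⁻¹ := by rw [A2, one_mul]
          _ = a * (a * m * a) * m⁻¹ := by group
          _ = a * (m⁻¹ * m⁻¹) := by rw [hθ m hxN, mul_assoc]
      have hqm : Commute (d * a) (m⁻¹ * m⁻¹) := hqx.inv_right.mul_right hqx.inv_right
      obtain ⟨k, hk⟩ : ∃ k : ℕ, m ^ (3 ^ k) = 1 := by
        obtain ⟨k, hk⟩ := hO3 x
        exact ⟨k, congrArg Subtype.val hk⟩
      have hdm : orderOf m ∣ 3 ^ k := orderOf_dvd_of_pow_eq_one hk
      have hsmall : ∀ j : ℕ, (Nat.Coprime (3 ^ k) j) → m ^ j = 1 → m = 1 := fun j hj hj1 =>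
        orderOf_eq_one_iff.mp (Nat.eq_one_of_dvd_coprimes hj hdm (orderOf_dvd_of_pow_eq_one hj1))
      rcases h.tt.set.2 d hd _ hma with e2 | e2 <;> rw [e1, ← mul_assoc] at e2
      · rw [hqm.mul_pow, pow_two (d * a), hq, one_mul] at e2
        refine hsmall 4 (Nat.Coprime.pow_left k (by norm_num)) (inv_eq_one.mp ?_)
        rw [← inv_pow, show (4 : ℕ) = 2 * 2 from rfl, pow_mul, pow_two m⁻¹, e2]
      · exfalso
        rw [hqm.mul_pow, pow_succ (d * a), pow_two (d * a), hq, one_mul] at e2
        have hda : d * a ∈ pCore 3 G := by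
          rw [eq_inv_of_mul_eq_one_left e2]
          exact inv_mem (pow_mem (mul_mem (inv_mem x.2) (inv_mem x.2)) 3)
        obtain ⟨k', hk'⟩ := hO3 ⟨d * a, hda⟩
        have hk'' : (d * a) ^ (3 ^ k') = 1 := congrArg Subtype.val hk'
        have hone : d * a = 1 := by
          have h2 : orderOf (d * a) ∣ 2 := orderOf_dvd_of_pow_eq_one (by rw [pow_two, hq])
          exact orderOf_eq_one_iff.mp (Nat.eq_one_of_dvd_coprimes (Nat.Coprime.pow_left k' (by norm_num))
            (orderOf_dvd_of_pow_eq_one hk'') h2)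
        exact ha.2.1 (by rw [eq_inv_of_mul_eq_one_right hone, h.tt.inv_eq hd])
    have h2 : Function.Involutive ψ := fun x => Subtype.ext (by
      rw [hψ, hψ, show (d * a) * ((d * a) * (x : G) * (d * a)⁻¹) * (d * a)⁻¹ = ((d * a) * (d * a)) * x * ((d * a) * (d * a))⁻¹ by group, hq]
      group)
    intro x hx
    have := congrArg Subtype.val (congrFun (MonoidHom.FixedPointFree.coe_eq_inv_of_involutive
      (φ := ψ.toMonoidHom) hfp h2) ⟨x, hx⟩)
    exact this
  have hdich : ∀ e ∈ D, ∀ a ∈ nb D d, Commute e d ∨ Commute e a := by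
    intro e he a ha
    by_contra hn
    push Not at hn
    have E2 := h.tt.mul_self he
    have A2 := h.tt.mul_self ha.1
    have D2 := h.tt.mul_self hd
    have had : a * d = d * a := ha.2.2.symm.eq
    have hq1 : ∀ x ∈ pCore 3 G, d * x * d⁻¹ = a * x⁻¹ * a⁻¹ := fun x hx => by
      have := hinv a ha (a⁻¹ * x * a) (by simpa using hOn.conj_mem x hx a⁻¹)
      calc d * x * d⁻¹ = (d * a) * (a⁻¹ * x * a) * (d * a)⁻¹ := by group
        _ = (a⁻¹ * x * a)⁻¹ := this
        _ = a * x⁻¹ * a⁻¹ := by
          rw [h.tt.inv_eq ha.1, mul_inv_rev, mul_inv_rev, h.tt.inv_eq ha.1]; group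
    have hcd : (d * e) * (d * e) * (d * e) = 1 := h.tt.cube hd he fun x => hn.1 x.symm
    have hca : (a * e) * (a * e) * (a * e) = 1 := h.tt.cube ha.1 he fun x => hn.2 x.symm
    have step : ∀ x ∈ pCore 3 G, (d * e) * x * (d * e)⁻¹ = ((a * e) * x * (a * e)⁻¹)⁻¹ := fun x hx => by
      have := hq1 (e * x * e⁻¹) (hOn.conj_mem x hx e)
      calc (d * e) * x * (d * e)⁻¹ = d * (e * x * e⁻¹) * d⁻¹ := by group
        _ = a * (e * x * e⁻¹)⁻¹ * a⁻¹ := this
        _ = _ := by group
    have m1 : (a * e) * r * (a * e)⁻¹ ∈ pCore 3 G := hOn.conj_mem r hO _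
    have m2 : (a * e) * ((a * e) * r * (a * e)⁻¹) * (a * e)⁻¹ ∈ pCore 3 G := hOn.conj_mem _ m1 _
    have e3 : r = r⁻¹ := by
      calc r = ((d * e) * (d * e) * (d * e)) * r * ((d * e) * (d * e) * (d * e))⁻¹ := by rw [hcd]; group
        _ = (d * e) * ((d * e) * ((d * e) * r * (d * e)⁻¹) * (d * e)⁻¹) * (d * e)⁻¹ := by group
        _ = (d * e) * ((d * e) * ((a * e) * r * (a * e)⁻¹)⁻¹ * (d * e)⁻¹) * (d * e)⁻¹ := by rw [step r hO]
        _ = (d * e) * ((d * e) * ((a * e) * r * (a * e)⁻¹) * (d * e)⁻¹)⁻¹ * (d * e)⁻¹ := by group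
        _ = (d * e) * ((a * e) * ((a * e) * r * (a * e)⁻¹) * (a * e)⁻¹) * (d * e)⁻¹ := by rw [step _ m1, inv_inv]
        _ = ((a * e) * ((a * e) * ((a * e) * r * (a * e)⁻¹) * (a * e)⁻¹) * (a * e)⁻¹)⁻¹ := step _ m2
        _ = ((((a * e) * (a * e) * (a * e))) * r * ((a * e) * (a * e) * (a * e))⁻¹)⁻¹ := by group
        _ = r⁻¹ := by rw [hca]; group
    have hrr : r * r = 1 := by
      calc r * r = r * r⁻¹ := congrArg (r * ·) e3
        _ = 1 := mul_inv_cancel r
    rw [hrr, one_mul] at hr3
    exact hr1 hr3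
  obtain ⟨a, ha, -⟩ := h.exists_pair hd
  obtain ⟨φ1⟩ := h.iso d hd
  obtain ⟨φ2⟩ := h.iso a ha.1
  have hcover : ∀ e ∈ D, e ∈ nb D d ∨ e ∈ nb D a := fun e he => by
    by_cases hea : e = a
    · exact Or.inl (hea ▸ ha)
    by_cases hed : e = d
    · exact Or.inr (hed ▸ ⟨hd, fun x => ha.2.1 x.symm, ha.2.2.symm⟩)
    rcases hdich e he a ha with x | x
    · exact Or.inl ⟨he, hed, x.symm⟩
    · exact Or.inr ⟨he, hea, x.symm⟩
  have hcomm : ∀ u ∈ nb D d, ∀ v ∈ nb D a, Commute u v := fun u hu v hv => by
    by_cases hvd : v = d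
    · rw [hvd]; exact hu.2.2.symm
    · refine ((hdich v hv.1 u hu).resolve_left fun x => ?_).symm
      exact h.noncomm ha.1 hv ⟨hd, fun y => ha.2.1 y.symm, ha.2.2.symm⟩ hvd x
  set X := closure (nb D d)
  set Y := closure (nb D a)
  have hXY : ∀ x ∈ X, ∀ y ∈ Y, x * y = y * x := by
    have : X ≤ centralizer (Y : Set G) := by
      rw [closure_le, centralizer_closure]
      exact fun u hu => mem_centralizer_iff.mpr fun v hv => (hcomm u hu v hv).symm.eq
    exact fun x hx y hy => (mem_centralizer_iff.mp (this hx) y hy).symm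
  let μ : X × Y →* G := X.subtype.noncommCoprod Y.subtype fun x y => hXY x x.2 y y.2
  have hμ : Function.Injective μ := by
    refine (injective_iff_map_eq_one μ).mpr ?_
    rintro ⟨x, y⟩ hxy
    have hxy' : (x : G) * y = 1 := hxy
    have hxY : (x : G) ∈ Y := by rw [eq_inv_of_mul_eq_one_left hxy']; exact inv_mem y.2
    have hx1 : x = 1 := φ1.injective (by
      rw [map_one]
      refine s3_center _ fun p => ?_
      obtain ⟨q, rfl⟩ := φ1.surjective p
      rw [← map_mul, ← map_mul]
      exact congrArg φ1 (Subtype.ext (hXY q q.2 x hxY).symm))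
    subst hx1
    refine Prod.ext rfl (Subtype.ext ?_)
    simpa using hxy'
  have hrange : μ.range = closure D := by
    rw [show μ.range = X.subtype.range ⊔ Y.subtype.range from MonoidHom.noncommCoprod_range _ _ _, range_subtype, range_subtype]
    refine le_antisymm (sup_le (closure_mono fun u hu => hu.1) (closure_mono fun u hu => hu.1)) ?_
    rw [closure_le]
    intro e he
    rcases hcover e he with x | x
    · exact mem_sup_left (subset_closure x)
    · exact mem_sup_right (subset_closure x)
  exact ⟨((MulEquiv.subgroupCongr hrange.symm).trans (MonoidHom.ofInjective hμ).symm).trans (φ1.prodCongr φ2)⟩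

end Cfsg.Agent.Solv.ThreeTransLocal
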