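import Cfsg.Prelude.Def_PLocal
import Cfsg.Agent.Lib.Solv.Coprime

/-!
Timmesfeld replacement for a group acting on an elementary abelian group.
-/

set_option autoImplicit false
set_option linter.style.haveILetI false

namespace Cfsg.Agent.Solv.Timm

open Subgroup
open scoped commutatorElement

variable {G : Type*} [Group G]

theorem commute_of_le_centralizer_self {V : Subgroup G} (hab : ∀ x ∈ V, ∀ y ∈ V, x * y = y * x)
    {x y : G} (hx : x ∈ V) (hy : y ∈ V) : x * y * x⁻¹ = y := by
  rw [hab x hx y hy, mul_inv_cancel_right]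

/-- Generators suffice for a commutator subgroup with values in an abelian group. -/
theorem commutator_closure_le {V A K : Subgroup G} (hab : ∀ x ∈ V, ∀ y ∈ V, x * y = y * x)
    (hAV : A ≤ normalizer (V : Set G)) (S : Set G) (hS : S ⊆ V)
    (h : ∀ s ∈ S, ∀ a ∈ A, ⁅s, a⁆ ∈ K) : ⁅closure S, A⁆ ≤ K := by
  have hcV : ∀ z ∈ V, ∀ a ∈ A, ⁅z, a⁆ ∈ V := fun z hz a ha => by
    rw [commutatorElement_def, mul_assoc, mul_assoc]
    refine V.mul_mem hz ?_
    rw [← mul_assoc]
    exact (mem_normalizer_iff.mp (hAV ha) z⁻¹).mp (V.inv_mem hz)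
  suffices main : ∀ g ∈ closure S, ∀ a ∈ A, ⁅g, a⁆ ∈ K from commutator_le.mpr main
  intro g hg
  induction hg using closure_induction with
  | mem s hs => exact h s hs
  | one => intro a _; rw [commutatorElement_one_left]; exact one_mem _
  | mul x y hx hy ihx ihy =>
    intro a ha
    have hxV : x ∈ V := (closure_le V).mpr hS hx
    have hyV : y ∈ V := (closure_le V).mpr hS hy
    rw [show ⁅x * y, a⁆ = x * ⁅y, a⁆ * x⁻¹ * ⁅x, a⁆ by
      simp only [commutatorElement_def]; group,
      commute_of_le_centralizer_self hab hxV (hcV y hyV a ha)]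
    exact K.mul_mem (ihy a ha) (ihx a ha)
  | inv x hx ihx =>
    intro a ha
    have hxV : x ∈ V := (closure_le V).mpr hS hx
    rw [show ⁅x⁻¹, a⁆ = x⁻¹ * (⁅x, a⁆)⁻¹ * x⁻¹⁻¹ by simp only [commutatorElement_def]; group,
      commute_of_le_centralizer_self hab (V.inv_mem hxV) (V.inv_mem (hcV x hxV a ha))]
    exact K.inv_mem (ihx a ha)

/-- The measure of a subgroup on `V`. -/
noncomputable def meas (V B : Subgroup G) : ℕ :=
  Nat.card B * Nat.card ↥(V ⊓ centralizer (B : Set G))

/-- `C_A([U,A])`. -/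
def star (A U : Subgroup G) : Subgroup G := A ⊓ centralizer ((⁅U, A⁆ : Subgroup G) : Set G)

theorem card_mul_relIndex {H K : Subgroup G} (h : H ≤ K) :
    Nat.card H * H.relIndex K = Nat.card K := by
  rw [← relIndex_bot_left, ← relIndex_bot_left, relIndex_mul_relIndex ⊥ H K bot_le h]

variable [Finite G]

theorem step {V A : Subgroup G} (hab : ∀ x ∈ V, ∀ y ∈ V, x * y = y * x)
    (hAV : A ≤ normalizer (V : Set G)) (hA : ⁅A, A⁆ ≤ centralizer (V : Set G))
    {u : G} (hu : u ∈ V) :
    meas V A < meas V (star A (closure {u})) ∨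
      (meas V A = meas V (star A (closure {u})) ∧
        V ⊓ centralizer (star A (closure {u}) : Set G) =
          ⁅closure {u}, A⁆ ⊔ (V ⊓ centralizer (A : Set G))) := by
  set B := star A (closure {u}) with hB
  set C := V ⊓ centralizer (A : Set G) with hC
  set D := ⁅closure ({u} : Set G), A⁆ ⊔ C with hD
  set E := V ⊓ centralizer (B : Set G) with hE
  have hcV : ∀ a ∈ A, ⁅u, a⁆ ∈ V := fun a ha => by
    rw [commutatorElement_def, mul_assoc, mul_assoc]
    refine V.mul_mem hu ?_
    rw [← mul_assoc]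
    exact (mem_normalizer_iff.mp (hAV ha) u⁻¹).mp (V.inv_mem hu)
  have hDE : D ≤ E := by
    refine sup_le (le_inf ?_ (le_centralizer_iff.mp inf_le_right))
      (le_inf inf_le_left (inf_le_right.trans (centralizer_le inf_le_left)))
    exact (commutator_mono ((closure_le V).mpr (Set.singleton_subset_iff.mpr hu)) le_rfl).trans
      (le_normalizer_iff_commutator_le_left.mp hAV)
  have hBA : B ≤ A := inf_le_left
  have key : ∀ a ∈ A, ∀ b ∈ A, ⁅u, b⁆⁻¹ * ⁅u, a⁆ ∈ C → b⁻¹ * a ∈ B := by
    intro a ha b hb hz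
    refine ⟨A.mul_mem (A.inv_mem hb) ha, ?_⟩
    have hsub : ⁅closure ({u} : Set G), A⁆ ≤ centralizer ({b⁻¹ * a} : Set G) := by
      refine commutator_closure_le hab hAV _ (Set.singleton_subset_iff.mpr hu) ?_
      intro s hs c hc
      rw [Set.mem_singleton_iff.mp hs]
      have hsym : ∀ x ∈ A, x * ⁅u, c⁆ * x⁻¹ = ⁅u, x⁆⁻¹ * ⁅u, c⁆ * (c * ⁅u, x⁆ * c⁻¹) := by
        intro x hx
        have h1 : ⁅u, x * c⁆ = ⁅u, c * x⁆ := by
          have h2 := (mem_centralizer_iff.mp (hA (commutator_mem_commutator hx hc))) (c * x * u⁻¹ * (c * x)⁻¹)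
            ((mem_normalizer_iff.mp (hAV (A.mul_mem hc hx)) u⁻¹).mp (V.inv_mem hu))
          calc ⁅u, x * c⁆ = u * (⁅x, c⁆ * (c * x * u⁻¹ * (c * x)⁻¹)) * ⁅x, c⁆⁻¹ := by
                simp only [commutatorElement_def]; group
            _ = u * ((c * x * u⁻¹ * (c * x)⁻¹) * ⁅x, c⁆) * ⁅x, c⁆⁻¹ := by rw [h2]
            _ = ⁅u, c * x⁆ := by simp only [commutatorElement_def]; group
        calc x * ⁅u, c⁆ * x⁻¹ = ⁅u, x⁆⁻¹ * ⁅u, x * c⁆ := by simp only [commutatorElement_def]; group
          _ = ⁅u, x⁆⁻¹ * ⁅u, c * x⁆ := by rw [h1]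
          _ = _ := by simp only [commutatorElement_def]; group
      set z := ⁅u, b⁆⁻¹ * ⁅u, a⁆ with hzdef
      have hea : ⁅u, a⁆ = ⁅u, b⁆ * z := by rw [hzdef, mul_inv_cancel_left]
      have hzc : c * z = z * c := mem_centralizer_iff.mp hz.2 c hc
      have hcb : c * ⁅u, b⁆ * c⁻¹ ∈ V := (mem_normalizer_iff.mp (hAV hc) _).mp (hcV b hb)
      have h3 : a * ⁅u, c⁆ * a⁻¹ = b * ⁅u, c⁆ * b⁻¹ := by
        rw [hsym a ha, hsym b hb, hea,
          show c * (⁅u, b⁆ * z) * c⁻¹ = c * ⁅u, b⁆ * c⁻¹ * (c * z * c⁻¹) by group,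
          show c * z * c⁻¹ = z by rw [hzc, mul_inv_cancel_right], mul_inv_rev]
        have h4 := hab _ (V.mul_mem (V.mul_mem (V.inv_mem (hcV b hb)) (hcV c hc)) hcb) z hz.1
        calc z⁻¹ * ⁅u, b⁆⁻¹ * ⁅u, c⁆ * (c * ⁅u, b⁆ * c⁻¹ * z)
            = z⁻¹ * ((⁅u, b⁆⁻¹ * ⁅u, c⁆ * (c * ⁅u, b⁆ * c⁻¹)) * z) := by group
          _ = _ := by rw [h4, inv_mul_cancel_left]
      rw [mem_centralizer_singleton_iff]
      calc ⁅u, c⁆ * (b⁻¹ * a) = b⁻¹ * (b * ⁅u, c⁆ * b⁻¹) * a := by group
        _ = b⁻¹ * (a * ⁅u, c⁆ * a⁻¹) * a := by rw [h3]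
        _ = b⁻¹ * a * ⁅u, c⁆ := by group
    exact fun y hy => mem_centralizer_singleton_iff.mp (hsub hy)
  have hle : B.relIndex A ≤ C.relIndex D := by
    let f : A ⧸ B.subgroupOf A → D ⧸ C.subgroupOf D := fun q =>
      QuotientGroup.mk ⟨⁅u, ((Quotient.out q : A) : G)⁆, mem_sup_left
        (commutator_mem_commutator (subset_closure rfl) (Quotient.out q).2)⟩
    refine Nat.card_le_card_of_injective f fun q q' hq => ?_
    have h1 := QuotientGroup.eq.mp hq
    rw [← QuotientGroup.out_eq' q, ← QuotientGroup.out_eq' q', QuotientGroup.eq]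
    exact key _ (Quotient.out q').2 _ (Quotient.out q).2 h1
  have h1 : meas V A ≤ Nat.card B * Nat.card D := by
    unfold meas
    rw [← card_mul_relIndex hBA, ← hC, mul_assoc, ← card_mul_relIndex (le_sup_right : C ≤ D),
      mul_comm (B.relIndex A)]
    exact Nat.mul_le_mul le_rfl (Nat.mul_le_mul le_rfl hle)
  have h2 : Nat.card B * Nat.card D ≤ meas V B :=
    Nat.mul_le_mul le_rfl (Nat.le_of_dvd Nat.card_pos (card_dvd_of_le hDE))
  rcases (h1.trans h2).lt_or_eq with h | h
  · exact Or.inl h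
  · refine Or.inr ⟨h, (eq_of_le_of_card_ge hDE ?_).symm⟩
    exact Nat.le_of_mul_le_mul_left (le_of_eq_of_le h.symm h1) Nat.card_pos

theorem replacement {V A : Subgroup G} (hab : ∀ x ∈ V, ∀ y ∈ V, x * y = y * x)
    (hAV : A ≤ normalizer (V : Set G)) (hA : ⁅A, A⁆ ≤ centralizer (V : Set G))
    {U : Subgroup G} (hU : U ≤ V) :
    (∃ B ≤ A, meas V A < meas V B) ∨
      (meas V A = meas V (star A U) ∧
        V ⊓ centralizer (star A U : Set G) = ⁅U, A⁆ ⊔ (V ⊓ centralizer (A : Set G))) := by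
  suffices main : ∀ S : Set G, S.Finite → S ⊆ V → (∃ B ≤ A, meas V A < meas V B) ∨
      (meas V A = meas V (star A (closure S)) ∧ V ⊓ centralizer (star A (closure S) : Set G) =
        ⁅closure S, A⁆ ⊔ (V ⊓ centralizer (A : Set G))) by
    simpa only [closure_eq] using main U (Set.toFinite _) hU
  intro S hS
  induction S, hS using Set.Finite.induction_on with
  | empty =>
    intro _
    refine Or.inr ?_
    have h0 : star A (closure (∅ : Set G)) = A := by
      rw [star, Subgroup.closure_empty, commutator_bot_left, inf_eq_left]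
      exact fun a _ x hx => by rw [mem_bot.mp hx, one_mul, mul_one]
    rw [h0, Subgroup.closure_empty, commutator_bot_left, bot_sup_eq]
    exact ⟨rfl, rfl⟩
  | @insert u S _ _ ih =>
    intro hsub
    obtain ⟨huV, hSV⟩ := Set.insert_subset_iff.mp hsub
    rcases ih hSV with h | ⟨e1, c1⟩
    · exact Or.inl h
    rcases step hab hAV hA huV with h | ⟨e2, c2⟩
    · exact Or.inl ⟨_, inf_le_left, h⟩
    set A1 := star A (closure S) with hA1
    set A2 := star A (closure {u}) with hA2
    have hcl : ⁅closure (insert u S), A⁆ = ⁅closure {u}, A⁆ ⊔ ⁅closure S, A⁆ := by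
      refine le_antisymm (commutator_closure_le hab hAV _ hsub ?_)
        (sup_le (commutator_mono (closure_mono (by simp)) le_rfl)
          (commutator_mono (closure_mono (Set.subset_insert u S)) le_rfl))
      rintro s (rfl | hs) a ha
      · exact mem_sup_left (commutator_mem_commutator (subset_closure rfl) ha)
      · exact mem_sup_right (commutator_mem_commutator (subset_closure hs) ha)
    have hst : star A (closure (insert u S)) = A2 ⊓ A1 := by
      ext x
      simp only [hA1, hA2, star, mem_inf, hcl]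
      constructor
      · rintro ⟨hx, hc⟩
        exact ⟨⟨hx, centralizer_le (SetLike.coe_subset_coe.mpr le_sup_left) hc⟩, hx,
          centralizer_le (SetLike.coe_subset_coe.mpr le_sup_right) hc⟩
      · rintro ⟨⟨hx, hc⟩, -, hc'⟩
        refine ⟨hx, ?_⟩
        have : ⁅closure ({u} : Set G), A⁆ ⊔ ⁅closure S, A⁆ ≤ centralizer ({x} : Set G) :=
          sup_le (fun y hy => mem_centralizer_singleton_iff.mpr (hc y hy))
            (fun y hy => mem_centralizer_singleton_iff.mpr (hc' y hy))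
        exact fun y hy => mem_centralizer_singleton_iff.mp (this hy)
    set C := V ⊓ centralizer (A : Set G) with hC
    set X1 := V ⊓ centralizer (A1 : Set G) with hX1
    set X2 := V ⊓ centralizer (A2 : Set G) with hX2
    rw [hst, hcl]
    have hA12 : A2 ≤ normalizer (A1 : Set G) := by
      refine le_normalizer_of_conj_mem fun a ha x hx => ?_
      have hcA : ⁅a, x⁆ ∈ A1 := by
        refine ⟨A.mul_mem (A.mul_mem (A.mul_mem ha.1 hx.1) (A.inv_mem ha.1)) (A.inv_mem hx.1), ?_⟩
        refine centralizer_le (SetLike.coe_subset_coe.mpr ?_) (hA (commutator_mem_commutator ha.1 hx.1))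
        exact (commutator_mono ((closure_le V).mpr hSV) le_rfl).trans
          (le_normalizer_iff_commutator_le_left.mp hAV)
      have := A1.mul_mem hcA hx
      simpa [commutatorElement_def, mul_assoc] using this
    have hX12 : X2 ≤ normalizer (X1 : Set G) := by
      refine le_normalizer_of_conj_mem fun v hv x hx => ?_
      rwa [commute_of_le_centralizer_self hab hv.1 hx.1]
    have hinf : X2 ⊓ X1 = V ⊓ centralizer ((A2 ⊔ A1 : Subgroup G) : Set G) := by
      refine le_antisymm (le_inf (inf_le_left.trans inf_le_left) ?_)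
        (le_inf (inf_le_inf_left V (centralizer_le (SetLike.coe_subset_coe.mpr le_sup_left)))
          (inf_le_inf_left V (centralizer_le (SetLike.coe_subset_coe.mpr le_sup_right))))
      exact le_centralizer_iff.mp (sup_le
        (le_centralizer_iff.mp (inf_le_left.trans inf_le_right))
        (le_centralizer_iff.mp (inf_le_right.trans inf_le_right)))
    have hprod : Nat.card ↥(A2 ⊓ A1) * Nat.card ↥(X2 ⊔ X1) * meas V (A2 ⊔ A1) =
        meas V A * meas V A := by
      have k1 := card_sup_mul_card_inf A1 A2 hA12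
      have k2 := card_sup_mul_card_inf X1 X2 hX12
      rw [sup_comm A1 A2, inf_comm A1 A2] at k1
      rw [sup_comm X1 X2, inf_comm X1 X2] at k2
      rw [congrArg₂ (· * ·) e2 e1]
      unfold meas
      rw [← hinf, ← hX1, ← hX2]
      calc Nat.card ↥(A2 ⊓ A1) * Nat.card ↥(X2 ⊔ X1) * (Nat.card ↥(A2 ⊔ A1) * Nat.card ↥(X2 ⊓ X1))
          = (Nat.card ↥(A2 ⊔ A1) * Nat.card ↥(A2 ⊓ A1)) *
            (Nat.card ↥(X2 ⊔ X1) * Nat.card ↥(X2 ⊓ X1)) := by ring
        _ = _ := by rw [k1, k2]; ring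
    by_cases hbig : meas V A < meas V (A2 ⊔ A1)
    · exact Or.inl ⟨_, sup_le inf_le_left inf_le_left, hbig⟩
    have hge : meas V A ≤ Nat.card ↥(A2 ⊓ A1) * Nat.card ↥(X2 ⊔ X1) := by
      have hpos : 0 < meas V A := Nat.mul_pos Nat.card_pos Nat.card_pos
      refine Nat.le_of_mul_le_mul_right ?_ hpos
      rw [← hprod]
      exact Nat.mul_le_mul le_rfl (not_lt.mp hbig)
    have hle : X2 ⊔ X1 ≤ V ⊓ centralizer ((A2 ⊓ A1 : Subgroup G) : Set G) :=
      sup_le (inf_le_inf_left V (centralizer_le (SetLike.coe_subset_coe.mpr inf_le_left)))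
        (inf_le_inf_left V (centralizer_le (SetLike.coe_subset_coe.mpr inf_le_right)))
    have hge2 : Nat.card ↥(A2 ⊓ A1) * Nat.card ↥(X2 ⊔ X1) ≤ meas V (A2 ⊓ A1) :=
      Nat.mul_le_mul le_rfl (Nat.le_of_dvd Nat.card_pos (card_dvd_of_le hle))
    rcases (hge.trans hge2).lt_or_eq with h | h
    · exact Or.inl ⟨_, inf_le_left.trans inf_le_left, h⟩
    refine Or.inr ⟨h, ?_⟩
    rw [← eq_of_le_of_card_ge hle
      (Nat.le_of_mul_le_mul_left (le_of_eq_of_le h.symm hge) Nat.card_pos), c1, c2]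
    exact le_antisymm
      (sup_le (sup_le_sup_right le_sup_left _) (sup_le_sup_right le_sup_right _))
      (sup_le (sup_le_sup le_sup_left le_sup_left) (le_sup_right.trans le_sup_right))

end Cfsg.Agent.Solv.Timm
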