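import Cfsg.Agent.Lib.Solv.TransvectionLarge
import Cfsg.Agent.Lib.Solv.LargeSimple

/-!
The holomorph of an elementary abelian `2`-group inside `SL(n+2, 2)`.
-/

set_option autoImplicit false
set_option linter.style.haveILetI false
set_option linter.unusedSectionVars false

namespace Cfsg.Agent.Solv.TransvectionHolomorph

open Subgroup Matrix TransvectionLarge

variable {n : ℕ}

abbrev W (n : ℕ) := Fin (n + 1) → F

/-- The affine matrix of a linear part and a translation. -/
def aff (L : Matrix (Fin (n + 1)) (Fin (n + 1)) F) (v : W n) : Matrix (Fin (n + 2)) (Fin (n + 2)) F :=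
  Matrix.of (Fin.insertNth (α := fun _ => Fin (n + 2) → F) 1 (Pi.single 1 1) fun i => Fin.insertNth (α := fun _ => F) 1 (v i) (L i))

theorem aff_11 (L : Matrix (Fin (n + 1)) (Fin (n + 1)) F) (v : W n) : aff L v 1 1 = 1 := by simp [aff]
theorem aff_1j (L : Matrix (Fin (n + 1)) (Fin (n + 1)) F) (v : W n) (j : Fin (n + 1)) :
    aff L v 1 ((1 : Fin (n + 2)).succAbove j) = 0 := by
  simp [aff, Pi.single_apply, Fin.succAbove_ne]
theorem aff_i1 (L : Matrix (Fin (n + 1)) (Fin (n + 1)) F) (v : W n) (i : Fin (n + 1)) :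
    aff L v ((1 : Fin (n + 2)).succAbove i) 1 = v i := by simp [aff]
theorem aff_ij (L : Matrix (Fin (n + 1)) (Fin (n + 1)) F) (v : W n) (i j : Fin (n + 1)) :
    aff L v ((1 : Fin (n + 2)).succAbove i) ((1 : Fin (n + 2)).succAbove j) = L i j := by simp [aff]

theorem one_cases {P : Fin (n + 2) → Prop} (h1 : P 1) (h2 : ∀ j : Fin (n + 1), P ((1 : Fin (n + 2)).succAbove j)) :
    ∀ i, P i := fun i => by
  rcases Fin.eq_self_or_eq_succAbove 1 i with rfl | ⟨j, rfl⟩
  exacts [h1, h2 j]

theorem aff_mul (L L' : Matrix (Fin (n + 1)) (Fin (n + 1)) F) (v v' : W n) :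
    aff L v * aff L' v' = aff (L * L') (v + L *ᵥ v') := by
  ext i k
  revert i k
  refine one_cases ?_ fun i => ?_ <;> refine one_cases ?_ fun j => ?_ <;>
    simp [Matrix.mul_apply, Fin.sum_univ_succAbove _ (1 : Fin (n + 2)), aff_11, aff_1j, aff_i1, aff_ij, Matrix.mulVec,
      dotProduct]

theorem aff_one : aff (1 : Matrix (Fin (n + 1)) (Fin (n + 1)) F) 0 = 1 := by
  ext i k
  revert i k
  refine one_cases ?_ fun i => ?_ <;> refine one_cases ?_ fun j => ?_ <;>
    simp [Matrix.one_apply, aff_11, aff_1j, aff_i1, aff_ij, Fin.succAbove_ne, (Fin.succAbove_ne _ _).symm,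
      Fin.succAbove_right_injective.eq_iff]

theorem aff_eta (M : Matrix (Fin (n + 2)) (Fin (n + 2)) F) (h11 : M 1 1 = 1)
    (h1 : ∀ j, M 1 ((1 : Fin (n + 2)).succAbove j) = 0) :
    M = aff (Matrix.of fun i j => M ((1 : Fin (n + 2)).succAbove i) ((1 : Fin (n + 2)).succAbove j))
      (fun i => M ((1 : Fin (n + 2)).succAbove i) 1) := by
  ext i k
  revert i k
  refine one_cases ?_ fun i => ?_ <;> refine one_cases ?_ fun j => ?_ <;>
    simp [aff_11, aff_1j, aff_i1, aff_ij, h11, h1]

theorem tz_aff : ((tz n : SL (n + 2)) : Matrix (Fin (n + 2)) (Fin (n + 2)) F) = aff 1 (Pi.single 0 1) := by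
  have h0 : (1 : Fin (n + 2)).succAbove 0 = 0 := Fin.succAbove_ne_zero_zero (by simp)
  rw [tz_coe]
  ext i k
  revert i k
  refine one_cases ?_ fun i => ?_ <;> refine one_cases ?_ fun j => ?_ <;>
    simp [Matrix.transvection, Matrix.one_apply, Matrix.single_apply, aff_11, aff_1j, aff_i1, aff_ij, Fin.succAbove_ne,
      (Fin.succAbove_ne _ _).symm, Fin.succAbove_right_injective.eq_iff, Pi.single_apply]
  · simp only [show (0 = Fin.succAbove (1 : Fin (n + 2)) i) ↔ i = 0 from
      ⟨fun e => Fin.succAbove_right_injective (e.symm.trans h0.symm), fun e => by rw [e, h0]⟩]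

variable {G : Type*} [Group G] [Finite G]

theorem exists_coords (U : Subgroup G) (hU : IsElementaryAbelian 2 U) (hcard : Nat.card U = 2 ^ (n + 1)) (u : U)
    (hu : u ≠ 1) : ∃ α : U ≃* Multiplicative (W n), α u = Multiplicative.ofAdd (Pi.single 0 1) := by
  haveI : IsMulCommutative U := hU.1
  letI : CommGroup U := { (inferInstance : Group U) with mul_comm := IsMulCommutative.is_comm.comm }
  letI : Module F (Additive U) := AddCommGroup.zmodModule fun x => by
    show x.toMul ^ 2 = 1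
    exact Subtype.ext (by simpa using hU.2 _ x.toMul.2)
  have hr : Module.finrank F (Additive U) = Module.finrank F (W n) := by
    have h1 := Module.natCard_eq_pow_finrank (K := F) (V := Additive U)
    rw [Nat.card_congr Additive.toMul, hcard, Nat.card_zmod] at h1
    rw [Module.finrank_fin_fun]
    exact (Nat.pow_right_injective le_rfl h1).symm
  let β := LinearEquiv.ofFinrankEq (Additive U) (W n) hr
  have hw : β (Additive.ofMul u) ≠ 0 := fun e => hu (Additive.ofMul.injective (β.map_eq_zero_iff.mp e))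
  obtain ⟨k, hk⟩ : ∃ k, β (Additive.ofMul u) k = 1 := by
    by_contra hn'
    push Not at hn'
    exact hw (funext fun i => (F_cases _).resolve_right (hn' i))
  let σ : W n ≃+ W n :=
    { toFun := fun w => w ∘ Equiv.swap 0 k
      invFun := fun w => w ∘ Equiv.swap 0 k
      left_inv := fun w => funext fun i => by simp
      right_inv := fun w => funext fun i => by simp
      map_add' := fun _ _ => rfl }
  let d : W n := σ (β (Additive.ofMul u)) + Pi.single 0 1
  have hd : d 0 = 0 := by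
    show β (Additive.ofMul u) (Equiv.swap 0 k 0) + (Pi.single 0 1 : W n) 0 = 0
    rw [Equiv.swap_apply_left, hk, Pi.single_eq_same]; exact F_add_self 1
  have hinv : ∀ w : W n, (w + w 0 • d) + (w + w 0 • d) 0 • d = w := fun w => funext fun i => by
    simp only [Pi.add_apply, Pi.smul_apply, smul_eq_mul, hd, mul_zero, add_zero]
    rw [add_assoc, F_add_self, add_zero]
  let f : W n ≃+ W n :=
    { toFun := fun w => w + w 0 • d
      invFun := fun w => w + w 0 • d
      left_inv := hinv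
      right_inv := hinv
      map_add' := fun a b => funext fun i => by simp; ring }
  refine ⟨AddEquiv.toMultiplicativeRight ((β.toAddEquiv.trans σ).trans f), ?_⟩
  show Multiplicative.ofAdd (f (σ (β (Additive.ofMul u)))) = _
  congr 1
  show σ (β (Additive.ofMul u)) + σ (β (Additive.ofMul u)) 0 • d = Pi.single 0 1
  rw [show σ (β (Additive.ofMul u)) 0 = 1 by show β (Additive.ofMul u) (Equiv.swap 0 k 0) = 1; rw [Equiv.swap_apply_left, hk],
    one_smul, ← add_assoc]
  exact funext fun i => by simp only [Pi.add_apply]; rw [F_add_self, zero_add]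

theorem exists_embedding (U M : Subgroup G) [hUn : U.Normal] (hU : IsElementaryAbelian 2 U)
    (hcard : Nat.card U = 2 ^ (n + 1)) (hUM : U ⊓ M = ⊥) (hUM' : U ⊔ M = ⊤)
    (hfaith : ∀ m ∈ M, (∀ u ∈ U, m * u * m⁻¹ = u) → m = 1)
    (hfull : ∀ φ : U ≃* U, ∃ m ∈ M, ∀ u : U, ((φ u : U) : G) = m * u * m⁻¹) (u0 : U) (hu0 : u0 ≠ 1) :
    ∃ ψ : G →* SL (n + 2), Function.Injective ψ ∧ ψ u0 = tz n ∧
      centralizer ({tz n} : Set (SL (n + 2))) ≤ ψ.range := by
  obtain ⟨α, hα⟩ := exists_coords U hU hcard u0 hu0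
  have hdec : ∀ g : G, ∃ u : U, (u : G)⁻¹ * g ∈ M := fun g => by
    have hg : g ∈ ((U ⊔ M : Subgroup G) : Set G) := by rw [hUM']; trivial
    rw [normal_mul] at hg
    obtain ⟨u, hu, m, hm, rfl⟩ := hg
    exact ⟨⟨u, hu⟩, by simpa using hm⟩
  choose tr htr using hdec
  have huniq : ∀ (g : G) (u : U), (u : G)⁻¹ * g ∈ M → tr g = u := fun g u hu => by
    have h1 : (u : G)⁻¹ * (tr g : G) ∈ U ⊓ M := ⟨U.mul_mem (U.inv_mem u.2) (tr g).2, by
      have := M.mul_mem hu (M.inv_mem (htr g))
      rwa [_root_.mul_inv_rev, inv_inv, mul_assoc, mul_inv_cancel_left] at this⟩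
    rw [hUM, mem_bot] at h1
    exact Subtype.ext (inv_mul_eq_one.mp h1).symm
  have hcomm : ∀ a b : U, (a : G) * b = b * a := fun a b => congrArg Subtype.val (hU.1.is_comm.comm a b)
  let cg : G → U → U := fun g u => ⟨g * u * g⁻¹, hUn.conj_mem u u.2 g⟩
  have htr_mul : ∀ g g', tr (g * g') = tr g * cg g (tr g') := fun g g' => by
    refine huniq _ _ ?_
    have hcg : (cg g (tr g') : G) = ((tr g : G)⁻¹ * g) * (tr g') * ((tr g : G)⁻¹ * g)⁻¹ := by
      show g * (tr g' : G) * g⁻¹ = _
      have e : (tr g : G)⁻¹ * (g * (tr g') * g⁻¹) * (tr g : G) = g * (tr g') * g⁻¹ := by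
        rw [mul_assoc, ← hcomm (tr g) (cg g (tr g')), inv_mul_cancel_left]
      rw [← e]; group
    rw [Subgroup.coe_mul, hcg, show ((tr g : G) * (((tr g : G)⁻¹ * g) * (tr g') * ((tr g : G)⁻¹ * g)⁻¹))⁻¹ * (g * g')
      = ((tr g : G)⁻¹ * g) * ((tr g' : G)⁻¹ * g') by group]
    exact M.mul_mem (htr g) (htr g')
  let Lh : G → W n →ₗ[F] W n := fun g => AddMonoidHom.toZModLinearMap 2
    (AddMonoidHom.mk' (fun w => Multiplicative.toAdd (α (cg g (α.symm (Multiplicative.ofAdd w))))) fun a b => by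
      rw [ofAdd_add, map_mul]
      show Multiplicative.toAdd (α (cg g (α.symm (Multiplicative.ofAdd a) * α.symm (Multiplicative.ofAdd b)))) = _
      rw [show cg g (α.symm (Multiplicative.ofAdd a) * α.symm (Multiplicative.ofAdd b)) =
        cg g (α.symm (Multiplicative.ofAdd a)) * cg g (α.symm (Multiplicative.ofAdd b)) from Subtype.ext (by simp [cg]),
        map_mul, toAdd_mul])
  have hLh : ∀ g u, Lh g (Multiplicative.toAdd (α u)) = Multiplicative.toAdd (α (cg g u)) := fun g u => by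
    show Multiplicative.toAdd (α (cg g (α.symm (Multiplicative.ofAdd (Multiplicative.toAdd (α u)))))) = _
    rw [ofAdd_toAdd, α.symm_apply_apply]
  have hsurj : ∀ w : W n, ∃ u, w = Multiplicative.toAdd (α u) := fun w =>
    ⟨α.symm (Multiplicative.ofAdd w), by rw [α.apply_symm_apply, toAdd_ofAdd]⟩
  let L : G → Matrix (Fin (n + 1)) (Fin (n + 1)) F := fun g => LinearMap.toMatrix' (Lh g)
  let v : G → W n := fun g => Multiplicative.toAdd (α (tr g))
  have hLv : ∀ g w, L g *ᵥ w = Lh g w := fun g w => LinearMap.toMatrix'_mulVec (Lh g) w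
  have hmul : ∀ g g', aff (L g) (v g) * aff (L g') (v g') = aff (L (g * g')) (v (g * g')) := fun g g' => by
    rw [aff_mul]
    congr 1
    · show LinearMap.toMatrix' (Lh g) * LinearMap.toMatrix' (Lh g') = LinearMap.toMatrix' (Lh (g * g'))
      rw [← LinearMap.toMatrix'_comp]
      congr 1
      refine LinearMap.ext fun w => ?_
      obtain ⟨u, rfl⟩ := hsurj w
      rw [LinearMap.comp_apply, hLh, hLh, hLh]
      exact congrArg (fun t => Multiplicative.toAdd (α t)) (Subtype.ext (by simp only [cg]; group))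
    · rw [hLv, hLh]
      show Multiplicative.toAdd (α (tr g)) + _ = Multiplicative.toAdd (α (tr (g * g')))
      rw [htr_mul, map_mul, toAdd_mul]
  have hone : aff (L 1) (v 1) = 1 := by
    have ht : tr 1 = 1 := huniq 1 1 (by simp)
    have hL : L 1 = 1 := by
      show LinearMap.toMatrix' (Lh 1) = 1
      rw [← LinearMap.toMatrix'_id]
      congr 1
      refine LinearMap.ext fun w => ?_
      obtain ⟨u, rfl⟩ := hsurj w
      rw [hLh, show cg 1 u = u from Subtype.ext (by simp [cg])]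
      rfl
    rw [hL, show v 1 = 0 by show Multiplicative.toAdd (α (tr 1)) = 0; rw [ht, map_one, toAdd_one], aff_one]
  let ψ : G →* SL (n + 2) :=
    { toFun := fun g => ⟨aff (L g) (v g), det_eq_one_of _ (aff (L g⁻¹) (v g⁻¹)) (by rw [hmul, mul_inv_cancel, hone])⟩
      map_one' := Subtype.ext hone
      map_mul' := fun g g' => Subtype.ext (hmul g g').symm }
  have hψ : ∀ g, ((ψ g : SL (n + 2)) : Matrix (Fin (n + 2)) (Fin (n + 2)) F) = aff (L g) (v g) := fun g => rfl
  refine ⟨ψ, (injective_iff_map_eq_one ψ).mpr fun g hg => ?_, Subtype.ext ?_, fun h hh => ?_⟩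
  · have hg' : aff (L g) (v g) = aff 1 0 := by rw [aff_one, ← hψ, hg]; rfl
    have hv : v g = 0 := funext fun i => by
      have := congrFun (congrFun hg' ((1 : Fin (n + 2)).succAbove i)) 1
      rwa [aff_i1, aff_i1] at this
    have hL : L g = 1 := Matrix.ext fun i j => by
      have := congrFun (congrFun hg' ((1 : Fin (n + 2)).succAbove i)) ((1 : Fin (n + 2)).succAbove j)
      rwa [aff_ij, aff_ij] at this
    have ht : tr g = 1 := α.injective (Multiplicative.toAdd.injective (hv.trans (by rw [map_one, toAdd_one])))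
    have hgM : g ∈ M := by simpa [ht] using htr g
    refine hfaith g hgM fun u hu => ?_
    have e : cg g ⟨u, hu⟩ = ⟨u, hu⟩ := α.injective (Multiplicative.toAdd.injective (by
      rw [← hLh, ← hLv, hL, one_mulVec]))
    exact congrArg Subtype.val e
  · rw [hψ, tz_aff]
    have ht : tr (u0 : G) = u0 := huniq _ _ (by simp)
    have hL : L u0 = 1 := by
      show LinearMap.toMatrix' (Lh u0) = 1
      rw [← LinearMap.toMatrix'_id]
      congr 1
      refine LinearMap.ext fun w => ?_
      obtain ⟨u, rfl⟩ := hsurj w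
      rw [hLh, show cg (u0 : G) u = u from Subtype.ext (mul_inv_eq_iff_eq_mul.mpr (hcomm u0 u))]
      rfl
    rw [hL, show v u0 = Pi.single 0 1 by show Multiplicative.toAdd (α (tr (u0 : G))) = _; rw [ht, hα, toAdd_ofAdd]]
  · have hrow : ∀ k : SL (n + 2), k * tz n = tz n * k → (k : Matrix (Fin (n + 2)) (Fin (n + 2)) F) 1 1 = 1 ∧
        ∀ j, (k : Matrix (Fin (n + 2)) (Fin (n + 2)) F) 1 ((1 : Fin (n + 2)).succAbove j) = 0 := by
      intro k hk
      obtain ⟨r, s, c, A, rfl⟩ := exists_el hk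
      refine ⟨rfl, fun j => ?_⟩
      have key : ∀ i : Fin (n + 2), i ≠ 1 → blockMat r s c (A : Matrix (Fin n) (Fin n) F) 1 i = 0 :=
        fin_two_cases (fun _ => rfl) (fun e => absurd rfl e) fun _ _ => rfl
      exact key _ (Fin.succAbove_ne _ _)
    have hh' : h * tz n = tz n * h := mem_centralizer_singleton_iff.mp hh
    obtain ⟨e1, e2⟩ := hrow h hh'
    obtain ⟨f1, f2⟩ := hrow h⁻¹ (Commute.inv_left (show Commute h (tz n) from hh')).eq
    have eM := aff_eta _ e1 e2
    have eN := aff_eta _ f1 f2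
    set L0 := Matrix.of fun i j => (h : Matrix (Fin (n + 2)) (Fin (n + 2)) F) ((1 : Fin (n + 2)).succAbove i) ((1 : Fin (n + 2)).succAbove j)
    set v0 := fun i => (h : Matrix (Fin (n + 2)) (Fin (n + 2)) F) ((1 : Fin (n + 2)).succAbove i) 1
    set L1 := Matrix.of fun i j => ((h⁻¹ : SL (n + 2)) : Matrix (Fin (n + 2)) (Fin (n + 2)) F) ((1 : Fin (n + 2)).succAbove i) ((1 : Fin (n + 2)).succAbove j)
    set v1 := fun i => ((h⁻¹ : SL (n + 2)) : Matrix (Fin (n + 2)) (Fin (n + 2)) F) ((1 : Fin (n + 2)).succAbove i) 1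
    have hinv : L0 * L1 = 1 := by
      have e : aff L0 v0 * aff L1 v1 = aff 1 0 := by
        rw [← eM, ← eN, ← Matrix.SpecialLinearGroup.coe_mul, mul_inv_cancel, aff_one]; rfl
      rw [aff_mul] at e
      ext i j
      have := congrFun (congrFun e ((1 : Fin (n + 2)).succAbove i)) ((1 : Fin (n + 2)).succAbove j)
      rwa [aff_ij, aff_ij] at this
    have hinv' : L1 * L0 = 1 := mul_eq_one_comm.mp hinv
    let e : W n ≃+ W n :=
      { toFun := fun w => L0 *ᵥ w
        invFun := fun w => L1 *ᵥ w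
        left_inv := fun w => by simp only [mulVec_mulVec, hinv', one_mulVec]
        right_inv := fun w => by simp only [mulVec_mulVec, hinv, one_mulVec]
        map_add' := fun a b => mulVec_add _ a b }
    obtain ⟨m, hm, hmu⟩ := hfull (α.trans ((AddEquiv.toMultiplicative e).trans α.symm))
    refine ⟨(α.symm (Multiplicative.ofAdd v0) : G) * m, Subtype.ext ?_⟩
    rw [hψ, eM]
    have ht : tr ((α.symm (Multiplicative.ofAdd v0) : G) * m) = α.symm (Multiplicative.ofAdd v0) :=
      huniq _ _ (by simpa using hm)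
    congr 1
    · show LinearMap.toMatrix' (Lh _) = L0
      rw [← LinearMap.toMatrix'_toLin' L0]
      congr 1
      refine LinearMap.ext fun w => ?_
      obtain ⟨u, rfl⟩ := hsurj w
      rw [hLh, show cg ((α.symm (Multiplicative.ofAdd v0) : G) * m) u = α.symm (Multiplicative.ofAdd (e (Multiplicative.toAdd (α u)))) by
        refine Subtype.ext ?_
        show (α.symm (Multiplicative.ofAdd v0) : G) * m * u * ((α.symm (Multiplicative.ofAdd v0) : G) * m)⁻¹ = _
        have := hmu u
        rw [show (α.symm (Multiplicative.ofAdd v0) : G) * m * u * ((α.symm (Multiplicative.ofAdd v0) : G) * m)⁻¹ =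
          (α.symm (Multiplicative.ofAdd v0) : G) * (m * u * m⁻¹) * (α.symm (Multiplicative.ofAdd v0) : G)⁻¹ by group, ← this,
          hcomm, mul_inv_cancel_right]
        rfl, α.apply_symm_apply, toAdd_ofAdd]
      rfl
    · show Multiplicative.toAdd (α (tr _)) = v0
      rw [ht, α.apply_symm_apply, toAdd_ofAdd]

/-- The general linear group over two elements. -/
theorem gl_iso (m : ℕ) : Nonempty (SL m ≃* Matrix.GeneralLinearGroup (Fin m) F) :=
  ⟨MulEquiv.ofBijective Matrix.SpecialLinearGroup.toGL ⟨fun a b e => Subtype.ext (congrArg Units.val e), fun g =>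
    ⟨⟨g.val, det_eq_one_of _ _ g.val_inv⟩, Units.ext rfl⟩⟩⟩

theorem holomorph_large (hn : 1 ≤ n) (U M : Subgroup G) [U.Normal] (hU : IsElementaryAbelian 2 U)
    (hcard : Nat.card U = 2 ^ (n + 1)) (hUM : U ⊓ M = ⊥) (hUM' : U ⊔ M = ⊤)
    (hfaith : ∀ m ∈ M, (∀ u ∈ U, m * u * m⁻¹ = u) → m = 1)
    (hfull : ∀ φ : U ≃* U, ∃ m ∈ M, ∀ u : U, ((φ u : U) : G) = m * u * m⁻¹) (Z : Subgroup G) (hZU : Z ≤ U)
    (hZ : Nat.card Z = 2) (Q : Subgroup G)
    (hQ : Q = (pCore 2 ↥(centralizer (Z : Set G))).map (centralizer (Z : Set G)).subtype) :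
    IsExtraspecial 2 Q ∧ Nat.card Q = 2 ^ (2 * n + 1) ∧
      (∃ E : Subgroup G, E ≤ Q ∧ IsElementaryAbelian 2 E ∧ Nat.card E = 2 ^ (n + 1)) ∧ IsLargeExtraspecial Q ∧
      ∃ K : Subgroup G, K ≤ centralizer (Z : Set G) ∧ Q ⊓ K = ⊥ ∧ Q ⊔ K = centralizer (Z : Set G) ∧
        Nonempty (K ≃* Matrix.GeneralLinearGroup (Fin n) F) := by
  haveI : Fact (Nat.Prime 2) := ⟨Nat.prime_two⟩
  obtain ⟨x, hx⟩ := exists_prime_orderOf_dvd_card' (G := Z) 2 (by rw [hZ])
  have hx' : orderOf (x : G) = 2 := by rw [orderOf_coe, hx]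
  have hxne : (⟨x, hZU x.2⟩ : U) ≠ 1 := fun e => by
    rw [show (x : G) = 1 from congrArg Subtype.val e, orderOf_one] at hx'
    omega
  obtain ⟨ψ, hinj, hψ, hrange⟩ := exists_embedding U M hU hcard hUM hUM' hfaith hfull _ hxne
  have hψ' : ψ (x : G) = tz n := hψ
  have hZx : Z = zpowers (x : G) := (eq_of_le_of_card_ge (zpowers_le.mpr x.2) (by rw [hZ, Nat.card_zpowers, hx'])).symm
  set CZ := centralizer (Z : Set G)
  set C := centralizer ({tz n} : Set (SL (n + 2)))
  have hCmap : CZ.map ψ = C := by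
    refine le_antisymm ?_ fun h hh => ?_
    · rintro _ ⟨g, hg, rfl⟩
      rw [mem_centralizer_singleton_iff, ← hψ', ← map_mul, ← map_mul, mem_centralizer_iff.mp hg _ x.2]
    · obtain ⟨g, rfl⟩ := hrange hh
      refine ⟨g, ?_, rfl⟩
      show g ∈ CZ
      rw [show CZ = centralizer ({(x : G)} : Set G) by rw [← LargeBasics.centralizer_zpowers, ← hZx], mem_centralizer_singleton_iff]
      refine hinj ?_
      rw [map_mul, map_mul, hψ']
      exact mem_centralizer_singleton_iff.mp hh
  let e : CZ ≃* C := (equivMapOfInjective CZ ψ hinj).trans (MulEquiv.subgroupCongr hCmap)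
  have hQmap : Q.map ψ = heis n := by
    rw [← pCore_cent, hQ, Subgroup.map_map, ← pCore_map_equiv 2 e, Subgroup.map_map]
    rfl
  have hle : ∀ H : Subgroup (SL (n + 2)), H ≤ C → (H.comap ψ).map ψ = H := fun H hH =>
    map_comap_eq_self (hH.trans hrange)
  have hmono : ∀ A B : Subgroup G, A.map ψ ≤ B.map ψ → A ≤ B := fun A B h => (map_le_map_iff_of_injective hinj).mp h
  have hcard' : ∀ H : Subgroup G, Nat.card (H.map ψ) = Nat.card H := fun H => card_map_of_injective hinj
  have hQex : IsExtraspecial 2 Q :=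
    LargeSimple.isExtraspecial_congr ((equivMapOfInjective Q ψ hinj).trans (MulEquiv.subgroupCongr hQmap)).symm
      (heis_extraspecial hn)
  have hQc : (center Q).map Q.subtype = Z := by
    refine (eq_of_le_of_card_ge (fun z hz => ?_) (by rw [card_map_subtype, hQex.2, hZ])).symm
    rw [hZx] at hz
    have hxQ : (x : G) ∈ Q := by
      obtain ⟨q, hq, e'⟩ := hQmap.ge (tz_mem (n := n))
      rwa [← hinj (e'.trans hψ'.symm)]
    refine (zpowers_le.mpr ?_) hz
    refine ⟨⟨x, hxQ⟩, mem_center_iff.mpr fun q => Subtype.ext (hinj ?_), rfl⟩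
    rw [Subgroup.coe_mul, Subgroup.coe_mul, map_mul, map_mul, hψ']
    exact mem_centralizer_singleton_iff.mp (heis_le_cent (hQmap.le ⟨q, q.2, rfl⟩))
  obtain ⟨K, hK1, hK2, hK3, ⟨eK⟩⟩ := exists_complement (n := n)
  obtain ⟨-, hL2, hL3, hL4⟩ := heis_large hn
  refine ⟨hQex, ?_, ⟨(elem n).comap ψ, hmono _ _ ?_, ⟨?_, ?_⟩, ?_⟩, ⟨hQex, ?_, ?_, ?_⟩,
    K.comap ψ, hmono _ _ (by rw [hle K hK1, hCmap]; exact hK1), ?_, ?_, ?_⟩
  · rw [← hcard', hQmap, heis_card]
  · rw [hle _ (elem_le.trans heis_le_cent), hQmap]; exact elem_le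
  · exact ⟨⟨fun a b => Subtype.ext (hinj (by
      rw [Subgroup.coe_mul, Subgroup.coe_mul, map_mul, map_mul]
      exact congrArg Subtype.val (elem_elementary.1.is_comm.comm ⟨_, a.2⟩ ⟨_, b.2⟩)))⟩⟩
  · intro a ha
    exact hinj (by rw [map_pow, map_one]; exact elem_elementary.2 _ ha)
  · rw [← hcard', hle _ (elem_le.trans heis_le_cent), elem_card]
  · rw [hQc]
    refine le_antisymm (hmono _ _ ?_) (fun z hz => ?_)
    · rintro _ ⟨g, hg, rfl⟩
      rw [hZx, MonoidHom.map_zpowers, hψ', ← heis_cent, ← hQmap]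
      exact mem_centralizer_iff.mpr fun q hq => by
        obtain ⟨q', hq', rfl⟩ := hq
        rw [← map_mul, ← map_mul, mem_centralizer_iff.mp hg q' hq']
    · exact mem_centralizer_iff.mpr fun q hq => by
        obtain ⟨w, hw, rfl⟩ := hQc.ge hz
        exact congrArg Subtype.val (mem_center_iff.mp hw ⟨q, hq⟩)
  · rw [hQc]
    intro g hg
    have hg' : ψ g ∈ normalizer (heis n : Set (SL (n + 2))) := cent_le_normalizer (hCmap.le ⟨g, hg, rfl⟩)
    refine mem_normalizer_iff.mpr fun q => ?_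
    rw [← mem_map_iff_mem hinj, ← mem_map_iff_mem hinj (K := Q) (x := g * q * g⁻¹), hQmap, map_mul, map_mul, map_inv]
    exact mem_normalizer_iff.mp hg' (ψ q)
  · intro K' hK' hQK'
    refine (map_eq_bot_iff_of_injective _ hinj).mp (hL4 _ (by rwa [hcard']) ?_)
    rw [← hQmap]
    exact (map_mono hQK').trans (le_normalizer_map ψ)
  · rw [← map_eq_bot_iff_of_injective _ hinj, Subgroup.map_inf _ _ ψ hinj, hQmap, hle K hK1, hK2]
  · refine map_injective hinj ?_
    rw [Subgroup.map_sup, hQmap, hle K hK1, hCmap, hK3]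
  · obtain ⟨g⟩ := gl_iso n
    exact ⟨(((equivMapOfInjective _ ψ hinj).trans (MulEquiv.subgroupCongr (hle K hK1))).trans eK).trans g⟩

end Cfsg.Agent.Solv.TransvectionHolomorph
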