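import Cfsg.Agent.Lib.Solv.Basic
import Mathlib.LinearAlgebra.Dimension.Free
import Mathlib.GroupTheory.Perm.Basic
import Mathlib.Data.ZMod.Basic

/-!
Squares of elements of order four in solvable linear groups over the field with two elements.
-/

set_option autoImplicit false

namespace Cfsg.Agent.Solv.TransvectionO2

variable {V : Type*} [AddCommGroup V] [Module (ZMod 2) V]

theorem two_zero (v : V) : v + v = 0 := by
  rw [← two_smul (ZMod 2) v, show (2 : ZMod 2) = 0 from rfl, zero_smul]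

theorem sub_eq_add' (u v : V) : u - v = u + v := by
  rw [sub_eq_iff_eq_add, add_assoc, two_zero, add_zero]

theorem pow_two_apply (f : V ≃ₗ[ZMod 2] V) (v : V) : (f ^ 2) v = f (f v) := by
  rw [pow_two]; rfl

theorem eq_one_of_two_pow_pow {X : Type*} [Monoid X] [Finite X] {y : X} (hy : Odd (orderOf y))
    {k : ℕ} (h : y ^ (2 ^ k) = 1) : y = 1 := by
  obtain ⟨j, -, hj⟩ := (Nat.dvd_prime_pow Nat.prime_two).1 (orderOf_dvd_of_pow_eq_one h)
  rcases j with _ | j
  · exact orderOf_eq_one_iff.1 hj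
  · rw [hj] at hy
    exact absurd hy (by simp [Nat.even_pow])

variable [Finite V]

theorem finite_aut : Finite (V ≃ₗ[ZMod 2] V) :=
  Finite.of_injective _ DFunLike.coe_injective

/-- Two quadratic steps force a `2`-element. -/
theorem eq_one_of_unipotent {y : V ≃ₗ[ZMod 2] V} (hy : Odd (orderOf y))
    (h : ∀ v, y (y v - v) = y v - v) : y = 1 := by
  haveI := finite_aut (V := V)
  refine eq_one_of_two_pow_pow (k := 1) hy (LinearEquiv.ext fun v => ?_)
  rw [pow_one, pow_two_apply]
  show y (y v) = v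
  have h1 := h v
  rw [map_sub, sub_eq_iff_eq_add, sub_eq_add', add_assoc] at h1
  rw [h1]
  rw [show v + y v = y v + v from add_comm _ _, ← add_assoc, two_zero, zero_add]

theorem im_sq_card (S : Subgroup (V ≃ₗ[ZMod 2] V)) (hS : Group.IsSolvable ↥S) (hO2 : Cfsg.pCore 2 ↥S = ⊥)
    (P : V ≃ₗ[ZMod 2] V) (hPS : P ∈ S) (hP4 : orderOf P = 4) :
    4 ≤ Nat.card ↥(LinearMap.range (((P : V →ₗ[ZMod 2] V) - LinearMap.id) ^ 2)) := by
  classical
  haveI := hS
  haveI := finite_aut (V := V)
  haveI : Fact (Nat.Prime 2) := ⟨Nat.prime_two⟩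
  set R := LinearMap.range (((P : V →ₗ[ZMod 2] V) - LinearMap.id) ^ 2)
  have hsq : ∀ v, ((((P : V →ₗ[ZMod 2] V) - LinearMap.id) ^ 2 : Module.End (ZMod 2) V) v) = (P ^ 2) v - v := fun v => by
    rw [pow_two, Module.End.mul_apply, pow_two_apply]
    simp only [LinearMap.sub_apply, LinearEquiv.coe_coe, LinearMap.id_apply, map_sub]
    rw [sub_eq_add' (P (P v) - P v), sub_eq_add' (P (P v)), sub_eq_add' (P v), sub_eq_add' (P (P v))]
    calc P (P v) + P v + (P v + v) = P (P v) + (P v + P v) + v := by abel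
      _ = P (P v) + v := by rw [two_zero, add_zero]
  by_contra hlt
  have hdvd : Nat.card R = 1 ∨ Nat.card R = 2 := by
    rw [Module.natCard_eq_pow_finrank (K := ZMod 2), Nat.card_zmod] at hlt ⊢
    rcases hn : Module.finrank (ZMod 2) R with _ | _ | k
    · exact Or.inl rfl
    · exact Or.inr rfl
    · rw [hn] at hlt
      exfalso; exact hlt (Nat.pow_le_pow_right (n := 2) (by norm_num) (show 2 ≤ k + 1 + 1 by omega))
  have ht1 : P ^ 2 ≠ 1 := fun e => by
    have := orderOf_dvd_of_pow_eq_one e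
    rw [hP4] at this; omega
  obtain ⟨b, hb⟩ : ∃ b, (P ^ 2) b ≠ b := by
    by_contra h; simp only [not_exists, not_not] at h; exact ht1 (LinearEquiv.ext h)
  set a := (P ^ 2) b - b with ha
  have ha0 : a ≠ 0 := sub_ne_zero.2 hb
  -- the square is a transvection
  have hR : ∀ v, (P ^ 2) v - v = 0 ∨ (P ^ 2) v - v = a := fun v => by
    rcases hdvd with h | h
    · have := (Nat.card_eq_one_iff_unique.1 h).1
      exact Or.inl (congrArg Subtype.val (@Subsingleton.elim _ this ⟨_, v, hsq v⟩ (0 : R)))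
    · obtain ⟨x, y, hxy, hu⟩ := Nat.card_eq_two_iff.1 h
      by_contra hne
      rw [not_or] at hne
      have m := fun z : R => (Set.ext_iff.1 hu z).2 (Set.mem_univ z)
      rcases m ⟨_, v, hsq v⟩ with e1 | e1 <;> rcases m ⟨_, b, hsq b⟩ with e2 | e2 <;>
        rcases m 0 with e3 | e3 <;> first
          | exact hne.1 (congrArg Subtype.val (e1.trans e3.symm))
          | exact hne.2 (congrArg Subtype.val (e1.trans e2.symm))
          | exact ha0 (congrArg Subtype.val (e2.trans e3.symm))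
  have hta : ∀ v, (P ^ 2) v = v ∨ (P ^ 2) v = v + a := fun v => by
    rcases hR v with h | h
    · exact Or.inl (sub_eq_zero.1 h)
    · exact Or.inr (by rw [← h, add_sub_cancel])
  have hPa : P a = a := by
    rcases hR (P b) with h | h
    · exfalso; apply ha0
      have : P a = 0 := by
        rw [ha, map_sub, ← h]; rw [pow_two_apply, pow_two_apply]
      exact P.injective (this.trans (map_zero P).symm)
    · rw [ha, map_sub, pow_two_apply]; rw [pow_two_apply] at h; exact h
  have ht4 : ∀ v, (P ^ 2) ((P ^ 2) v) = v := fun v => by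
    have e : (P ^ 2) * (P ^ 2) = 1 := by rw [← pow_add, show (2 : ℕ) + 2 = orderOf P by rw [hP4], pow_orderOf_eq_one]
    exact LinearEquiv.congr_fun e v
  set tS : S := ⟨P ^ 2, pow_mem hPS 2⟩ with htS
  have htS2 : tS * tS = 1 := Subtype.ext (LinearEquiv.ext ht4)
  -- a normal `q`-subgroup which is not centralised
  obtain ⟨q, hq, x, hxQ, hxt⟩ : ∃ q : ℕ, q.Prime ∧ ∃ x ∈ Cfsg.pCore q S, x * tS ≠ tS * x := by
    by_contra h
    simp only [not_exists, not_and, not_not] at h
    have hc : tS ∈ Subgroup.centralizer (Cfsg.fittingSubgroup S : Set S) := by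
      have hle : Cfsg.fittingSubgroup S ≤ Subgroup.centralizer {tS} := by
        rw [fittingSubgroup_eq_iSup_pCore]
        exact iSup_le fun q x hx => Subgroup.mem_centralizer_singleton_iff.2 (h q q.2 x hx)
      exact Subgroup.mem_centralizer_iff.2 fun x hx =>
        (Subgroup.mem_centralizer_singleton_iff.1 (hle hx))
    have hcF := centralizer_fittingSubgroup_le hc
    let C := Cfsg.fittingSubgroup S ⊓ Subgroup.centralizer (Cfsg.fittingSubgroup S : Set S)
    let T : Subgroup S :=
      { carrier := {z | z ∈ C ∧ z * z = 1}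
        one_mem' := ⟨C.one_mem, one_mul 1⟩
        mul_mem' := fun {u v} hu hv => ⟨C.mul_mem hu.1 hv.1, by
          have hcomm : u * v = v * u := (Subgroup.mem_centralizer_iff.1 hu.1.2 v hv.1.1).symm
          calc u * v * (u * v) = u * (v * u) * v := by simp [mul_assoc]
            _ = u * u * (v * v) := by rw [← hcomm]; simp [mul_assoc]
            _ = 1 := by rw [hu.2, hv.2, one_mul]⟩
        inv_mem' := fun {u} hu => ⟨C.inv_mem hu.1, by rw [← mul_inv_rev, hu.2, inv_one]⟩ }
    haveI : T.Normal := ⟨fun z hz g => ⟨(inferInstance : C.Normal).conj_mem z hz.1 g, by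
      rw [show g * z * g⁻¹ * (g * z * g⁻¹) = g * (z * z) * g⁻¹ by group, hz.2]; group⟩⟩
    have hT : IsPGroup 2 T := fun z => ⟨1, Subtype.ext (by
      rw [pow_one]; show ((z : S) ^ 2) = 1; rw [pow_two]; exact z.2.2)⟩
    have : tS ∈ Cfsg.pCore 2 S := le_pCore (N := T) hT ⟨⟨hcF, hc⟩, htS2⟩
    rw [hO2, Subgroup.mem_bot] at this
    exact ht1 (congrArg Subtype.val this)
  haveI := Fact.mk hq
  have hq2 : q ≠ 2 := by
    rintro rfl
    rw [hO2, Subgroup.mem_bot] at hxQ
    exact hxt (by rw [hxQ, one_mul, mul_one])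
  set yS := x * tS * x⁻¹ * tS with hyS
  have hyQ : yS ∈ Cfsg.pCore q S := by
    have := (Cfsg.pCore q S).mul_mem hxQ ((pCore_normal q S).conj_mem _ ((Cfsg.pCore q S).inv_mem hxQ) tS)
    rwa [show x * (tS * x⁻¹ * tS⁻¹) = yS by
      rw [hyS, inv_eq_of_mul_eq_one_right htS2]; simp [mul_assoc]] at this
  have hodd : ∀ z ∈ Cfsg.pCore q S, Odd (orderOf (z : V ≃ₗ[ZMod 2] V)) := fun z hz => by
    obtain ⟨k, hk⟩ := isPGroup_pCore q S ⟨z, hz⟩
    have h1 : (z : V ≃ₗ[ZMod 2] V) ^ q ^ k = 1 := congrArg (fun w : Cfsg.pCore q S => ((w : S) : V ≃ₗ[ZMod 2] V)) hk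
    exact ((hq.odd_of_ne_two hq2).pow).of_dvd_nat (orderOf_dvd_of_pow_eq_one h1)
  set y : V ≃ₗ[ZMod 2] V := (yS : V ≃ₗ[ZMod 2] V) with hy
  have hyodd := hodd yS hyQ
  have hy1 : y ≠ 1 := fun e => by
    have e' : yS = 1 := Subtype.ext e
    rw [hyS, mul_eq_one_iff_eq_inv, inv_eq_of_mul_eq_one_right htS2, mul_inv_eq_iff_eq_mul] at e'
    exact hxt e'
  set c := (x : V ≃ₗ[ZMod 2] V) a with hc
  have hW : ∀ v, y v - v = 0 ∨ y v - v = a ∨ y v - v = c ∨ y v - v = c + a := by
    intro v
    have e : y v = (x : V ≃ₗ[ZMod 2] V) ((P ^ 2) ((x : V ≃ₗ[ZMod 2] V).symm ((P ^ 2) v))) := rfl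
    rw [e]
    rcases hta ((x : V ≃ₗ[ZMod 2] V).symm ((P ^ 2) v)) with h | h <;> rcases hta v with h' | h' <;>
      rw [h] <;> simp only [map_add, LinearEquiv.apply_symm_apply] <;> rw [h']
    · simp
    · simp
    · exact Or.inr (Or.inr (Or.inl (by rw [add_sub_cancel_left])))
    · exact Or.inr (Or.inr (Or.inr (by rw [show v + a + c - v = c + a by abel])))
  have hinv : ∀ v, (P ^ 2) (y v) = y.symm ((P ^ 2) v) := by
    intro v
    have e : tS * yS = yS⁻¹ * tS := by
      rw [hyS, mul_inv_rev, mul_inv_rev, mul_inv_rev, inv_inv, inv_eq_of_mul_eq_one_right htS2]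
      simp [mul_assoc, htS2]
    exact LinearEquiv.congr_fun (congrArg Subtype.val e) v
  -- the commutator space
  let W : Submodule (ZMod 2) V := LinearMap.range ((y : V →ₗ[ZMod 2] V) - LinearMap.id)
  have hWmem : ∀ w ∈ W, w = 0 ∨ w = a ∨ w = c ∨ w = c + a := by rintro w ⟨v, rfl⟩; exact hW v
  have hWin : ∀ v, y v - v ∈ W := fun v => ⟨v, rfl⟩
  have hyW : ∀ w ∈ W, y w ∈ W := fun w hw => by
    have := W.add_mem (hWin w) hw
    rwa [sub_add_cancel] at this
  have hyW' : ∀ w ∈ W, y.symm w ∈ W := fun w hw => by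
    have := W.sub_mem hw (hWin (y.symm w))
    rwa [y.apply_symm_apply, sub_sub_cancel] at this
  have hbound : ∀ T : Submodule (ZMod 2) V, T = W → (T : Set V).ncard ≤ 4 := by
    rintro T rfl
    refine (Set.ncard_le_ncard (t := ({0, a, c, c + a} : Set V)) (fun w hw => ?_) (Set.toFinite _)).trans
      ((Set.ncard_insert_le _ _).trans (Nat.succ_le_succ ((Set.ncard_insert_le _ _).trans
        (Nat.succ_le_succ ((Set.ncard_insert_le _ _).trans (by rw [Set.ncard_singleton]))))))
    simpa using hWmem w hw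
  have hW4 : (W : Set V).ncard ≤ 4 := hbound W rfl
  -- four vectors of a commutator space are all of it
  have hfull : ∀ T : Submodule (ZMod 2) V, (T : Set V).ncard ≤ 4 → ∀ u ∈ T, ∀ w ∈ T,
      u ≠ 0 → w ≠ 0 → u ≠ w → ∀ z ∈ T, z = 0 ∨ z = u ∨ z = w ∨ z = u + w := by
    intro T hT u hu w hw hu0 hw0 huw z hz
    have hsum : u + w ≠ 0 := fun e => huw (sub_eq_zero.1 ((sub_eq_add' u w).trans e))
    have hsub : ({0, u, w, u + w} : Set V) ⊆ T := by
      simp [Set.insert_subset_iff, hu, hw, T.add_mem hu hw]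
    have h4 : ({0, u, w, u + w} : Set V).ncard = 4 := by
      rw [Set.ncard_insert_of_notMem (by simp [Ne.symm hu0, Ne.symm hw0, Ne.symm hsum]),
        Set.ncard_insert_of_notMem (by simp [huw, hw0]),
        Set.ncard_insert_of_notMem (by simp [hu0]), Set.ncard_singleton]
    have := Set.eq_of_subset_of_ncard_le hsub (by rw [h4]; exact hT) (Set.toFinite _)
    have hz' : z ∈ ({0, u, w, u + w} : Set V) := this ▸ hz
    simpa using hz'
  have htwo : ¬ ∀ w ∈ W, y (y w) = w := by
    intro h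
    refine hy1 (eq_one_of_two_pow_pow (k := 2) hyodd (LinearEquiv.ext fun v => ?_))
    show y (y (y (y v))) = v
    have h1 := h _ (hWin v)
    rw [map_sub, map_sub] at h1
    have h2 := congrArg y h1
    rw [map_sub, map_sub] at h2
    calc y (y (y (y v))) = (y (y (y (y v))) - y (y (y v))) + (y (y (y v)) - y (y v)) + (y (y v) - y v) + (y v - v) + v := by abel
      _ = ((y (y v) - y v) + (y v - v)) + ((y (y v) - y v) + (y v - v)) + v := by rw [h2, h1]; abel
      _ = v := by rw [two_zero, zero_add]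
  have hfpf : ∀ w ∈ W, y w = w → w = 0 := by
    intro w hw hfix
    by_contra hw0
    refine htwo fun u hu => ?_
    by_cases hdu : y u = u
    · rw [hdu, hdu]
    have hu0 : u ≠ 0 := fun e => hdu (by rw [e, map_zero])
    have huw : u ≠ w := fun e => hdu (by rw [e]; exact hfix)
    rcases hfull W hW4 u hu w hw hu0 hw0 huw _ (hyW u hu) with e | e | e | e
    · exact absurd (y.injective (e.trans (map_zero y).symm)) hu0
    · exact absurd e hdu
    · exact absurd (y.injective (e.trans hfix.symm)) huw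
    · rw [e, map_add, e, hfix, add_assoc, two_zero, add_zero]
  have hta' : (P ^ 2) a = a := by rw [pow_two_apply, hPa, hPa]
  have htW : ∀ w ∈ W, (P ^ 2) w ∈ W := by
    rintro _ ⟨v, rfl⟩
    show (P ^ 2) (y v - v) ∈ W
    rw [map_sub, hinv]
    have h1 := W.neg_mem (hWin (y.symm ((P ^ 2) v)))
    rwa [y.apply_symm_apply, neg_sub] at h1
  obtain ⟨w₁, hw₁, hw₁t⟩ : ∃ w ∈ W, (P ^ 2) w ≠ w := by
    by_contra h
    simp only [not_exists, not_and, not_not] at h
    refine htwo fun w hw => ?_
    have h1 := hinv w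
    rw [h w hw, h _ (hyW w hw)] at h1
    conv_lhs => rw [h1]
    exact y.apply_symm_apply w
  have haW : a ∈ W := by
    have := W.sub_mem (htW w₁ hw₁) hw₁
    rwa [(hta w₁).resolve_left hw₁t, add_sub_cancel_left] at this
  have hya : y a ≠ a := fun e => ha0 (hfpf a haW e)
  have hya0 : y a ≠ 0 := fun e => ha0 (y.injective (e.trans (map_zero y).symm))
  have hWa : ∀ z ∈ W, z = 0 ∨ z = a ∨ z = y a ∨ z = a + y a :=
    hfull W hW4 a haW (y a) (hyW a haW) ha0 hya0 (Ne.symm hya)
  have hyya : y (y a) = a + y a := by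
    rcases hWa _ (hyW _ (hyW a haW)) with e | e | e | e
    · exact absurd (y.injective (e.trans (map_zero y).symm)) hya0
    · exfalso
      refine htwo fun z hz => ?_
      rcases hWa z hz with rfl | rfl | rfl | rfl
      · simp
      · exact e
      · rw [e]
      · rw [map_add, map_add, e]
    · exact absurd (y.injective e) hya
    · exact e
  have hy3 : y ^ 3 = 1 := by
    have hk : ∀ z ∈ W, (y ^ 3) z = z := by
      have h1 : (y ^ 3) a = a := by
        show y (y (y a)) = a
        rw [hyya, map_add, hyya, add_comm (y a), add_assoc, two_zero, add_zero]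
      have h2 : (y ^ 3) (y a) = y a := by
        show y (y (y (y a))) = y a
        exact congrArg y h1
      intro z hz
      rcases hWa z hz with rfl | rfl | rfl | rfl
      · simp
      · exact h1
      · exact h2
      · rw [map_add, h1, h2]
    refine eq_one_of_unipotent (hyodd.of_dvd_nat (orderOf_pow_dvd 3)) fun v => hk _ ?_
    have e : (y ^ 3) v - v = (y (y (y v)) - y (y v)) + (y (y v) - y v) + (y v - v) := by
      show y (y (y v)) - v = _
      abel
    rw [e]
    exact W.add_mem (W.add_mem (hWin _) (hWin _)) (hWin _)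
  have hq3 : q = 3 := by
    obtain ⟨k, hk⟩ := isPGroup_pCore q S ⟨yS, hyQ⟩
    have h1 : y ^ q ^ k = 1 := congrArg (fun w : Cfsg.pCore q S => ((w : S) : V ≃ₗ[ZMod 2] V)) hk
    obtain ⟨j, -, hj⟩ := (Nat.dvd_prime_pow hq).1 (orderOf_dvd_of_pow_eq_one h1)
    have h3 : orderOf y = 3 := by
      haveI := Fact.mk Nat.prime_three
      exact orderOf_eq_prime hy3 hy1
    rw [h3] at hj
    rcases j with _ | j
    · simp at hj
    · exact (Nat.prime_dvd_prime_iff_eq hq Nat.prime_three).1 (hj ▸ dvd_pow_self q (Nat.succ_ne_zero j))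
  subst hq3
  -- the conjugate under `P`
  set PS : S := ⟨P, hPS⟩
  set y' : V ≃ₗ[ZMod 2] V := ((PS * yS * PS⁻¹ : S) : V ≃ₗ[ZMod 2] V) with hy'
  have hy'Q : PS * yS * PS⁻¹ ∈ Cfsg.pCore 3 S := (pCore_normal 3 S).conj_mem _ hyQ PS
  have hy'app : ∀ v, y' v = P (y (P.symm v)) := fun v => rfl
  let W' : Submodule (ZMod 2) V := W.map (P : V →ₗ[ZMod 2] V)
  have hW'4 : (W' : Set V).ncard ≤ 4 := by
    refine le_trans ?_ hW4
    rw [show (W' : Set V) = P '' W from rfl]
    exact Set.ncard_image_le (Set.toFinite _)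
  have hW'in : ∀ v, y' v - v ∈ W' := fun v => ⟨y (P.symm v) - P.symm v, hWin _, by
    show P (y (P.symm v) - P.symm v) = y' v - v
    rw [map_sub, P.apply_symm_apply, hy'app]⟩
  have haW' : a ∈ W' := ⟨a, haW, hPa⟩
  have hy'a : y' a ∈ W' := ⟨y (P.symm a), hyW _ (by rw [(P.symm_apply_eq).2 hPa.symm]; exact haW), (hy'app a).symm⟩
  set U := W ⊔ W' with hU
  have hU8 : (U : Set V).ncard ≤ 8 := by
    have hsub : (U : Set V) ⊆ (W' : Set V) ∪ (fun z => y a + z) '' (W' : Set V) := by
      intro z hz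
      obtain ⟨w, hw, w', hw', rfl⟩ := Submodule.mem_sup.1 hz
      rcases hWa w hw with rfl | rfl | rfl | rfl
      · exact Or.inl (by simpa using hw')
      · exact Or.inl (W'.add_mem haW' hw')
      · exact Or.inr ⟨w', hw', rfl⟩
      · exact Or.inr ⟨a + w', W'.add_mem haW' hw', by abel⟩
    refine (Set.ncard_le_ncard hsub (Set.toFinite _)).trans ((Set.ncard_union_le _ _).trans ?_)
    have := Set.ncard_image_le (f := fun z => y a + z) (s := (W' : Set V)) (Set.toFinite _)
    omega
  let M : Subgroup S :=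
    { carrier := {z | ∀ v, (z : V ≃ₗ[ZMod 2] V) v - v ∈ U}
      one_mem' := fun v => by simp
      mul_mem' := fun {u w} hu hw v => by
        have e : ((u * w : S) : V ≃ₗ[ZMod 2] V) v - v =
            ((u : V ≃ₗ[ZMod 2] V) ((w : V ≃ₗ[ZMod 2] V) v) - (w : V ≃ₗ[ZMod 2] V) v) + ((w : V ≃ₗ[ZMod 2] V) v - v) := by
          rw [sub_add_sub_cancel]; rfl
        rw [e]; exact U.add_mem (hu _) (hw _)
      inv_mem' := fun {u} hu v => by
        have h1 := U.neg_mem (hu ((u : V ≃ₗ[ZMod 2] V).symm v))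
        rwa [LinearEquiv.apply_symm_apply, neg_sub] at h1 }
  let Y := Cfsg.pCore 3 S ⊓ M
  have hYU : ∀ z : Y, ∀ v : V, v ∈ U → ((z : S) : V ≃ₗ[ZMod 2] V) v ∈ U := fun z v hv => by
    have := U.add_mem (z.2.2 v) hv
    rwa [sub_add_cancel] at this
  let f : Y →* Function.End U :=
    { toFun := fun z u => ⟨_, hYU z u u.2⟩
      map_one' := rfl
      map_mul' := fun _ _ => rfl }
  let g : Y →* Equiv.Perm U := (MulEquiv.toMonoidHom Equiv.Perm.equivUnitsEnd.symm).comp f.toHomUnits
  have hg : ∀ (z : Y) (u : U), ((g z u : U) : V) = ((z : S) : V ≃ₗ[ZMod 2] V) u := fun _ _ => rfl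
  have hinj : Function.Injective g := by
    refine (injective_iff_map_eq_one g).2 fun z hz => Subtype.ext (Subtype.ext ?_)
    refine eq_one_of_unipotent (hodd _ z.2.1) fun v => ?_
    have := hg z ⟨_, z.2.2 v⟩
    rw [hz] at this
    exact this.symm
  obtain ⟨k, hk⟩ := IsPGroup.iff_card.1 ((isPGroup_pCore 3 S).to_le (inf_le_left : Y ≤ _))
  have hk2 : k ≤ 2 := by
    have h1 := (Subgroup.card_dvd_of_injective g hinj)
    rw [hk, Nat.card_perm] at h1
    have h2 : Nat.card U ≤ 8 := by rwa [← Nat.card_coe_set_eq] at hU8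
    have h3 : 3 ^ k ∣ Nat.factorial 8 := h1.trans (Nat.factorial_dvd_factorial h2)
    by_contra hgt
    have h4 : 3 ^ 3 ∣ Nat.factorial 8 := (pow_dvd_pow 3 (by omega : 3 ≤ k)).trans h3
    norm_num [Nat.factorial] at h4
  have hcomm : ∀ u w : Y, u * w = w * u := by
    haveI := Fact.mk Nat.prime_three
    rcases k with _ | _ | _ | k
    · intro u w
      haveI := (Nat.card_eq_one_iff_unique.1 (hk.trans (pow_zero 3))).1
      exact Subsingleton.elim _ _
    · intro u w
      haveI : IsCyclic Y := isCyclic_of_prime_card (hk.trans (pow_one 3))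
      letI := IsCyclic.commGroup (α := Y)
      exact mul_comm u w
    · intro u w
      exact (IsPGroup.commGroupOfCardEqPrimeSq hk).mul_comm u w
    · omega
  have hyM : yS ∈ M := fun v => Submodule.mem_sup_left (hWin v)
  have hy'M : PS * yS * PS⁻¹ ∈ M := fun v => Submodule.mem_sup_right (hW'in v)
  have hcom : ∀ v, y (y' v) = y' (y v) := fun v =>
    LinearEquiv.congr_fun (congrArg (fun z : Y => ((z : S) : V ≃ₗ[ZMod 2] V))
      (hcomm ⟨yS, hyQ, hyM⟩ ⟨_, hy'Q, hy'M⟩)) v
  have hy'W : y' a ∈ W := by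
    obtain ⟨v, hv⟩ := haW
    refine ⟨y' v, ?_⟩
    show y (y' v) - y' v = y' a
    rw [hcom, ← map_sub]
    exact congrArg y' hv
  have hPsymm : P.symm a = a := (P.symm_apply_eq).2 hPa.symm
  by_cases hsame : ∀ w ∈ W, P w ∈ W
  · apply hw₁t
    have hPya : (P ^ 2) (y a) = y a := by
      rw [pow_two_apply]
      rcases hWa _ (hsame _ (hyW a haW)) with e | e | e | e
      · exact absurd (P.injective (e.trans (map_zero P).symm)) hya0
      · exact absurd (P.injective (e.trans hPa.symm)) hya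
      · rw [e, e]
      · rw [e, map_add, hPa, e, ← add_assoc, two_zero, zero_add]
    rcases hWa w₁ hw₁ with rfl | rfl | rfl | rfl
    · simp
    · exact hta'
    · exact hPya
    · rw [map_add, hta', hPya]
  · -- the two commutator spaces meet in the centre of the transvection
    have h0 : y' a = a := by
      rcases eq_or_ne (y' a) a with h | h
      · exact h
      exfalso
      have hne : y' a ≠ 0 := fun e => ha0 (y'.injective (e.trans (map_zero y').symm))
      apply hsame
      intro w hw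
      rcases hfull W' hW'4 a haW' (y' a) hy'a ha0 hne (Ne.symm h) (P w) ⟨w, hw, rfl⟩ with e | e | e | e <;> rw [e]
      · exact W.zero_mem
      · exact haW
      · exact hy'W
      · exact W.add_mem haW hy'W
    rw [hy'app, hPsymm] at h0
    exact hya (P.injective (h0.trans hPa.symm))

end Cfsg.Agent.Solv.TransvectionO2
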