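import Mathlib
import Cfsg.Agent.Lib.Solv.CyclicIndexP

/-!
# A coprime p-group action in which every element is a product of fixed points of two generators
-/

set_option autoImplicit false
open scoped commutatorElement

universe u

namespace Cfsg.Agent.Solv.TwoGenFixed
open Subgroup

variable {V : Type u} [CommGroup V] [Finite V] {p : ℕ} [hp : Fact p.Prime]

/-- the fixed points of an automorphism -/
abbrev fix (c : MulAut V) : Subgroup V := (c : V →* V).eqLocus (MonoidHom.id V)

omit [Finite V] in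
theorem mem_fix {c : MulAut V} {v : V} : v ∈ fix c ↔ c v = v := Iff.rfl

omit [Finite V] in
theorem pow_apply_fix {u : MulAut V} {v : V} (h : u v = v) : ∀ i : ℕ, (u ^ i) v = v
  | 0 => rfl
  | i + 1 => by rw [pow_succ, MulAut.mul_apply, h, pow_apply_fix h i]

omit [Finite V] in
/-- an orbit product is fixed -/
theorem prod_pow_fixed (u : MulAut V) (o : ℕ) (hu : u ^ o = 1) (v : V) :
    u (∏ i ∈ Finset.range o, (u ^ i) v) = ∏ i ∈ Finset.range o, (u ^ i) v := by
  rw [map_prod]
  have h1 : ∀ i, u ((u ^ i) v) = (u ^ (i + 1)) v := fun i => by rw [pow_succ', MulAut.mul_apply]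
  simp only [h1]
  have h2 := Finset.prod_range_succ (fun i => (u ^ i) v) o
  rw [Finset.prod_range_succ' (fun i => (u ^ i) v) o] at h2
  simp only [pow_zero, hu, MulAut.one_apply] at h2
  exact mul_right_cancel h2

theorem eq_one_of_pow {n : ℕ} (hcop : (Nat.card V).Coprime n) {v : V} (h : v ^ n = 1) : v = 1 := by
  have h1 := Nat.eq_one_of_dvd_coprimes hcop (orderOf_dvd_natCard v) (orderOf_dvd_of_pow_eq_one h)
  exact orderOf_eq_one_iff.1 h1

omit [Finite V] in
theorem fpf_pow {w : MulAut V} (hwp : w ^ p = 1) (hfpf : ∀ v, w v = v → v = 1) {m : ℤ}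
    (hm : ¬ (p : ℤ) ∣ m) : ∀ v, (w ^ m) v = v → v = 1 := by
  intro v hv
  refine hfpf v ?_
  obtain ⟨a, b, hab⟩ : ∃ a b : ℤ, a * m + b * p = 1 :=
    (Prime.coprime_iff_not_dvd (Nat.prime_iff_prime_int.1 hp.out)).2 hm |>.symm
  have h1 : w = (w ^ m) ^ a := by
    rw [← zpow_mul, show m * a = 1 + (p : ℤ) * (-b) by linarith, zpow_add, zpow_one, zpow_mul,
      zpow_natCast, hwp, one_zpow, mul_one]
  have key : ∀ n : ℕ, ((w ^ m) ^ n) v = v := pow_apply_fix hv
  rw [h1]
  cases a with
  | ofNat n => rw [Int.ofNat_eq_natCast, zpow_natCast]; exact key n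
  | negSucc n =>
    rw [zpow_negSucc]
    conv_lhs => rw [← key (n + 1)]
    exact MulAut.inv_apply_self _ _ _

/-- a noncyclic elementary group of rank two cannot act fixed-point-freely -/
theorem trivial_of_two (hcop : (Nat.card V).Coprime p) (y z : MulAut V) (hzp : z ^ p = 1)
    (hyp : y ^ p = 1) (hyz : Commute y z) (hz : ∀ v, z v = v → v = 1)
    (h : ∀ k < p, ∀ v, (y * z ^ k) v = v → v = 1) (v : V) : v = 1 := by
  have hp' := hp.out
  have hT : ∀ k < p, ∏ i ∈ Finset.range p, ((y * z ^ k) ^ i) v = 1 := fun k hk => by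
    refine h k hk _ (prod_pow_fixed _ p ?_ v)
    rw [(hyz.pow_right k).mul_pow, hyp, ← pow_mul, mul_comm k p, pow_mul, hzp, one_pow, one_mul]
  have h2 : ∏ k ∈ Finset.range p, ∏ i ∈ Finset.range p, ((y * z ^ k) ^ i) v = 1 :=
    Finset.prod_eq_one fun k hk => hT k (Finset.mem_range.1 hk)
  rw [Finset.prod_comm] at h2
  have h3 : ∀ i ∈ Finset.range p, i ≠ 0 → ∏ k ∈ Finset.range p, ((y * z ^ k) ^ i) v = 1 := by
    intro i hi hi0
    have hu : ∀ x, (z ^ (i : ℤ)) x = x → x = 1 := fpf_pow hzp hz fun hd => by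
      rw [Int.natCast_dvd_natCast] at hd
      exact absurd (Nat.le_of_dvd (Nat.pos_of_ne_zero hi0) hd) (not_le.2 (Finset.mem_range.1 hi))
    have e1 : ∀ k, ((y * z ^ k) ^ i) v = (y ^ i) (((z ^ i) ^ k) v) := fun k => by
      rw [(hyz.pow_right k).mul_pow, MulAut.mul_apply, ← pow_mul, ← pow_mul, mul_comm]
    simp only [e1]
    rw [← map_prod, show ∏ k ∈ Finset.range p, ((z ^ i) ^ k) v = 1 from hu _ ?_, map_one]
    rw [zpow_natCast]
    exact prod_pow_fixed _ p (by rw [← pow_mul, mul_comm, pow_mul, hzp, one_pow]) v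
  rw [Finset.prod_eq_single 0 h3 (fun h0 => absurd (Finset.mem_range.2 hp'.pos) h0)] at h2
  simp only [pow_zero, MulAut.one_apply, Finset.prod_const, Finset.card_range] at h2
  exact eq_one_of_pow hcop h2

/-- the bound on the fixed points of an element conjugate to its translates by a central element -/
theorem card_fix_pow_le (hcop : (Nat.card V).Coprime p) (c e w : MulAut V) (hc : c ≠ 1)
    (hcp : ∃ n, orderOf c = p ^ n) (hwp : w ^ p = 1) (hfpf : ∀ v, w v = v → v = 1)
    (hwc : Commute w c) (hwe : Commute w e) (hrel : e * c = c * w * e) :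
    Nat.card (fix c) ^ p ≤ Nat.card V := by
  have hp' := hp.out
  classical
  obtain ⟨n, hn⟩ := hcp
  have hn0 : n ≠ 0 := fun h0 => hc (orderOf_eq_one_iff.1 (by rw [hn, h0, pow_zero]))
  set o := orderOf c with ho
  have hpo : p ∣ o := by rw [hn]; exact dvd_pow_self p hn0
  have hrelk : ∀ k : ℕ, e ^ k * c = c * w ^ k * e ^ k := by
    intro k
    induction k with
    | zero => simp
    | succ k ih =>
      calc e ^ (k + 1) * c = e * (e ^ k * c) := by rw [pow_succ', mul_assoc]
        _ = (e * c) * w ^ k * e ^ k := by rw [ih]; simp only [mul_assoc]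
        _ = c * w * (e * w ^ k) * e ^ k := by rw [hrel]; simp only [mul_assoc]
        _ = c * (w * w ^ k) * (e * e ^ k) := by
          rw [← (hwe.pow_left k).eq]; simp only [mul_assoc]
        _ = c * w ^ (k + 1) * e ^ (k + 1) := by rw [pow_succ', pow_succ']
  -- translates
  have hfix : ∀ (k : ℕ) (x : fix c), (c * w ^ k) ((e ^ k) x) = (e ^ k) x := by
    intro k x
    rw [← MulAut.mul_apply, ← hrelk, MulAut.mul_apply]
    exact congrArg _ x.2
  let T : ℕ → V →* V := fun j => ∏ i ∈ Finset.range o, (((c * w ^ j) ^ i : MulAut V) : V →* V)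
  have hTk : ∀ j k : ℕ, ∀ v : V, (c * w ^ k) v = v → j < p → k < p →
      T j v = if j = k then v ^ o else 1 := by
    intro j k v hv hj hk
    set u := w ^ ((j : ℤ) - k) with hu
    have hcomm : Commute u (c * w ^ k) :=
      ((hwc.zpow_left _).mul_right ((Commute.refl w).zpow_left _ |>.pow_right k))
    have hdec : c * w ^ j = u * (c * w ^ k) := by
      rw [hcomm.eq, mul_assoc, hu, ← zpow_natCast w k, ← zpow_add, add_sub_cancel, zpow_natCast]
    have e1 : ∀ i, (((c * w ^ j) ^ i : MulAut V) : V →* V) v = (u ^ i) v := fun i => by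
      show ((c * w ^ j) ^ i) v = _
      rw [hdec, hcomm.mul_pow, MulAut.mul_apply, pow_apply_fix hv i]
    show (∏ i ∈ Finset.range o, (((c * w ^ j) ^ i : MulAut V) : V →* V)) v = _
    rw [MonoidHom.finsetProd_apply]
    simp only [e1]
    split_ifs with hjk
    · subst hjk
      simp [hu]
    · refine fpf_pow hwp hfpf (m := (j : ℤ) - k) ?_ _ ?_
      · intro hd
        have := Int.eq_zero_of_abs_lt_dvd hd (by rw [abs_lt]; constructor <;> omega)
        omega
      · refine prod_pow_fixed _ o ?_ v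
        obtain ⟨t, ht⟩ := hpo
        rw [← zpow_natCast (w ^ _), ← zpow_mul, mul_comm, ht, Nat.cast_mul, mul_assoc,
          zpow_mul, zpow_natCast, hwp, one_zpow]
  let f : (Fin p → fix c) →* V := ∏ k : Fin p, (((e ^ (k : ℕ) : MulAut V) : V →* V).comp
    ((fix c).subtype.comp (Pi.evalMonoidHom _ k)))
  have hf : Function.Injective f := by
    refine (injective_iff_map_eq_one f).2 fun g hg => funext fun j => Subtype.ext ?_
    have h1 : T j (f g) = 1 := by rw [hg, map_one]
    rw [show f g = ∏ k : Fin p, (e ^ (k : ℕ)) (g k : V) from MonoidHom.finsetProd_apply _ _ _,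
      map_prod, Finset.prod_eq_single j] at h1
    · rw [hTk j j _ (hfix _ _) j.2 j.2, if_pos rfl] at h1
      have h2 : (e ^ (j : ℕ)) (g j : V) = 1 :=
        eq_one_of_pow (hn ▸ (hcop.pow_right n)) h1
      exact (MulEquiv.map_eq_one_iff _).1 h2
    · intro k _ hk
      rw [hTk j k _ (hfix _ _) j.2 k.2, if_neg fun h => hk (Fin.ext h.symm)]
    · exact fun h => absurd (Finset.mem_univ j) h
  refine le_trans (le_of_eq ?_) (Nat.card_le_card_of_injective f hf)
  rw [Nat.card_fun, Nat.card_eq_fintype_card (α := Fin p), Fintype.card_fin]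

/-- some member of a generating set has few fixed points -/
theorem exists_small (hp2 : p ≠ 2) (hcop : (Nat.card V).Coprime p) (hV : 1 < Nat.card V)
    (P : Subgroup (MulAut V)) (hP : IsPGroup p P) (hP1 : P ≠ ⊥)
    (hfpf : ∀ z ∈ P, z ^ p = 1 → z ≠ 1 → (∀ g ∈ P, g * z = z * g) → ∀ v, z v = v → v = 1)
    (C : Set (MulAut V)) (hC : closure C = P) :
    ∃ c ∈ C, Nat.card (fix c) ^ p ≤ Nat.card V := by
  have hp' := hp.out
  haveI : Finite (MulAut V) := Finite.of_injective (fun σ : MulAut V => (σ : V → V)) DFunLike.coe_injective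
  have hCP : ∀ c ∈ C, c ∈ P := fun c hc => hC ▸ subset_closure hc
  haveI : Nontrivial P := (nontrivial_iff_ne_bot P).2 hP1
  by_cases hcy : IsCyclic P
  · obtain ⟨g, hg⟩ := IsCyclic.exists_generator (α := P)
    obtain ⟨k, hk⟩ := IsPGroup.iff_orderOf.1 hP g
    have hk0 : k ≠ 0 := fun h => by
      rw [h, pow_zero, orderOf_eq_one_iff] at hk
      obtain ⟨x, hx⟩ := exists_ne (1 : P)
      have := hg x
      rw [hk, zpowers_one_eq_bot, mem_bot] at this
      exact hx this
    obtain ⟨c, hc, hgen⟩ : ∃ c ∈ C, (g : MulAut V) ∈ zpowers c := by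
      by_contra hno
      push_neg at hno
      have hle : closure C ≤ zpowers ((g : MulAut V) ^ p) := by
        rw [closure_le]
        intro c hc
        obtain ⟨i, hi⟩ := mem_zpowers_iff.1 (hg ⟨c, hCP c hc⟩)
        have hi' : (g : MulAut V) ^ i = c := by simpa using congrArg Subtype.val hi
        by_cases hd : (p : ℤ) ∣ i
        · obtain ⟨t, rfl⟩ := hd
          exact mem_zpowers_iff.2 ⟨t, by rw [← hi', zpow_mul, zpow_natCast]⟩
        · exfalso
          refine hno c hc ?_
          obtain ⟨a, b, hab⟩ : ∃ a b : ℤ, a * i + b * (p ^ k : ℕ) = 1 := by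
            have h1 : IsCoprime ((p : ℤ) ^ k) i :=
              ((Prime.coprime_iff_not_dvd (Nat.prime_iff_prime_int.1 hp')).2 hd).pow_left
            obtain ⟨a, b, h⟩ := h1.symm
            exact ⟨a, b, by push_cast; exact h⟩
          refine mem_zpowers_iff.2 ⟨a, ?_⟩
          rw [← hi', ← zpow_mul, show i * a = 1 + ((p ^ k : ℕ) : ℤ) * (-b) by linarith, zpow_add,
            zpow_one, zpow_mul, zpow_natCast, ← hk, ← orderOf_coe, pow_orderOf_eq_one, one_zpow,
            mul_one]
      rw [hC] at hle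
      obtain ⟨t, ht⟩ := mem_zpowers_iff.1 (hle g.2)
      have h1 : (g : MulAut V) ^ ((p : ℤ) * t - 1) = 1 := by
        rw [zpow_sub, zpow_mul, zpow_natCast, ht, zpow_one, mul_inv_cancel]
      rw [← orderOf_dvd_iff_zpow_eq_one, orderOf_coe, hk] at h1
      have h2 : (p : ℤ) ∣ (p : ℤ) * t - 1 := dvd_trans (by exact_mod_cast dvd_pow_self p hk0) h1
      have h3 : (p : ℤ) ∣ 1 := by
        have := dvd_sub (dvd_mul_right (p : ℤ) t) h2
        simpa using this
      have := Int.le_of_dvd one_pos h3
      have := hp'.two_le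
      omega
    refine ⟨c, hc, ?_⟩
    set z := (g : MulAut V) ^ p ^ (k - 1) with hz
    have hzc : z ∈ zpowers c := pow_mem hgen _
    have hz1 : z ≠ 1 := fun h => by
      have := orderOf_dvd_of_pow_eq_one h
      rw [orderOf_coe, hk] at this
      have := (Nat.pow_dvd_pow_iff_le_right hp'.one_lt).1 this
      omega
    have hzp : z ^ p = 1 := by
      rw [hz, ← pow_mul, ← pow_succ, Nat.sub_add_cancel (Nat.pos_of_ne_zero hk0), ← hk, ← orderOf_coe,
        pow_orderOf_eq_one]
    have hfix : fix c = ⊥ := by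
      refine (eq_bot_iff_forall _).2 fun v hv => ?_
      refine hfpf z (pow_mem g.2 _) hzp hz1 (fun x hx => ?_) v ?_
      · have := (IsCyclic.commutative (α := P)).is_comm.comm ⟨x, hx⟩ (g ^ p ^ (k - 1))
        simpa using congrArg Subtype.val this
      · obtain ⟨m, hm⟩ := mem_zpowers_iff.1 hzc
        obtain ⟨q, hq⟩ := (isOfFinOrder_of_finite c).mem_powers_iff_mem_zpowers.2 hzc
        rw [← hq]
        exact pow_apply_fix hv q
    rw [hfix, card_bot, one_pow]
    exact hV.le
  · obtain ⟨A, -, hAn, hA, hAc⟩ := Solv.CycP.exists_normal_rank_two hp2 hP ⊤ inferInstance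
      (fun h => hcy (Subgroup.topEquiv.isCyclic.mp h))
    haveI := hAn
    by_cases hAZ : A ≤ center P
    · exfalso
      haveI : Nontrivial A := Finite.one_lt_card_iff_nontrivial.1
        (by rw [hAc]; exact Nat.one_lt_pow two_ne_zero hp'.one_lt)
      obtain ⟨⟨z, hzA⟩, hz1⟩ := exists_ne (1 : A)
      obtain ⟨y, hyA, hyz⟩ : ∃ y ∈ A, y ∉ zpowers z := by
        by_contra hno
        push_neg at hno
        have h1 := Subgroup.card_le_of_le (show A ≤ zpowers z from hno)
        rw [hAc, Nat.card_zpowers] at h1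
        have h2 := Nat.le_of_dvd hp'.pos (orderOf_dvd_of_pow_eq_one (hA.2 z hzA))
        have h3 : p ^ 1 < p ^ 2 := Nat.pow_lt_pow_right hp'.one_lt one_lt_two
        rw [pow_one] at h3
        omega
      have hfA : ∀ a ∈ A, a ≠ 1 → ∀ v, (a : MulAut V) v = v → v = 1 := fun a ha ha1 =>
        hfpf a a.2 (by rw [← coe_pow, hA.2 a ha, coe_one]) (fun h => ha1 (Subtype.ext h))
          (fun g hg => congrArg Subtype.val (mem_center_iff.1 (hAZ ha) ⟨g, hg⟩))
      obtain ⟨v, hv⟩ := (Finite.one_lt_card_iff_nontrivial.1 hV).exists_pair_ne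
      have htriv := trivial_of_two hcop (y : MulAut V) (z : MulAut V)
        (by rw [← coe_pow, hA.2 z hzA, coe_one]) (by rw [← coe_pow, hA.2 y hyA, coe_one])
        (congrArg Subtype.val (mem_center_iff.1 (hAZ hzA) y) : (y : MulAut V) * z = z * y)
        (hfA z hzA (fun h => hz1 (Subtype.ext h)))
        (fun k _ => hfA (y * z ^ k) (mul_mem hyA (pow_mem hzA k))
          (fun h => hyz (by rw [eq_inv_of_mul_eq_one_left h]; exact inv_mem (pow_mem (mem_zpowers z) k))))
      exact hv.elim (fun w hw => hw ((htriv v).trans (htriv w).symm))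
    · obtain ⟨e, heA, heZ⟩ := SetLike.not_le_iff_exists.1 hAZ
      obtain ⟨c, hc, hce⟩ : ∃ c ∈ C, c * (e : MulAut V) ≠ e * c := by
        by_contra hno
        push_neg at hno
        refine heZ (mem_center_iff.2 fun g => Subtype.ext ?_)
        have hle : closure C ≤ centralizer {(e : MulAut V)} := by
          rw [closure_le]
          intro c hc
          exact mem_centralizer_iff.2 fun m hm => by rw [hm]; exact (hno c hc).symm
        rw [hC] at hle
        exact (mem_centralizer_iff.1 (hle g.2) _ rfl).symm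
      refine ⟨c, hc, ?_⟩
      haveI := hP.isNilpotent
      have hlt : ⁅A, (⊤ : Subgroup P)⁆ < A := by
        refine lt_of_le_of_ne (commutator_le_left A ⊤) fun h => ?_
        obtain ⟨n, hn⟩ := Subgroup.nilpotent_iff_lowerCentralSeries.1 (inferInstance : Group.IsNilpotent P)
        have : ∀ j, A ≤ (⊤ : Subgroup P).lowerCentralSeries j := by
          intro j
          induction j with
          | zero => exact le_top
          | succ j ih => exact h.symm.le.trans (commutator_mono ih le_rfl)
        exact heZ ((le_bot_iff.1 (hn ▸ this n)) ▸ heA |> fun h0 => by rw [mem_bot.1 h0]; exact one_mem _)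
      haveI : (⁅A, (⊤ : Subgroup P)⁆).Normal := inferInstance
      have hB : Nat.card ↥⁅A, (⊤ : Subgroup P)⁆ ≤ p := by
        obtain ⟨b, hb⟩ := (hP.to_subgroup ⁅A, (⊤ : Subgroup P)⁆).exists_card_eq
        have h1 : Nat.card ↥⁅A, (⊤ : Subgroup P)⁆ < Nat.card A :=
          lt_of_not_ge fun h => hlt.ne (eq_of_le_of_card_ge hlt.le h)
        rw [hb, hAc] at h1
        rw [hb]
        calc p ^ b ≤ p ^ 1 := Nat.pow_le_pow_right hp'.pos (Nat.le_of_lt_succ ((Nat.pow_lt_pow_iff_right hp'.one_lt).1 h1))
          _ = p := pow_one p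
      set c' : P := ⟨c, hCP c hc⟩
      -- `w = c⁻¹ e c e⁻¹`
      set w : P := c'⁻¹ * e * c' * e⁻¹ with hw
      have hwB : w ∈ ⁅A, (⊤ : Subgroup P)⁆ := by
        rw [hw, show c'⁻¹ * e * c' * e⁻¹ = ⁅c'⁻¹, e⁆ by rw [commutatorElement_def, inv_inv], commutator_comm]
        exact commutator_mem_commutator (mem_top _) heA
      have hw1 : w ≠ 1 := fun h => hce (by
        have : (e : P) * c' = c' * e := by
          rw [hw, mul_inv_eq_one, mul_assoc, inv_mul_eq_iff_eq_mul] at h; exact h
        exact (congrArg Subtype.val this).symm)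
      have hwcen : ∀ g : P, g * w = w * g := by
        have h1 : ⁅⁅A, (⊤ : Subgroup P)⁆, (⊤ : Subgroup P)⁆ = ⊥ := by
          by_contra hne
          set B := ⁅A, (⊤ : Subgroup P)⁆ with hBd
          have hlt2 : ⁅B, (⊤ : Subgroup P)⁆ < B := by
            refine lt_of_le_of_ne (commutator_le_left B ⊤) fun h => ?_
            obtain ⟨n, hn⟩ := Subgroup.nilpotent_iff_lowerCentralSeries.1 (inferInstance : Group.IsNilpotent P)
            have : ∀ j, B ≤ (⊤ : Subgroup P).lowerCentralSeries j := by
              intro j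
              induction j with
              | zero => exact le_top
              | succ j ih => exact h.symm.le.trans (commutator_mono ih le_rfl)
            exact hw1 (mem_bot.1 (le_bot_iff.1 (hn ▸ this n) ▸ hwB))
          have h2 : Nat.card ↥⁅B, (⊤ : Subgroup P)⁆ < p :=
            lt_of_lt_of_le (lt_of_not_ge fun h => hlt2.ne (eq_of_le_of_card_ge hlt2.le h)) hB
          obtain ⟨b, hb⟩ := (hP.to_subgroup ⁅B, (⊤ : Subgroup P)⁆).exists_card_eq
          refine hne ((card_le_one_iff_eq_bot _).1 ?_)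
          rw [hb] at h2 ⊢
          have : b = 0 := by
            have := (Nat.pow_lt_pow_iff_right hp'.one_lt).1 (h2.trans_eq (pow_one p).symm)
            omega
          rw [this, pow_zero]
        intro g
        exact (commutatorElement_eq_one_iff_mul_comm.1
          (mem_bot.1 (h1 ▸ commutator_mem_commutator hwB (mem_top g)))).symm
      have hwA : w ∈ A := hlt.le hwB
      refine card_fix_pow_le hcop c e w (fun h => hce (by rw [h, one_mul, mul_one]))
        ?_ (by rw [← coe_pow, hA.2 w hwA, coe_one]) ?_ ?_ ?_ ?_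
      · obtain ⟨k, hk⟩ := IsPGroup.iff_orderOf.1 hP c'
        exact ⟨k, by rw [← hk, ← orderOf_coe]⟩
      · exact hfpf w w.2 (by rw [← coe_pow, hA.2 w hwA, coe_one]) (fun h => hw1 (Subtype.ext h))
          (fun g hg => congrArg Subtype.val (hwcen ⟨g, hg⟩))
      · exact (congrArg Subtype.val (hwcen c') : (c : MulAut V) * w = w * c).symm
      · exact (congrArg Subtype.val (hwcen e) : (e : MulAut V) * w = w * e).symm
      · have : (e : P) * c' = c' * w * e := by rw [hw]; group
        exact congrArg Subtype.val this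

/-- the core statement -/
theorem action_trivial : ∀ (m : ℕ) {V : Type u} [CommGroup V] [Finite V], Nat.card V = m →
    p ≠ 2 → (Nat.card V).Coprime p → ∀ (P : Subgroup (MulAut V)), IsPGroup p P →
    ∀ C D : Set (MulAut V), closure C = P → closure D = P →
    (∀ c ∈ C, ∀ d ∈ D, ∀ v : V, ∃ a b : V, c a = a ∧ d b = b ∧ v = a * b) → P = ⊥ := by
  intro m
  induction m using Nat.strong_induction_on with
  | _ m ih =>
  intro V _ _ hm hp2 hcop P hP C D hC hD h
  by_contra hP1
  have hp' := hp.out
  haveI : Finite (MulAut V) := Finite.of_injective (fun σ : MulAut V => (σ : V → V)) DFunLike.coe_injective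
  have hV : 1 < Nat.card V := by
    by_contra hle
    haveI : Subsingleton V := (Nat.card_eq_one_iff_unique.1
      (le_antisymm (not_lt.1 hle) Nat.card_pos)).1
    exact hP1 ((eq_bot_iff_forall _).2 fun x _ => MulEquiv.ext fun v => Subsingleton.elim _ _)
  by_cases hall : ∀ z ∈ P, z ^ p = 1 → z ≠ 1 → (∀ g ∈ P, g * z = z * g) → ∀ v, z v = v → v = 1
  · obtain ⟨c, hc, hcs⟩ := exists_small hp2 hcop hV P hP hP1 hall C hC
    obtain ⟨d, hd, hds⟩ := exists_small hp2 hcop hV P hP hP1 hall D hD
    have h1 : Nat.card V ≤ Nat.card (fix c) * Nat.card (fix d) := by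
      rw [← Nat.card_prod]
      refine Nat.card_le_card_of_surjective (fun x : fix c × fix d => (x.1 : V) * x.2) fun v => ?_
      obtain ⟨a, b, ha, hb, rfl⟩ := h c hc d hd v
      exact ⟨(⟨a, ha⟩, ⟨b, hb⟩), rfl⟩
    have h2 : Nat.card V ^ p ≤ Nat.card V ^ 2 := by
      calc Nat.card V ^ p ≤ (Nat.card (fix c) * Nat.card (fix d)) ^ p := Nat.pow_le_pow_left h1 p
        _ = Nat.card (fix c) ^ p * Nat.card (fix d) ^ p := mul_pow _ _ _
        _ ≤ Nat.card V * Nat.card V := Nat.mul_le_mul hcs hds
        _ = _ := (sq _).symm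
    have := (Nat.pow_le_pow_iff_right hV).1 h2
    have := hp'.two_le
    omega
  · push_neg at hall
    obtain ⟨z, hzP, hzp, hz1, hzc, v₀, hv₀, hv₀1⟩ := hall
    let f : V →* V := (z : V →* V) / MonoidHom.id V
    have hfv : ∀ v, f v = z v / v := fun v => rfl
    set W := f.range with hW
    have hWinv : ∀ g ∈ P, W.map (g : V →* V) = W := by
      intro g hg
      rw [hW, MonoidHom.map_range]
      refine le_antisymm ?_ ?_
      · rintro _ ⟨v, rfl⟩
        refine ⟨g v, ?_⟩
        show z (g v) / g v = g (z v / v)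
        rw [map_div, ← MulAut.mul_apply, ← hzc g hg, MulAut.mul_apply]
      · rintro _ ⟨v, rfl⟩
        refine ⟨(g⁻¹ : MulAut V) v, ?_⟩
        show g (z ((g⁻¹ : MulAut V) v) / (g⁻¹ : MulAut V) v) = z v / v
        rw [map_div, ← MulAut.mul_apply, hzc g hg, MulAut.mul_apply, MulAut.apply_inv_self]
    have hlt : Nat.card W < m := by
      have h1 := f.ker.card_mul_index
      rw [index_ker, ← hW] at h1
      have h2 : 1 < Nat.card f.ker := by
        rw [Finite.one_lt_card_iff_nontrivial]
        exact (nontrivial_iff_exists_ne_one _).2 ⟨v₀, div_eq_one.2 hv₀, hv₀1⟩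
      rw [← hm, ← h1]
      exact lt_mul_of_one_lt_left Nat.card_pos h2
    let ψ : P →* MulAut W :=
      { toFun := fun g => (((g : MulAut V)).subgroupMap W).trans (MulEquiv.subgroupCongr (hWinv g g.2))
        map_one' := MulEquiv.ext fun x => Subtype.ext rfl
        map_mul' := fun a b => MulEquiv.ext fun x => Subtype.ext rfl }
    have hψ : ψ.range = ⊥ := by
      refine ih _ hlt rfl hp2 (hcop.of_dvd_left (card_subgroup_dvd_card W)) ψ.range
        (hP.of_surjective ψ.rangeRestrict ψ.rangeRestrict_surjective)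
        (ψ '' (((↑) : P → MulAut V) ⁻¹' C)) (ψ '' (((↑) : P → MulAut V) ⁻¹' D)) ?_ ?_ ?_
      · rw [← MonoidHom.map_closure, MonoidHom.range_eq_map]
        congr 1
        refine map_injective P.subtype_injective ?_
        rw [MonoidHom.map_closure, ← MonoidHom.range_eq_map, range_subtype, coe_subtype,
          Set.image_preimage_eq_of_subset, hC]
        exact fun c hc => ⟨⟨c, hC ▸ subset_closure hc⟩, rfl⟩
      · rw [← MonoidHom.map_closure, MonoidHom.range_eq_map]
        congr 1
        refine map_injective P.subtype_injective ?_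
        rw [MonoidHom.map_closure, ← MonoidHom.range_eq_map, range_subtype, coe_subtype,
          Set.image_preimage_eq_of_subset, hD]
        exact fun c hc => ⟨⟨c, hD ▸ subset_closure hc⟩, rfl⟩
      · rintro _ ⟨c, hc, rfl⟩ _ ⟨d, hd, rfl⟩ ⟨w, v, rfl⟩
        obtain ⟨a, b, ha, hb, rfl⟩ := h _ hc _ hd v
        refine ⟨⟨f a, a, rfl⟩, ⟨f b, b, rfl⟩, Subtype.ext ?_, Subtype.ext ?_, Subtype.ext (map_mul f a b)⟩
        · show (c : MulAut V) (z a / a) = z a / a
          rw [map_div, ← MulAut.mul_apply, hzc c c.2, MulAut.mul_apply, ha]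
        · show (d : MulAut V) (z b / b) = z b / b
          rw [map_div, ← MulAut.mul_apply, hzc d d.2, MulAut.mul_apply, hb]
    have hff : ∀ v, f v = 1 := fun v => by
      have h1 : ψ ⟨z, hzP⟩ = 1 := mem_bot.1 (hψ ▸ ⟨_, rfl⟩)
      have h2 : z (f v) = f v := congrArg Subtype.val (MulEquiv.congr_fun h1 ⟨f v, v, rfl⟩)
      have h3 : ∀ i : ℕ, (z ^ i) v = v * f v ^ i := by
        intro i
        induction i with
        | zero => simp
        | succ i ih =>
          rw [pow_succ', MulAut.mul_apply, ih, map_mul, map_pow, h2, pow_succ', ← mul_assoc]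
          congr 1
          rw [hfv, mul_div_cancel]
      have h4 := h3 p
      rw [hzp, MulAut.one_apply, left_eq_mul] at h4
      exact eq_one_of_pow hcop h4
    exact hz1 (MulEquiv.ext fun v => div_eq_one.1 (hff v))

end Cfsg.Agent.Solv.TwoGenFixed
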