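import Mathlib
import Cfsg.Agent.Lib.Solv.CNFrobenius
import Cfsg.Agent.Lib.Char.CyclicTI

/-!
Elementary consequences of the data of a subgroup of type P.
-/

set_option autoImplicit false

namespace Cfsg.Agent.Solv.TypeP

open Subgroup

variable {G : Type*} [Group G] [Finite G]

theorem card_compl {A B M : Subgroup G} (h : Cfsg.IsComplIn A B M) :
    Nat.card ↥M = Nat.card ↥A * Nat.card ↥B := by
  obtain ⟨hA, hB, hd, hs⟩ := h
  rw [← Nat.card_prod]
  symm
  refine Nat.card_congr (Equiv.ofBijective (fun z : ↥A × ↥B => (⟨(z.1 : G) * z.2, M.mul_mem (hA z.1.2) (hB z.2.2)⟩ : ↥M)) ⟨?_, ?_⟩)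
  · rintro ⟨a, b⟩ ⟨a', b'⟩ he
    have he' : (a : G) * b = a' * b' := congrArg Subtype.val he
    have h1 : (a' : G)⁻¹ * a = b' * (b : G)⁻¹ := by
      apply mul_right_cancel (b := (b : G))
      rw [mul_assoc, he', inv_mul_cancel_left, inv_mul_cancel_right]
    have h2 : (a' : G)⁻¹ * a ∈ A ⊓ B :=
      ⟨A.mul_mem (A.inv_mem a'.2) a.2, h1 ▸ B.mul_mem b'.2 (B.inv_mem b.2)⟩
    rw [hd, mem_bot] at h2
    have ha : (a' : G) = a := inv_mul_eq_one.mp h2
    rw [h2] at h1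
    have hb : (b' : G) = b := mul_inv_eq_one.mp h1.symm
    exact Prod.ext (Subtype.ext ha.symm) (Subtype.ext hb.symm)
  · rintro ⟨m, hm⟩
    obtain ⟨a, ha, b, hb, rfl⟩ := hs m hm
    exact ⟨(⟨a, ha⟩, ⟨b, hb⟩), rfl⟩

variable {M W₁ U W₂ : Subgroup G}

theorem le_normalizer_derived (M : Subgroup G) (h : ⁅M, M⁆ ≤ M) :
    M ≤ normalizer ((⁅M, M⁆ : Subgroup G) : Set G) :=
  le_normalizer_iff_commutator_le_left.mpr (commutator_mono h le_rfl)

theorem card_fittingHallOf (M : Subgroup G) :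
    Nat.card ↥(Cfsg.fittingHallOf M) = Nat.card ↥(Cfsg.fittingHall ↥M) :=
  card_map_of_injective M.subtype_injective

theorem coprime_hall (h : Cfsg.IsTypePWith M W₁ U W₂) :
    (Nat.card ↥(Cfsg.fittingHallOf M)).Coprime (Nat.card ↥U * Nat.card ↥W₁) := by
  have h1 := card_compl h.W₁_compl
  rw [card_compl h.U_compl] at h1
  have h2 := card_mul_index (Cfsg.fittingHall ↥M)
  rw [card_fittingHallOf] at h1 ⊢
  have h3 : (Cfsg.fittingHall ↥M).index = Nat.card ↥U * Nat.card ↥W₁ := by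
    apply Nat.eq_of_mul_eq_mul_left (Nat.card_pos (α := ↥(Cfsg.fittingHall ↥M)))
    rw [h2, h1, mul_assoc]
  rw [← h3]
  exact CNFrobenius.coprime_fittingHall

theorem U_le (h : Cfsg.IsTypePWith M W₁ U W₂) : U ≤ M :=
  h.U_compl.2.1.trans h.W₁_compl.1

theorem fittingHallOf_le_fittingOf (M : Subgroup G) : Cfsg.fittingHallOf M ≤ Cfsg.fittingOf M :=
  map_mono CNFrobenius.fittingHall_le

theorem commute_of_mem_fitting (h : Cfsg.IsTypePWith M W₁ U W₂) {u x : G} (hu : u ∈ U)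
    (huF : u ∈ Cfsg.fittingOf M) (hx : x ∈ Cfsg.fittingHallOf M) : x * u = u * x := by
  have hxF := fittingHallOf_le_fittingOf M hx
  obtain ⟨u', hu', rfl⟩ := huF
  obtain ⟨x', hx', rfl⟩ := hxF
  have hnil : Group.IsNilpotent ↥(Cfsg.fittingSubgroup ↥M) := fittingSubgroup_isNilpotent _
  have hcop : (orderOf (⟨x', hx'⟩ : ↥(Cfsg.fittingSubgroup ↥M))).Coprime
      (orderOf (⟨u', hu'⟩ : ↥(Cfsg.fittingSubgroup ↥M))) := by
    rw [orderOf_mk x' hx', orderOf_mk u' hu', ← orderOf_injective M.subtype M.subtype_injective x',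
      ← orderOf_injective M.subtype M.subtype_injective u']
    refine Nat.Coprime.coprime_dvd_left ?_ (Nat.Coprime.coprime_dvd_right ?_ (coprime_hall h))
    · exact orderOf_mk _ hx ▸ orderOf_dvd_natCard (⟨M.subtype x', hx⟩ : ↥(Cfsg.fittingHallOf M))
    · exact (orderOf_mk _ hu ▸ orderOf_dvd_natCard (⟨M.subtype u', hu⟩ : ↥U)).trans (dvd_mul_right _ _)
  have := congrArg Subtype.val (commute_of_coprime_orderOf_of_isNilpotent hnil hcop).eq
  exact congrArg M.subtype this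

/-- `F(M)` is generated by `H = M_F` and `C_U(H)`. -/
theorem fitting_eq_sup (h : Cfsg.IsTypePWith M W₁ U W₂) :
    Cfsg.fittingOf M = Cfsg.fittingHallOf M ⊔ (U ⊓ centralizer (Cfsg.fittingHallOf M : Set G)) := by
  apply le_antisymm
  · conv_lhs => rw [← h.fitting_eq]
    refine sup_le le_sup_left ?_
    intro c hc
    have hcF : c ∈ Cfsg.fittingOf M := by rw [← h.fitting_eq]; exact mem_sup_right hc
    obtain ⟨a, ha, u, hu, rfl⟩ := h.U_compl.2.2.2 c (h.fitting_le hcF)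
    have huF : u ∈ Cfsg.fittingOf M := by
      have h1 := (Cfsg.fittingOf M).mul_mem
        ((Cfsg.fittingOf M).inv_mem (fittingHallOf_le_fittingOf M ha)) hcF
      rwa [inv_mul_cancel_left] at h1
    exact Subgroup.mul_mem _ (mem_sup_left ha)
      (mem_sup_right ⟨hu, fun x hx => commute_of_mem_fitting h hu huF hx⟩)
  · conv_rhs => rw [← h.fitting_eq]
    exact sup_le_sup_left (inf_le_inf_right _ (U_le h)) _

theorem derived_centralizes (h : Cfsg.IsTypePWith M W₁ U W₂) :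
    ⁅U, U⁆ ≤ centralizer (Cfsg.fittingHallOf M : Set G) := by
  intro u hu x hx
  refine commute_of_mem_fitting h (commutator_le_self U hu) ?_ hx
  rw [← h.fitting_eq]
  exact h.derived_two_le (commutator_mono h.U_compl.2.1 h.U_compl.2.1 hu)

theorem not_centralizes (h : Cfsg.IsTypePWith M W₁ U W₂) (hU : U ≠ ⊥) :
    ¬ U ≤ centralizer (Cfsg.fittingHallOf M : Set G) := by
  intro hc
  set H := Cfsg.fittingHallOf M with hH
  set D := ⁅M, M⁆ with hD
  haveI : Group.IsNilpotent ↥U := h.U_nilpotent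
  haveI : Group.IsNilpotent ↥H := by
    haveI := CNFrobenius.isNilpotent_fittingHall (G := ↥M)
    exact Group.nilpotent_of_mulEquiv (equivMapOfInjective _ M.subtype M.subtype_injective)
  let f : ↥H × ↥U →* ↥D :=
    (MonoidHom.noncommCoprod H.subtype U.subtype (fun a b => hc b.2 a a.2)).codRestrict D
      (fun z => D.mul_mem (h.U_compl.1 z.1.2) (h.U_compl.2.1 z.2.2))
  have hf : Function.Surjective f := by
    rintro ⟨d, hd⟩
    obtain ⟨a, ha, u, hu, rfl⟩ := h.U_compl.2.2.2 d hd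
    exact ⟨(⟨a, ha⟩, ⟨u, hu⟩), rfl⟩
  haveI : Group.IsNilpotent ↥D := Group.nilpotent_of_surjective f hf
  have hDM : D ≤ M := h.W₁_compl.1
  have hn : (D.subgroupOf M).Normal := by
    refine (normal_subgroupOf_iff_le_normalizer hDM).mpr ?_
    exact le_normalizer_derived M hDM
  have hnil : Group.IsNilpotent ↥(D.subgroupOf M) :=
    Group.nilpotent_of_mulEquiv (subgroupOfEquivOfLe hDM).symm
  have hcop : (Nat.card ↥(D.subgroupOf M)).Coprime (D.subgroupOf M).index := by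
    have hi : (D.subgroupOf M).index = Nat.card ↥W₁ := by
      have h2 := card_mul_index (D.subgroupOf M)
      rw [Nat.card_congr (subgroupOfEquivOfLe hDM).toEquiv, card_compl h.W₁_compl] at h2
      exact Nat.eq_of_mul_eq_mul_left Nat.card_pos h2
    have hj : W₁.relIndex M = Nat.card ↥D := by
      have h2 := card_mul_index (W₁.subgroupOf M)
      rw [Nat.card_congr (subgroupOfEquivOfLe h.W₁_compl.2.1).toEquiv, card_compl h.W₁_compl, mul_comm (Nat.card ↥D)] at h2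
      exact Nat.eq_of_mul_eq_mul_left Nat.card_pos h2
    rw [Nat.card_congr (subgroupOfEquivOfLe hDM).toEquiv, hi, ← hj]
    exact h.W₁_hall.symm
  have hle := CNFrobenius.le_fittingHall hn hnil hcop
  apply hU
  rw [eq_bot_iff, ← h.U_compl.2.2.1]
  intro u hu
  exact ⟨⟨⟨u, hDM (h.U_compl.2.1 hu)⟩, hle (h.U_compl.2.1 hu), rfl⟩, hu⟩

theorem partner_unique {S W₂' : Subgroup G} (hW : Cfsg.IsSelfNormalizingCyclic W₁ W₂)
    (hSW : Cfsg.IsComplIn ⁅S, S⁆ W₁ S) (hW₂S : W₂ ≤ S) (hP : Cfsg.IsTypePWith S W₁ U W₂') : W₂' = W₂ := by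
  obtain ⟨hW₁, hW₂, hd, hcomm, hcyc, hN⟩ := hW
  obtain ⟨x, hx, hx1⟩ := (bot_or_exists_ne_one W₁).resolve_left hW₁
  have hcent := hP.W₂_centralizer x hx hx1
  -- the orders of the factors of a cyclic direct product are coprime
  have hcop : (Nat.card ↥W₁).Coprime (Nat.card ↥W₂) := by
    apply Nat.coprime_of_dvd'
    intro p hp hp1 hp2
    haveI : Fact p.Prime := ⟨hp⟩
    obtain ⟨a, ha⟩ := exists_prime_orderOf_dvd_card' p hp1
    obtain ⟨b, hb⟩ := exists_prime_orderOf_dvd_card' p hp2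
    exfalso
    haveI := hcyc
    have heq : zpowers (⟨a, mem_sup_left a.2⟩ : ↥(W₁ ⊔ W₂)) = zpowers ⟨b, mem_sup_right b.2⟩ := by
      refine Cfsg.Agent.Char.eq_of_card_eq_of_cyclic ?_
      rw [Nat.card_zpowers, Nat.card_zpowers, orderOf_mk, orderOf_mk, orderOf_coe, orderOf_coe, ha, hb]
    have hmem : (⟨a, mem_sup_left a.2⟩ : ↥(W₁ ⊔ W₂)) ∈ zpowers ⟨b, mem_sup_right b.2⟩ := heq ▸ mem_zpowers _
    obtain ⟨k, hk⟩ := hmem
    have : (a : G) ∈ W₁ ⊓ W₂ := ⟨a.2, (congrArg Subtype.val hk) ▸ W₂.zpow_mem b.2 k⟩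
    rw [hd, mem_bot] at this
    rw [show a = 1 from Subtype.ext this, orderOf_one] at ha
    exact hp.one_lt.ne ha
  -- `W₂` lies in the derived subgroup
  have hW₂D : W₂ ≤ ⁅S, S⁆ := by
    intro w hw
    have hDn : (⁅S, S⁆.subgroupOf S).Normal :=
      (normal_subgroupOf_iff_le_normalizer hSW.1).mpr (le_normalizer_derived S hSW.1)
    have hi : (⁅S, S⁆.subgroupOf S).index = Nat.card ↥W₁ := by
      have h2 := card_mul_index (⁅S, S⁆.subgroupOf S)
      rw [Nat.card_congr (subgroupOfEquivOfLe hSW.1).toEquiv, card_compl hSW] at h2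
      exact Nat.eq_of_mul_eq_mul_left Nat.card_pos h2
    let q := QuotientGroup.mk' (⁅S, S⁆.subgroupOf S)
    have h1 : orderOf (q ⟨w, hW₂S hw⟩) ∣ Nat.card ↥W₁ := by
      rw [← hi]; exact orderOf_dvd_natCard _
    have h2 : orderOf (q ⟨w, hW₂S hw⟩) ∣ Nat.card ↥W₂ := by
      refine (orderOf_map_dvd q _).trans ?_
      rw [orderOf_mk, ← orderOf_mk w hw]
      exact orderOf_dvd_natCard _
    have h3 := orderOf_eq_one_iff.mp (Nat.eq_one_of_dvd_one (hcop ▸ Nat.dvd_gcd h1 h2))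
    have := (QuotientGroup.eq_one_iff _).mp h3
    exact this
  have hle : W₂ ≤ W₂' := by
    rw [← hcent]
    exact le_inf hW₂D (fun w hw => mem_centralizer_singleton_iff.mpr (hcomm x hx w hw).symm)
  refine le_antisymm ?_ hle
  obtain ⟨-, -, -, -, hcyc', -⟩ := hP.selfNormalizing
  haveI := hcyc'
  obtain ⟨y, hy, hy1⟩ := (bot_or_exists_ne_one W₂).resolve_left hW₂
  have hX : ({x * y} : Set G) ⊆ (↑(W₁ ⊔ W₂) : Set G) \ (↑W₁ ∪ ↑W₂) := by
    rintro z rfl
    refine ⟨Subgroup.mul_mem _ (mem_sup_left hx) (mem_sup_right hy), ?_⟩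
    rintro (h | h)
    · apply hy1
      have : y ∈ W₁ ⊓ W₂ := ⟨by simpa using W₁.mul_mem (W₁.inv_mem hx) h, hy⟩
      rwa [hd, mem_bot] at this
    · apply hx1
      have : x ∈ W₁ ⊓ W₂ := ⟨hx, by simpa using W₂.mul_mem h (W₂.inv_mem hy)⟩
      rwa [hd, mem_bot] at this
  have hNX := hN _ hX (Set.singleton_nonempty _)
  intro w hw
  have hwD : w ∈ ⁅S, S⁆ ∧ w ∈ centralizer ({x} : Set G) := by rw [← hcent] at hw; exact hw
  have hwy : Commute w y := by
    have := (IsCyclic.commutative (α := ↥(W₁ ⊔ W₂'))).is_comm.comm ⟨w, mem_sup_right hw⟩ ⟨y, mem_sup_right (hle hy)⟩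
    exact congrArg Subtype.val this
  have hwx : Commute w x := mem_centralizer_singleton_iff.mp hwD.2
  have hmem : w ∈ W₁ ⊔ W₂ := by
    rw [← hNX]
    intro h
    change h ∈ ({x * y} : Set G) ↔ w * h * w⁻¹ ∈ ({x * y} : Set G)
    simp only [Set.mem_singleton_iff]
    have hc : w * (x * y) * w⁻¹ = x * y := by rw [(hwx.mul_right hwy).eq, mul_inv_cancel_right]
    constructor
    · rintro rfl; exact hc
    · intro hh
      rw [← hc] at hh
      exact mul_left_cancel (mul_right_cancel hh)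
  have hn : W₂ ≤ normalizer (W₁ : Set G) := by
    intro b hb
    rw [mem_normalizer_iff]
    intro a
    constructor
    · intro ha; rwa [← hcomm a ha b hb, mul_inv_cancel_right]
    · intro ha
      have h5 := hcomm _ ha b hb
      have : a = b * a * b⁻¹ := by
        apply mul_left_cancel (a := b)
        rw [← h5, inv_mul_cancel_right]
      rwa [this]
  rw [← SetLike.mem_coe, Subgroup.coe_mul_of_right_le_normalizer_left W₁ W₂ hn] at hmem
  obtain ⟨a, ha, b, hb, rfl⟩ := hmem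
  have haD : a ∈ ⁅S, S⁆ := by
    have := ⁅S, S⁆.mul_mem hwD.1 (⁅S, S⁆.inv_mem (hW₂D hb))
    simpa using this
  have : a ∈ ⁅S, S⁆ ⊓ W₁ := ⟨haD, ha⟩
  rw [hSW.2.2.1, mem_bot] at this
  rw [this]; simpa using hb

end Cfsg.Agent.Solv.TypeP
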