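import Mathlib.GroupTheory.Sylow
import Mathlib.GroupTheory.GroupAction.Quotient

/-!
Involutions fixing a unique coset.
-/

set_option autoImplicit false
set_option linter.style.haveILetI false

namespace Cfsg.Agent.Solv.UniqueCoset

open Subgroup
open scoped Pointwise

variable {G : Type*} [Group G]

theorem smul_eq_iff (H : Subgroup G) (x g : G) :
    x • (g : G ⧸ H) = (g : G ⧸ H) ↔ g⁻¹ * x * g ∈ H := by
  rw [MulAction.Quotient.smul_coe, smul_eq_mul, eq_comm, QuotientGroup.eq, mul_assoc]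

theorem mem_map_conj (H : Subgroup G) (x g : G) :
    x ∈ H.map (MulAut.conj g).toMonoidHom ↔ g⁻¹ * x * g ∈ H := by
  rw [mem_map_equiv]
  simp

theorem tfae (I : Set G) (hIc : ∀ g : G, ∀ x ∈ I, g * x * g⁻¹ ∈ I) (H : Subgroup G) :
    ((∀ x ∈ I, x ∈ H → (∀ g : G, g * x * g⁻¹ ∈ H → ∃ h ∈ H, h * x * h⁻¹ = g * x * g⁻¹) ∧
      centralizer ({x} : Set G) ≤ H) ↔
      (∀ g : G, g ∉ H → ∀ x ∈ I, ¬ (x ∈ H ∧ x ∈ (H : Subgroup G).map (MulAut.conj g).toMonoidHom))) ∧
    ((∀ g : G, g ∉ H → ∀ x ∈ I, ¬ (x ∈ H ∧ x ∈ (H : Subgroup G).map (MulAut.conj g).toMonoidHom)) ↔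
      ∀ x ∈ I, x ∈ H → ∃! c : G ⧸ H, x • c = c) := by
  refine ⟨⟨fun h g hg x hxI ⟨hx, hxg⟩ => ?_, fun h x hxI hx => ⟨fun g hg => ?_, fun c hc => ?_⟩⟩, ?_⟩
  · rw [mem_map_conj] at hxg
    obtain ⟨k, hk, hke⟩ := (h x hxI hx).1 g⁻¹ (by rwa [inv_inv])
    have : g * k ∈ centralizer ({x} : Set G) := by
      rw [mem_centralizer_singleton_iff]
      rw [inv_inv] at hke
      calc g * k * x = g * (k * x * k⁻¹) * k := by group
        _ = x * (g * k) := by rw [hke]; group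
    have := H.mul_mem ((h x hxI hx).2 this) (H.inv_mem hk)
    rw [mul_inv_cancel_right] at this
    exact hg this
  · have hgH : g ∈ H := by
      by_contra hn
      exact h g⁻¹ (fun hh => hn (inv_mem_iff.mp hh)) x hxI ⟨hx, by rw [mem_map_conj, inv_inv]; exact hg⟩
    exact ⟨g, hgH, rfl⟩
  · by_contra hn
    refine h c hn x hxI ⟨hx, ?_⟩
    rw [mem_map_conj, mul_assoc, ← mem_centralizer_singleton_iff.mp hc, inv_mul_cancel_left]
    exact hx
  constructor
  · intro h x hxI hx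
    refine ⟨((1 : G) : G ⧸ H), (smul_eq_iff H x 1).mpr (by simpa using hx), fun c hc => ?_⟩
    obtain ⟨g, rfl⟩ := QuotientGroup.mk_surjective c
    rw [smul_eq_iff] at hc
    by_contra hne
    refine h g (fun hg => hne ?_) x hxI ⟨hx, (mem_map_conj H x g).mpr hc⟩
    rw [QuotientGroup.eq]
    simpa using H.inv_mem hg
  · rintro h g hg x hxI ⟨hx, hxg⟩
    rw [mem_map_conj] at hxg
    have := (h x hxI hx).unique ((smul_eq_iff H x 1).mpr (by simpa using hx)) ((smul_eq_iff H x g).mpr hxg)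
    rw [QuotientGroup.eq] at this
    exact hg (by simpa using this)

/-- Two involutions fixing unique cosets, one inside and one outside an invariant set, are impossible. -/
theorem orbit_parity [Finite G] (H : Subgroup G) (C : Subgroup G) (c₁ c₂ : G ⧸ H) {z₁ z₂ : G}
    (h₁ : orderOf z₁ = 2) (h₂ : orderOf z₂ = 2) (hz₁ : z₁ ∈ C) (hz₂ : z₂ ∈ C)
    (f₁ : ∀ c : G ⧸ H, z₁ • c = c ↔ c = c₁) (f₂ : ∀ c : G ⧸ H, z₂ • c = c ↔ c = c₂) :
    c₂ ∈ MulAction.orbit C c₁ := by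
  classical
  haveI : Fact (Nat.Prime 2) := ⟨Nat.prime_two⟩
  by_contra hne
  have key : ∀ z : G, orderOf z = 2 → z ∈ C →
      Nat.card (MulAction.orbit C c₁) ≡ Nat.card {c : MulAction.orbit C c₁ // z • (c : G ⧸ H) = c} [MOD 2] := by
    intro z hz hzC
    letI : MulAction (zpowers (⟨z, hzC⟩ : C)) (MulAction.orbit C c₁) := inferInstance
    have hp : IsPGroup 2 (zpowers (⟨z, hzC⟩ : C)) := IsPGroup.of_card (n := 1)
      (by rw [Nat.card_zpowers, Subgroup.orderOf_mk, hz, pow_one])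
    refine (hp.card_modEq_card_fixedPoints (MulAction.orbit C c₁)).trans ?_
    rw [Nat.card_congr (Equiv.subtypeEquivRight (p := fun c => c ∈ MulAction.fixedPoints (zpowers (⟨z, hzC⟩ : C)) (MulAction.orbit C c₁))
      (q := fun c : MulAction.orbit C c₁ => z • (c : G ⧸ H) = c) fun c => ?_)]
    refine ⟨fun h => congrArg Subtype.val (h ⟨_, mem_zpowers _⟩), fun h k => ?_⟩
    obtain ⟨k, i, rfl⟩ := k
    show ((⟨z, hzC⟩ : C) ^ i) • c = c
    exact (MulAction.stabilizer C c).zpow_mem (show (⟨z, hzC⟩ : C) • c = c from Subtype.ext h) i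
  have k1 := key z₁ h₁ hz₁
  have k2 := key z₂ h₂ hz₂
  have e1 : Nat.card {c : MulAction.orbit C c₁ // z₁ • (c : G ⧸ H) = c} = 1 :=
    Nat.card_eq_one_iff_unique.mpr ⟨⟨fun a b => Subtype.ext (Subtype.ext
      (((f₁ _).mp a.2).trans ((f₁ _).mp b.2).symm))⟩,
      ⟨⟨⟨c₁, MulAction.mem_orbit_self _⟩, (f₁ _).mpr rfl⟩⟩⟩
  have e2 : Nat.card {c : MulAction.orbit C c₁ // z₂ • (c : G ⧸ H) = c} = 0 :=
    Nat.card_eq_zero.mpr (Or.inl ⟨fun a => hne (((f₂ _).mp a.2) ▸ a.1.2)⟩)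
  rw [e1] at k1
  rw [e2] at k2
  have := k1.symm.trans k2
  simp [Nat.ModEq] at this

theorem two_central [Finite G] (z : G) (hz : orderOf z = 2) (P : Sylow 2 G) (hP : ∀ x ∈ P, x * z = z * x)
    (H : Subgroup G) (hzH : z ∈ H) (hfix : ∀ g : G, g⁻¹ * z * g ∈ H → g ∈ H) :
    Odd H.index ∧ ∀ x ∈ H, (∃ k : ℕ, orderOf x = 2 ^ k) → ∀ g : G, g * x * g⁻¹ ∈ H →
      ∃ h ∈ H, h * x * h⁻¹ = g * x * g⁻¹ := by
  haveI : Fact (Nat.Prime 2) := ⟨Nat.prime_two⟩
  have hC : ∀ c : G, c * z = z * c → c ∈ H := fun c hc => hfix c (by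
    rwa [mul_assoc, ← hc, inv_mul_cancel_left])
  have hPH : (P : Subgroup G) ≤ H := fun x hx => hC x (hP x hx)
  refine ⟨Nat.not_even_iff_odd.mp fun he => P.not_dvd_index ((even_iff_two_dvd.mp he).trans (index_dvd_of_le hPH)), ?_⟩
  intro x hx hxo g hgx
  have hsyl : ∀ u ∈ H, (∃ k : ℕ, orderOf u = 2 ^ k) → ∃ a ∈ H, a⁻¹ * u * a ∈ (P : Subgroup G) := by
    intro u hu ⟨k, hk⟩
    obtain ⟨R, hR⟩ := IsPGroup.exists_le_sylow (G := H) (p := 2) (P := zpowers (⟨u, hu⟩ : H))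
      (IsPGroup.of_card (n := k) (by rw [Nat.card_zpowers, Subgroup.orderOf_mk, hk]))
    obtain ⟨a, ha⟩ := MulAction.exists_smul_eq H (P.subtype hPH) R
    refine ⟨a, a.2, ?_⟩
    have h1 : (⟨u, hu⟩ : H) ∈ (R : Subgroup H) := hR (mem_zpowers _)
    rw [← ha, Sylow.coe_subgroup_smul, mem_pointwise_smul_iff_inv_smul_mem, Sylow.coe_subtype,
      mem_subgroupOf] at h1
    simpa [MulAut.smul_def, MulAut.inv_def] using h1
  obtain ⟨a, ha, hxa⟩ := hsyl x hx hxo
  obtain ⟨b, hb, hyb⟩ := hsyl _ hgx (by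
    obtain ⟨k, hk⟩ := hxo
    exact ⟨k, by rw [← hk]; exact orderOf_injective (MulAut.conj g).toMonoidHom (MulAut.conj g).injective x⟩)
  set X := a⁻¹ * x * a
  set d := b⁻¹ * g * a
  have hY : d * X * d⁻¹ = b⁻¹ * (g * x * g⁻¹) * b := by simp [X, d, mul_assoc]
  set C := centralizer ({d * X * d⁻¹} : Set G)
  have hz1 : z ∈ C := mem_centralizer_singleton_iff.mpr (hP _ (hY ▸ hyb)).symm
  have hz2 : d * z * d⁻¹ ∈ C := mem_centralizer_singleton_iff.mpr (by
    have := congrArg (fun t => d * t * d⁻¹) (hP X hxa).symm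
    simpa [mul_assoc] using this)
  have f1 : ∀ c : G ⧸ H, z • c = c ↔ c = ((1 : G) : G ⧸ H) := by
    intro c
    obtain ⟨u, rfl⟩ := QuotientGroup.mk_surjective c
    rw [smul_eq_iff, eq_comm, QuotientGroup.eq]
    simp only [inv_one, one_mul]
    exact ⟨hfix u, fun hu => H.mul_mem (H.mul_mem (H.inv_mem hu) hzH) hu⟩
  have f2 : ∀ c : G ⧸ H, (d * z * d⁻¹) • c = c ↔ c = (d : G ⧸ H) := by
    intro c
    obtain ⟨u, rfl⟩ := QuotientGroup.mk_surjective c
    rw [smul_eq_iff, eq_comm, QuotientGroup.eq]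
    constructor
    · intro h
      refine hfix _ ?_
      simpa [mul_assoc] using h
    · intro h
      have := H.mul_mem (H.mul_mem (H.inv_mem h) hzH) h
      simpa [mul_assoc] using this
  obtain ⟨⟨c, hc⟩, hcd⟩ := orbit_parity H C _ _ hz
    ((orderOf_injective (MulAut.conj d).toMonoidHom (MulAut.conj d).injective z).trans hz) hz1 hz2 f1 f2
  change ((c * 1 : G) : G ⧸ H) = (d : G ⧸ H) at hcd
  rw [mul_one, QuotientGroup.eq] at hcd
  rw [mem_centralizer_singleton_iff] at hc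
  refine ⟨b * (c⁻¹ * d) * a⁻¹, H.mul_mem (H.mul_mem hb hcd) (H.inv_mem ha), ?_⟩
  calc b * (c⁻¹ * d) * a⁻¹ * x * (b * (c⁻¹ * d) * a⁻¹)⁻¹
      = b * c⁻¹ * ((d * X * d⁻¹) * c) * b⁻¹ := by simp [X, mul_assoc]
    _ = g * x * g⁻¹ := by rw [← hc, hY]; group

theorem eq_top_of_two_classes [Finite G] (a₀ b₀ : G) (ha₀ : orderOf a₀ = 2) (hb₀ : orderOf b₀ = 2)
    (hne : ¬ IsConj a₀ b₀) (H : Subgroup G)
    (hfix : ∀ x : G, IsConj a₀ x ∨ IsConj b₀ x → ∃! c : G ⧸ H, x • c = c)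
    (hcent : ∀ a, IsConj a₀ a → a ∈ H → ∀ b, (IsConj a₀ b ∨ IsConj b₀ b) → b ∈ H → a ≠ b →
      a * b = b * a → centralizer ({a * b} : Set G) ≤ H) : H = ⊤ := by
  obtain ⟨c, hc, -⟩ := hfix a₀ (Or.inl (IsConj.refl _))
  obtain ⟨u, rfl⟩ := QuotientGroup.mk_surjective c
  rw [smul_eq_iff] at hc
  set a := u⁻¹ * a₀ * u
  have haI : IsConj a₀ a := isConj_iff.mpr ⟨u⁻¹, by rw [inv_inv]⟩
  have hord : ∀ x y : G, IsConj x y → orderOf x = 2 → orderOf y = 2 := by
    intro x y hxy hx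
    obtain ⟨k, rfl⟩ := isConj_iff.mp hxy
    exact (orderOf_injective (MulAut.conj k).toMonoidHom (MulAut.conj k).injective x).trans hx
  have ha2 : a * a = 1 := by
    have := pow_orderOf_eq_one a
    rwa [hord _ _ haI ha₀, pow_two] at this
  clear_value a
  have hall : ∀ b, IsConj b₀ b → b ∈ H := by
    intro b hbJ
    have hb2 : b * b = 1 := by
      have := pow_orderOf_eq_one b
      rwa [hord _ _ hbJ hb₀, pow_two] at this
    have hai : a⁻¹ = a := inv_eq_of_mul_eq_one_right ha2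
    have hbi : b⁻¹ = b := inv_eq_of_mul_eq_one_right hb2
    set s := a * b
    have hsa : ∀ r : ℕ, a * s ^ r * a = (s ^ r)⁻¹ := by
      intro r
      have e : a * s * a⁻¹ = s⁻¹ := by
        rw [mul_inv_rev, hai, hbi, ← mul_assoc, ha2, one_mul]
      have := congrArg (· ^ r) e
      rw [conj_pow, inv_pow, hai] at this
      exact this
    have hsr : ∀ r : ℕ, (s ^ r)⁻¹ * a * s ^ r = a * s ^ (2 * r) := fun r => by
      rw [← hsa r, mul_assoc (a * s ^ r) a a, ha2, mul_one, mul_assoc, two_mul, pow_add]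
    have hsr' : ∀ r : ℕ, (s ^ r)⁻¹ * b * s ^ r = a * s ^ (2 * r + 1) := fun r => by
      have hb : b = a * s := by simp only [s]; rw [← mul_assoc, ha2, one_mul]
      calc (s ^ r)⁻¹ * b * s ^ r = (s ^ r)⁻¹ * a * s ^ r * ((s ^ r)⁻¹ * s * s ^ r) := by
            rw [hb]; group
        _ = (s ^ r)⁻¹ * a * s ^ r * s := by
            rw [show (s ^ r)⁻¹ * s * s ^ r = s by rw [mul_assoc, ← pow_succ', pow_succ, inv_mul_cancel_left]]
        _ = a * s ^ (2 * r + 1) := by rw [hsr, mul_assoc, ← pow_succ]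
    have hcj : ∀ j, IsConj a₀ (a * s ^ j) ∨ IsConj b₀ (a * s ^ j) := fun j => by
      rcases Nat.even_or_odd' j with ⟨r, rfl | rfl⟩
      · exact Or.inl (haI.trans (isConj_iff.mpr ⟨(s ^ r)⁻¹, by rw [inv_inv, hsr]⟩))
      · exact Or.inr (hbJ.trans (isConj_iff.mpr ⟨(s ^ r)⁻¹, by rw [inv_inv, hsr']⟩))
    rcases Nat.even_or_odd' (orderOf s) with ⟨m, hm | hm⟩
    · have hm0 : m ≠ 0 := fun e => by
        have := (orderOf_pos s).ne'
        rw [hm, e] at this
        exact this rfl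
      set w := s ^ m
      have hw1 : w ≠ 1 := fun h => by
        have := Nat.le_of_dvd (Nat.pos_of_ne_zero hm0) (orderOf_dvd_of_pow_eq_one h)
        omega
      have hw2 : w * w = 1 := by rw [← pow_add, ← two_mul, ← hm, pow_orderOf_eq_one]
      have hwa : a * w = w * a := by
        have := hsa m
        rw [inv_eq_of_mul_eq_one_right hw2] at this
        calc a * w = a * w * (a * a) := by rw [ha2, mul_one]
          _ = (a * w * a) * a := by group
          _ = w * a := by rw [this]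
      have hws : w * s = s * w := by rw [← pow_succ, ← pow_succ']
      have hawH : a * w ∈ H := by
        obtain ⟨c, hc', hcu⟩ := hfix (a * w) (hcj m)
        obtain ⟨k, rfl⟩ := QuotientGroup.mk_surjective c
        have hfix1 : a • ((k : G) : G ⧸ H) = (k : G) := hcu _ (by
          show (a * w) • (a • ((k : G) : G ⧸ H)) = a • ((k : G) : G ⧸ H)
          rw [smul_smul, show a * w * a = a * (a * w) by
            rw [mul_assoc a w a, ← hwa], ← smul_smul]
          exact congrArg (a • ·) hc')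
        have : ((k : G) : G ⧸ H) = ((1 : G) : G ⧸ H) := (hfix a (Or.inl haI)).unique hfix1
          ((smul_eq_iff H a 1).mpr (by simpa using hc))
        rw [this, smul_eq_iff] at hc'
        simpa using hc'
      have hle := hcent a haI hc (a * w) (hcj m) hawH
        (fun e => hw1 (mul_left_cancel (a := a) (by rw [mul_one]; exact e.symm)))
        (by calc a * (a * w) = a * (w * a) := by rw [hwa]
              _ = a * w * a := by rw [mul_assoc])
      rw [← mul_assoc, ha2, one_mul] at hle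
      refine hle (mem_centralizer_singleton_iff.mpr ?_)
      calc b * w = (a * a) * b * w := by rw [ha2, one_mul]
        _ = a * (s * w) := by simp only [s]; group
        _ = (a * w) * s := by rw [← hws, mul_assoc]
        _ = w * (a * s) := by rw [hwa, mul_assoc]
        _ = w * b := by simp only [s]; rw [← mul_assoc a a b, ha2, one_mul]
    · exfalso
      refine hne (haI.trans ((isConj_iff.mpr ⟨(s ^ m)⁻¹, ?_⟩ : IsConj b a).symm) |>.trans hbJ.symm)
      rw [inv_inv, hsr', ← hm, pow_orderOf_eq_one, mul_one]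
  refine eq_top_iff.mpr fun g _ => ?_
  have h1 := (hfix b₀ (Or.inr (IsConj.refl _))).unique
    ((smul_eq_iff H b₀ 1).mpr (by simpa using hall b₀ (IsConj.refl _)))
    ((smul_eq_iff H b₀ g).mpr (hall _ (isConj_iff.mpr ⟨g⁻¹, by rw [inv_inv]⟩)))
  rw [QuotientGroup.eq] at h1
  simpa using h1

theorem sylow_ti_quotient [Finite G] {p : ℕ} [Fact p.Prime] (P : Sylow p G)
    (hTI : ∀ g : G, g ∉ normalizer ((P : Subgroup G) : Set G) →
      (P : Subgroup G) ⊓ (MulAut.conj g • (P : Subgroup G) : Subgroup G) = ⊥)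
    (N : Subgroup G) [N.Normal] (Q : Sylow p (G ⧸ N))
    (x : G ⧸ N) (hx : x ∉ normalizer ((Q : Subgroup (G ⧸ N)) : Set (G ⧸ N))) :
    (Q : Subgroup (G ⧸ N)) ⊓ (MulAut.conj x • (Q : Subgroup (G ⧸ N))) = ⊥ := by
  have hπ : Function.Surjective (QuotientGroup.mk' N) := QuotientGroup.mk'_surjective N
  have hti : ∀ S T : Sylow p G, ∀ v ∈ (S : Subgroup G), v ∈ (T : Subgroup G) → v ≠ 1 → S = T := by
    intro S T v hS hT hv
    obtain ⟨g, rfl⟩ := MulAction.exists_smul_eq G P S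
    obtain ⟨k, rfl⟩ := MulAction.exists_smul_eq G P T
    rw [Sylow.coe_subgroup_smul, mem_pointwise_smul_iff_inv_smul_mem] at hS hT
    by_contra hne
    have hn : g⁻¹ * k ∉ normalizer ((P : Subgroup G) : Set G) := fun h0 => hne (by
      have h := Sylow.smul_eq_iff_mem_normalizer.mpr h0
      rw [mul_smul, inv_smul_eq_iff] at h
      exact h.symm)
    have h1 : (MulAut.conj g)⁻¹ • v ∈ (P : Subgroup G) ⊓ (MulAut.conj (g⁻¹ * k) • (P : Subgroup G) : Subgroup G) := by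
      refine ⟨hS, ?_⟩
      show _ ∈ MulAut.conj (g⁻¹ * k) • (P : Subgroup G)
      rw [mem_pointwise_smul_iff_inv_smul_mem]
      simpa [MulAut.smul_def, MulAut.inv_def, mul_assoc] using hT
    rw [hTI _ hn, mem_bot] at h1
    have h2 : g⁻¹ * v * g⁻¹⁻¹ = 1 := by simpa [MulAut.smul_def, MulAut.inv_def] using h1
    exact hv (conj_eq_one_iff.mp h2)
  have hex : ∀ (R : Sylow p (G ⧸ N)) (v : G), (∃ k, orderOf v = p ^ k) → QuotientGroup.mk' N v ∈ R →
      ∃ S : Sylow p G, v ∈ (S : Subgroup G) ∧ S.mapSurjective hπ = R := by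
    intro R v ⟨k, hk⟩ hv
    obtain ⟨S0, rfl⟩ := Sylow.mapSurjective_surjective hπ p R
    have hvH : v ∈ ((S0 : Subgroup G).map (QuotientGroup.mk' N)).comap (QuotientGroup.mk' N) := hv
    set H := ((S0 : Subgroup G).map (QuotientGroup.mk' N)).comap (QuotientGroup.mk' N)
    have hS0H : (S0 : Subgroup G) ≤ H := le_comap_map _ _
    obtain ⟨R', hR'⟩ := IsPGroup.exists_le_sylow (G := H) (p := p) (P := zpowers (⟨v, hvH⟩ : H))
      (IsPGroup.of_card (n := k) (by rw [Nat.card_zpowers, Subgroup.orderOf_mk, hk]))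
    obtain ⟨a, ha⟩ := MulAction.exists_smul_eq H (S0.subtype hS0H) R'
    refine ⟨(a : G) • S0, ?_, ?_⟩
    · have h1 : (⟨v, hvH⟩ : H) ∈ (R' : Subgroup H) := hR' (mem_zpowers _)
      rw [← ha, Sylow.coe_subgroup_smul, mem_pointwise_smul_iff_inv_smul_mem, Sylow.coe_subtype,
        mem_subgroupOf] at h1
      rw [Sylow.coe_subgroup_smul, mem_pointwise_smul_iff_inv_smul_mem]
      simpa [MulAut.smul_def, MulAut.inv_def] using h1
    · refine Sylow.ext (eq_of_le_of_card_ge ?_ (by rw [Sylow.card_eq_multiplicity, Sylow.card_eq_multiplicity]))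
      show ((((a : G) • S0 : Sylow p G) : Subgroup G).map (QuotientGroup.mk' N)) ≤ (S0 : Subgroup G).map (QuotientGroup.mk' N)
      rintro _ ⟨y, hy, rfl⟩
      rw [Sylow.coe_subgroup_smul] at hy
      have hy' := mem_pointwise_smul_iff_inv_smul_mem.mp hy
      have h3 : y = (a : G) * ((MulAut.conj (a : G))⁻¹ • y) * (a : G)⁻¹ := by
        simp [MulAut.smul_def, MulAut.inv_def, mul_assoc]
      rw [h3]
      exact H.mul_mem (H.mul_mem a.2 (hS0H hy')) (H.inv_mem a.2)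
  rw [eq_bot_iff_forall]
  intro u hu
  by_contra hu1
  obtain ⟨k, hk⟩ := IsPGroup.iff_orderOf.mp Q.isPGroup' ⟨u, hu.1⟩
  rw [Subgroup.orderOf_mk] at hk
  obtain ⟨w, hw⟩ := hπ u
  -- the p-part of a lift
  set e := orderOf w / p ^ (orderOf w).factorization p
  have hcop : e.Coprime (orderOf u) := by
    rw [hk]
    exact (Nat.coprime_ordCompl Fact.out (orderOf_pos w).ne').symm.pow_right k
  obtain ⟨m, hm⟩ := exists_pow_eq_self_of_coprime hcop
  have hvu : QuotientGroup.mk' N ((w ^ e) ^ m) = u := by rw [map_pow, map_pow, hw, hm]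
  have hvp : ∃ k, orderOf ((w ^ e) ^ m) = p ^ k := by
    have hd : orderOf ((w ^ e) ^ m) ∣ p ^ (orderOf w).factorization p :=
      orderOf_pow_dvd m |>.trans (orderOf_dvd_of_pow_eq_one (by
        rw [← pow_mul, mul_comm, Nat.ordProj_mul_ordCompl_eq_self, pow_orderOf_eq_one]))
    obtain ⟨i, -, hi⟩ := (Nat.dvd_prime_pow Fact.out).mp hd
    exact ⟨i, hi⟩
  obtain ⟨S, hS, hSQ⟩ := hex Q _ hvp (hvu.symm ▸ hu.1)
  obtain ⟨T, hT, hTQ⟩ := hex (x • Q) _ hvp (by
    rw [hvu]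
    show u ∈ ((x • Q : Sylow p (G ⧸ N)) : Subgroup (G ⧸ N))
    rw [Sylow.coe_subgroup_smul]
    exact hu.2)
  have := hti S T _ hS hT (fun h => hu1 (by rw [← hvu, h, map_one]))
  exact hx (Sylow.smul_eq_iff_mem_normalizer.mp (by rw [← hTQ, ← this, hSQ]))

end Cfsg.Agent.Solv.UniqueCoset
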