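import Cfsg.Agent.Lib.Solv.ZJ
import Cfsg.Agent.Lib.Solv.ThompsonComplement

/-!
The `ZJ`-theorem for the full centre of the elementary version of the Thompson subgroup.
-/

set_option autoImplicit false
set_option linter.style.haveILetI false
set_option linter.unusedSectionVars false

namespace Cfsg.Agent.Solv.ZJ

open Subgroup
open scoped commutatorElement

variable {G : Type*} [Group G] {p : ℕ} [Fact p.Prime]

theorem thompsonOf_eq_jf [Finite G] (Q : Subgroup G) : thompsonSubgroupOf p Q = jf p Q := by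
  apply le_antisymm
  · rw [thompsonSubgroupOf, map_le_iff_le_comap]
    refine sSup_le fun A hA => map_le_iff_le_comap.mp (le_sSup ?_)
    rw [fam_prime_eq]
    exact ⟨A, hA, rfl⟩
  · refine sSup_le fun A hA => ?_
    rw [fam_prime_eq] at hA
    obtain ⟨X, hX, rfl⟩ := hA
    exact map_mono (le_thompson hX)

theorem mul_pow_prime (hp2 : p ≠ 2) {x y c : G} (hc : y * x = c * (x * y)) (hcx : Commute c x)
    (hcy : Commute c y) (hcp : c ^ p = 1) : (x * y) ^ p = x ^ p * y ^ p := by
  rw [Repl.mul_pow_of_central hc hcx hcy]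
  have hp := (Fact.out : p.Prime)
  have hdvd : p ∣ p.choose 2 := hp.dvd_choose_self two_ne_zero (lt_of_le_of_ne hp.two_le (Ne.symm hp2))
  obtain ⟨m, hm⟩ := hdvd
  rw [hm, pow_mul, hcp, one_pow, mul_one]

/-- `Z(J_e(P))` is normal. -/
theorem centerThompsonOf_normal [Finite G] (hp2 : p ≠ 2) (hst : Stab p G)
    (hc : centralizer (pCore p G : Set G) ≤ pCore p G) (P : Sylow p G) :
    (centerThompsonOf p (P : Subgroup G)).Normal := by
  classical
  set O := pCore p G
  set Z := centerThompsonOf p (P : Subgroup G) with hZdef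
  have hOP : O ≤ (P : Subgroup G) := pCore_le_sylow P
  have hJP : thompsonSubgroupOf p (P : Subgroup G) ≤ (P : Subgroup G) := map_subtype_le _
  have hZP : Z ≤ (P : Subgroup G) := inf_le_left.trans hJP
  have hZc : ∀ x ∈ Z, ∀ y ∈ Z, x * y = y * x := fun x hx y hy =>
    (mem_centralizer_iff.mp hy.2 x hx.1)
  have hZA : ∀ A ∈ fam p (P : Subgroup G), ∀ z ∈ Z, ∀ a ∈ A, a * z = z * a := fun A hA z hz a ha =>
    mem_centralizer_iff.mp hz.2 a ((thompsonOf_eq_jf (P : Subgroup G)).ge (le_sSup hA ha))
  have hnormJ : ∀ Q : Subgroup G, normalizer (Q : Set G) ≤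
      normalizer ((thompsonSubgroupOf p Q : Subgroup G) : Set G) := fun Q g hg => by
    rw [mem_normalizer_iff_map_conj_eq] at hg ⊢
    rw [thompsonOf_map _ _ (by
      rw [(MonoidHom.ker_eq_bot_iff _).mpr (MulAut.conj g).injective, inf_bot_eq]), hg]
  have hnormZ : normalizer ((P : Subgroup G) : Set G) ≤ normalizer (Z : Set G) := fun g hg => by
    have h1 := hnormJ _ hg
    rw [mem_normalizer_iff_map_conj_eq] at h1 ⊢
    rw [hZdef, centerThompsonOf, center_map _ _ (by
      rw [(MonoidHom.ker_eq_bot_iff _).mpr (MulAut.conj g).injective, inf_bot_eq]), h1]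
  -- `Z ≤ O_p`
  have hZO : Z ≤ O := by
    have hq : ⁅⁅O, Z⁆, Z⁆ = ⊥ := by
      refine commutator_eq_bot_iff_le_centralizer.mpr ((commutator_le.mpr ?_ : ⁅O, Z⁆ ≤ Z).trans
        fun x hx => mem_centralizer_iff.mpr fun a ha => hZc a ha x hx)
      intro y hy a ha
      rw [commutatorElement_def]
      exact Z.mul_mem ((mem_normalizer_iff.mp (hnormZ (le_normalizer (hOP hy))) a).mp ha)
        (Z.inv_mem ha)
    have h1 := hst O (isPGroup_pCore p G) Z (P.isPGroup'.to_le hZP) hq
    refine (map_le_iff_le_comap.mp h1).trans (le_pCore ?_)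
    refine (isPGroup_pCore p _).comap_of_ker_isPGroup _ ?_
    rw [QuotientGroup.ker_mk']
    exact (isPGroup_pCore p G).to_le hc
  set V := zj p (P : Subgroup G) with hV
  haveI hVn : V.Normal := zj_normal hp2 hst hc P
  have hVeq : ∀ x : G, x ∈ Z → x ^ p = 1 → x ∈ V := fun x hx hxp => by
    refine ⟨hZP hx, mem_sInf.mpr fun A hA => ?_⟩
    have hA' : A.subgroupOf (P : Subgroup G) ∈ maxElementaryAbelianSubgroups p (P : Subgroup G) := by
      refine ⟨elemAbelian_subgroupOf hA.2.1, fun C hC => ?_⟩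
      rw [card_subgroupOf hA.1, ← card_map_subtype (P : Subgroup G) C]
      exact hA.2.2 _ (map_subtype_le C) (elemAbelian_map _ hC)
    exact mem_of_centralizes_maxElemAbelian hA' (x := ⟨x, hZP hx⟩) (Subtype.ext hxp)
      (mem_centralizer_iff.mpr fun a ha => Subtype.ext (hZA A hA x hx a ha))
  have hVZ : V ≤ Z := fun v hv => by
    obtain ⟨A, hA⟩ := exists_fam p (P : Subgroup G)
    refine ⟨(thompsonOf_eq_jf _).ge (le_sSup hA (zj_le_mem hA hv)), mem_centralizer_iff.mpr ?_⟩
    intro a ha
    have hle : jf p (P : Subgroup G) ≤ centralizer ({v} : Set G) := sSup_le fun X hX b hb =>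
      mem_centralizer_iff.mpr fun w hw => by
        rw [Set.mem_singleton_iff] at hw; subst hw
        exact hX.2.1.comm (zj_le_mem hX hv) hb
    exact (mem_centralizer_iff.mp (hle ((thompsonOf_eq_jf _).le ha)) v (Set.mem_singleton v)).symm
  -- the layers of `Z`
  let Zn : ℕ → Subgroup G := fun i =>
    { carrier := {z | z ∈ Z ∧ z ^ p ^ i = 1}
      one_mem' := ⟨one_mem _, one_pow _⟩
      mul_mem' := fun {x y} hx hy => ⟨mul_mem hx.1 hy.1, by
        rw [(show Commute x y from hZc x hx.1 y hy.1).mul_pow, hx.2, hy.2, one_mul]⟩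
      inv_mem' := fun {x} hx => ⟨inv_mem hx.1, by rw [inv_pow, hx.2, inv_one]⟩ }
  have hPn : ∀ i, (P : Subgroup G) ≤ normalizer (Zn i : Set G) := fun i g hg => by
    refine mem_normalizer_iff.mpr fun z => ?_
    have h1 := mem_normalizer_iff.mp (hnormZ (le_normalizer hg)) z
    change z ∈ Z ∧ z ^ p ^ i = 1 ↔ g * z * g⁻¹ ∈ Z ∧ (g * z * g⁻¹) ^ p ^ i = 1
    rw [conj_pow, conj_eq_one_iff, h1]
  suffices h : ∀ i, (Zn i).Normal by
    obtain ⟨k, hk⟩ := IsPGroup.iff_card.mp (P.isPGroup'.to_le hZP)
    have : Zn k = Z := le_antisymm (fun z hz => hz.1) fun z hz => ⟨hz, by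
      rw [← hk]
      exact congrArg Subtype.val (pow_card_eq_one' (x := (⟨z, hz⟩ : Z)))⟩
    exact this ▸ h k
  intro i
  induction i with
  | zero =>
    have : Zn 0 = ⊥ := le_bot_iff.mp fun z hz => by
      have := hz.2
      rwa [pow_zero, pow_one] at this
    rw [this]; infer_instance
  | succ i ih =>
    haveI := ih
    set W := Zn (i + 1) with hW
    have hWZ : W ≤ Z := fun z hz => hz.1
    have hstep : ∀ z ∈ W, z ^ p ∈ Zn i := fun z hz =>
      ⟨pow_mem hz.1 p, by rw [← pow_mul, ← pow_succ']; exact hz.2⟩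
    -- the normal closure
    set B := normalClosure (W : Set G) with hB
    have hBO : B ≤ O := normalClosure_le_normal (fun z hz => hZO hz.1)
    have hBP : B ≤ (P : Subgroup G) := hBO.trans hOP
    have hOZ : ∀ g : G, ∀ o ∈ O, ∀ z ∈ W, o * (g * z * g⁻¹) * o⁻¹ * (g * z * g⁻¹)⁻¹ ∈
        Z.map (MulAut.conj g).toMonoidHom := by
      intro g o ho z hz
      refine ⟨(g⁻¹ * o * g) * z * (g⁻¹ * o * g)⁻¹ * z⁻¹, Z.mul_mem ?_ (Z.inv_mem hz.1), ?_⟩
      · refine (mem_normalizer_iff.mp (hnormZ (le_normalizer (hOP ?_))) z).mp hz.1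
        simpa using (inferInstance : O.Normal).conj_mem o ho g⁻¹
      · simp [mul_assoc]
    have hconjmem : ∀ x ∈ Group.conjugatesOfSet (W : Set G), ∃ g : G, ∃ z ∈ W, g * z * g⁻¹ = x := by
      intro x hx
      obtain ⟨z, hz, hzx⟩ := Group.mem_conjugatesOfSet_iff.mp hx
      obtain ⟨g, rfl⟩ := isConj_iff.mp hzx
      exact ⟨g, z, hz, rfl⟩
    have hVcen : ∀ v ∈ V, ∀ x ∈ B, v * x = x * v := by
      intro v hv x hx
      have hle : B ≤ centralizer (V : Set G) := normalClosure_le_normal fun z hz =>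
        mem_centralizer_iff.mpr fun w hw => hZc w (hVZ hw) z (hWZ hz)
      exact mem_centralizer_iff.mp (hle hx) v hv
    have hgenV : ∀ x ∈ Group.conjugatesOfSet (W : Set G), ∀ y ∈ Group.conjugatesOfSet (W : Set G),
        ⁅x, y⁆ ∈ V := by
      intro x hx y hy
      obtain ⟨g, z, hz, rfl⟩ := hconjmem x hx
      obtain ⟨k, w, hw, rfl⟩ := hconjmem y hy
      set x := g * z * g⁻¹ with hxd
      set y := k * w * k⁻¹ with hyd
      have hxO : x ∈ O := (inferInstance : O.Normal).conj_mem z (hZO (hWZ hz)) g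
      have hyO : y ∈ O := (inferInstance : O.Normal).conj_mem w (hZO (hWZ hw)) k
      have h1 : ⁅x, y⁆ ∈ Z.map (MulAut.conj k).toMonoidHom := hOZ k x hxO w hw
      have h2 : ⁅x, y⁆ ∈ Z.map (MulAut.conj g).toMonoidHom := by
        rw [← commutatorElement_inv y x]
        exact inv_mem (hOZ g y hyO z hz)
      obtain ⟨c, hc, hce⟩ := h2
      have hcx : Commute ⁅x, y⁆ x := by
        rw [← hce, hxd]
        have h3 := (show Commute c z from hZc c hc z (hWZ hz)).map (MulAut.conj g).toMonoidHom
        simpa using h3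
      obtain ⟨c', hc', hce'⟩ := h1
      -- `x ^ p` lies in the lower layer, hence commutes with `y`
      have hxp : Commute (x ^ p) y := by
        rw [hxd, hyd, conj_pow]
        have hm : k⁻¹ * (g * z ^ p * g⁻¹) * k ∈ Zn i := by
          have := ih.conj_mem _ (ih.conj_mem _ (hstep z hz) g) k⁻¹
          simpa using this
        have h4 := (show Commute (k⁻¹ * (g * z ^ p * g⁻¹) * k) w from
          hZc _ hm.1 w (hWZ hw)).map (MulAut.conj k).toMonoidHom
        simpa [mul_assoc] using h4
      have hp1 : ⁅x, y⁆ ^ p = 1 := by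
        have e1 : ∀ n : ℕ, ⁅x, y⁆ ^ n = ⁅x ^ n, y⁆ := by
          intro n
          induction n with
          | zero => simp [commutatorElement_def]
          | succ n ihn =>
            rw [pow_succ x, Repl.comm_mul_left (x ^ n) x y, ← (hcx.pow_right n).eq, mul_inv_cancel_right, ← ihn,
              ← pow_succ']
        rw [e1, commutatorElement_eq_one_iff_commute.mpr hxp]
      have hVk : V.map (MulAut.conj k).toMonoidHom = V :=
        mem_normalizer_iff_map_conj_eq.mp (by rw [normalizer_eq_top]; trivial)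
      rw [← hce', ← hVk]
      refine mem_map_of_mem _ (hVeq c' hc' ?_)
      have hm : (MulAut.conj k).toMonoidHom (c' ^ p) = 1 := by rw [map_pow, hce', hp1]
      exact (MulAut.conj k).injective (hm.trans (map_one (MulAut.conj k).toMonoidHom).symm)
    have hBV : ∀ x ∈ B, ∀ y ∈ B, ⁅x, y⁆ ∈ V := by
      have h1 : B.map (QuotientGroup.mk' V) ≤
          centralizer ((B.map (QuotientGroup.mk' V) : Subgroup (G ⧸ V)) : Set (G ⧸ V)) := by
        rw [hB, normalClosure, MonoidHom.map_closure, centralizer_closure, closure_le]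
        rintro _ ⟨x, hx, rfl⟩
        rw [SetLike.mem_coe, mem_centralizer_iff]
        rintro _ ⟨y, hy, rfl⟩
        rw [← commutatorElement_eq_one_iff_mul_comm, ← map_commutatorElement]
        exact (QuotientGroup.eq_one_iff _).mpr (hgenV y hy x hx)
      intro x hx y hy
      rw [← QuotientGroup.eq_one_iff]
      change (QuotientGroup.mk' V) ⁅x, y⁆ = 1
      rw [map_commutatorElement, commutatorElement_eq_one_iff_mul_comm]
      exact mem_centralizer_iff.mp (h1 (mem_map_of_mem _ hy)) _ (mem_map_of_mem _ hx)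
    have hVp : ∀ v ∈ V, v ^ p = 1 := fun v hv => by
      obtain ⟨A, hA⟩ := exists_fam p (P : Subgroup G)
      exact hA.2.1.2 v (zj_le_mem hA hv)
    have hBpow : ∀ x ∈ B, ∀ y ∈ B, (x * y) ^ p = x ^ p * y ^ p := fun x hx y hy =>
      mul_pow_prime hp2 (c := ⁅y, x⁆) (by simp [commutatorElement_def, mul_assoc])
        (hVcen _ (hBV y hy x hx) x hx) (hVcen _ (hBV y hy x hx) y hy) (hVp _ (hBV y hy x hx))
    -- the subgroup `U`
    let U1 : Subgroup G :=
      { carrier := {b | b ∈ B ∧ b ^ p = 1}
        one_mem' := ⟨one_mem _, one_pow _⟩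
        mul_mem' := fun {x y} hx hy => ⟨mul_mem hx.1 hy.1, by rw [hBpow x hx.1 y hy.1, hx.2, hy.2, one_mul]⟩
        inv_mem' := fun {x} hx => ⟨inv_mem hx.1, by rw [inv_pow, hx.2, inv_one]⟩ }
    haveI hU1n : U1.Normal := ⟨fun x hx g => ⟨normalClosure_normal.conj_mem x hx.1 g, by
      rw [conj_pow, hx.2]; group⟩⟩
    set U := U1 ⊔ Zn i with hU
    have hZiB : Zn i ≤ B := fun z hz => subset_normalClosure
      (show z ∈ W from ⟨hz.1, by rw [pow_succ, pow_mul, hz.2, one_pow]⟩)
    have hUB : U ≤ B := sup_le (fun x hx => hx.1) hZiB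
    -- elements centralizing `U` of order prime to `p` fix `W`
    have hfix : ∀ c ∈ centralizer (U : Set G), (orderOf c).Coprime p → ∀ z ∈ W, c * z * c⁻¹ = z := by
      intro c hcU hco z hz
      set d := c * z * c⁻¹ * z⁻¹ with hd
      have hzB : z ∈ B := subset_normalClosure hz
      have hcz : (c * z * c⁻¹) ^ p = z ^ p := by
        rw [conj_pow, ← mem_centralizer_iff.mp hcU _ (mem_sup_right (hstep z hz)), mul_inv_cancel_right]
      have hd1 : d ∈ U1 := by
        refine ⟨mul_mem (normalClosure_normal.conj_mem z hzB c) (inv_mem hzB), ?_⟩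
        rw [hd, hBpow _ (normalClosure_normal.conj_mem z hzB c) _ (inv_mem hzB), hcz, inv_pow,
          mul_inv_cancel]
      have hcd : Commute c d := (mem_centralizer_iff.mp hcU d (mem_sup_left hd1)).symm
      have hn : ∀ n : ℕ, c ^ n * z * (c ^ n)⁻¹ = d ^ n * z := by
        intro n
        induction n with
        | zero => simp
        | succ n ihn =>
          calc c ^ (n + 1) * z * (c ^ (n + 1))⁻¹ = c * (c ^ n * z * (c ^ n)⁻¹) * c⁻¹ := by
                rw [pow_succ']; group
            _ = c * d ^ n * c⁻¹ * (c * z * c⁻¹) := by rw [ihn]; group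
            _ = d ^ n * (d * z) := by
                rw [(hcd.pow_right n).eq, mul_inv_cancel_right]
                congr 1
                rw [hd, inv_mul_cancel_right]
            _ = d ^ (n + 1) * z := by rw [pow_succ, mul_assoc (d ^ n) d z]
      have h1 := hn (orderOf c)
      rw [pow_orderOf_eq_one, one_mul, inv_one, mul_one, eq_comm, mul_eq_right] at h1
      have h2 : orderOf d ∣ Nat.gcd (orderOf c) p :=
        Nat.dvd_gcd (orderOf_dvd_of_pow_eq_one h1) (orderOf_dvd_of_pow_eq_one hd1.2)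
      rw [hco] at h2
      have : d = 1 := orderOf_eq_one_iff.mp (Nat.dvd_one.mp h2)
      rw [hd, mul_inv_eq_one] at this
      exact this
    haveI : U.Normal := sup_normal _ _
    set C := centralizer (U : Set G) with hC
    set π := QuotientGroup.mk' C
    set M := (pCore p (G ⧸ C)).comap π with hM
    have hCW : C ≤ normalizer (W : Set G) := by
      obtain ⟨PC, hPC⟩ := exists_sylow_inf P C
      have hgC : ∀ c' ∈ C, (orderOf c').Coprime p → c' ∈ normalizer (W : Set G) := by
        intro c' hc' hco'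
        refine mem_normalizer_iff.mpr fun z => ?_
        constructor
        · intro hz
          rw [hfix _ hc' hco' z hz]; exact hz
        · intro hz
          have h2 := hfix _ (inv_mem hc') (by rwa [orderOf_inv]) _ hz
          rw [show c'⁻¹ * (c' * z * c'⁻¹) * c'⁻¹⁻¹ = z by group] at h2
          rwa [← h2] at hz
      set N := (normalizer (W : Set G)).subgroupOf C
      suffices hres : N = ⊤ from subgroupOf_eq_top.mp hres
      apply eq_top_of_card_eq
      refine le_antisymm (card_le_card_group _) ?_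
      refine Nat.le_of_dvd Nat.card_pos ((Nat.dvd_iff_prime_pow_dvd_dvd _ _).mpr ?_)
      intro q k hq hqk
      haveI := Fact.mk hq
      obtain ⟨Y⟩ : Nonempty (Sylow q C) := inferInstance
      obtain ⟨Y', hY'⟩ : ∃ Y' : Sylow q C, (Y' : Subgroup C) ≤ N := by
        by_cases hqp : q = p
        · subst hqp
          exact ⟨PC, fun x hx => hPn (i + 1) (inf_le_left (α := Subgroup G) (hPC ▸ mem_map_of_mem C.subtype hx))⟩
        · refine ⟨Y, fun x hx => hgC x x.2 ?_⟩
          obtain ⟨j, hj⟩ := Y.isPGroup' ⟨x, hx⟩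
          have h5 : orderOf (x : G) ∣ q ^ j := orderOf_dvd_of_pow_eq_one
            (congrArg (fun t : (Y : Subgroup C) => ((t : C) : G)) hj)
          exact Nat.Coprime.coprime_dvd_left h5 (((Nat.coprime_primes hq Fact.out).mpr hqp).pow_left j)
      refine (dvd_trans ?_ (card_dvd_of_le hY'))
      rw [Y'.card_eq_multiplicity]
      exact pow_dvd_pow q ((Nat.Prime.pow_dvd_iff_le_factorization hq Nat.card_pos.ne').mp hqk)
    have hMW : M ≤ normalizer (W : Set G) := by
      intro x hx
      obtain ⟨y, hy, hyx⟩ := pCore_le_sylow (P.mapSurjective (QuotientGroup.mk'_surjective C)) hx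
      have := mul_mem (hPn (i + 1) hy) (hCW (QuotientGroup.eq.mp hyx))
      rwa [mul_inv_cancel_left] at this
    haveI : M.Normal := inferInstance
    have hquad : ∀ A ∈ fam p (P : Subgroup G), U ≤ normalizer (A : Set G) → A ≤ M := by
      intro A hA hUA
      have hq : ⁅⁅U, A⁆, A⁆ = ⊥ := by
        refine commutator_eq_bot_iff_le_centralizer.mpr ((commutator_le.mpr ?_ : ⁅U, A⁆ ≤ A).trans
          fun x hx => mem_centralizer_iff.mpr fun a ha => hA.2.1.comm ha hx)
        intro y hy a ha
        rw [commutatorElement_def]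
        exact A.mul_mem ((mem_normalizer_iff.mp (hUA hy) a).mp ha) (A.inv_mem ha)
      exact map_le_iff_le_comap.mp (hst U (P.isPGroup'.to_le (hUB.trans hBP)) A (P.isPGroup'.to_le hA.1) hq)
    obtain ⟨PM, hPM⟩ := exists_sylow_inf P M
    have hfr := Sylow.normalizer_sup_eq_top PM
    rw [hPM] at hfr
    set Q := (P : Subgroup G) ⊓ M with hQ
    by_cases hall : ∀ A ∈ fam p (P : Subgroup G), A ≤ M
    · rw [← normalizer_eq_top_iff, eq_top_iff, ← hfr]
      refine sup_le (fun g hg => ?_) hMW
      have hJQ : thompsonSubgroupOf p Q = thompsonSubgroupOf p (P : Subgroup G) := by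
        rw [thompsonOf_eq_jf, thompsonOf_eq_jf]
        obtain ⟨A, hA⟩ := exists_fam p (P : Subgroup G)
        have hfe := fam_eq_of_le (Q' := Q) inf_le_left hA (le_inf hA.1 (hall A hA))
        rw [jf, jf, hfe]
        exact congrArg sSup (Set.ext fun X => ⟨fun h => h.1, fun h => ⟨h, le_inf h.1 (hall X h)⟩⟩)
      have h1 := hnormJ Q hg
      rw [hJQ] at h1
      have h2 : g ∈ normalizer (Z : Set G) := by
        rw [mem_normalizer_iff_map_conj_eq] at h1 ⊢
        rw [hZdef, centerThompsonOf, center_map _ _ (by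
          rw [(MonoidHom.ker_eq_bot_iff _).mpr (MulAut.conj g).injective, inf_bot_eq]), h1]
      refine mem_normalizer_iff.mpr fun z => ?_
      change z ∈ Z ∧ z ^ p ^ (i + 1) = 1 ↔ g * z * g⁻¹ ∈ Z ∧ (g * z * g⁻¹) ^ p ^ (i + 1) = 1
      rw [conj_pow, conj_eq_one_iff, mem_normalizer_iff.mp h2 z]
    exfalso
    push Not at hall
    obtain ⟨A, ⟨hA, hAM⟩, hmax⟩ := Set.exists_max_image
      {A | A ∈ fam p (P : Subgroup G) ∧ ¬ A ≤ M} (fun A => Nat.card ↥(A ⊓ U)) (Set.toFinite _)
      (by obtain ⟨A, h1, h2⟩ := hall; exact ⟨A, h1, h2⟩)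
    have hnot : ¬ U ≤ normalizer (A : Set G) := fun h => hAM (hquad A hA h)
    have hUP : U ≤ (P : Subgroup G) := hUB.trans hBP
    obtain ⟨A', hA'ab, hA'c, -, hA'B, -, hA'N, hA'e, -⟩ := Repl.exists_replacement
      (P.isPGroup') hp2 (U.subgroupOf (P : Subgroup G)) (A.subgroupOf (P : Subgroup G))
      (by haveI := hA.2.1.1; exact subgroupOf_isMulCommutative _ _)
      (by
        rw [← map_le_map_iff_of_injective (P : Subgroup G).subtype_injective, map_commutator,
          map_subgroupOf_eq_of_le hUP, map_subgroupOf_eq_of_le hA.1]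
        exact commutator_le.mpr fun x hx y hy => zj_le_mem hA (hBV x (hUB hx) y (hUB hy)))
      (fun h => hnot fun y hy => by
        have h1 := h (show (⟨y, hUP hy⟩ : (P : Subgroup G)) ∈ U.subgroupOf P from hy)
        rw [mem_normalizer_iff] at h1 ⊢
        intro x
        constructor
        · intro hx
          exact (h1 ⟨x, hA.1 hx⟩).mp hx
        · intro hx
          have hxP : x ∈ (P : Subgroup G) := by
            have := mul_mem (mul_mem (inv_mem (hUP hy)) (hA.1 hx)) (hUP hy)
            simpa [mul_assoc] using this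
          exact (h1 ⟨x, hxP⟩).mpr hx)
    set A₂ := A'.map (P : Subgroup G).subtype with hA₂
    have hA₂fam : A₂ ∈ fam p (P : Subgroup G) := by
      refine ⟨map_subtype_le _, ⟨?_, ?_⟩, fun D hD hDa => ?_⟩
      · haveI := hA'ab; exact map_isMulCommutative _ _
      · rintro _ ⟨a, ha, rfl⟩
        rw [← map_pow]
        have hdvd : Monoid.exponent A' ∣ p := by
          refine hA'e.trans (Monoid.exponent_dvd_of_forall_pow_eq_one fun x => ?_)
          exact Subtype.ext (Subtype.ext (by simpa using hA.2.1.2 _ x.2))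
        have h1 : (⟨a, ha⟩ : A') ^ p = 1 :=
          orderOf_dvd_iff_pow_eq_one.mp ((Monoid.order_dvd_exponent _).trans hdvd)
        have h2 := congrArg Subtype.val h1
        rw [SubgroupClass.coe_pow, OneMemClass.coe_one] at h2
        rw [h2, map_one]
      · rw [hA₂, card_map_subtype, hA'c, card_subgroupOf hA.1]
        exact hA.2.2 D hD hDa
    have hA₂M : A₂ ≤ M := by
      by_contra h
      have h1 := hmax A₂ ⟨hA₂fam, h⟩
      have h2 : Nat.card ↥(A.subgroupOf (P : Subgroup G) ⊓ U.subgroupOf (P : Subgroup G)) <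
          Nat.card ↥(A' ⊓ U.subgroupOf (P : Subgroup G)) :=
        lt_of_le_of_ne (card_le_of_le hA'B.le) fun h => hA'B.ne (eq_of_le_of_card_ge hA'B.le h.ge)
      have h3 : A'.map (P : Subgroup G).subtype ⊓ U =
          (A' ⊓ U.subgroupOf (P : Subgroup G)).map (P : Subgroup G).subtype := by
        rw [map_inf_eq _ _ _ (P : Subgroup G).subtype_injective, map_subgroupOf_eq_of_le hUP]
      simp only [hA₂, h3, card_map_subtype] at h1
      rw [show Nat.card ↥(A ⊓ U) = Nat.card ↥(A.subgroupOf (P : Subgroup G) ⊓ U.subgroupOf (P : Subgroup G))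
        from (card_subgroupOf (inf_le_left.trans hA.1)).symm] at h1
      omega
    have hA₂Q : A₂ ≤ Q := le_inf hA₂fam.1 hA₂M
    -- `B` centralizes the new member
    have hBA₂ : B ≤ centralizer (A₂ : Set G) := by
      rw [hB, normalClosure, closure_le]
      intro x hx
      obtain ⟨g, z, hz, rfl⟩ := hconjmem x hx
      have hg : g ∈ normalizer (Q : Set G) ⊔ M := by rw [hfr]; trivial
      rw [mem_sup_of_normal_right] at hg
      obtain ⟨k, hk, l, hl, rfl⟩ := hg
      have hlz : l * z * l⁻¹ ∈ W := (mem_normalizer_iff.mp (hMW hl) z).mp hz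
      rw [SetLike.mem_coe, mem_centralizer_iff]
      intro a ha
      have ha' : k⁻¹ * a * k ∈ thompsonSubgroupOf p (P : Subgroup G) := by
        rw [thompsonOf_eq_jf]
        have hfe := fam_eq_of_le inf_le_left hA₂fam hA₂Q
        have haQ : a ∈ jf p Q := (le_sSup (show A₂ ∈ fam p Q by rw [hfe]; exact ⟨hA₂fam, hA₂Q⟩) : A₂ ≤ jf p Q) ha
        have hkn := hnormJ Q (inv_mem hk)
        rw [thompsonOf_eq_jf] at hkn
        have h4 := (mem_normalizer_iff.mp hkn a).mp haQ
        rw [inv_inv] at h4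
        refine (sSup_le_sSup ?_ : jf p Q ≤ jf p (P : Subgroup G)) h4
        rw [hfe]
        exact fun X hX => hX.1
      have h5 : Commute (k⁻¹ * a * k) (l * z * l⁻¹) := mem_centralizer_iff.mp hlz.1.2 _ ha'
      have h6 := h5.map (MulAut.conj k).toMonoidHom
      simp [mul_assoc] at h6
      have h7 : Commute a (k * l * z * (k * l)⁻¹) := by simpa [mul_assoc] using h6
      exact h7
    -- so `U` normalizes `A`
    have hU1A : U1 ≤ A₂ := fun u hu => by
      have hA' : A₂.subgroupOf (P : Subgroup G) ∈ maxElementaryAbelianSubgroups p (P : Subgroup G) := by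
        refine ⟨elemAbelian_subgroupOf hA₂fam.2.1, fun D hD => ?_⟩
        rw [card_subgroupOf hA₂fam.1, ← card_map_subtype (P : Subgroup G) D]
        exact hA₂fam.2.2 _ (map_subtype_le D) (elemAbelian_map _ hD)
      exact mem_of_centralizes_maxElemAbelian hA' (x := ⟨u, hBP hu.1⟩) (Subtype.ext hu.2)
        (mem_centralizer_iff.mpr fun a ha => Subtype.ext (mem_centralizer_iff.mp (hBA₂ hu.1) a ha))
    refine hnot (sup_le (fun y hy => ?_) fun z hz => mem_normalizer_iff.mpr fun a => ?_)
    · obtain ⟨y', hy', rfl⟩ := hU1A hy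
      have h6 := hA'N hy'
      rw [mem_normalizer_iff] at h6 ⊢
      intro x
      constructor
      · intro hx
        exact (h6 ⟨x, hA.1 hx⟩).mp hx
      · intro hx
        have hxP : x ∈ (P : Subgroup G) := by
          have := mul_mem (mul_mem (inv_mem y'.2) (hA.1 hx)) y'.2
          simpa [mul_assoc] using this
        exact (h6 ⟨x, hxP⟩).mpr hx
    · constructor
      · intro ha
        rw [← hZA A hA z hz.1 a ha, mul_inv_cancel_right]; exact ha
      · intro ha
        have h8 := hZA A hA z hz.1 _ ha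
        have h9 : z * a = z * (z * a * z⁻¹) := by rw [← h8]; group
        have : z * a * z⁻¹ = a := (mul_left_cancel h9).symm
        rwa [this] at ha

end Cfsg.Agent.Solv.ZJ
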