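import Cfsg.Agent.Lib.Solv.RealPair
import Cfsg.Agent.Lib.Solv.ZJ

/-!
An inverted `p`-element gives one in the normalizer of `Z(J(T))`, for odd `p`.
-/

set_option autoImplicit false
set_option linter.style.haveILetI false
set_option linter.unusedSectionVars false

namespace Cfsg.Agent.Solv.Real

open Subgroup
open scoped Pointwise commutatorElement

universe u

variable {p : ℕ} [Fact p.Prime]

section Aux

variable {G : Type u} [Group G] [Finite G]

theorem exists_sylow_of {M Q : Subgroup G} (hQ : Q ≤ M) (hQp : IsPGroup p Q) :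
    ∃ R : Subgroup G, Q ≤ R ∧ R ≤ M ∧ IsPGroup p R ∧ ¬ p ∣ R.relIndex M := by
  obtain ⟨S, hS⟩ := (hQp.of_equiv (subgroupOfEquivOfLe hQ).symm).exists_le_sylow
  refine ⟨(S : Subgroup M).map M.subtype, fun x hx => ⟨⟨x, hQ hx⟩, hS hx, rfl⟩, map_subtype_le _,
    S.isPGroup'.map _, ?_⟩
  rw [relIndex, subgroupOf, comap_map_eq_self_of_injective M.subtype_injective]
  exact S.not_dvd_index

/-- Replacing the Frattini factor. -/
theorem inv_normalizer_of_action (P : Sylow p G) (C V : Subgroup G) [C.Normal]
    (hCV : C ≤ centralizer (V : Set G)) (hV : IsPGroup p V)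
    (hVn : V.Normal) (hVP : V ≤ (P : Subgroup G)) {g : G} {j : ℕ} (hj : g ^ 2 ^ j ∈ centralizer (V : Set G))
    (hg : g ∉ centralizer (V : Set G)) :
    Inv p (normalizer (((P : Subgroup G) ⊓ C : Subgroup G) : Set G)) := by
  haveI : (centralizer (V : Set G)).Normal := inferInstance
  obtain ⟨PC, hPC⟩ := ZJ.exists_sylow_inf P C
  have hfr := Sylow.normalizer_sup_eq_top PC
  rw [hPC] at hfr
  obtain ⟨n, hn, c, hc, rfl⟩ := mem_sup_of_normal_right.mp (hfr.ge (mem_top g))
  have hπ : (QuotientGroup.mk' (centralizer (V : Set G))) (n * c) =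
      QuotientGroup.mk' (centralizer (V : Set G)) n := by
    rw [map_mul, show QuotientGroup.mk' (centralizer (V : Set G)) c = 1 from
      (QuotientGroup.eq_one_iff c).mpr (hCV hc), mul_one]
  refine inv_of_action (P := V) (hVP.trans ?_) hV hn ?_ (k := j) ?_ fun h => hg (mul_mem h (hCV hc))
  · intro x hx
    rw [mem_normalizer_iff_map_conj_eq, map_inf_eq _ _ _ (MulAut.conj x).injective,
      mem_normalizer_iff_map_conj_eq.mp (le_normalizer hx),
      mem_normalizer_iff_map_conj_eq.mp
        (show x ∈ normalizer (C : Set G) by rw [normalizer_eq_top]; trivial)]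
  · rw [normalizer_eq_top_iff.mpr hVn]; trivial
  · rw [← QuotientGroup.eq_one_iff]
    change QuotientGroup.mk' (centralizer (V : Set G)) (n ^ 2 ^ j) = 1
    rw [map_pow, ← hπ, ← map_pow]
    exact (QuotientGroup.eq_one_iff _).mpr hj

end Aux

/-- An inverted `p`-element gives one in the normalizer of `Z(J(T))`. -/
theorem inv_normalizer_zj (hp2 : p ≠ 2) : ∀ (n : ℕ) (G : Type u) [Group G] [Finite G],
    Nat.card G ≤ n → Inv p (⊤ : Subgroup G) → ∀ T : Sylow p G,
      Inv p (normalizer (ZJ.zj 0 (T : Subgroup G) : Set G)) := by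
  intro n
  induction n with
  | zero => intro G _ _ hn; exact absurd hn (not_le.mpr Nat.card_pos)
  | succ n ih =>
    intro G _ _ hcard hinv T₀
    classical
    by_contra hno₀
    have hno : ∀ T : Sylow p G, ¬ Inv p (normalizer (ZJ.zj 0 (T : Subgroup G) : Set G)) := by
      intro T h
      obtain ⟨y, hy⟩ := MulAction.exists_smul_eq G T T₀
      refine hno₀ ((h.map (MulAut.conj y).toMonoidHom (MulAut.conj y).injective).mono ((le_normalizer_map _).trans ?_))
      rw [← ZJ.zj_map (MulAut.conj y).toMonoidHom (MulAut.conj y).injective, ← hy]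
      exact le_rfl
    -- proper overgroups of Sylow subgroups and the induction step
    have hsub : ∀ M R : Subgroup G, M ≠ ⊤ → Inv p M → R ≤ M → IsPGroup p R → ¬ p ∣ R.relIndex M →
        Inv p (normalizer (ZJ.zj 0 R : Set G)) := by
      intro M R hM hMi hRM hR hidx
      have hlt : Nat.card M < Nat.card G := by
        refine lt_of_le_of_ne (Nat.card_le_card_of_injective _ M.subtype_injective) fun h => hM ?_
        exact eq_top_of_card_eq M h
      have hMi' : Inv p (⊤ : Subgroup M) := by
        rw [← subgroupOf_self]; exact (inv_subgroupOf le_rfl).mpr hMi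
      let R0 : Sylow p M := (hR.of_equiv (subgroupOfEquivOfLe hRM).symm).toSylow hidx
      refine (((ih M (by omega) hMi' R0)).map M.subtype M.subtype_injective).mono
        ((le_normalizer_map _).trans ?_)
      rw [← ZJ.zj_map _ M.subtype_injective,
        show (R0 : Subgroup M).map M.subtype = R from map_subgroupOf_eq_of_le hRM]
    have hover : ∀ (T : Sylow p G) (M : Subgroup G), (T : Subgroup G) ≤ M → M ≠ ⊤ → ¬ Inv p M :=
      fun T M hTM hM hMi => hno T (hsub M T hM hMi hTM T.isPGroup' fun h =>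
        T.not_dvd_index (h.trans (relIndex_dvd_index_of_le hTM)))
    have hzne : ∀ R : Subgroup G, IsPGroup p R → R ≠ ⊥ → ZJ.zj 0 R ≠ ⊥ := fun R hR h =>
      ZJ.zj_ne_bot_aux hR (dvd_zero p) h
    -- climbing in proper subgroups
    have climb : ∀ P : Subgroup G → Prop, (∀ R R' : Subgroup G, R ≤ R' → P R → P R') →
        (∃ M R : Subgroup G, M ≠ ⊤ ∧ Inv p M ∧ R ≤ M ∧ IsPGroup p R ∧ ¬ p ∣ R.relIndex M ∧ P R) →
        ∃ R : Subgroup G, IsPGroup p R ∧ R ≠ ⊥ ∧ P R ∧ (ZJ.zj 0 R).Normal := by
      intro P hP hex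
      obtain ⟨R, ⟨M, hM, hMi, hRM, hR, hidx, hPR⟩, hmax⟩ := Set.exists_max_image
        {R : Subgroup G | ∃ M : Subgroup G, M ≠ ⊤ ∧ Inv p M ∧ R ≤ M ∧ IsPGroup p R ∧
          ¬ p ∣ R.relIndex M ∧ P R} (fun R => Nat.card R) (Set.toFinite _)
        (by obtain ⟨M, R, h⟩ := hex; exact ⟨R, M, h⟩)
      have hRne : R ≠ ⊥ := by
        intro h
        rw [h, relIndex_bot_left] at hidx
        obtain ⟨g, -, x, hx, hx1, ⟨k, hk⟩, -⟩ := hMi
        apply hidx
        obtain ⟨i, -, hi⟩ := (Nat.dvd_prime_pow Fact.out).mp (orderOf_dvd_of_pow_eq_one hk)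
        have hi0 : i ≠ 0 := fun h0 => hx1 (orderOf_eq_one_iff.mp (by rw [hi, h0, pow_zero]))
        refine dvd_trans ?_ (Subgroup.orderOf_dvd_natCard M hx)
        rw [hi]; exact dvd_pow_self p hi0
      refine ⟨R, hR, hRne, hPR, ?_⟩
      by_contra hnn
      have hN : normalizer (ZJ.zj 0 R : Set G) ≠ ⊤ := fun h => hnn (normalizer_eq_top_iff.mp h)
      obtain ⟨T, hRT⟩ := hR.exists_le_sylow
      have hRlt : R < (T : Subgroup G) := lt_of_le_of_ne hRT fun h =>
        hover T M (h ▸ hRM) hM hMi
      set Q := (T : Subgroup G) ⊓ normalizer (R : Set G) with hQ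
      have hRQ : R < Q := by
        refine lt_of_le_of_ne (le_inf hRT le_normalizer) fun h => ?_
        haveI := T.isPGroup'.isNilpotent
        have hnc := Group.normalizerCondition_of_isNilpotent (G := (T : Subgroup G))
        have h1 : R.subgroupOf T < ⊤ := by
          rw [lt_top_iff_ne_top, Ne, subgroupOf_eq_top]
          exact fun e => hRlt.not_ge e
        obtain ⟨r, hr, hrn⟩ := SetLike.exists_of_lt (hnc _ h1)
        apply hrn
        change (r : G) ∈ R
        rw [h]
        refine mem_inf.mpr ⟨r.2, ?_⟩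
        rw [mem_normalizer_iff] at hr ⊢
        intro x
        constructor
        · intro hx
          exact (hr ⟨x, hRT hx⟩).mp hx
        · intro hx
          have hxT : x ∈ (T : Subgroup G) := by
            have := mul_mem (mul_mem (inv_mem r.2) (hRT hx)) r.2
            simpa [mul_assoc] using this
          exact (hr ⟨x, hxT⟩).mpr hx
      obtain ⟨R', hQR', hR'N, hR', hidx'⟩ := exists_sylow_of
        (inf_le_right.trans (ZJ.normalizer_le_zj R) : Q ≤ _) (T.isPGroup'.to_le inf_le_left)
      have h1 := hmax R' ⟨_, hN, hsub M R hM hMi hRM hR hidx, hR'N, hR', hidx',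
        hP R R' (hRQ.le.trans hQR') hPR⟩
      have h2 : Nat.card R < Nat.card R' :=
        lt_of_lt_of_le (lt_of_le_of_ne (card_le_of_le hRQ.le) fun h =>
          hRQ.ne (eq_of_le_of_card_ge hRQ.le h.ge)) (card_le_of_le hQR')
      omega
    obtain ⟨g, -, x, -, hx1, hxk, hgx⟩ := hinv
    set U := pCore p G with hUdef
    haveI hUn : U.Normal := inferInstance
    have hUp : IsPGroup p U := isPGroup_pCore p G
    have hUT : ∀ T : Sylow p G, U ≤ (T : Subgroup G) := fun T => pCore_le_sylow T
    -- a normal `p`-subgroup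
    have hU1 : U ≠ ⊥ := by
      intro hU
      have hxz : IsPGroup p (zpowers x) := by
        intro y
        obtain ⟨k, hk⟩ := hxk
        obtain ⟨_, i, rfl⟩ := y
        refine ⟨k, Subtype.ext ?_⟩
        change (x ^ i) ^ p ^ k = 1
        rw [← zpow_natCast, zpow_comm, zpow_natCast, hk, one_zpow]
      have hN : normalizer (zpowers x : Set G) ≠ ⊤ := fun h => hx1 <| by
        haveI := normalizer_eq_top_iff.mp h
        have h' : zpowers x ≤ U := le_pCore hxz
        rw [hU] at h'
        exact mem_bot.mp (h' (mem_zpowers x))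
      have hxN : x ∈ normalizer (zpowers x : Set G) := le_normalizer (mem_zpowers x)
      have hgN : g ∈ normalizer (zpowers x : Set G) := by
        rw [mem_normalizer_iff_map_conj_eq, MonoidHom.map_zpowers]
        change zpowers (g * x * g⁻¹) = zpowers x
        rw [hgx, zpowers_inv]
      obtain ⟨R, -, hRN, hR, hidx⟩ := exists_sylow_of (bot_le : ⊥ ≤ normalizer (zpowers x : Set G))
        (IsPGroup.of_bot : IsPGroup p (⊥ : Subgroup G))
      obtain ⟨R', hR', hR'ne, -, hn'⟩ := climb (fun _ => True) (fun _ _ _ _ => trivial)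
        ⟨_, R, hN, ⟨g, hgN, x, hxN, hx1, hxk, hgx⟩, hRN, hR, hidx, trivial⟩
      haveI := hn'
      exact hzne R' hR' hR'ne (le_bot_iff.mp (hU ▸ le_pCore (hR'.to_le (ZJ.zj_le _ _))))
    -- no inversion modulo `U`
    have hquot : ¬ Inv p (⊤ : Subgroup (G ⧸ U)) := by
      intro hi
      have hlt : Nat.card (G ⧸ U) < Nat.card G := by
        have h1 := Subgroup.card_eq_card_quotient_mul_card_subgroup U
        have h2 : 1 < Nat.card U := (one_lt_card_iff_ne_bot U).mpr hU1
        have h3 : 0 < Nat.card (G ⧸ U) := Nat.card_pos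
        nlinarith
      set π := QuotientGroup.mk' U
      set Tb := T₀.mapSurjective (QuotientGroup.mk'_surjective U) with hTb
      have hiN := ih (G ⧸ U) (by omega) hi Tb
      set L := (normalizer (ZJ.zj 0 (Tb : Subgroup (G ⧸ U)) : Set (G ⧸ U))).comap π with hL
      have hTL : (T₀ : Subgroup G) ≤ L := fun t ht =>
        ZJ.le_normalizer_zj _ (mem_map_of_mem π ht)
      refine hover T₀ L hTL (fun h => ?_) (Inv.lift hp2 π L ?_)
      · rw [hL, ← comap_top π] at h
        have h' := comap_injective (QuotientGroup.mk'_surjective U) h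
        haveI := normalizer_eq_top_iff.mp h'
        have hle : ZJ.zj 0 (Tb : Subgroup (G ⧸ U)) ≤ pCore p (G ⧸ U) :=
          le_pCore (Tb.isPGroup'.to_le (ZJ.zj_le _ _))
        rw [pCore_quotient_pCore p G, le_bot_iff] at hle
        by_cases hTbot : (Tb : Subgroup (G ⧸ U)) = ⊥
        · obtain ⟨g', -, y, -, hy1, ⟨k, hk⟩, -⟩ := hi
          apply hy1
          have hyp : IsPGroup p (zpowers y) := by
            intro z
            obtain ⟨_, i, rfl⟩ := z
            refine ⟨k, Subtype.ext ?_⟩
            change (y ^ i) ^ p ^ k = 1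
            rw [← zpow_natCast, zpow_comm, zpow_natCast, hk, one_zpow]
          obtain ⟨S, hS⟩ := hyp.exists_le_sylow
          have hSb : (S : Subgroup (G ⧸ U)) = ⊥ := by
            rw [← card_eq_one, S.card_eq_multiplicity, ← Tb.card_eq_multiplicity, hTbot, card_bot]
          exact mem_bot.mp (hSb ▸ hS (mem_zpowers y))
        · exact ZJ.zj_ne_bot_aux Tb.isPGroup' (dvd_zero p) hTbot hle
      · rw [hL, map_comap_eq_self_of_surjective (QuotientGroup.mk'_surjective U)]
        exact hiN
    have hxU : x ∈ U := by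
      by_contra h
      refine hquot ⟨QuotientGroup.mk g, mem_top _, QuotientGroup.mk x, mem_top _,
        fun e => h ((QuotientGroup.eq_one_iff x).mp e), ?_, ?_⟩
      · obtain ⟨k, hk⟩ := hxk
        exact ⟨k, by rw [← QuotientGroup.mk_pow, hk, QuotientGroup.mk_one]⟩
      · rw [← QuotientGroup.mk_inv, ← QuotientGroup.mk_mul, ← QuotientGroup.mk_mul, hgx,
          QuotientGroup.mk_inv]
    obtain ⟨m, j, hm, hj⟩ := exists_odd_two_pow g
    have hgm : g ^ m ∉ centralizer (U : Set G) := fun h => hx1 <| eq_one_of_inv_eq_self hp2 hxk <| by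
      have h1 := pow_odd_conj hgx hm
      rwa [← mem_centralizer_iff.mp h x hxU, mul_inv_cancel_right] at h1
    set T := T₀
    set Z := ZJ.zj 0 (T : Subgroup G) with hZ
    have hNtop : normalizer (Z : Set G) ≠ ⊤ := fun h => hno T <| by
      rw [h]; exact ⟨g, mem_top _, x, mem_top _, hx1, hxk, hgx⟩
    haveI : (centralizer (U : Set G)).Normal := inferInstance
    -- some element of the family is bad
    have hbad : ¬ ∀ (B : Subgroup G) [B.Normal], IsPGroup p B → ∀ A ∈ ZJ.fam 0 (T : Subgroup G), ∀ a ∈ A,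
        ⁅⁅B, zpowers a⁆, zpowers a⁆ = ⊥ →
        QuotientGroup.mk' (centralizer (B : Set G)) a ∈ pCore p (G ⧸ centralizer (B : Set G)) := by
      intro hst
      -- `Z ≤ U`
      set C := centralizer (U : Set G) with hC
      set M := (pCore p (G ⧸ C)).comap (QuotientGroup.mk' C) with hM
      haveI : M.Normal := inferInstance
      have hCM : C ≤ M := fun c hc => by
        rw [hM, mem_comap, QuotientGroup.mk'_apply, (QuotientGroup.eq_one_iff c).mpr hc]
        exact one_mem _
      have hMU : (T : Subgroup G) ⊓ M ≤ U := by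
        have htn : normalizer (((T : Subgroup G) ⊓ M : Subgroup G) : Set G) = ⊤ := by
          by_contra hne
          have hTle : (T : Subgroup G) ≤ normalizer (((T : Subgroup G) ⊓ M : Subgroup G) : Set G) := by
            intro t ht
            rw [mem_normalizer_iff_map_conj_eq, map_inf_eq _ _ _ (MulAut.conj t).injective,
              mem_normalizer_iff_map_conj_eq.mp (le_normalizer ht),
              mem_normalizer_iff_map_conj_eq.mp
                (show t ∈ normalizer (M : Set G) by rw [normalizer_eq_top]; trivial)]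
          refine hover T _ hTle hne ?_
          obtain ⟨PC, hPC⟩ := ZJ.exists_sylow_inf T M
          have hfr := Sylow.normalizer_sup_eq_top PC
          rw [hPC] at hfr
          obtain ⟨k, hk, mm, hmm, hkm⟩ := mem_sup_of_normal_right.mp (hfr.ge (mem_top g))
          obtain ⟨t, ht, htm⟩ := pCore_le_sylow (T.mapSurjective (QuotientGroup.mk'_surjective C)) hmm
          have hc : mm * t⁻¹ ∈ C := by
            rw [← QuotientGroup.eq_one_iff (N := C)]
            change QuotientGroup.mk' C (mm * t⁻¹) = 1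
            rw [map_mul, map_inv, htm, mul_inv_cancel]
          set c' := k * (mm * t⁻¹) * k⁻¹ with hc'
          have hc'C : c' ∈ C := (inferInstance : C.Normal).conj_mem _ hc k
          have hgk : g = c' * (k * t) := by rw [← hkm, hc']; group
          have hxx : (k * t) * x * (k * t)⁻¹ = x⁻¹ := by
            have h2 := hgx
            rw [hgk, show c' * (k * t) * x * (c' * (k * t))⁻¹ = c' * ((k * t) * x * (k * t)⁻¹) * c'⁻¹ by group]
              at h2
            calc (k * t) * x * (k * t)⁻¹
                = c'⁻¹ * (c' * ((k * t) * x * (k * t)⁻¹) * c'⁻¹) * c' := by group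
              _ = c'⁻¹ * x⁻¹ * c' := by rw [h2]
              _ = x⁻¹ := by rw [mul_assoc, mem_centralizer_iff.mp hc'C _ (inv_mem hxU), inv_mul_cancel_left]
          exact ⟨k * t, mul_mem hk (hTle ht), x, hTle (hUT T hxU), hx1, hxk, hxx⟩
        haveI := normalizer_eq_top_iff.mp htn
        exact le_pCore (T.isPGroup'.to_le inf_le_left)
      obtain ⟨A₀, hA₀⟩ := ZJ.exists_fam 0 (T : Subgroup G)
      have hZU : Z ≤ U := by
        intro z hz
        refine hMU ⟨ZJ.zj_le _ _ hz, hst U hUp A₀ hA₀ z (ZJ.zj_le_mem hA₀ hz) ?_⟩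
        refine le_bot_iff.mp ((commutator_mono (commutator_mono le_rfl (zpowers_le.mpr hz))
          (zpowers_le.mpr hz)).trans (le_of_eq ?_))
        refine commutator_eq_bot_iff_le_centralizer.mpr ((commutator_le.mpr ?_ : ⁅U, Z⁆ ≤ Z).trans
          fun y hy => mem_centralizer_iff.mpr fun w hw => ZJ.zj_comm _ hw hy)
        intro y hy w hw
        rw [commutatorElement_def]
        exact mul_mem ((mem_normalizer_iff.mp (ZJ.le_normalizer_zj _ (hUT T hy)) w).mp hw) (inv_mem hw)
      apply hNtop
      rw [normalizer_eq_top_iff]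
      have h := ZJ.inf_zj_normal' (e := 0) hp2 T (fun B hBn hB A hA hq => by
        haveI := hBn
        rw [map_le_iff_le_comap]
        intro a ha
        refine hst B hB A hA a ha (le_bot_iff.mp ?_)
        rw [← hq]
        exact commutator_mono (commutator_mono le_rfl (zpowers_le.mpr ha)) (zpowers_le.mpr ha))
        _ U le_rfl hUn hUp
      rwa [inf_eq_right.mpr hZU] at h
    push Not at hbad
    obtain ⟨B, hBn, hB, A, hA, a, haA, hq, hna⟩ := hbad
    haveI := hBn
    -- an elementary layer
    obtain ⟨V, _, _, hexp, ψ, hker, hqa, hψ⟩ : ∃ (V : Type u) (_ : CommGroup V) (_ : Finite V),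
        (∀ v : V, v ^ p = 1) ∧ ∃ ψ : G →* MulAut V, centralizer (B : Set G) ≤ ψ.ker ∧ Quad.QuadAct ψ a ∧
          ψ.rangeRestrict a ∉ pCore p ψ.range := by
      by_contra hcon
      refine hna (Quad.mk_mem_pCore' hB MulAut.conjNormal _ (Quad.ker_conjNormal B).le
        (Quad.quadGrp_conjNormal B hq) fun {V} _ _ hexp ψ hk hqa => ?_)
      by_contra hne
      exact hcon ⟨V, inferInstance, inferInstance, hexp, ψ, (Quad.ker_conjNormal B).ge.trans hk, hqa, hne⟩
    obtain ⟨R, t', hR, haR, htR, ht1, ⟨e, hte⟩⟩ := exists_two_element hp2 hexp ψ.range.subtype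
      ψ.range.subtype_injective (a := ψ.rangeRestrict a) hqa hψ
    obtain ⟨t, rfl⟩ := ψ.rangeRestrict_surjective t'
    set rR := ψ.rangeRestrict
    haveI hUr : (U.map rR).Normal := hUn.map _ ψ.rangeRestrict_surjective
    have hUr' : U.map rR ≤ pCore p ψ.range := le_pCore (hUp.map _)
    have haU : a ∉ U := fun h => hψ (hUr' (mem_map_of_mem _ h))
    set K := ψ.ker ⊔ U with hK
    set πK := QuotientGroup.mk' K
    have hKinv : ¬ Inv p (⊤ : Subgroup (G ⧸ K)) := by
      intro h
      let f : G ⧸ U →* G ⧸ K := QuotientGroup.map U K (MonoidHom.id G) (le_sup_right : U ≤ K)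
      refine hquot (Inv.lift hp2 f ⊤ ?_)
      rw [map_top_of_surjective f fun y => ?_]
      · exact h
      · obtain ⟨y', rfl⟩ := QuotientGroup.mk_surjective y
        exact ⟨QuotientGroup.mk y', rfl⟩
    set R₁ := R.comap rR
    have hS : IsPGroup p (R₁.map πK) := by
      rintro ⟨_, r, hr, rfl⟩
      obtain ⟨k, hk⟩ := hR ⟨rR r, hr⟩
      refine ⟨k, Subtype.ext ?_⟩
      change (πK r) ^ p ^ k = 1
      rw [← map_pow]
      refine (QuotientGroup.eq_one_iff _).mpr (mem_sup_left (MonoidHom.mem_ker.mpr ?_))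
      have h1 := congrArg (fun w : R => ((w : ψ.range) : MulAut V)) hk
      simpa [rR] using h1
    have htS : πK t ∈ normalizer (R₁.map πK : Set (G ⧸ K)) :=
      le_normalizer_map πK ⟨t, le_normalizer_comap rR htR, rfl⟩
    have hcomm : Commute (πK t) (πK a) := by
      by_contra hne
      refine hKinv (inv_of_action le_top hS (mem_top (πK t)) htS (k := e) ?_ fun hc => hne ?_)
      · rw [← map_pow, show πK (t ^ 2 ^ e) = 1 from (QuotientGroup.eq_one_iff _).mpr
          (mem_sup_left (MonoidHom.mem_ker.mpr (by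
            have h1 := congrArg Subtype.val hte
            simpa [rR] using h1)))]
        exact one_mem _
      · exact (mem_centralizer_iff.mp hc (πK a) (mem_map_of_mem πK haR)).symm
    -- the proper subgroup
    set M := (centralizer ({πK a} : Set (G ⧸ K))).comap πK with hM
    have hmemM : ∀ y : G, Commute (πK y) (πK a) → y ∈ M := fun y hy => by
      rw [hM, mem_comap, mem_centralizer_singleton_iff]; exact hy.eq
    have hUM : U ≤ M := fun y hy => hmemM y (by
      rw [show πK y = 1 from (QuotientGroup.eq_one_iff y).mpr (mem_sup_right hy)]; exact Commute.one_left _)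
    have hAM : A ≤ M := fun y hy => hmemM y (by
      change πK y * πK a = πK a * πK y
      rw [← map_mul, ← map_mul, hA.2.1.comm hy haA])
    have hMtop : M ≠ ⊤ := by
      intro h
      have hc : ∀ y : G, Commute (πK y) (πK a) := fun y => by
        have h1 := (h.ge (mem_top y) : y ∈ M)
        rwa [hM, mem_comap, mem_centralizer_singleton_iff] at h1
      set X := zpowers (rR a) ⊔ U.map rR with hX
      have hap : IsPGroup p (zpowers (rR a)) := isPGroup_of_elemAbelian (elemAbelian_zpowers
        ((show Quad.QuadAct ψ.range.subtype (rR a) from hqa).pow_prime hexp ψ.range.subtype_injective))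
      have hXn : X.Normal := by
        refine ⟨fun y hy u => ?_⟩
        obtain ⟨u, rfl⟩ := ψ.rangeRestrict_surjective u
        have hau : rR u * rR a * (rR u)⁻¹ ∈ X := by
          have h1 : (u * a * u⁻¹) * a⁻¹ ∈ K := by
            rw [← QuotientGroup.eq_one_iff]
            change πK ((u * a * u⁻¹) * a⁻¹) = 1
            rw [map_mul, map_mul, map_mul, map_inv, map_inv, (hc u).eq, mul_inv_cancel_right, mul_inv_cancel]
          rw [hK, mem_sup_of_normal_left] at h1
          obtain ⟨k, hk, v, hv, hkv⟩ := h1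
          have h2 : rR u * rR a * (rR u)⁻¹ = rR v * rR a := by
            have h3 := congrArg rR hkv
            rw [map_mul, map_mul, map_mul, map_mul, map_inv, map_inv,
              show rR k = 1 from Subtype.ext (MonoidHom.mem_ker.mp hk), one_mul] at h3
            rw [h3, inv_mul_cancel_right]
          rw [h2]
          exact X.mul_mem (mem_sup_right (mem_map_of_mem _ hv)) (mem_sup_left (mem_zpowers _))
        have hle : X ≤ X.comap (MulAut.conj (rR u)).toMonoidHom :=
          sup_le (zpowers_le.mpr hau) fun z hz => mem_sup_right (hUr.conj_mem z hz _)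
        exact hle hy
      exact hψ (le_pCore (hap.to_sup_of_normal_right (hUp.map rR)) (mem_sup_left (mem_zpowers _)))
    have hMi : Inv p M := by
      obtain ⟨m', j', hm', hj'⟩ := exists_odd_two_pow t
      refine inv_of_action (P := B) ((le_pCore hB).trans hUM) hB (M.pow_mem (hmemM t hcomm) m')
        (by rw [normalizer_eq_top]; trivial) (k := j') (by rw [hj']; exact one_mem _) fun h => ht1 ?_
      have h1 : rR t ^ m' = 1 := by rw [← map_pow]; exact Subtype.ext (MonoidHom.mem_ker.mp (hker h))
      have hcop : Nat.Coprime (2 ^ e) m' := (Nat.coprime_two_left.mpr hm').pow_left e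
      exact orderOf_eq_one_iff.mp (Nat.dvd_one.mp (hcop ▸
        Nat.dvd_gcd (orderOf_dvd_of_pow_eq_one hte) (orderOf_dvd_of_pow_eq_one h1)))
    -- climbing
    let P : Subgroup G → Prop := fun R => ∃ A' : Subgroup G, A' ≤ R ∧ ¬ A' ≤ U ∧ IsMulCommutative A' ∧
      ∀ X : Subgroup G, IsPGroup p X → IsMulCommutative X → Nat.card X ≤ Nat.card A'
    obtain ⟨R0, hAR0, hR0M, hR0, hidx0⟩ := exists_sylow_of hAM (T.isPGroup'.to_le hA.1)
    have hPA : P R0 := ⟨A, hAR0, fun h => haU (h haA), hA.2.1.1, fun X hX hXc => by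
      obtain ⟨S, hS⟩ := hX.exists_le_sylow
      obtain ⟨y, hy⟩ := MulAction.exists_smul_eq G S T
      haveI := hXc
      rw [← card_map_of_injective (show Function.Injective (MulAut.conj y).toMonoidHom from (MulAut.conj y).injective) (K := X)]
      refine hA.2.2 _ ?_ ⟨map_isMulCommutative _ _, fun _ _ => pow_zero _⟩
      rw [← hy]
      exact map_mono hS⟩
    obtain ⟨R', hR', -, ⟨A', hA'R, hA'U, hA'c, hA'max⟩, hVn⟩ := climb P
      (fun R R' h ⟨A', h1, h2⟩ => ⟨A', h1.trans h, h2⟩) ⟨M, R0, hMtop, hMi, hR0M, hR0, hidx0, hPA⟩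
    obtain ⟨T', hRT'⟩ := hR'.exists_le_sylow
    have hA'fam : A' ∈ ZJ.fam 0 (T' : Subgroup G) := ⟨hA'R.trans hRT', ⟨hA'c, fun a _ => pow_zero a⟩,
      fun X hX hXa => hA'max X (T'.isPGroup'.to_le hX) hXa.1⟩
    set V₁ := ZJ.zj 0 R' with hV₁
    haveI := hVn
    have hzle : ZJ.zj 0 (T' : Subgroup G) ≤ V₁ := ZJ.zj_mono hRT' hA'fam hA'R
    have hV1p : IsPGroup p V₁ := hR'.to_le (ZJ.zj_le _ _)
    have hV1A : V₁ ≤ A' := ZJ.zj_le_mem (by rw [ZJ.fam_eq_of_le hRT' hA'fam hA'R]; exact ⟨hA'fam, hA'R⟩)
    haveI : (centralizer (V₁ : Set G)).Normal := inferInstance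
    by_cases hc : g ^ m ∈ centralizer (V₁ : Set G)
    · -- everything happens in the centralizer
      refine hno T' ⟨g ^ m, ?_, x, ZJ.le_normalizer_zj _ (hUT T' hxU), hx1, hxk, pow_odd_conj hgx hm⟩
      exact centralizer_le_normalizer _ (centralizer_le hzle hc)
    · have hi := inv_normalizer_of_action T' (centralizer (V₁ : Set G)) V₁ le_rfl hV1p hVn
        ((ZJ.zj_le _ _).trans hRT') (j := j) (by rw [hj]; exact one_mem _) hc
      have hTle : (T' : Subgroup G) ≤
          normalizer (((T' : Subgroup G) ⊓ centralizer (V₁ : Set G) : Subgroup G) : Set G) := by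
        intro t ht
        rw [mem_normalizer_iff_map_conj_eq, map_inf_eq _ _ _ (MulAut.conj t).injective,
          mem_normalizer_iff_map_conj_eq.mp (le_normalizer ht),
          mem_normalizer_iff_map_conj_eq.mp
            (show t ∈ normalizer (centralizer (V₁ : Set G) : Set G) by rw [normalizer_eq_top]; trivial)]
      by_cases htn : normalizer (((T' : Subgroup G) ⊓ centralizer (V₁ : Set G) : Subgroup G) : Set G) = ⊤
      · haveI := normalizer_eq_top_iff.mp htn
        exact hA'U fun y hy => le_pCore (T'.isPGroup'.to_le inf_le_left)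
          ⟨hA'fam.1 hy, mem_centralizer_iff.mpr fun v hv => hA'fam.2.1.comm (hV1A hv) hy⟩
      · exact hover T' _ hTle htn hi

/-- If no odd Sylow subgroup has an inverted element in `N(Z(J(T)))`, the Sylow `2`-subgroup is normal. -/
theorem normal_sylow_two_of_not_inv {G : Type u} [Group G] [Finite G]
    (h : ∀ (q : ℕ) [Fact q.Prime], q ≠ 2 → ¬ Inv q (⊤ : Subgroup G)) (P : Sylow 2 G) :
    (P : Subgroup G).Normal := by
  haveI : Fact (Nat.Prime 2) := ⟨Nat.prime_two⟩
  classical
  set U := pCore 2 G with hU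
  set π := QuotientGroup.mk' U
  have hπs : Function.Surjective π := QuotientGroup.mk'_surjective U
  suffices hb : ((P.mapSurjective hπs : Sylow 2 (G ⧸ U)) : Subgroup (G ⧸ U)) = ⊥ by
    have hle : (P : Subgroup G) ≤ U := fun y hy => by
      have h1 := mem_map_of_mem π hy
      rw [← Sylow.coe_mapSurjective hπs, hb, mem_bot] at h1
      exact (QuotientGroup.eq_one_iff y).mp h1
    rw [show (P : Subgroup G) = U from le_antisymm hle (pCore_le_sylow P)]
    infer_instance
  set S := P.mapSurjective hπs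
  by_contra hne
  obtain ⟨k, hk⟩ := IsPGroup.iff_card.mp S.isPGroup'
  have hdvd : 2 ∣ Nat.card (S : Subgroup (G ⧸ U)) := by
    rw [hk]
    refine dvd_pow_self 2 fun h0 => hne ?_
    rw [← card_eq_one, hk, h0, pow_zero]
  obtain ⟨s, hs⟩ := exists_prime_orderOf_dvd_card' 2 hdvd
  set t : G ⧸ U := (s : G ⧸ U) with ht
  have ht2 : t * t = 1 := by
    have h1 := congrArg (fun w : (S : Subgroup (G ⧸ U)) => (w : G ⧸ U)) (pow_orderOf_eq_one s)
    rw [hs] at h1
    simpa [pow_two, ht] using h1
  have ht1 : t ≠ 1 := fun e => by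
    rw [show s = 1 from Subtype.ext e, orderOf_one] at hs
    exact absurd hs (by norm_num)
  obtain ⟨y, hy⟩ : ∃ y : G ⧸ U, ¬ IsPGroup 2 ↥(zpowers t ⊔ MulAut.conj y • zpowers t) := by
    by_contra hall
    push Not at hall
    obtain ⟨N, hN, hNp, htN⟩ := Inv.baerSuzuki (zpowers t)
      (S.isPGroup'.to_le (zpowers_le.mpr s.2)) hall
    have h1 := le_pCore hNp (htN (mem_zpowers t))
    rw [pCore_quotient_pCore 2 G, mem_bot] at h1
    exact ht1 h1
  set t' := y * t * y⁻¹ with ht'
  set z := t * t' with hz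
  have ht'2 : t' * t' = 1 := by rw [ht', show y * t * y⁻¹ * (y * t * y⁻¹) = y * (t * t) * y⁻¹ by group,
    ht2, mul_one, mul_inv_cancel]
  have htz : t * z * t⁻¹ = z⁻¹ := by
    rw [hz, inv_eq_of_mul_eq_one_right ht2, mul_inv_rev, inv_eq_of_mul_eq_one_right ht2,
      inv_eq_of_mul_eq_one_right ht'2, ← mul_assoc, ht2, one_mul]
  obtain ⟨q, hq, hqd, hq2⟩ : ∃ q : ℕ, q.Prime ∧ q ∣ orderOf z ∧ q ≠ 2 := by
    by_contra hno
    push Not at hno
    apply hy
    have hzp : IsPGroup 2 (zpowers z) := by
      refine IsPGroup.of_card (n := (orderOf z).primeFactorsList.length) ?_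
      rw [Nat.card_zpowers]
      exact Nat.eq_prime_pow_of_unique_prime_dvd (orderOf_pos z).ne' fun {d} hd hdd => hno d hd hdd
    have htp : IsPGroup 2 (zpowers t) := S.isPGroup'.to_le (zpowers_le.mpr s.2)
    have htn : zpowers t ≤ normalizer (zpowers z : Set (G ⧸ U)) := by
      rw [zpowers_le, mem_normalizer_iff_map_conj_eq, MonoidHom.map_zpowers]
      change zpowers (t * z * t⁻¹) = zpowers z
      rw [htz, zpowers_inv]
    refine (htp.to_sup_of_normal_right' hzp htn).to_le (sup_le le_sup_left ?_)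
    rintro w ⟨u, ⟨i, rfl⟩, rfl⟩
    have htt : t' ∈ zpowers t ⊔ zpowers z := by
      have : t' = t * z := by rw [hz, ← mul_assoc, ht2, one_mul]
      rw [this]
      exact mul_mem (mem_sup_left (mem_zpowers t)) (mem_sup_right (mem_zpowers z))
    simpa [MulAut.smul_def, ht'] using zpow_mem htt i
  haveI : Fact q.Prime := ⟨hq⟩
  apply h q hq2
  refine Inv.lift hq2 π ⊤ ?_
  rw [map_top_of_surjective π hπs]
  obtain ⟨d, hd⟩ := hqd
  refine ⟨t, mem_top _, z ^ d, mem_top _, fun e => ?_, ⟨1, by rw [pow_one, ← pow_mul, mul_comm, ← hd, pow_orderOf_eq_one]⟩, ?_⟩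
  · have h1 := Nat.le_of_dvd ?_ (orderOf_dvd_of_pow_eq_one e)
    · rw [hd] at h1
      have hd0 : 0 < d := by
        rcases Nat.eq_zero_or_pos d with h0 | h0
        · rw [h0, mul_zero] at hd; exact absurd hd (orderOf_pos z).ne'
        · exact h0
      have := hq.two_le
      nlinarith
    · rcases Nat.eq_zero_or_pos d with h0 | h0
      · rw [h0, mul_zero] at hd; exact absurd hd (orderOf_pos z).ne'
      · exact h0
  · rw [← conj_pow, htz, inv_pow]

end Cfsg.Agent.Solv.Real
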