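import Cfsg.Agent.Lib.Char.Zassenhaus

/-!
# Normal subgroups of Zassenhaus groups
-/

set_option autoImplicit false

namespace Cfsg.Agent.Solv.ZassNormal

open scoped Pointwise

open Cfsg
open Cfsg.Agent.Char

variable {G Ω : Type*} [Group G] [MulAction G Ω]

theorem finite_of_zass [Finite Ω] (hZ : Cfsg.IsZassenhausGroup G Ω) : Finite G := by
  haveI := hZ.1
  exact Finite.of_injective (fun g : G => fun x : Ω => g • x) fun g h e => FaithfulSMul.eq_of_smul_eq_smul (congrFun e)

variable [Finite G] [Fintype Ω]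

theorem three_le (hZ : Cfsg.IsZassenhausGroup G Ω) : 3 ≤ Fintype.card Ω := by
  classical
  haveI := hZ.1
  obtain ⟨g, hg, a, b, hab, hga, hgb⟩ := hZ.2.2.2.1
  by_contra h
  refine hg (FaithfulSMul.eq_of_smul_eq_smul fun c : Ω => ?_)
  rw [one_smul]
  by_contra hc
  have hca : c ≠ a := fun e => hc (e ▸ hga)
  have hcb : c ≠ b := fun e => hc (e ▸ hgb)
  have h3 : ({a, b, c} : Finset Ω).card = 3 := by
    rw [Finset.card_insert_of_notMem (by simp [hab, hca.symm]), Finset.card_pair hcb.symm]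
  have := ({a, b, c} : Finset Ω).card_le_univ
  omega

/-- A nontrivial normal subgroup is transitive and contains an element fixing two given points. -/
theorem exists_fix_two (hZ : Cfsg.IsZassenhausGroup G Ω) (N : Subgroup G) [N.Normal] (hN : N ≠ ⊥) :
    MulAction.IsPretransitive N Ω ∧
      ∀ a b : Ω, a ≠ b → ∃ x ∈ N, x ≠ 1 ∧ x • a = a ∧ x • b = b := by
  classical
  haveI := hZ.1
  haveI := hZ.2.1
  haveI : MulAction.IsPreprimitive G Ω :=
    MulAction.isPreprimitive_of_is_two_pretransitive hZ.2.1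
  have hfix : MulAction.fixedPoints N Ω ≠ Set.univ := by
    intro h
    refine hN ((Subgroup.eq_bot_iff_forall _).mpr fun g hg => FaithfulSMul.eq_of_smul_eq_smul fun a : Ω => ?_)
    rw [one_smul]
    exact (h.ge (Set.mem_univ a) : a ∈ MulAction.fixedPoints N Ω) ⟨g, hg⟩
  haveI hNt : MulAction.IsPretransitive N Ω :=
    MulAction.IsQuasiPreprimitive.isPretransitive_of_normal hfix
  refine ⟨hNt, ?_⟩
  suffices h : ∃ x ∈ N, x ≠ 1 ∧ ∃ a b : Ω, a ≠ b ∧ x • a = a ∧ x • b = b by
    obtain ⟨x, hxN, hx1, a₀, b₀, hab₀, hxa, hxb⟩ := h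
    intro a b hab
    obtain ⟨g, hga, hgb⟩ := Zass.exists_move hZ hab₀ hab
    refine ⟨g * x * g⁻¹, (inferInstance : N.Normal).conj_mem x hxN g,
      fun e => hx1 (conj_eq_one_iff.mp e), ?_, ?_⟩
    · rw [mul_smul, mul_smul, inv_smul_eq_iff.mpr hga.symm, hxa, hga]
    · rw [mul_smul, mul_smul, inv_smul_eq_iff.mpr hgb.symm, hxb, hgb]
  by_contra hno
  push Not at hno
  obtain ⟨a, ha⟩ := hZ.2.2.2.2 N inferInstance hNt
  let H := MulAction.stabilizer N a
  have hone : ∀ x : N, x ≠ 1 → ∀ c d : Ω, x • c = c → x • d = d → c = d := fun x hx c d hc hd => by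
    by_contra hcd
    exact hno x x.2 (fun e => hx (Subtype.ext e)) c d hcd hc hd
  have h3 := three_le hZ
  have hHtop : H ≠ ⊤ := by
    intro h
    obtain ⟨b, hb⟩ := Fintype.exists_ne_of_one_lt_card (α := Ω) (by omega) a
    obtain ⟨g, hg⟩ := MulAction.exists_smul_eq N a b
    exact hb (hg.symm.trans (MulAction.mem_stabilizer_iff.mp (h.ge (Subgroup.mem_top g))))
  have hFr : IsFrobeniusComplement H := by
    refine ⟨ha, hHtop, fun g hg => ?_⟩
    rw [Subgroup.eq_bot_iff_forall]
    rintro x ⟨hx, hx'⟩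
    replace hx' : x ∈ MulAut.conj g • H := hx'
    rw [Cfsg.Agent.Struct.Frobenius.mem_conj_smul] at hx'
    by_contra hx1
    apply hg
    have h1 : x • (g • a) = g • a := by
      have := MulAction.mem_stabilizer_iff.mp hx'
      rwa [mul_smul, mul_smul, inv_smul_eq_iff] at this
    exact MulAction.mem_stabilizer_iff.mpr (hone x hx1 _ _ h1 (MulAction.mem_stabilizer_iff.mp hx))
  obtain ⟨M, hMset, -, hMc⟩ := Cfsg.Agent.Struct.Frobenius.exists_kernel hFr
  have hMmem : ∀ x : N, x ∈ M ↔ (x = 1 ∨ ∀ c : Ω, x • c ≠ c) := by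
    intro x
    rw [← SetLike.mem_coe, hMset]
    constructor
    · rintro (h | h)
      · exact Or.inl h
      · right
        intro c hc
        obtain ⟨g, rfl⟩ := MulAction.exists_smul_eq N a c
        apply h g
        rw [Cfsg.Agent.Struct.Frobenius.mem_conj_smul]
        refine MulAction.mem_stabilizer_iff.mpr ?_
        rw [mul_smul, mul_smul, hc, inv_smul_smul]
    · rintro (h | h)
      · exact Or.inl h
      · right
        intro g hgx
        rw [Cfsg.Agent.Struct.Frobenius.mem_conj_smul] at hgx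
        have := MulAction.mem_stabilizer_iff.mp hgx
        rw [mul_smul, mul_smul, inv_smul_eq_iff] at this
        exact h _ this
  have hM' : (M.map N.subtype).Normal := ⟨by
    rintro _ ⟨m, hm, rfl⟩ g
    refine ⟨⟨g * m * g⁻¹, (inferInstance : N.Normal).conj_mem m m.2 g⟩, ?_, rfl⟩
    refine (hMmem _).mpr ?_
    rcases (hMmem m).mp hm with h | h
    · left; subst h; exact Subtype.ext (by simp)
    · right
      intro c hc
      refine h (g⁻¹ • c) ?_
      change (g * (m : G) * g⁻¹) • c = c at hc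
      show (m : G) • g⁻¹ • c = g⁻¹ • c
      rw [eq_inv_smul_iff, ← mul_smul, ← mul_smul]
      exact hc⟩
  have hMt : MulAction.IsPretransitive (M.map N.subtype) Ω := by
    have key : ∀ c : Ω, ∃ u : (M.map N.subtype), u • a = c := fun c => by
      obtain ⟨g, hg⟩ := MulAction.exists_smul_eq N a c
      obtain ⟨⟨⟨m, hm⟩, ⟨h, hh⟩⟩, hmh⟩ := hMc.2 g
      refine ⟨⟨(m : G), ⟨m, hm, rfl⟩⟩, ?_⟩
      rw [← hg, ← hmh]
      show (m : G) • a = ((m : G) * (h : G)) • a
      rw [mul_smul, show (h : G) • a = a from MulAction.mem_stabilizer_iff.mp hh]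
    refine MulAction.IsPretransitive.mk fun x y => ?_
    obtain ⟨u, hu⟩ := key x
    obtain ⟨v, hv⟩ := key y
    exact ⟨v * u⁻¹, by rw [mul_smul, ← hu, inv_smul_smul, hv]⟩
  obtain ⟨c, hc⟩ := hZ.2.2.2.2 (M.map N.subtype) hM' hMt
  refine hc ((Subgroup.eq_bot_iff_forall _).mpr ?_)
  rintro ⟨_, m, hm, rfl⟩ hx
  rcases (hMmem m).mp hm with h | h
  · subst h; rfl
  · exact absurd (MulAction.mem_stabilizer_iff.mp hx) (h c)

/-- A nontrivial normal subgroup contains the kernels of the point stabilisers. -/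
theorem kernel_le (hZ : Cfsg.IsZassenhausGroup G Ω) (N : Subgroup G) [N.Normal] (hN : N ≠ ⊥)
    {a b : Ω} (hab : a ≠ b) (H : Subgroup G) (hHa : H ≤ MulAction.stabilizer G a)
    (hHcard : Nat.card H + 1 = Fintype.card Ω)
    (hHfix : ∀ u ∈ H, u ≠ 1 → ∀ c : Ω, u • c = c → c = a) : H ≤ N := by
  classical
  obtain ⟨x, hxN, hx1, hxa, hxb⟩ := (exists_fix_two hZ N hN).2 a b hab
  have hn := three_le hZ
  let f : H → H := fun u => ⟨u * x * (u : G)⁻¹ * x⁻¹, by
    have h := H.mul_mem u.2 (Zass.conj_mem_kernel hZ hab H hHa hHcard hHfix hn hxa (H.inv_mem u.2))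
    rwa [← mul_assoc, ← mul_assoc] at h⟩
  have hinj : Function.Injective f := by
    intro u v e
    have e1 : (u : G) * x * (u : G)⁻¹ = (v : G) * x * (v : G)⁻¹ :=
      mul_right_cancel (congrArg Subtype.val e)
    have e2 : ((v : G)⁻¹ * u) * x = x * ((v : G)⁻¹ * u) := by
      calc ((v : G)⁻¹ * u) * x = (v : G)⁻¹ * ((u : G) * x * (u : G)⁻¹) * u := by group
        _ = _ := by rw [e1]; group
    have h2 : x • (((v : G)⁻¹ * u) • b) = ((v : G)⁻¹ * u) • b := by
      rw [← mul_smul, ← e2, mul_smul, hxb]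
    have hwa : ((v : G)⁻¹ * u) • a = a :=
      MulAction.mem_stabilizer_iff.mp (hHa (H.mul_mem (H.inv_mem v.2) u.2))
    have hwb : ((v : G)⁻¹ * u) • b = b := by
      rcases Zass.only_two hZ hab (Zass.mem_two.mpr ⟨hxa, hxb⟩) hx1 h2 with h | h
      · exact absurd (MulAction.injective _ (h.trans hwa.symm)) hab.symm
      · exact h
    by_contra huv
    refine hab.symm (hHfix _ (H.mul_mem (H.inv_mem v.2) u.2) (fun e' => huv ?_) b hwb)
    exact Subtype.ext (inv_mul_eq_one.mp e').symm
  intro w hw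
  obtain ⟨u, hu⟩ := Finite.surjective_of_injective hinj ⟨w, hw⟩
  rw [← show (u : G) * x * (u : G)⁻¹ * x⁻¹ = w from congrArg Subtype.val hu]
  exact N.mul_mem ((inferInstance : N.Normal).conj_mem x hxN u) (N.inv_mem hxN)

theorem two_pretransitive (hZ : Cfsg.IsZassenhausGroup G Ω) (N : Subgroup G) [N.Normal] (hN : N ≠ ⊥) :
    MulAction.IsMultiplyPretransitive N Ω 2 := by
  classical
  have hn := three_le hZ
  haveI := (exists_fix_two hZ N hN).1
  refine MulAction.is_two_pretransitive_iff.mpr fun {a b c d} hab hcd => ?_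
  obtain ⟨g, hg⟩ := MulAction.exists_smul_eq N a c
  obtain ⟨H, hHa, hHcard, hHfix⟩ := Zass.exists_kernel hZ hcd hn
  have hle := kernel_le hZ N hN hcd H hHa hHcard hHfix
  have hgb : g • b ≠ c := fun e => hab (MulAction.injective g (hg.trans e.symm))
  let F : H → {e : Ω // e ≠ c} := fun u => ⟨(u : G) • (g • b), fun e => hgb (by
    have h1 : (u : G) • c = c := MulAction.mem_stabilizer_iff.mp (hHa u.2)
    exact MulAction.injective (u : G) (e.trans h1.symm))⟩
  have hF : Function.Injective F := by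
    intro u v e
    have e1 : ((v : G)⁻¹ * u) • (g • b) = g • b := by
      rw [mul_smul, inv_smul_eq_iff]; exact congrArg Subtype.val e
    by_contra huv
    refine hgb (hHfix _ (H.mul_mem (H.inv_mem v.2) u.2) (fun e' => huv ?_) _ e1)
    exact Subtype.ext (inv_mul_eq_one.mp e').symm
  have hcard : Nat.card {e : Ω // e ≠ c} = Nat.card H := by
    rw [Nat.card_eq_fintype_card, Fintype.card_subtype_compl, Fintype.card_subtype_eq]
    omega
  obtain ⟨u, hu⟩ := ((Nat.bijective_iff_injective_and_card F).mpr ⟨hF, hcard.symm⟩).2 ⟨d, hcd.symm⟩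
  refine ⟨⟨u, hle u.2⟩ * g, ?_, ?_⟩
  · rw [mul_smul, hg]
    exact MulAction.mem_stabilizer_iff.mp (hHa u.2)
  · rw [mul_smul]
    exact congrArg Subtype.val hu

/-- A nontrivial normal subgroup is a Zassenhaus group. -/
theorem zassenhaus (hZ : Cfsg.IsZassenhausGroup G Ω) (N : Subgroup G) [N.Normal] (hN : N ≠ ⊥) :
    Cfsg.IsZassenhausGroup N Ω := by
  classical
  haveI := hZ.1
  have hn := three_le hZ
  obtain ⟨hNt, hNfix⟩ := exists_fix_two hZ N hN
  haveI := hNt
  have h2 := two_pretransitive hZ N hN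
  haveI := h2
  haveI : MulAction.IsPreprimitive N Ω := MulAction.isPreprimitive_of_is_two_pretransitive h2
  obtain ⟨a, b, hab⟩ : ∃ a b : Ω, a ≠ b :=
    Fintype.exists_pair_of_one_lt_card (by omega)
  refine ⟨inferInstance, h2, fun g x y z h1 h3 h4 hx hy hz => Subtype.ext (hZ.2.2.1 g x y z h1 h3 h4 hx hy hz),
    ?_, ?_⟩
  · obtain ⟨x, hxN, hx1, hxa, hxb⟩ := hNfix a b hab
    exact ⟨⟨x, hxN⟩, fun e => hx1 (congrArg Subtype.val e), a, b, hab, hxa, hxb⟩
  intro M hMn hMt
  haveI := hMt
  by_contra hreg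
  push Not at hreg
  have hcardreg : ∀ K : Subgroup N, MulAction.IsPretransitive K Ω →
      (∀ c : Ω, MulAction.stabilizer K c = ⊥) → Nat.card K = Fintype.card Ω := by
    intro K hK hKr
    haveI := hK
    have h := MulAction.index_stabilizer_of_transitive K a
    rwa [hKr a, Subgroup.index_bot, Nat.card_eq_fintype_card (α := Ω)] at h
  have hMc := hcardreg M hMt hreg
  -- `M` is invariant under `G`
  have hinv : ∀ g : G, ∀ m : N, m ∈ M →
      (⟨g * m * g⁻¹, (inferInstance : N.Normal).conj_mem m m.2 g⟩ : N) ∈ M := by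
    intro g
    let c : N →* N :=
      { toFun := fun m => ⟨g * m * g⁻¹, (inferInstance : N.Normal).conj_mem m m.2 g⟩
        map_one' := Subtype.ext (by simp)
        map_mul' := fun m m' => Subtype.ext (by simp [mul_assoc]) }
    have hc : Function.Bijective c := by
      refine ⟨fun m m' e => Subtype.ext ?_, fun m => ⟨⟨g⁻¹ * m * g, ?_⟩, Subtype.ext ?_⟩⟩
      · exact mul_left_cancel (mul_right_cancel (congrArg Subtype.val e))
      · simpa using (inferInstance : N.Normal).conj_mem m m.2 g⁻¹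
      · show g * (g⁻¹ * (m : G) * g) * g⁻¹ = m
        group
    let M' := M.map c
    haveI hM'n : M'.Normal := hMn.map c hc.2
    have hM'c : Nat.card M' = Fintype.card Ω := by
      rw [Subgroup.card_map_of_injective hc.1, hMc]
    have hM't : MulAction.IsPretransitive M' Ω := by
      refine MulAction.IsPretransitive.mk fun x y => ?_
      obtain ⟨m, hm⟩ := MulAction.exists_smul_eq M (g⁻¹ • x) (g⁻¹ • y)
      refine ⟨⟨c m, ⟨m, m.2, rfl⟩⟩, ?_⟩
      show (g * ((m : N) : G) * g⁻¹) • x = y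
      rw [mul_smul, mul_smul]
      exact (congrArg (g • ·) hm).trans (smul_inv_smul g y)
    by_contra hno
    push Not at hno
    obtain ⟨m0, hm0, hm0'⟩ := hno
    have hint : M ⊓ M' = ⊥ := by
      by_contra hne
      have hfix : MulAction.fixedPoints ↥(M ⊓ M') Ω ≠ Set.univ := by
        intro h
        refine hne ((Subgroup.eq_bot_iff_forall _).mpr fun u hu => FaithfulSMul.eq_of_smul_eq_smul fun e : Ω => ?_)
        rw [one_smul]
        exact (h.ge (Set.mem_univ e) : e ∈ MulAction.fixedPoints ↥(M ⊓ M') Ω) ⟨u, hu⟩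
      haveI : MulAction.IsPretransitive ↥(M ⊓ M') Ω :=
        MulAction.IsQuasiPreprimitive.isPretransitive_of_normal hfix
      have hc' : Nat.card ↥(M ⊓ M') = Fintype.card Ω :=
        hcardreg _ inferInstance fun e => (Subgroup.eq_bot_iff_forall _).mpr fun u hu => by
          have hu' : (⟨u.1, u.2.1⟩ : M) ∈ MulAction.stabilizer M e := hu
          rw [hreg e, Subgroup.mem_bot] at hu'
          have h := congrArg (fun w : M => (w : N)) hu'
          exact Subtype.ext h
      have e1 : M ⊓ M' = M := Subgroup.eq_of_le_of_card_ge inf_le_left (by rw [hc', hMc])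
      have e2 : M ⊓ M' = M' := Subgroup.eq_of_le_of_card_ge inf_le_right (by rw [hc', hM'c])
      exact hm0' (e1 ▸ e2.symm ▸ (Subgroup.mem_map_of_mem c hm0) : c m0 ∈ M)
    have hsupc : Nat.card (M ⊔ M' : Subgroup N) = Fintype.card Ω * Fintype.card Ω := by
      let φ : M × M' → (M ⊔ M' : Subgroup N) := fun p =>
        ⟨(p.1 : N) * p.2, Subgroup.mul_mem_sup p.1.2 p.2.2⟩
      have hφ : Function.Bijective φ := by
        refine ⟨?_, ?_⟩
        · rintro ⟨⟨x, hx⟩, ⟨y, hy⟩⟩ ⟨⟨x', hx'⟩, ⟨y', hy'⟩⟩ e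
          have e' : x * y = x' * y' := congrArg Subtype.val e
          have h1 : x'⁻¹ * x ∈ M ⊓ M' := ⟨M.mul_mem (M.inv_mem hx') hx, by
            have : x'⁻¹ * x = y' * y⁻¹ := by
              calc x'⁻¹ * x = x'⁻¹ * (x * y) * y⁻¹ := by group
                _ = _ := by rw [e']; group
            rw [this]; exact M'.mul_mem hy' (M'.inv_mem hy)⟩
          rw [hint, Subgroup.mem_bot, inv_mul_eq_one] at h1
          subst h1
          have := mul_left_cancel e'
          subst this
          rfl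
        · rintro ⟨z, hz⟩
          obtain ⟨x, hx, y, hy, rfl⟩ := Subgroup.mem_sup_of_normal_right.mp hz
          exact ⟨(⟨x, hx⟩, ⟨y, hy⟩), rfl⟩
      rw [← Nat.card_congr (Equiv.ofBijective φ hφ), Nat.card_prod, hMc, hM'c]
    haveI : MulAction.IsPretransitive (M ⊔ M' : Subgroup N) Ω := by
      refine MulAction.IsPretransitive.mk fun x y => ?_
      obtain ⟨m, hm⟩ := MulAction.exists_smul_eq M x y
      exact ⟨⟨m, Subgroup.mem_sup_left m.2⟩, hm⟩
    have hD := (MulAction.stabilizer (M ⊔ M' : Subgroup N) a).card_mul_index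
    rw [MulAction.index_stabilizer_of_transitive, hsupc, Nat.card_eq_fintype_card (α := Ω)] at hD
    have hD' : Nat.card (MulAction.stabilizer (M ⊔ M' : Subgroup N) a) = Fintype.card Ω :=
      Nat.eq_of_mul_eq_mul_right (by omega) hD
    -- the stabiliser in `G` has order `(n - 1) t`
    let ψ : MulAction.stabilizer (M ⊔ M' : Subgroup N) a →* MulAction.stabilizer G a :=
      { toFun := fun u => ⟨((u.1 : N) : G), u.2⟩
        map_one' := rfl
        map_mul' := fun _ _ => rfl }
    have hψ : Function.Injective ψ := fun u v e =>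
      Subtype.ext (Subtype.ext (Subtype.ext (congrArg (fun w : MulAction.stabilizer G a => (w : G)) e :)))
    have hdvd := Subgroup.card_dvd_of_injective ψ hψ
    rw [hD', (Zass.card_stab hZ hab).1] at hdvd
    have hcop : (Fintype.card Ω).Coprime (Fintype.card Ω - 1) := by
      refine (Nat.coprime_self_sub_right (by omega)).mpr (Nat.coprime_one_right _)
    have ht := Nat.le_of_dvd Nat.card_pos (hcop.dvd_of_dvd_mul_left hdvd)
    obtain ⟨d, hda, hdb⟩ : ∃ d : Ω, d ≠ a ∧ d ≠ b := by
      by_contra! h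
      have : (Finset.univ : Finset Ω) ⊆ {a, b} := fun d _ => by
        by_cases hd : d = a
        · simp [hd]
        · simp [h d hd]
      have := Finset.card_le_card this
      rw [Finset.card_univ] at this
      have := Finset.card_le_two (a := a) (b := b)
      omega
    let F : Zass.two G a b → {e : Ω // e ≠ a} := fun u => ⟨(u : G) • d, fun e => hda
      (MulAction.injective (u : G) (e.trans (Zass.mem_two.mp u.2).1.symm))⟩
    have hF : Function.Injective F := by
      intro u v e
      have e1 : ((v : G)⁻¹ * u) • d = d := by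
        rw [mul_smul, inv_smul_eq_iff]; exact congrArg Subtype.val e
      have h2' := (Zass.two G a b).mul_mem ((Zass.two G a b).inv_mem v.2) u.2
      refine Subtype.ext (inv_mul_eq_one.mp ?_).symm
      by_contra hne
      rcases Zass.only_two hZ hab h2' hne e1 with h | h
      · exact hda h
      · exact hdb h
    have hle := Nat.card_le_card_of_injective F hF
    rw [Nat.card_eq_fintype_card (α := {e : Ω // e ≠ a}), Fintype.card_subtype_compl,
      Fintype.card_subtype_eq] at hle
    omega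
  have hMn' : (M.map N.subtype).Normal := ⟨by
    rintro _ ⟨m, hm, rfl⟩ g
    exact ⟨_, hinv g m hm, rfl⟩⟩
  have hMt' : MulAction.IsPretransitive (M.map N.subtype) Ω := by
    refine MulAction.IsPretransitive.mk fun x y => ?_
    obtain ⟨m, hm⟩ := MulAction.exists_smul_eq M x y
    exact ⟨⟨((m : N) : G), ⟨m, m.2, rfl⟩⟩, hm⟩
  obtain ⟨c, hc⟩ := hZ.2.2.2.2 _ hMn' hMt'
  refine hc ((Subgroup.eq_bot_iff_forall _).mpr ?_)
  rintro ⟨_, m, hm, rfl⟩ hx
  have hx' : (⟨m, hm⟩ : M) ∈ MulAction.stabilizer M c := hx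
  rw [hreg c, Subgroup.mem_bot] at hx'
  have : m = 1 := congrArg Subtype.val hx'
  subst this
  rfl

end Cfsg.Agent.Solv.ZassNormal
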